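import Mathlib.AlgebraicGeometry.Geometrically.Integral
import Mathlib.AlgebraicGeometry.Geometrically.Connected
import Mathlib.AlgebraicGeometry.PullbackCarrier
import Mathlib.AlgebraicGeometry.ResidueField

/-!
# Descent of "geometrically P" along surjective base change (helper24)

* `exists_field_square`: for `g : Y' ⟶ Y` surjective and `y : Spec K ⟶ Y` there is a field `Ω` with
  `Spec Ω ⟶ Spec K` and `Spec Ω ⟶ Y'` forming a commutative square.
* `geometrically_of_pullback_snd_of_surjective`: if `P` descends along base change by field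
  extensions then `geometrically P` descends along surjective base change.
-/

set_option autoImplicit false

open CategoryTheory CategoryTheory.Limits AlgebraicGeometry

universe u

namespace Groth.Agent.Lib.Helper24

lemma exists_field_square {Y Y' : Scheme.{u}} (g : Y' ⟶ Y) [Surjective g] {K : Type u} [Field K]
    (y : Spec (.of K) ⟶ Y) :
    ∃ (Ω : Type u) (_ : Field Ω) (a : Spec (.of Ω) ⟶ Spec (.of K)) (b : Spec (.of Ω) ⟶ Y'),
      a ≫ y = b ≫ g := by
  obtain ⟨z, -⟩ := (pullback.fst y g).surjective (Nonempty.some inferInstance)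
  refine ⟨(pullback y g).residueField z, inferInstance,
    (pullback y g).fromSpecResidueField z ≫ pullback.fst y g,
    (pullback y g).fromSpecResidueField z ≫ pullback.snd y g, ?_⟩
  simp [pullback.condition]

lemma surjective_SpecMap_field {K Ω : Type u} [Field K] [Field Ω]
    (a : Spec (.of Ω) ⟶ Spec (.of K)) : Surjective a :=
  ⟨fun _ ↦ ⟨Nonempty.some inferInstance, Subsingleton.elim _ _⟩⟩

lemma surjective_of_isPullback_field {K Ω : Type u} [Field K] [Field Ω]
    (a : Spec (.of Ω) ⟶ Spec (.of K)) {Z W : Scheme.{u}} (s : Z ⟶ Spec (.of K)) (p : W ⟶ Z)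
    (q : W ⟶ Spec (.of Ω)) (h : IsPullback p q s a) : Surjective p :=
  MorphismProperty.of_isPullback (P := @Surjective) h.flip (surjective_SpecMap_field a)

/-- If `P` descends along base change by field extensions then `geometrically P` descends along
surjective base change. -/
lemma geometrically_of_pullback_snd_of_surjective {P : ObjectProperty Scheme.{u}}
    (hP : ∀ {K Ω : Type u} [Field K] [Field Ω] (a : Spec (.of Ω) ⟶ Spec (.of K))
      {Z W : Scheme.{u}} (s : Z ⟶ Spec (.of K)) (p : W ⟶ Z) (q : W ⟶ Spec (.of Ω)),
      IsPullback p q s a → P W → P Z)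
    {X Y Y' : Scheme.{u}} (f : X ⟶ Y) (g : Y' ⟶ Y) [Surjective g]
    (h : geometrically P (pullback.snd f g)) : geometrically P f := by
  intro K _ y Z fst snd hZ
  obtain ⟨Ω, _, a, b, hab⟩ := exists_field_square g y
  have h1 : IsPullback (pullback.fst snd a) (pullback.snd snd a) snd a := .of_hasPullback _ _
  have h2 : IsPullback (pullback.fst snd a ≫ fst) (pullback.snd snd a) f (b ≫ g) := by
    rw [← hab]
    exact h1.paste_horiz hZ
  have h3 := IsPullback.of_right' h2 (IsPullback.of_hasPullback f g)
  exact hP a snd _ _ h1 (h b _ _ h3)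

/-- Irreducibility descends along base change by a field extension. -/
lemma irreducibleSpace_of_isPullback_field {K Ω : Type u} [Field K] [Field Ω]
    (a : Spec (.of Ω) ⟶ Spec (.of K)) {Z W : Scheme.{u}} (s : Z ⟶ Spec (.of K)) (p : W ⟶ Z)
    (q : W ⟶ Spec (.of Ω)) (h : IsPullback p q s a) (hW : IrreducibleSpace W) :
    IrreducibleSpace Z :=
  have := surjective_of_isPullback_field a s p q h
  Function.Surjective.irreducibleSpace p.continuous p.surjective

/-- "Empty or connected" descends along base change by a field extension. -/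
lemma isEmpty_or_connectedSpace_of_isPullback_field {K Ω : Type u} [Field K] [Field Ω]
    (a : Spec (.of Ω) ⟶ Spec (.of K)) {Z W : Scheme.{u}} (s : Z ⟶ Spec (.of K)) (p : W ⟶ Z)
    (q : W ⟶ Spec (.of Ω)) (h : IsPullback p q s a) (hW : IsEmpty W ∨ ConnectedSpace W) :
    IsEmpty Z ∨ ConnectedSpace Z := by
  have := surjective_of_isPullback_field a s p q h
  rcases hW with hW | hW
  · left
    exact ⟨fun z ↦ hW.elim (p.surjective z).choose⟩
  · right
    exact p.surjective.connectedSpace p.continuous

/-- Reducedness descends along base change by a field extension. -/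
lemma isReduced_of_isPullback_field {K Ω : Type u} [Field K] [Field Ω]
    (a : Spec (.of Ω) ⟶ Spec (.of K)) {Z W : Scheme.{u}} (s : Z ⟶ Spec (.of K)) (p : W ⟶ Z)
    (q : W ⟶ Spec (.of Ω)) (h : IsPullback p q s a) (hW : IsReduced W) :
    IsReduced Z := by
  have := surjective_SpecMap_field a
  have : IsSchemeTheoreticallyDominant a := .of_isDominant a
  have : IsSchemeTheoreticallyDominant p := .of_isPullback h.flip
  have : QuasiCompact p := MorphismProperty.of_isPullback (P := @QuasiCompact) h.flip inferInstance
  exact IsSchemeTheoreticallyDominant.isReduced p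

/-- Integrality descends along base change by a field extension. -/
lemma isIntegral_of_isPullback_field {K Ω : Type u} [Field K] [Field Ω]
    (a : Spec (.of Ω) ⟶ Spec (.of K)) {Z W : Scheme.{u}} (s : Z ⟶ Spec (.of K)) (p : W ⟶ Z)
    (q : W ⟶ Spec (.of Ω)) (h : IsPullback p q s a) (hW : IsIntegral W) :
    IsIntegral Z := by
  rw [isIntegral_iff_irreducibleSpace_and_isReduced]
  exact ⟨irreducibleSpace_of_isPullback_field a s p q h inferInstance,
    isReduced_of_isPullback_field a s p q h inferInstance⟩

end Groth.Agent.Lib.Helper24
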