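import Mathlib.AlgebraicGeometry.Limits
import Mathlib.AlgebraicGeometry.Morphisms.Basic
import Mathlib.AlgebraicGeometry.Gluing
import Mathlib.AlgebraicGeometry.PullbackCarrier
import Mathlib.AlgebraicGeometry.Morphisms.QuasiSeparated

/-!
# Pushouts of schemes along open immersions, gluing of morphisms and cartesian squares (helper24)
-/

set_option autoImplicit false

universe u

open CategoryTheory CategoryTheory.Limits AlgebraicGeometry

namespace Groth.Agent.Lib.Helper24.OpenPushout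

section pushout

variable {W U V : Scheme.{u}} (a : W ⟶ U) (b : W ⟶ V) [IsOpenImmersion a] [IsOpenImmersion b]

instance : IsOpenImmersion (pushout.inl a b) :=
  inferInstanceAs (IsOpenImmersion (colimit.ι (span a b) WalkingSpan.left))

instance : IsOpenImmersion (pushout.inr a b) :=
  inferInstanceAs (IsOpenImmersion (colimit.ι (span a b) WalkingSpan.right))

lemma exists_inl_or_inr (x : ↑(pushout a b)) :
    (∃ u, pushout.inl a b u = x) ∨ (∃ v, pushout.inr a b v = x) := by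
  obtain ⟨i, xi, rfl⟩ := Scheme.IsLocallyDirected.ι_jointly_surjective (span a b) x
  rcases i with _ | _ | _
  · left
    refine ⟨a xi, ?_⟩
    have : colimit.ι (span a b) none = a ≫ pushout.inl a b := by
      rw [← colimit.w (span a b) (WalkingSpan.Hom.fst)]; rfl
    rw [this]; rfl
  · left; exact ⟨xi, rfl⟩
  · right; exact ⟨xi, rfl⟩

private lemma aux1 (f : (WalkingSpan.left : WalkingSpan) ⟶ WalkingSpan.right) : False := by
  have f' : WidePushoutShape.Hom (some WalkingPair.left) (some WalkingPair.right) := f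
  cases f'

private lemma aux2 (f : (WalkingSpan.right : WalkingSpan) ⟶ WalkingSpan.left) : False := by
  have f' : WidePushoutShape.Hom (some WalkingPair.right) (some WalkingPair.left) := f
  cases f'

lemma exists_of_inl_eq_inr {u : U} {v : V} (h : pushout.inl a b u = pushout.inr a b v) :
    ∃ w, a w = u ∧ b w = v := by
  obtain ⟨k, fi, fj, x, hx1, hx2⟩ :=
    (Scheme.IsLocallyDirected.ι_eq_ι_iff (span a b) (i := .left) (j := .right)).mp h
  rcases k with _ | _ | _
  · have h1 : fi = WalkingSpan.Hom.fst := Subsingleton.elim _ _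
    have h2 : fj = WalkingSpan.Hom.snd := Subsingleton.elim _ _
    subst h1 h2
    exact ⟨x, hx1, hx2⟩
  · exact (aux1 fj).elim
  · exact (aux2 fi).elim

/-- The two-element open cover of a pushout along open immersions. -/
noncomputable def cover : (pushout a b).OpenCover :=
  Scheme.Cover.mkOfCovers WalkingPair (fun j ↦ WalkingPair.casesOn j U V)
    (fun j ↦ WalkingPair.casesOn j (pushout.inl a b) (pushout.inr a b))
    (fun x ↦ by
      rcases exists_inl_or_inr a b x with ⟨u, hu⟩ | ⟨v, hv⟩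
      · exact ⟨.left, u, hu⟩
      · exact ⟨.right, v, hv⟩)
    (fun j ↦ by
      cases j
      · exact inferInstanceAs (IsOpenImmersion (pushout.inl a b))
      · exact inferInstanceAs (IsOpenImmersion (pushout.inr a b)))

end pushout

section glue

variable {X U V W Z : Scheme.{u}} {jU : U ⟶ X} {jV : V ⟶ X} {pU : W ⟶ U} {pV : W ⟶ V}
  [IsOpenImmersion jU] [IsOpenImmersion jV]

/-- The two-element open cover by two jointly surjective open immersions. -/
noncomputable def cover2 (jU : U ⟶ X) (jV : V ⟶ X) [IsOpenImmersion jU] [IsOpenImmersion jV]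
    (hcov : ∀ x : X, (∃ u, jU u = x) ∨ (∃ v, jV v = x)) : X.OpenCover :=
  Scheme.Cover.mkOfCovers WalkingPair (fun j ↦ WalkingPair.casesOn j U V)
    (fun j ↦ WalkingPair.casesOn j jU jV)
    (fun x ↦ by
      rcases hcov x with ⟨u, hu⟩ | ⟨v, hv⟩
      · exact ⟨.left, u, hu⟩
      · exact ⟨.right, v, hv⟩)
    (fun j ↦ by
      cases j
      · exact inferInstanceAs (IsOpenImmersion jU)
      · exact inferInstanceAs (IsOpenImmersion jV))

/-- Gluing two morphisms along an open cover by two open immersions. -/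
lemma exists_glue (hcov : ∀ x : X, (∃ u, jU u = x) ∨ (∃ v, jV v = x))
    (hW : IsPullback pU pV jU jV) (φU : U ⟶ Z) (φV : V ⟶ Z) (h : pU ≫ φU = pV ≫ φV) :
    ∃ g : X ⟶ Z, jU ≫ g = φU ∧ jV ≫ g = φV := by
  let 𝒰 := cover2 jU jV hcov
  let φ : ∀ j, 𝒰.X j ⟶ Z := fun j ↦ WalkingPair.casesOn j φU φV
  have key : ∀ i j, pullback.fst (𝒰.f i) (𝒰.f j) ≫ φ i = pullback.snd (𝒰.f i) (𝒰.f j) ≫ φ j := by
    rintro (_ | _) (_ | _)
    · have : pullback.fst jU jU = pullback.snd jU jU := by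
        rw [← cancel_mono jU, pullback.condition]
      exact congr($this ≫ φU)
    · change pullback.fst jU jV ≫ φU = pullback.snd jU jV ≫ φV
      rw [← cancel_epi hW.isoPullback.hom, IsPullback.isoPullback_hom_fst_assoc,
        IsPullback.isoPullback_hom_snd_assoc, h]
    · change pullback.fst jV jU ≫ φV = pullback.snd jV jU ≫ φU
      rw [← cancel_epi hW.flip.isoPullback.hom, IsPullback.isoPullback_hom_fst_assoc,
        IsPullback.isoPullback_hom_snd_assoc, h]
    · have : pullback.fst jV jV = pullback.snd jV jV := by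
        rw [← cancel_mono jV, pullback.condition]
      exact congr($this ≫ φV)
  exact ⟨𝒰.glueMorphisms φ key, 𝒰.ι_glueMorphisms φ key .left, 𝒰.ι_glueMorphisms φ key .right⟩

end glue

section isPullback

variable {X P T S : Scheme.{u}} {g : X ⟶ P} {f : X ⟶ T} {fP : P ⟶ S} {π : T ⟶ S}

/-- A commutative square of schemes is cartesian if it is so locally on the top right corner. -/
lemma isPullback_of_openCover (w : g ≫ fP = f ≫ π) (𝒰 : P.OpenCover)
    (U : 𝒰.I₀ → Scheme.{u}) (u : ∀ j, U j ⟶ X) (gj : ∀ j, U j ⟶ 𝒰.X j)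
    (h1 : ∀ j, IsPullback (gj j) (u j) (𝒰.f j) g)
    (h2 : ∀ j, IsPullback (gj j) (u j ≫ f) (𝒰.f j ≫ fP) π) : IsPullback g f fP π := by
  let k : X ⟶ pullback fP π := pullback.lift g f w
  suffices IsIso k from
    IsPullback.of_iso_pullback ⟨w⟩ (asIso k) (pullback.lift_fst _ _ _) (pullback.lift_snd _ _ _)
  let 𝒱 := 𝒰.pullback₁ (pullback.fst fP π)
  change (MorphismProperty.isomorphisms Scheme) k
  rw [IsZariskiLocalAtTarget.iff_of_openCover (P := MorphismProperty.isomorphisms Scheme) 𝒱]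
  intro j
  -- the square defining the cover element
  have sqV : IsPullback (pullback.snd (pullback.fst fP π) (𝒰.f j))
      (pullback.fst (pullback.fst fP π) (𝒰.f j)) (𝒰.f j) (pullback.fst fP π) :=
    (IsPullback.of_hasPullback (pullback.fst fP π) (𝒰.f j)).flip
  -- `𝒱.X j` is a pullback of `𝒰.f j ≫ fP` and `π`
  have sqV' : IsPullback (pullback.snd (pullback.fst fP π) (𝒰.f j))
      (pullback.fst (pullback.fst fP π) (𝒰.f j) ≫ pullback.snd fP π) (𝒰.f j ≫ fP) π :=
    sqV.paste_vert (IsPullback.of_hasPullback fP π)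
  let kj : U j ⟶ pullback (pullback.fst fP π) (𝒰.f j) :=
    pullback.lift (u j ≫ k) (gj j) (by
      rw [Category.assoc, pullback.lift_fst, (h1 j).w])
  have hkj1 : kj ≫ pullback.snd (pullback.fst fP π) (𝒰.f j) = gj j := pullback.lift_snd _ _ _
  have hkj2 : kj ≫ pullback.fst (pullback.fst fP π) (𝒰.f j) = u j ≫ k := pullback.lift_fst _ _ _
  have hkj : IsIso kj := by
    have : kj = ((h2 j).isoIsPullback _ _ sqV').hom := by
      apply sqV'.hom_ext
      · rw [hkj1, IsPullback.isoIsPullback_hom_fst]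
      · rw [reassoc_of% hkj2, pullback.lift_snd, IsPullback.isoIsPullback_hom_snd]
    rw [this]
    infer_instance
  have sqk : IsPullback kj (u j) (pullback.fst (pullback.fst fP π) (𝒰.f j)) k := by
    refine IsPullback.of_right ?_ hkj2 sqV
    rw [hkj1, pullback.lift_fst]
    exact h1 j
  change IsIso (pullback.snd k (pullback.fst (pullback.fst fP π) (𝒰.f j)))
  have : pullback.snd k (pullback.fst (pullback.fst fP π) (𝒰.f j)) =
      sqk.flip.isoPullback.inv ≫ kj := by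
    rw [Iso.eq_inv_comp, IsPullback.isoPullback_hom_snd]
  rw [this]
  infer_instance

end isPullback

section points

lemma exists_of_isPullback {P X Y Z : Scheme.{u}} {fst : P ⟶ X} {snd : P ⟶ Y} {f : X ⟶ Z}
    {g : Y ⟶ Z} (h : IsPullback fst snd f g) (x : X) (y : Y) (hxy : f x = g y) :
    ∃ p : P, fst p = x ∧ snd p = y := by
  obtain ⟨z, hz1, hz2⟩ := Scheme.Pullback.exists_preimage_pullback x y hxy
  refine ⟨h.isoPullback.inv z, ?_, ?_⟩
  · rw [← Scheme.Hom.comp_apply, IsPullback.isoPullback_inv_fst, hz1]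
  · rw [← Scheme.Hom.comp_apply, IsPullback.isoPullback_inv_snd, hz2]

end points

section crux

variable {X U V W U' V' W' : Scheme.{u}} {jU : U ⟶ X} {jV : V ⟶ X} {pU : W ⟶ U} {pV : W ⟶ V}
  [IsOpenImmersion jU] [IsOpenImmersion jV] {a : W' ⟶ U'} {b : W' ⟶ V'} [IsOpenImmersion a]
  [IsOpenImmersion b] {g : X ⟶ pushout a b} {gU : U ⟶ U'} {gV : V ⟶ V'} {gW : W ⟶ W'}

omit [IsOpenImmersion jV] in
lemma isPullback_inl (hcov : ∀ x : X, (∃ u, jU u = x) ∨ (∃ v, jV v = x))
    (hw : pU ≫ jU = pV ≫ jV) (hgU : jU ≫ g = gU ≫ pushout.inl a b)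
    (hgV : jV ≫ g = gV ≫ pushout.inr a b) (hV : IsPullback gW pV b gV) :
    IsPullback gU jU (pushout.inl a b) g := by
  refine IsOpenImmersion.isPullback _ _ _ _ hgU ?_
  ext x
  constructor
  · rintro ⟨y, hy⟩
    rcases hcov x with ⟨u, rfl⟩ | ⟨v, rfl⟩
    · exact ⟨u, rfl⟩
    · have h1 : g (jV v) = pushout.inr a b (gV v) := by
        rw [← Scheme.Hom.comp_apply, hgV, Scheme.Hom.comp_apply]
      obtain ⟨w', hw1, hw2⟩ := exists_of_inl_eq_inr a b (hy.trans h1)
      obtain ⟨w, -, hw4⟩ := exists_of_isPullback hV w' v hw2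
      refine ⟨pU w, ?_⟩
      rw [← hw4, ← Scheme.Hom.comp_apply, hw, Scheme.Hom.comp_apply]
  · rintro ⟨u, rfl⟩
    refine ⟨gU u, ?_⟩
    rw [← Scheme.Hom.comp_apply, ← hgU, Scheme.Hom.comp_apply]

omit [IsOpenImmersion jU] in
lemma isPullback_inr (hcov : ∀ x : X, (∃ u, jU u = x) ∨ (∃ v, jV v = x))
    (hw : pU ≫ jU = pV ≫ jV) (hgU : jU ≫ g = gU ≫ pushout.inl a b)
    (hgV : jV ≫ g = gV ≫ pushout.inr a b) (hU : IsPullback gW pU a gU) :
    IsPullback gV jV (pushout.inr a b) g := by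
  refine IsOpenImmersion.isPullback _ _ _ _ hgV ?_
  ext x
  constructor
  · rintro ⟨y, hy⟩
    rcases hcov x with ⟨u, rfl⟩ | ⟨v, rfl⟩
    · have h1 : g (jU u) = pushout.inl a b (gU u) := by
        rw [← Scheme.Hom.comp_apply, hgU, Scheme.Hom.comp_apply]
      obtain ⟨w', hw1, hw2⟩ := exists_of_inl_eq_inr a b (h1.symm.trans hy.symm)
      obtain ⟨w, -, hw4⟩ := exists_of_isPullback hU w' u hw1
      refine ⟨pV w, ?_⟩
      rw [← hw4, ← Scheme.Hom.comp_apply, ← hw, Scheme.Hom.comp_apply]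
    · exact ⟨v, rfl⟩
  · rintro ⟨v, rfl⟩
    refine ⟨gV v, ?_⟩
    rw [← Scheme.Hom.comp_apply, ← hgV, Scheme.Hom.comp_apply]

end crux

section topology

variable {P A B W : Scheme.{u}} (ιU : A ⟶ P) (ιV : B ⟶ P) [IsOpenImmersion ιU]
  [IsOpenImmersion ιV] (a : W ⟶ A) (b : W ⟶ B)

omit [IsOpenImmersion ιU] [IsOpenImmersion ιV] in
lemma compactSpace_of_cover2 (hcov : ∀ x : P, (∃ u, ιU u = x) ∨ (∃ v, ιV v = x))
    [CompactSpace A] [CompactSpace B] : CompactSpace P := by
  rw [← isCompact_univ_iff]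
  have : (Set.univ : Set P) = Set.range ιU ∪ Set.range ιV := by
    ext x
    simp only [Set.mem_univ, Set.mem_union, Set.mem_range, true_iff]
    exact hcov x
  rw [this]
  exact (isCompact_range ιU.continuous).union (isCompact_range ιV.continuous)

lemma quasiSeparatedSpace_of_cover2 (hcov : ∀ x : P, (∃ u, ιU u = x) ∨ (∃ v, ιV v = x))
    (hw : a ≫ ιU = b ≫ ιV) (hpt : ∀ u v, ιU u = ιV v → ∃ w, a w = u ∧ b w = v)
    [QuasiSeparatedSpace A] [QuasiSeparatedSpace B] [CompactSpace W] :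
    QuasiSeparatedSpace P := by
  have hSA : IsQuasiSeparated (Set.range ιU) := by
    have := (ιU.isOpenEmbedding.isQuasiSeparated_iff (s := Set.univ)).mp isQuasiSeparated_univ
    rwa [Set.image_univ] at this
  have hSB : IsQuasiSeparated (Set.range ιV) := by
    have := (ιV.isOpenEmbedding.isQuasiSeparated_iff (s := Set.univ)).mp isQuasiSeparated_univ
    rwa [Set.image_univ] at this
  have hSAo : IsOpen (Set.range ιU) := ιU.isOpenEmbedding.isOpen_range
  have hSBo : IsOpen (Set.range ιV) := ιV.isOpenEmbedding.isOpen_range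
  have hAB : IsCompact (Set.range ιU ∩ Set.range ιV) := by
    have : Set.range ιU ∩ Set.range ιV = Set.range (a ≫ ιU) := by
      ext x
      constructor
      · rintro ⟨⟨u, rfl⟩, ⟨v, hv⟩⟩
        obtain ⟨w, rfl, -⟩ := hpt u v hv.symm
        exact ⟨w, rfl⟩
      · rintro ⟨w, rfl⟩
        refine ⟨⟨a w, rfl⟩, ⟨b w, ?_⟩⟩
        rw [← Scheme.Hom.comp_apply, ← hw]
    rw [this]
    exact isCompact_range (a ≫ ιU).continuous
  have key : ∀ K₁ K₂ : Set P, IsOpen K₁ → IsCompact K₁ → IsOpen K₂ → IsCompact K₂ →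
      K₁ ⊆ Set.range ιU → K₂ ⊆ Set.range ιV → IsCompact (K₁ ∩ K₂) := by
    intro K₁ K₂ o₁ c₁ o₂ c₂ h₁ h₂
    have c₁' : IsCompact (K₁ ∩ (Set.range ιU ∩ Set.range ιV)) :=
      hSA K₁ _ h₁ o₁ c₁ Set.inter_subset_left (hSAo.inter hSBo) hAB
    have c₂' : IsCompact (K₂ ∩ (Set.range ιU ∩ Set.range ιV)) :=
      hSB K₂ _ h₂ o₂ c₂ Set.inter_subset_right (hSAo.inter hSBo) hAB
    have : K₁ ∩ K₂ = (K₁ ∩ (Set.range ιU ∩ Set.range ιV)) ∩
        (K₂ ∩ (Set.range ιU ∩ Set.range ιV)) := by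
      ext x
      simp only [Set.mem_inter_iff]
      constructor
      · rintro ⟨h1, h2⟩
        exact ⟨⟨h1, h₁ h1, h₂ h2⟩, ⟨h2, h₁ h1, h₂ h2⟩⟩
      · rintro ⟨⟨h1, -⟩, ⟨h2, -⟩⟩
        exact ⟨h1, h2⟩
    rw [this]
    exact hSA _ _ (Set.inter_subset_left.trans h₁) (o₁.inter (hSAo.inter hSBo)) c₁'
      (Set.inter_subset_right.trans Set.inter_subset_left) (o₂.inter (hSAo.inter hSBo)) c₂'
  refine Scheme.quasiSeparatedSpace_of_isOpenCover
    (I := {K : P.affineOpens // (K : Set P) ⊆ Set.range ιU ∨ (K : Set P) ⊆ Set.range ιV})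
    (fun K ↦ K.1.1) ?_ (fun K ↦ K.1.2) ?_
  · rw [TopologicalSpace.IsOpenCover, eq_top_iff]
    intro x _
    rcases hcov x with ⟨u, hu⟩ | ⟨v, hv⟩
    · obtain ⟨_, ⟨K, hK, rfl⟩, hxK, hKS⟩ :=
        P.isBasis_affineOpens.exists_subset_of_mem_open (show x ∈ Set.range ιU from ⟨u, hu⟩) hSAo
      exact TopologicalSpace.Opens.mem_iSup.mpr ⟨⟨⟨K, hK⟩, Or.inl hKS⟩, hxK⟩
    · obtain ⟨_, ⟨K, hK, rfl⟩, hxK, hKS⟩ :=
        P.isBasis_affineOpens.exists_subset_of_mem_open (show x ∈ Set.range ιV from ⟨v, hv⟩) hSBo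
      exact TopologicalSpace.Opens.mem_iSup.mpr ⟨⟨⟨K, hK⟩, Or.inr hKS⟩, hxK⟩
  · rintro ⟨K₁, h₁ | h₁⟩ ⟨K₂, h₂ | h₂⟩
    · exact hSA _ _ h₁ K₁.1.2 K₁.2.isCompact h₂ K₂.1.2 K₂.2.isCompact
    · exact key _ _ K₁.1.2 K₁.2.isCompact K₂.1.2 K₂.2.isCompact h₁ h₂
    · rw [Set.inter_comm]
      exact key _ _ K₂.1.2 K₂.2.isCompact K₁.1.2 K₁.2.isCompact h₂ h₁
    · exact hSB _ _ h₁ K₁.1.2 K₁.2.isCompact h₂ K₂.1.2 K₂.2.isCompact

end topology

end Groth.Agent.Lib.Helper24.OpenPushout
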