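import Mathlib.AlgebraicGeometry.Morphisms.FinitePresentation
import Mathlib.AlgebraicGeometry.Morphisms.FiniteType

/-!
# `f ≫ g` locally of finite presentation and `g` locally of finite type ⇒ `f` locally of finite
presentation (Stacks 02FV) (helper24)
-/

set_option autoImplicit false

universe u

open CategoryTheory AlgebraicGeometry

namespace Groth.Agent.Lib.Helper24

private theorem lfp_of_comp_aux {X Y Z : Scheme.{u}} (f : X ⟶ Y) (g : Y ⟶ Z)
    (hfg : LocallyOfFinitePresentation (f ≫ g)) (hg : LocallyOfFiniteType g) :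
    LocallyOfFinitePresentation f ∧ True := by
  refine ⟨?_, trivial⟩
  wlog hZ : IsAffine Z generalizing X Y Z
  · rw [IsZariskiLocalAtTarget.iff_of_iSup_eq_top (P := @LocallyOfFinitePresentation) _
      (g.iSup_preimage_eq_top (iSup_affineOpens_eq_top Z))]
    intro U
    have H := IsZariskiLocalAtTarget.restrict hfg U.1
    rw [morphismRestrict_comp] at H
    have Hg := IsZariskiLocalAtTarget.restrict hg U.1
    exact this _ _ H Hg U.2
  wlog hY : IsAffine Y generalizing X Y
  · rw [IsZariskiLocalAtTarget.iff_of_iSup_eq_top (P := @LocallyOfFinitePresentation) _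
      (iSup_affineOpens_eq_top Y)]
    intro U
    have H : LocallyOfFinitePresentation ((f ⁻¹ᵁ U.1).ι ≫ f ≫ g) :=
      IsZariskiLocalAtSource.comp (P := @LocallyOfFinitePresentation) hfg _
    rw [← morphismRestrict_ι_assoc] at H
    have Hg : LocallyOfFiniteType (U.1.ι ≫ g) :=
      IsZariskiLocalAtSource.comp (P := @LocallyOfFiniteType) hg _
    exact this (f ∣_ U.1) (U.1.ι ≫ g) H Hg U.2
  wlog hX : IsAffine X generalizing X
  · rw [IsZariskiLocalAtSource.iff_of_iSup_eq_top (P := @LocallyOfFinitePresentation) _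
      (iSup_affineOpens_eq_top X)]
    intro U
    have H : LocallyOfFinitePresentation (U.1.ι ≫ f ≫ g) :=
      IsZariskiLocalAtSource.comp (P := @LocallyOfFinitePresentation) hfg _
    rw [← Category.assoc] at H
    exact this (U.1.ι ≫ f) H U.2
  rw [HasRingHomProperty.iff_of_isAffine (P := @LocallyOfFinitePresentation)] at hfg ⊢
  rw [HasRingHomProperty.iff_of_isAffine (P := @LocallyOfFiniteType)] at hg
  refine RingHom.FinitePresentation.of_comp_finiteType g.appTop.hom (g := f.appTop.hom) ?_ hg
  rw [← CommRingCat.hom_comp, ← Scheme.Hom.comp_appTop]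
  exact hfg

theorem locallyOfFinitePresentation_of_comp {X Y Z : Scheme.{u}} (f : X ⟶ Y) (g : Y ⟶ Z)
    [hfg : LocallyOfFinitePresentation (f ≫ g)] [hg : LocallyOfFiniteType g] :
    LocallyOfFinitePresentation f :=
  (lfp_of_comp_aux f g hfg hg).1

end Groth.Agent.Lib.Helper24
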