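import Mathlib.Topology.Spectral.ConstructibleTopology
import Mathlib.Topology.Constructible

/-!
# Compactness for covers by constructible sets (helper24)

In a quasi-compact quasi-separated quasi-sober prespectral space (e.g. a qcqs scheme), every cover
by constructible sets has a finite subcover.
-/

set_option autoImplicit false

open Topology

namespace Groth.Agent.Lib.Helper24.ConsCompact

variable {Z : Type*} [TopologicalSpace Z]

/-- Constructible sets are clopen in the constructible topology. -/
lemma isOpen_constructibleTopology_of_isConstructible [CompactSpace Z] {s : Set Z}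
    (hs : IsConstructible s) :
    IsOpen[constructibleTopology Z] s ∧ IsOpen[constructibleTopology Z] sᶜ := by
  induction hs using IsConstructible.empty_union_induction with
  | open_retrocompact U hUo hUc =>
    have hU : IsCompact U := by
      have := hUc isCompact_univ isOpen_univ
      rwa [Set.inter_univ] at this
    exact ⟨hU.isOpen_constructibleTopology_of_isOpen hUo,
      IsCompact.isOpen_constructibleTopology_of_isClosed (by rwa [compl_compl])
        hUo.isClosed_compl⟩
  | union s hs t ht hs' ht' =>
    refine ⟨?_, ?_⟩
    · letI := constructibleTopology Z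
      exact IsOpen.union hs'.1 ht'.1
    · rw [Set.compl_union]
      letI := constructibleTopology Z
      exact IsOpen.inter hs'.2 ht'.2
  | compl s hs hs' =>
    exact ⟨hs'.2, by rw [compl_compl]; exact hs'.1⟩

/-- A cover by constructible sets has a finite subcover. -/
theorem exists_finite_subcover [CompactSpace Z] [QuasiSober Z] [PrespectralSpace Z]
    [QuasiSeparatedSpace Z] {ι : Type*} (C : ι → Set Z) (hC : ∀ a, IsConstructible (C a))
    (hcov : ∀ z, ∃ a, z ∈ C a) : ∃ t : Finset ι, ∀ z, ∃ a ∈ t, z ∈ C a := by
  let U : ι → Set (WithConstructibleTopology Z) := fun a ↦ WithTopology.ofTopology ⁻¹' C a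
  have hU : ∀ a, IsOpen (U a) := fun a ↦ by
    rw [WithConstructibleTopology.isOpen_iff]
    exact (isOpen_constructibleTopology_of_isConstructible (hC a)).1
  have hcov' : (Set.univ : Set (WithConstructibleTopology Z)) ⊆ ⋃ a, U a := by
    intro z _
    obtain ⟨a, ha⟩ := hcov (WithTopology.ofTopology z)
    exact Set.mem_iUnion.2 ⟨a, ha⟩
  obtain ⟨t, ht⟩ := isCompact_univ.elim_finite_subcover U hU hcov'
  refine ⟨t, fun z ↦ ?_⟩
  have := ht (Set.mem_univ (WithTopology.toTopology _ z))
  simp only [Set.mem_iUnion, exists_prop] at this
  exact this

end Groth.Agent.Lib.Helper24.ConsCompact
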