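import Groth.Agent.Lib.Helper24.ConsLocusMor
import Groth.Agent.Lib.Helper24.ConsCompact

/-!
# Locus theory for a single scheme of finite presentation, and the "all fibres" relation (helper24)
-/

set_option autoImplicit false

universe u

open CategoryTheory CategoryTheory.Limits AlgebraicGeometry Topology TopologicalSpace

namespace Groth.Agent.Lib.Helper24.ConsLocus

/-- A scheme of finite presentation over `S`. -/
structure SingleDat (S : Scheme.{u}) where
  X : Scheme.{u}
  u : X ⟶ S
  lfp_u : LocallyOfFinitePresentation u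
  qc_u : QuasiCompact u
  qs_u : QuasiSeparated u

attribute [instance] SingleDat.lfp_u SingleDat.qc_u SingleDat.qs_u

lemma locus_bc {P : ∀ ⦃Y T : Scheme.{u}⦄, (Y ⟶ T) → Prop}
    (hP : ConsProp.IsFieldStable P) {S' S X X' : Scheme.{u}} (h : S' ⟶ S)
    {u : X ⟶ S} {u' : X' ⟶ S'} {eX : X' ⟶ X}
    [LocallyOfFiniteType u] [QuasiCompact u] (hX : IsPullback eX u' u h) :
    ConsProp.locus P u' = h ⁻¹' ConsProp.locus P u := by
  ext s'
  obtain ⟨e₁, sq₁, -⟩ := exists_isPullback_fiber hX s'
  exact (hP _ _ _ _ sq₁).symm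

/-- The locus theory of a field-stable relation on schemes. -/
noncomputable def singleTheory (P : ∀ ⦃Y T : Scheme.{u}⦄, (Y ⟶ T) → Prop)
    (hP : ConsProp.IsFieldStable P) : LocusTheory.{u} where
  Dat := SingleDat
  IsBC h d' d := ∃ (eX : d'.X ⟶ d.X), IsPullback eX d'.u d.u h
  locus d := ConsProp.locus P d.u
  locus_bc h d' d := by
    rintro ⟨eX, hX⟩
    exact locus_bc hP h hX
  exists_bc h d :=
    ⟨⟨pullback d.u h, pullback.snd _ _, inferInstance, inferInstance, inferInstance⟩,
      pullback.fst _ _, IsPullback.of_hasPullback _ _⟩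
  descend D c hc hD hD1 hD2 d := by
    haveI : ∀ {i j : _} (f : i ⟶ j), IsAffineHom (D.map f) := hD
    haveI := hD1
    haveI := hD2
    obtain ⟨l₁, MX, hMX⟩ := Lim8.Model.exists_isFP hc d.u
    have := hMX.compact
    have := hMX.qs
    exact ⟨l₁, ⟨_, MX.fi, hMX.lfp, inferInstance, inferInstance⟩, MX.g, MX.sq⟩

/-- An integral scheme with one point is Noetherian. -/
lemma isNoetherian_of_subsingleton (T : Scheme.{u}) [IsIntegral T] [Subsingleton T] :
    IsNoetherian T := by
  obtain ⟨t⟩ := (inferInstance : Nonempty T)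
  obtain ⟨_, ⟨U, hU : IsAffineOpen U, rfl⟩, htU, -⟩ :=
    T.isBasis_affineOpens.exists_subset_of_mem_open (Set.mem_univ t) isOpen_univ
  have hU' : U = ⊤ := by
    ext x
    simp only [SetLike.mem_coe, Opens.coe_top, Set.mem_univ, iff_true]
    rw [Subsingleton.elim x t]
    exact htU
  have hT : IsAffine T := by
    have h1 : IsAffine (⊤ : T.Opens).toScheme := hU' ▸ hU
    exact .of_isIso (Scheme.topIso T).inv
  have : Subsingleton (PrimeSpectrum Γ(T, ⊤)) :=
    (Scheme.homeoOfIso T.isoSpec).symm.injective.subsingleton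
  have : Ring.KrullDimLE 0 Γ(T, ⊤) := by
    rw [Ring.krullDimLE_zero_iff]
    intro I hI
    by_contra hmax
    obtain ⟨m, hm, hIm⟩ := Ideal.exists_le_maximal I hI.ne_top
    have : (⟨I, hI⟩ : PrimeSpectrum Γ(T, ⊤)) = ⟨m, hm.isPrime⟩ := Subsingleton.elim _ _
    apply hmax
    have e : I = m := congrArg PrimeSpectrum.asIdeal this
    rw [e]
    exact hm
  have hfield : IsField Γ(T, ⊤) := Ring.KrullDimLE.isField_of_isDomain
  have : IsNoetherianRing Γ(T, ⊤) := by
    letI := hfield.toField
    infer_instance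
  have : IsNoetherian (Spec Γ(T, ⊤)) := inferInstance
  have hlN : IsLocallyNoetherian T :=
    LocallyOfFiniteType.isLocallyNoetherian T.isoSpec.hom
  exact ⟨⟩

section fiberMap

variable {X Y S : Scheme.{u}} (f : X ⟶ Y) (g : Y ⟶ S) (s : S)

/-- The morphism between fibres is the base change of `f` along the inclusion of the fibre. -/
lemma isPullback_fiberMap :
    IsPullback ((f ≫ g).fiberι s) (MoreMor.fiberMap f g s) f (g.fiberι s) := by
  have hbot : IsPullback (g.fiberι s) (g.fiberToSpecResidueField s) g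
      (S.fromSpecResidueField s) := IsPullback.of_hasPullback g (S.fromSpecResidueField s)
  have htot : IsPullback ((f ≫ g).fiberι s) ((f ≫ g).fiberToSpecResidueField s) (f ≫ g)
      (S.fromSpecResidueField s) := IsPullback.of_hasPullback (f ≫ g) (S.fromSpecResidueField s)
  refine IsPullback.of_bot ?_ (fiberMap_fiberι f g s).symm hbot
  rw [fiberMap_fiberToSpecResidueField]
  exact htot

end fiberMap

/-- The relation "`P` holds for every fibre of `f`". -/
def ForallFiber (P : ∀ ⦃Y T : Scheme.{u}⦄, (Y ⟶ T) → Prop) :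
    ∀ ⦃X Y T : Scheme.{u}⦄, (X ⟶ Y) → (Y ⟶ T) → Prop :=
  fun _ Y _ f _ ↦ ∀ y : ↥Y, P (f.fiberToSpecResidueField y)

/-- "`P` holds for every fibre" is compatible with base change on the target. -/
lemma forallFiber_of_isPullback {P : ∀ ⦃Y T : Scheme.{u}⦄, (Y ⟶ T) → Prop}
    (hP : ConsProp.IsFieldStable P) {X Y X' Y' : Scheme.{u}} {f : X ⟶ Y} {f' : X' ⟶ Y'}
    {eX : X' ⟶ X} {eY : Y' ⟶ Y} [LocallyOfFiniteType f] [QuasiCompact f]
    (hX : IsPullback eX f' f eY) (y' : Y') :
    P (f'.fiberToSpecResidueField y') ↔ P (f.fiberToSpecResidueField (eY y')) := by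
  obtain ⟨e₁, sq₁, -⟩ := exists_isPullback_fiber hX y'
  exact (hP _ _ _ _ sq₁).symm

lemma locusMor_forallFiber_eq {P : ∀ ⦃Y T : Scheme.{u}⦄, (Y ⟶ T) → Prop}
    (hP : ConsProp.IsFieldStable P) {X Y S : Scheme.{u}} (f : X ⟶ Y) (g : Y ⟶ S)
    [LocallyOfFiniteType f] [QuasiCompact f] :
    ConsProp.locusMor (ForallFiber P) f g = (g '' (ConsProp.locus P f)ᶜ)ᶜ := by
  ext s
  simp only [ConsProp.locusMor, ForallFiber, Set.mem_setOf_eq, Set.mem_compl_iff, Set.mem_image,
    not_exists, not_and, ConsProp.locus, not_not]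
  constructor
  · intro h y hy
    by_contra hys
    apply hy
    have hy' : y ∈ Set.range (g.fiberι s) := by
      rw [Scheme.Hom.range_fiberι]
      exact hys
    obtain ⟨z, rfl⟩ := hy'
    exact (forallFiber_of_isPullback hP (isPullback_fiberMap f g s) z).mp (h z)
  · intro h z
    rw [forallFiber_of_isPullback hP (isPullback_fiberMap f g s) z]
    by_contra hz
    have h1 := h _ hz
    apply h1
    have : (g.fiberι s) z ∈ Set.range (g.fiberι s) := ⟨z, rfl⟩
    rw [Scheme.Hom.range_fiberι] at this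
    exact this

/-- Over a Noetherian base, finite type and quasi-compactness pass to the first morphism of a
composition. -/
lemma lft_qc_of_comp {X Y S : Scheme.{u}} (f : X ⟶ Y) (g : Y ⟶ S) [IsLocallyNoetherian S]
    [LocallyOfFiniteType g] [LocallyOfFiniteType (f ≫ g)] [QuasiCompact (f ≫ g)] :
    LocallyOfFiniteType f ∧ QuasiCompact f := by
  have : IsLocallyNoetherian Y := LocallyOfFiniteType.isLocallyNoetherian g
  have : QuasiSeparated g := inferInstance
  exact ⟨locallyOfFiniteType_of_comp f g, QuasiCompact.of_comp f g⟩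

lemma isFieldStableMor_forallFiber {P : ∀ ⦃Y T : Scheme.{u}⦄, (Y ⟶ T) → Prop}
    (hP : ConsProp.IsFieldStable P) : ConsProp.IsFieldStableMor (ForallFiber P) := by
  intro X X' Y Y' T T' f g f' g' eX eY h _ _ _ _ _ _ _ _ hY hX
  have := isNoetherian_of_subsingleton T
  obtain ⟨h1, h2⟩ := lft_qc_of_comp f g
  have hh : Surjective h := by
    constructor
    intro t
    obtain ⟨t'⟩ := (inferInstance : Nonempty T')
    exact ⟨t', Subsingleton.elim _ _⟩
  have heY : Surjective eY := MorphismProperty.of_isPullback hY.flip hh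
  constructor
  · intro H y'
    rw [forallFiber_of_isPullback hP hX y']
    exact H _
  · intro H y
    obtain ⟨y', rfl⟩ := eY.surjective y
    rw [← forallFiber_of_isPullback hP hX y']
    exact H y'

open Groth.Agent.Lib.Helper8.ConstrTop in
/-- A constructible subset of an irreducible space or its complement has nonempty interior. -/
lemma interior_nonempty_or_of_isConstructible {Z : Type*} [TopologicalSpace Z] [IrreducibleSpace Z]
    {E : Set Z} (hE : IsConstructible E) :
    (interior E).Nonempty ∨ (interior Eᶜ).Nonempty := by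
  have hirr : IsIrreducible (Set.univ : Set Z) := IrreducibleSpace.isIrreducible_univ Z
  rcases dichotomy hE hirr with ⟨U, hU, ⟨x, hx⟩, hUE⟩ | ⟨U, hU, ⟨x, hx⟩, hUE⟩
  · left
    exact ⟨x, mem_interior.mpr ⟨U, by simpa using hUE, hU, hx.1⟩⟩
  · right
    exact ⟨x, mem_interior.mpr ⟨U, by simpa using hUE, hU, hx.1⟩⟩

/-- **EGA IV 9.2.6-type statement**: if `P` is a constructible property of algebraic schemes, then
"`P` holds for all fibres of `f`" is a constructible property of morphisms. -/
theorem isConsMor_forallFiber {P : ∀ ⦃Y T : Scheme.{u}⦄, (Y ⟶ T) → Prop}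
    (hP : ConsProp.IsCons P) : ConsProp.IsConsMor (ForallFiber P) := by
  refine ⟨isFieldStableMor_forallFiber hP.1, ?_⟩
  intro X Y S f g _ _ _ _ _ _
  obtain ⟨h1, h2⟩ := lft_qc_of_comp f g
  have : IsLocallyNoetherian Y := LocallyOfFiniteType.isLocallyNoetherian g
  have : CompactSpace Y := QuasiCompact.compactSpace_of_compactSpace g
  have : IsNoetherian Y := ⟨⟩
  have : IsLocallyNoetherian X := LocallyOfFiniteType.isLocallyNoetherian f
  have : QuasiSeparated f := inferInstance
  have hE' : IsConstructible (ConsProp.locus P f) :=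
    LocusTheory.isConstructible_locus_of_isNoetherian (T := singleTheory P hP.1)
      (fun S _ _ d ↦ hP.2 d.u) ⟨X, f, inferInstance, inferInstance, inferInstance⟩
  rw [locusMor_forallFiber_eq hP.1]
  have hF : IsConstructible (g '' (ConsProp.locus P f)ᶜ) := g.isConstructible_image hE'.compl
  exact interior_nonempty_or_of_isConstructible hF.compl

/-- **Ind-constructible version**: if `P` is an ind-constructible property of algebraic schemes,
then "`P` holds for all fibres of `f`" is an ind-constructible property of morphisms. -/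
theorem isIndConsMor_forallFiber {P : ∀ ⦃Y T : Scheme.{u}⦄, (Y ⟶ T) → Prop}
    (hP : ConsProp.IsIndCons P) : ConsProp.IsIndConsMor (ForallFiber P) := by
  refine ⟨isFieldStableMor_forallFiber hP.1, ?_⟩
  intro X Y S f g _ _ _ _ _ _ hη
  obtain ⟨h1, h2⟩ := lft_qc_of_comp f g
  have : IsLocallyNoetherian Y := LocallyOfFiniteType.isLocallyNoetherian g
  have : CompactSpace Y := QuasiCompact.compactSpace_of_compactSpace g
  have : IsNoetherian Y := ⟨⟩
  have : IsLocallyNoetherian X := LocallyOfFiniteType.isLocallyNoetherian f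
  have : QuasiSeparated f := inferInstance
  obtain ⟨𝒮, h𝒮, hE'⟩ := LocusTheory.isUnionLC_locus_of_isNoetherian (T := singleTheory P hP.1)
    (fun S _ _ d ↦ hP.2 d.u) ⟨X, f, inferInstance, inferInstance, inferInstance⟩
  have hE'' : ConsProp.locus P f = ⋃₀ 𝒮 := hE'
  rw [locusMor_forallFiber_eq hP.1] at hη ⊢
  -- the generic fibre
  have : IsLocallyNoetherian (g.fiber (genericPoint S)) :=
    LocallyOfFiniteType.isLocallyNoetherian (g.fiberToSpecResidueField (genericPoint S))
  have : CompactSpace (g.fiber (genericPoint S)) :=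
    QuasiCompact.compactSpace_of_compactSpace (g.fiberToSpecResidueField (genericPoint S))
  have hcov : ∀ z : g.fiber (genericPoint S), ∃ T : 𝒮, z ∈ (g.fiberι (genericPoint S)) ⁻¹' T.1 := by
    intro z
    have hz : (g.fiberι (genericPoint S)) z ∈ ConsProp.locus P f := by
      by_contra hz
      apply hη
      refine ⟨_, hz, ?_⟩
      have : (g.fiberι (genericPoint S)) z ∈ Set.range (g.fiberι (genericPoint S)) := ⟨z, rfl⟩
      rw [Scheme.Hom.range_fiberι] at this
      exact this
    rw [hE''] at hz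
    obtain ⟨T, hT, hzT⟩ := hz
    exact ⟨⟨T, hT⟩, hzT⟩
  obtain ⟨t, ht⟩ := ConsCompact.exists_finite_subcover
    (fun T : 𝒮 ↦ (g.fiberι (genericPoint S)) ⁻¹' T.1)
    (fun T ↦ Scheme.Hom.isConstructible_preimage _ (h𝒮 T.1 T.2).isConstructible) hcov
  let E₂ : Set Y := ⋃ T ∈ t, T.1
  have hE₂c : IsConstructible E₂ :=
    IsConstructible.biUnion t.finite_toSet fun T _ ↦ (h𝒮 T.1 T.2).isConstructible
  have hsub : E₂ ⊆ ConsProp.locus P f := by
    intro y hy
    simp only [E₂, Set.mem_iUnion, exists_prop] at hy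
    obtain ⟨T, -, hyT⟩ := hy
    rw [hE'']
    exact ⟨T.1, T.2, hyT⟩
  have hF : IsConstructible (g '' E₂ᶜ)ᶜ := (g.isConstructible_image hE₂c.compl).compl
  have hηF : genericPoint S ∈ (g '' E₂ᶜ)ᶜ := by
    rintro ⟨y, hy, hgy⟩
    apply hy
    have : y ∈ Set.range (g.fiberι (genericPoint S)) := by
      rw [Scheme.Hom.range_fiberι]
      exact hgy
    obtain ⟨z, rfl⟩ := this
    obtain ⟨T, hT, hzT⟩ := ht z
    simp only [E₂, Set.mem_iUnion, exists_prop]
    exact ⟨T, hT, hzT⟩
  have hmono : (g '' E₂ᶜ)ᶜ ⊆ (g '' (ConsProp.locus P f)ᶜ)ᶜ :=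
    Set.compl_subset_compl.mpr (Set.image_mono (Set.compl_subset_compl.mpr hsub))
  rcases interior_nonempty_or_of_isConstructible hF with h | ⟨x, hx⟩
  · exact h.mono (interior_mono hmono)
  · exfalso
    have hmem : genericPoint S ∈ interior ((g '' E₂ᶜ)ᶜ)ᶜ :=
      ((genericPoint_spec S).mem_open_set_iff isOpen_interior).mpr ⟨x, by simpa using hx⟩
    exact interior_subset hmem hηF

end Groth.Agent.Lib.Helper24.ConsLocus
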