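import Groth.Agent.Lib.Helper24.Lim8FPMain

/-!
# Descent of finite coverings through limits (helper24)
-/

set_option autoImplicit false

universe u

open CategoryTheory CategoryTheory.Limits AlgebraicGeometry

namespace Groth.Agent.Lib.Helper24.Lim8

lemma isPullback_id_id {X Y : Scheme.{u}} (t : X ⟶ Y) : IsPullback t (𝟙 X) (𝟙 Y) t :=
  IsPullback.of_vert_isIso ⟨by simp⟩

section

variable {I : Type u} [SmallCategory I] {D : I ⥤ Scheme.{u}} {c : Cone D}

/-- A property of the limit morphism that descends holds for a rebase of the model. -/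
lemma Model.exists_rebase_of_descends {P : MorphismProperty Scheme.{u}} [P.RespectsIso] {l : I}
    {X : Scheme.{u}} {f : X ⟶ c.pt} (M : Model D c l f)
    (hdesc : Descends D c P l M.fi (𝟙 _)) (hP : P f) :
    ∃ (l' : I) (φ : l' ⟶ l), P (M.rebase φ).fi := by
  have hY : IsPullback (c.π.app l) (𝟙 c.pt) (𝟙 (D.obj l)) (c.π.app l) :=
    isPullback_id_id (X := c.pt) (c.π.app l)
  obtain ⟨j, φ, hj⟩ := hdesc ((bcMap_iff_of_isPullback hY M.sq).mpr hP)
  have hY' : IsPullback (D.map φ) (𝟙 _) (𝟙 _) (D.map φ) := IsPullback.of_vert_isIso ⟨by simp⟩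
  exact ⟨j, φ, (bcMap_iff_of_isPullback hY'
    (IsPullback.of_hasPullback (D.map φ) M.fi).flip).mp hj⟩

variable [IsCofiltered I] [∀ {i j} (f : i ⟶ j), IsAffineHom (D.map f)] (hc : IsLimit c)
  [∀ i, CompactSpace (D.obj i)] [∀ i, QuasiSeparatedSpace (D.obj i)]

include hc in
/-- Finitely many morphisms of finite presentation with a descending property have models with
that property at a common stage. -/
lemma exists_models_finset {P : MorphismProperty Scheme.{u}} [P.RespectsIso]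
    [P.IsStableUnderBaseChange]
    (hdesc : ∀ (l : I) {X₀ : Scheme.{u}} (f₀ : X₀ ⟶ D.obj l), LocallyOfFinitePresentation f₀ →
      CompactSpace X₀ → QuasiSeparatedSpace X₀ → Descends D c P l f₀ (𝟙 _))
    {κ : Type*} (U : κ → Scheme.{u}) (u : ∀ k, U k ⟶ c.pt) (hP : ∀ k, P (u k))
    [∀ k, LocallyOfFinitePresentation (u k)] [∀ k, QuasiCompact (u k)]
    [∀ k, QuasiSeparated (u k)] (s : Finset κ) :
    ∃ l : I, ∀ k ∈ s, ∃ M : Model D c l (u k), M.IsFP ∧ P M.fi := by
  classical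
  induction s using Finset.induction_on with
  | empty => exact ⟨(IsCofiltered.nonempty (C := I)).some, by simp⟩
  | insert a s _ ih =>
    obtain ⟨l, h⟩ := ih
    obtain ⟨l₁, M₁, hM₁⟩ := Model.exists_isFP hc (u a)
    obtain ⟨l₂, φ, hP₂⟩ := M₁.exists_rebase_of_descends
      (hdesc l₁ M₁.fi hM₁.lfp hM₁.compact hM₁.qs) (hP a)
    refine ⟨IsCofiltered.min l l₂, fun k hk ↦ ?_⟩
    rcases Finset.mem_insert.mp hk with rfl | hk
    · exact ⟨(M₁.rebase φ).rebase (IsCofiltered.minToRight l l₂), (hM₁.rebase φ).rebase _,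
        P.pullback_fst _ _ hP₂⟩
    · obtain ⟨M, hM, hPM⟩ := h k hk
      exact ⟨M.rebase (IsCofiltered.minToLeft l l₂), hM.rebase _, P.pullback_fst _ _ hPM⟩

include hc in
/-- A finite covering of the limit by morphisms of finite presentation with open images and a
descending property descends to a covering of a stage. -/
theorem exists_descend_cover {P : MorphismProperty Scheme.{u}} [P.RespectsIso]
    [P.IsStableUnderBaseChange]
    (hopen : ∀ {X Y : Scheme.{u}} (f : X ⟶ Y), P f → IsOpen (Set.range f))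
    (hdesc : ∀ (l : I) {X₀ : Scheme.{u}} (f₀ : X₀ ⟶ D.obj l), LocallyOfFinitePresentation f₀ →
      CompactSpace X₀ → QuasiSeparatedSpace X₀ → Descends D c P l f₀ (𝟙 _))
    {ι : Type*} (U : ι → Scheme.{u}) (u : ∀ a, U a ⟶ c.pt) (hP : ∀ a, P (u a))
    [∀ a, LocallyOfFinitePresentation (u a)] [∀ a, QuasiCompact (u a)]
    [∀ a, QuasiSeparated (u a)] (hcov : ∀ x : c.pt, ∃ (a : ι) (y : U a), u a y = x) :
    ∃ (l : I) (n : ℕ) (a : Fin n → ι) (M : ∀ j, Model D c l (u (a j))),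
      (∀ j, (M j).IsFP ∧ P (M j).fi) ∧ ∀ x : D.obj l, ∃ (j : Fin n) (y : (M j).Xi),
        (M j).fi y = x := by
  classical
  have : CompactSpace c.pt := Scheme.compactSpace_of_isLimit D c hc
  -- finite subcover
  obtain ⟨t, ht⟩ := isCompact_univ.elim_finite_subcover (fun a ↦ Set.range (u a))
    (fun a ↦ hopen _ (hP a)) (fun x _ ↦ by
      obtain ⟨a, y, hy⟩ := hcov x
      exact Set.mem_iUnion.mpr ⟨a, y, hy⟩)
  let a : Fin t.card → ι := fun j ↦ (t.equivFin.symm j).1
  have hcov' : ∀ x : c.pt, ∃ (j : Fin t.card) (y : U (a j)), u (a j) y = x := by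
    intro x
    obtain ⟨b, hb, hx⟩ := Set.mem_iUnion₂.mp (ht (Set.mem_univ x))
    refine ⟨t.equivFin ⟨b, hb⟩, ?_⟩
    have : a (t.equivFin ⟨b, hb⟩) = b := by simp [a]
    rw [this]
    exact hx
  obtain ⟨l, h⟩ := exists_models_finset hc hdesc (fun j ↦ U (a j)) (fun j ↦ u (a j))
    (fun j ↦ hP (a j)) (Finset.univ : Finset (Fin t.card))
  choose M hM hPM using fun j ↦ h j (Finset.mem_univ j)
  let E : (D.obj l).Opens := ⨆ j, ⟨Set.range (M j).fi, hopen _ (hPM j)⟩
  have hE : c.π.app l ⁻¹ᵁ E = ⊤ := by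
    rw [eq_top_iff]
    intro x _
    obtain ⟨j, y, rfl⟩ := hcov' x
    refine TopologicalSpace.Opens.mem_iSup.mpr ⟨j, (M j).g y, ?_⟩
    rw [← Scheme.Hom.comp_apply, (M j).sq.w, Scheme.Hom.comp_apply]
  obtain ⟨l', φ, hφ⟩ := exists_map_eq_top D c hc E hE
  refine ⟨l', t.card, a, fun j ↦ (M j).rebase φ,
    fun j ↦ ⟨(hM j).rebase φ, P.pullback_fst _ _ (hPM j)⟩, fun x ↦ ?_⟩
  have hx : x ∈ D.map φ ⁻¹ᵁ E := by rw [hφ]; trivial
  obtain ⟨j, hj⟩ := TopologicalSpace.Opens.mem_iSup.mp hx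
  refine ⟨j, ?_⟩
  have : x ∈ Set.range (pullback.fst (D.map φ) (M j).fi) := by
    rw [Scheme.Pullback.range_fst]
    exact hj
  exact this

end

section overStage

variable {I : Type u} [SmallCategory I] [IsCofiltered I] (D : I ⥤ Scheme.{u}) (c : Cone D)
  (hc : IsLimit c) [∀ {i j} (f : i ⟶ j), IsAffineHom (D.map f)] (i₀ : I)
  [CompactSpace (D.obj i₀)] [QuasiSeparatedSpace (D.obj i₀)]

include hc in
/-- Version of `exists_descend_cover` where only one stage is assumed to be qcqs. -/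
theorem exists_descend_cover_of_stage {P : MorphismProperty Scheme.{u}} [P.RespectsIso]
    [P.IsStableUnderBaseChange]
    (hopen : ∀ {X Y : Scheme.{u}} (f : X ⟶ Y), P f → IsOpen (Set.range f))
    (hdesc : ∀ (l : Over i₀) {X₀ : Scheme.{u}} (f₀ : X₀ ⟶ D.obj l.left),
      LocallyOfFinitePresentation f₀ → CompactSpace X₀ → QuasiSeparatedSpace X₀ →
      Descends (Over.forget i₀ ⋙ D) (c.whisker (Over.forget i₀)) P l f₀ (𝟙 _))
    {ι : Type*} (U : ι → Scheme.{u}) (u : ∀ a, U a ⟶ c.pt) (hP : ∀ a, P (u a))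
    [∀ a, LocallyOfFinitePresentation (u a)] [∀ a, QuasiCompact (u a)]
    [∀ a, QuasiSeparated (u a)] (hcov : ∀ x : c.pt, ∃ (a : ι) (y : U a), u a y = x) :
    ∃ (i : I) (n : ℕ) (a : Fin n → ι) (M : ∀ j, Model D c i (u (a j))),
      (∀ j, P (M j).fi ∧ LocallyOfFinitePresentation (M j).fi ∧ QuasiCompact (M j).fi ∧
        QuasiSeparated (M j).fi) ∧ ∀ x : D.obj i, ∃ (j : Fin n) (y : (M j).Xi),
        (M j).fi y = x := by
  let D' : Over i₀ ⥤ Scheme.{u} := Over.forget i₀ ⋙ D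
  let c' : Cone D' := c.whisker (Over.forget i₀)
  have hc' : IsLimit c' := (Functor.Initial.isLimitWhiskerEquiv (Over.forget i₀) c).symm hc
  have : ∀ {i j : Over i₀} (f : i ⟶ j), IsAffineHom (D'.map f) := fun f ↦
    inferInstanceAs (IsAffineHom (D.map f.left))
  have hcs : ∀ l : Over i₀, CompactSpace (D'.obj l) := fun l ↦
    QuasiCompact.compactSpace_of_compactSpace (D.map l.hom)
  have hqs : ∀ l : Over i₀, QuasiSeparatedSpace (D'.obj l) := fun l ↦
    quasiSeparatedSpace_of_quasiSeparated (D.map l.hom)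
  obtain ⟨l, n, a, M, hM, hsurj⟩ := exists_descend_cover (D := D') (c := c') hc' hopen hdesc U u
    hP hcov
  refine ⟨l.left, n, a, fun j ↦ ⟨(M j).Xi, (M j).fi, (M j).g, (M j).sq⟩, fun j ↦ ?_, hsurj⟩
  have := (hM j).1.compact
  have := (hM j).1.qs
  have := hqs l
  exact ⟨(hM j).2, (hM j).1.lfp, inferInstanceAs (QuasiCompact (M j).fi),
    inferInstanceAs (QuasiSeparated (M j).fi)⟩

include hc i₀ in
/-- **Étale coverings of finite presentation descend.** -/
theorem exists_descend_etale_cover {ι : Type*} (U : ι → Scheme.{u}) (u : ∀ a, U a ⟶ c.pt)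
    [∀ a, Etale (u a)] [∀ a, QuasiCompact (u a)] [∀ a, QuasiSeparated (u a)]
    (hcov : ∀ x : c.pt, ∃ (a : ι) (y : U a), u a y = x) :
    ∃ (i : I) (n : ℕ) (a : Fin n → ι) (M : ∀ j, Model D c i (u (a j))),
      (∀ j, Etale (M j).fi ∧ LocallyOfFinitePresentation (M j).fi ∧ QuasiCompact (M j).fi ∧
        QuasiSeparated (M j).fi) ∧ ∀ x : D.obj i, ∃ (j : Fin n) (y : (M j).Xi),
        (M j).fi y = x := by
  have hc' : IsLimit (c.whisker (Over.forget i₀)) :=
    (Functor.Initial.isLimitWhiskerEquiv (Over.forget i₀) c).symm hc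
  have : ∀ {i j : Over i₀} (f : i ⟶ j), IsAffineHom ((Over.forget i₀ ⋙ D).map f) := fun f ↦
    inferInstanceAs (IsAffineHom (D.map f.left))
  refine exists_descend_cover_of_stage D c hc i₀ (P := @Etale)
    (fun f hf ↦ ?_) (fun l X₀ f₀ h1 h2 h3 ↦ ?_) U u (fun a ↦ inferInstance) hcov
  · have := hf
    exact f.isOpenMap.isOpen_range
  · exact descends_etale (Over.forget i₀ ⋙ D) (c.whisker (Over.forget i₀)) hc' l f₀ (𝟙 _)

include hc i₀ in
/-- **Zariski coverings by quasi-compact opens descend.** -/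
theorem exists_descend_zariski_cover {ι : Type*} (U : ι → Scheme.{u}) (u : ∀ a, U a ⟶ c.pt)
    [∀ a, IsOpenImmersion (u a)] [∀ a, QuasiCompact (u a)]
    (hcov : ∀ x : c.pt, ∃ (a : ι) (y : U a), u a y = x) :
    ∃ (i : I) (n : ℕ) (a : Fin n → ι) (M : ∀ j, Model D c i (u (a j))),
      (∀ j, IsOpenImmersion (M j).fi ∧ LocallyOfFinitePresentation (M j).fi ∧
        QuasiCompact (M j).fi ∧ QuasiSeparated (M j).fi) ∧
        ∀ x : D.obj i, ∃ (j : Fin n) (y : (M j).Xi), (M j).fi y = x := by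
  have hc' : IsLimit (c.whisker (Over.forget i₀)) :=
    (Functor.Initial.isLimitWhiskerEquiv (Over.forget i₀) c).symm hc
  have : ∀ {i j : Over i₀} (f : i ⟶ j), IsAffineHom ((Over.forget i₀ ⋙ D).map f) := fun f ↦
    inferInstanceAs (IsAffineHom (D.map f.left))
  refine exists_descend_cover_of_stage D c hc i₀ (P := @IsOpenImmersion)
    (fun f hf ↦ ?_) (fun l X₀ f₀ h1 h2 h3 ↦ ?_) U u (fun a ↦ inferInstance) hcov
  · have := hf
    exact f.isOpenEmbedding.isOpen_range
  · have : CompactSpace (D.obj l.left) :=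
      QuasiCompact.compactSpace_of_compactSpace (D.map l.hom)
    have : QuasiSeparatedSpace (D.obj l.left) :=
      quasiSeparatedSpace_of_quasiSeparated (D.map l.hom)
    have : QuasiCompact f₀ := inferInstance
    exact descends_isOpenImmersion (Over.forget i₀ ⋙ D) (c.whisker (Over.forget i₀)) hc' l f₀
      (𝟙 _)

end overStage

end Groth.Agent.Lib.Helper24.Lim8
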