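import Groth.Agent.Lib.Helper24.ConsLocus
import Groth.Agent.Lib.Helper24.Lim8CoverDescent

/-!
# Models over finitely generated `ℤ`-subalgebras (helper24)

EGA IV 17.7.9-type statements: a scheme of finite presentation over `Spec A` with a property that
descends through limits has a model with that property over a finitely generated `ℤ`-subalgebra.
-/

set_option autoImplicit false

universe u

open CategoryTheory CategoryTheory.Limits AlgebraicGeometry

namespace Groth.Agent.Lib.Helper24.Lim8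

open Groth.Agent.Lib.Helper24.ConsLocus

theorem exists_model_over_fgSubZ {P : MorphismProperty Scheme.{u}} [P.RespectsIso]
    (hdesc : ∀ {I : Type u} [SmallCategory I] [IsCofiltered I] (D : I ⥤ Scheme.{u}) (c : Cone D)
      (_ : IsLimit c) [∀ {i j : I} (f : i ⟶ j), IsAffineHom (D.map f)] (l : I) {X₀ : Scheme.{u}}
      (f₀ : X₀ ⟶ D.obj l) [CompactSpace X₀] [LocallyOfFinitePresentation f₀],
      Descends D c P l f₀ (𝟙 _))
    (B : CommRingCat.{u}) {X : Scheme.{u}} (f : X ⟶ Spec B)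
    [LocallyOfFinitePresentation f] [QuasiCompact f] [QuasiSeparated f] (hf : P f) :
    ∃ A₀ : FGSubZ B,
      ∃ (X₀ : Scheme.{u}) (f₀ : X₀ ⟶ Spec ((fgSubZDiagram B).obj A₀)) (g : X ⟶ X₀),
        P f₀ ∧ LocallyOfFinitePresentation f₀ ∧ QuasiCompact f₀ ∧ QuasiSeparated f₀ ∧
          IsPullback g f f₀ (Spec.map ((fgSubZCocone B).ι.app A₀)) := by
  let D : (FGSubZ B)ᵒᵖ ⥤ Scheme.{u} := (fgSubZDiagram B).op ⋙ Scheme.Spec
  let c : Cone D := Scheme.Spec.mapCone (fgSubZCocone B).op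
  have hc : IsLimit c := isLimitOfPreserves Scheme.Spec (isColimitFgSubZCocone B).op
  have hD : ∀ {i k : (FGSubZ B)ᵒᵖ} (h : i ⟶ k), IsAffineHom (D.map h) := fun h ↦ by
    dsimp [D]; infer_instance
  have hD1 : ∀ i, CompactSpace (D.obj i) := fun i ↦ by dsimp [D]; infer_instance
  have hD2 : ∀ i, QuasiSeparatedSpace (D.obj i) := fun i ↦ by dsimp [D]; infer_instance
  let f' : X ⟶ c.pt := f
  have : LocallyOfFinitePresentation f' := ‹LocallyOfFinitePresentation f›
  have : QuasiCompact f' := ‹QuasiCompact f›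
  have : QuasiSeparated f' := ‹QuasiSeparated f›
  have hf' : P f' := hf
  obtain ⟨l, M, hM⟩ := Model.exists_isFP (D := D) (c := c) hc f'
  have := hM.compact
  have := hM.lfp
  obtain ⟨l', φ, hP⟩ := M.exists_rebase_of_descends (hdesc D c hc l M.fi) hf'
  have hM' := hM.rebase φ
  have := hM'.compact
  have := hM'.qs
  refine ⟨l'.unop, (M.rebase φ).Xi, (M.rebase φ).fi, (M.rebase φ).g, hP, hM'.lfp,
    ?_, ?_, (M.rebase φ).sq⟩
  · exact @quasiCompact_of_compactSpace _ _ (M.rebase φ).fi hM'.compact (hD2 l')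
  · exact inferInstance

theorem exists_model_over_fg_subalgebra {P : MorphismProperty Scheme.{u}} [P.RespectsIso]
    (hdesc : ∀ {I : Type u} [SmallCategory I] [IsCofiltered I] (D : I ⥤ Scheme.{u}) (c : Cone D)
      (_ : IsLimit c) [∀ {i j : I} (f : i ⟶ j), IsAffineHom (D.map f)] (l : I) {X₀ : Scheme.{u}}
      (f₀ : X₀ ⟶ D.obj l) [CompactSpace X₀] [LocallyOfFinitePresentation f₀],
      Descends D c P l f₀ (𝟙 _))
    (A : Type u) [CommRing A] {X : Scheme.{u}} (f : X ⟶ Spec (CommRingCat.of A))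
    [LocallyOfFinitePresentation f] [QuasiCompact f] [QuasiSeparated f] (hf : P f) :
    ∃ A₀ : Subalgebra ℤ A, A₀.FG ∧
      ∃ (X₀ : Scheme.{u}) (f₀ : X₀ ⟶ Spec (CommRingCat.of ↥A₀)) (g : X ⟶ X₀),
        P f₀ ∧ LocallyOfFinitePresentation f₀ ∧ QuasiCompact f₀ ∧ QuasiSeparated f₀ ∧
          IsPullback g f f₀ (Spec.map (CommRingCat.ofHom (algebraMap (↥A₀) A))) := by
  obtain ⟨A₀, X₀, f₀, g, h1, h2, h3, h4, h5⟩ :=
    exists_model_over_fgSubZ hdesc (CommRingCat.of A) f hf
  exact ⟨A₀.1, A₀.2, X₀, f₀, g, h1, h2, h3, h4, h5⟩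

end Groth.Agent.Lib.Helper24.Lim8
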