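import Groth.Agent.Lib.Helper24.Lim8DescendFinite

/-!
# Descent of immersions along cofiltered limits (EGA IV 8.10.5 (iv)) (helper24)
-/

set_option autoImplicit false

universe u

open CategoryTheory CategoryTheory.Limits AlgebraicGeometry

namespace Groth.Agent.Lib.Helper24.Lim8

section prelim

/-- A morphism which is a closed immersion over an open containing its range is an immersion. -/
lemma isImmersion_of_isClosedImmersion_morphismRestrict {X Y : Scheme.{u}} (f : X ⟶ Y)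
    (U : Y.Opens) (hU : Set.range f ⊆ U) (h : IsClosedImmersion (f ∣_ U)) : IsImmersion f := by
  have hsurj : Surjective (f ⁻¹ᵁ U).ι := by
    refine ⟨fun x ↦ ⟨⟨x, hU ⟨x, rfl⟩⟩, rfl⟩⟩
  have : IsIso (f ⁻¹ᵁ U).ι := (isIso_iff_isOpenImmersion_and_surjective _).mpr ⟨inferInstance, hsurj⟩
  have h1 : IsImmersion ((f ⁻¹ᵁ U).ι ≫ f) := by
    rw [← morphismRestrict_ι]
    infer_instance
  exact (MorphismProperty.cancel_left_of_respectsIso (P := @IsImmersion) (f ⁻¹ᵁ U).ι f).mp h1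

/-- Restriction to an open commutes with isomorphisms of arrows. -/
lemma morphismRestrict_iff_of_iso {P : MorphismProperty Scheme.{u}} [P.RespectsIso]
    {X Y X' Y' : Scheme.{u}} {f : X ⟶ Y} {f' : X' ⟶ Y'} (e₁ : X ≅ X') (e₂ : Y ≅ Y')
    (h : f ≫ e₂.hom = e₁.hom ≫ f') (W : Y'.Opens) :
    P (f ∣_ (e₂.hom ⁻¹ᵁ W)) ↔ P (f' ∣_ W) := by
  have h0 : IsPullback e₁.hom f f' e₂.hom := IsPullback.of_horiz_isIso ⟨h.symm⟩
  have h1 := (isPullback_morphismRestrict f (e₂.hom ⁻¹ᵁ W)).flip.paste_horiz h0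
  have h2 := (isPullback_morphismRestrict f' W).flip
  refine iff_of_isPullback_of_iso h1 h2 (asIso (e₂.hom ∣_ W)) ?_
  rw [asIso_hom, morphismRestrict_ι]

/-- An immersion is a closed immersion over any open contained in its coborder. -/
lemma isClosedImmersion_morphismRestrict_of_le_coborderRange {X Y : Scheme.{u}} (f : X ⟶ Y)
    [IsImmersion f] (U : Y.Opens) (hU : U ≤ f.coborderRange) : IsClosedImmersion (f ∣_ U) := by
  refine IsClosedImmersion.of_isPreimmersion _ ?_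
  have hr : Set.range (f ∣_ U) = U.ι ⁻¹' Set.range f := by
    rw [← range_snd_of_isPullback (isPullback_morphismRestrict f U).flip]
  rw [hr]
  have : U.ι ⁻¹' Set.range f = U.ι ⁻¹' closure (Set.range f) := by
    ext ⟨y, hy⟩
    simp only [Set.mem_preimage]
    refine ⟨fun h ↦ subset_closure h, fun h ↦ ?_⟩
    by_contra hn
    have h1 : y ∈ coborder (Set.range f) := hU hy
    exact h1 ⟨h, hn⟩
  rw [this]
  exact isClosed_closure.preimage U.ι.continuous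

end prelim

section main

variable {I : Type u} [Category.{u} I] (D : I ⥤ Scheme.{u}) (c : Cone D) (hc : IsLimit c)
variable [IsCofiltered I] [∀ {i j} (f : i ⟶ j), IsAffineHom (D.map f)]

include hc in
/-- Core of the descent of immersions: given a compact open `U₀` of `Y_k` whose preimage in the
limit contains the range of `f` and over which `f` is a closed immersion, some base change of
`f_k` to a stage is an immersion. -/
lemma exists_isImmersion_bcMap_of_opens (k : I) {Xk Yk : Scheme.{u}} (fk : Xk ⟶ Yk)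
    (gk : Yk ⟶ D.obj k) [CompactSpace Xk] [QuasiSeparatedSpace Xk] [CompactSpace Yk]
    [QuasiSeparatedSpace Yk] [LocallyOfFiniteType fk] {X Y : Scheme.{u}} {f : X ⟶ Y}
    {g : Y ⟶ c.pt} {qY : Y ⟶ Yk} {qX : X ⟶ Xk} (hY : IsPullback qY g gk (c.π.app k))
    (hX : IsPullback qX f fk qY) (U₀ : Yk.Opens) (hU₀ : IsCompact (U₀ : Set Yk))
    (hr : Set.range f ⊆ qY ⁻¹ᵁ U₀) (hcl : IsClosedImmersion (f ∣_ qY ⁻¹ᵁ U₀)) :
    ∃ (j : I) (θ : j ⟶ k), IsImmersion (bcMap (D.map θ) fk gk) := by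
  obtain ⟨eX, eY, hcomm, -, heY, heX, -⟩ := exists_iso_bcMap hY hX
  -- (ii) at the limit
  have hpre : eY.hom ⁻¹ᵁ (pullback.snd (c.π.app k) gk ⁻¹ᵁ U₀) = qY ⁻¹ᵁ U₀ := by
    rw [← Scheme.Hom.comp_preimage, heY]
  have h2 : IsClosedImmersion (bcMap (c.π.app k) (fk ∣_ U₀) (U₀.ι ≫ gk)) := by
    rw [bcMap_morphismRestrict_iff (P := @IsClosedImmersion),
      ← morphismRestrict_iff_of_iso (P := @IsClosedImmersion) eX eY hcomm, hpre]
    exact hcl
  -- (i) at the limit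
  have h1 : Surjective (bcMap (c.π.app k) (fk ⁻¹ᵁ U₀).ι (fk ≫ gk)) := by
    refine ⟨?_⟩
    rw [← Set.range_eq_univ, range_bcMap, Scheme.Opens.range_ι, Set.eq_univ_iff_forall]
    intro x'
    have hx : f (eX.inv x') ∈ qY ⁻¹ᵁ U₀ := hr ⟨_, rfl⟩
    have e1 : qY (f (eX.inv x')) = fk (pullback.snd (c.π.app k) (fk ≫ gk) x') := by
      rw [← Scheme.Hom.comp_apply, ← hX.w, ← heX, Scheme.Hom.comp_apply, Scheme.Hom.comp_apply,
        ← Scheme.Hom.comp_apply eX.inv eX.hom, Iso.inv_hom_id]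
      rfl
    change fk (pullback.snd (c.π.app k) (fk ≫ gk) x') ∈ U₀
    rw [← e1]
    exact hx
  -- descend both
  have hqc : QuasiCompact fk := inferInstance
  have hc1 : IsCompact ((fk ⁻¹ᵁ U₀ : Xk.Opens) : Set Xk) :=
    QuasiCompact.isCompact_preimage (f := fk) _ U₀.2 hU₀
  have : CompactSpace (fk ⁻¹ᵁ U₀).toScheme := isCompact_iff_compactSpace.mp hc1
  have : CompactSpace U₀.toScheme := isCompact_iff_compactSpace.mp hU₀
  have : QuasiSeparatedSpace U₀.toScheme :=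
    (isQuasiSeparated_iff_quasiSeparatedSpace _ U₀.2).mp (.of_quasiSeparatedSpace _)
  have : QuasiSeparatedSpace (fk ⁻¹ᵁ U₀).toScheme :=
    (isQuasiSeparated_iff_quasiSeparatedSpace _ (fk ⁻¹ᵁ U₀).2).mp (.of_quasiSeparatedSpace _)
  have : QuasiCompact (fk ⁻¹ᵁ U₀).ι := quasiCompact_of_compactSpace _
  obtain ⟨j₁, φ₁, hj₁⟩ := descends_surjective D c hc k (fk ≫ gk) (fk ⁻¹ᵁ U₀).ι h1
  obtain ⟨j₂, φ₂, hj₂⟩ := descends_isClosedImmersion D c hc k (fk ∣_ U₀) (U₀.ι ≫ gk) h2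
  obtain ⟨j, a, b, e⟩ := IsCofiltered.cospan φ₁ φ₂
  have hj₁' := bcMap_map_comp_of_bcMap_map (P := @Surjective) a φ₁ hj₁
  have hj₂' := bcMap_map_comp_of_bcMap_map (P := @IsClosedImmersion) b φ₂ hj₂
  rw [← e] at hj₂'
  refine ⟨j, a ≫ φ₁, ?_⟩
  refine isImmersion_of_isClosedImmersion_morphismRestrict _
    (pullback.snd (D.map (a ≫ φ₁)) gk ⁻¹ᵁ U₀) ?_ ?_
  · rintro _ ⟨x, rfl⟩
    obtain ⟨w, rfl⟩ := hj₁'.surj x
    change pullback.snd (D.map (a ≫ φ₁)) gk (bcMap (D.map (a ≫ φ₁)) fk gk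
      (bcMap (D.map (a ≫ φ₁)) (fk ⁻¹ᵁ U₀).ι (fk ≫ gk) w)) ∈ U₀
    rw [← Scheme.Hom.comp_apply, ← Scheme.Hom.comp_apply, bcMap_snd,
      bcMap_snd_assoc, Scheme.Hom.comp_apply, Scheme.Hom.comp_apply]
    exact (pullback.snd (D.map (a ≫ φ₁)) ((fk ⁻¹ᵁ U₀).ι ≫ fk ≫ gk) w).2
  · rw [← bcMap_morphismRestrict_iff (P := @IsClosedImmersion)]
    exact hj₂'

/-- In a scheme, a compact subset of an open subset is contained in a compact open subset of
the latter. -/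
lemma exists_isCompact_opens_between {Y : Scheme.{u}} {K : Set Y} (hK : IsCompact K)
    (U : Y.Opens) (hKU : K ⊆ U) :
    ∃ U' : Y.Opens, IsCompact (U' : Set Y) ∧ K ⊆ U' ∧ U' ≤ U := by
  classical
  have key : ∀ x ∈ K, ∃ W : Y.Opens, IsAffineOpen W ∧ x ∈ W ∧ W ≤ U := by
    intro x hx
    obtain ⟨_, ⟨W, hW : IsAffineOpen W, rfl⟩, hxW, hWU⟩ :=
      Y.isBasis_affineOpens.exists_subset_of_mem_open (hKU hx) U.2
    exact ⟨W, hW, hxW, hWU⟩
  choose W hW hxW hWU using key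
  obtain ⟨t, ht⟩ := hK.elim_nhds_subcover' (fun x hx ↦ (W x hx : Set Y))
    (fun x hx ↦ (W x hx).2.mem_nhds (hxW x hx))
  refine ⟨⨆ x : t, W x.1 x.1.2, ?_, ?_, ?_⟩
  · rw [TopologicalSpace.Opens.coe_iSup]
    exact isCompact_iUnion fun x ↦ (hW x.1 x.1.2).isCompact
  · intro y hy
    obtain ⟨x, hx, hyx⟩ := Set.mem_iUnion₂.mp (ht hy)
    rw [TopologicalSpace.Opens.coe_iSup]
    exact Set.mem_iUnion.mpr ⟨⟨x, hx⟩, hyx⟩
  · exact iSup_le fun x ↦ hWU x.1 x.1.2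

include hc in
/-- Immersions descend (`X₀`, `Y₀` qcqs, `f₀` locally of finite type). -/
lemma descends_isImmersion (i₀ : I) {X₀ Y₀ : Scheme.{u}} (f₀ : X₀ ⟶ Y₀) (g₀ : Y₀ ⟶ D.obj i₀)
    [CompactSpace X₀] [QuasiSeparatedSpace X₀] [CompactSpace Y₀] [QuasiSeparatedSpace Y₀]
    [LocallyOfFiniteType f₀] : Descends D c @IsImmersion i₀ f₀ g₀ := by
  intro hP
  have hP' : IsImmersion (bcMap (c.π.app i₀) f₀ g₀) := hP
  have haff : IsAffineHom (c.π.app i₀) := isAffineHom_π_app D c hc i₀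
  have : IsAffineHom (pullback.snd (c.π.app i₀) (f₀ ≫ g₀)) := isAffineHom_pullback_snd _ _
  have : CompactSpace ↥(pullback (c.π.app i₀) (f₀ ≫ g₀)) :=
    QuasiCompact.compactSpace_of_compactSpace (pullback.snd (c.π.app i₀) (f₀ ≫ g₀))
  obtain ⟨U', hU'c, hrU', hU'⟩ := exists_isCompact_opens_between
    (isCompact_range (bcMap (c.π.app i₀) f₀ g₀).continuous)
    (bcMap (c.π.app i₀) f₀ g₀).coborderRange subset_coborder
  obtain ⟨k, U₀, hU₀, hk⟩ := exists_preimage_eq (pbDiagram D i₀ g₀) (pbCone D c i₀ g₀)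
    (isLimitPbCone D c hc i₀ g₀) U' hU'c
  subst hk
  have h1 : CompactSpace ↥(pullback (D.map k.hom) (f₀ ≫ g₀)) :=
    compactSpace_pbDiagram_obj D i₀ (f₀ ≫ g₀) k
  have h2 : QuasiSeparatedSpace ↥(pullback (D.map k.hom) (f₀ ≫ g₀)) :=
    quasiSeparatedSpace_pbDiagram_obj D i₀ (f₀ ≫ g₀) k
  have h3 : CompactSpace ↥(pullback (D.map k.hom) g₀) := compactSpace_pbDiagram_obj D i₀ g₀ k
  have h4 : QuasiSeparatedSpace ↥(pullback (D.map k.hom) g₀) :=
    quasiSeparatedSpace_pbDiagram_obj D i₀ g₀ k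
  have h5 : LocallyOfFiniteType (bcMap (D.map k.hom) f₀ g₀) :=
    bcMap_of_isStableUnderBaseChange (P := @LocallyOfFiniteType) _ _ _ inferInstance
  have key := exists_isImmersion_bcMap_of_opens D c hc k.left (bcMap (D.map k.hom) f₀ g₀)
    (pullback.fst (D.map k.hom) g₀) (isPullback_pbCone_π D c i₀ g₀ k)
    (isPullback_pbCone_π_bcMap D c i₀ f₀ g₀ k) U₀ hU₀ hrU'
    (@isClosedImmersion_morphismRestrict_of_le_coborderRange _ _ (bcMap (c.π.app i₀) f₀ g₀) hP'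
      _ hU')
  exact Descends.of_rebase (P := @IsImmersion) k.hom (fun _ ↦ key) hP

end main

end Groth.Agent.Lib.Helper24.Lim8
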