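import Groth.Agent.Lib.Helper24.Lim8FPGlue

/-!
# Descent of schemes of finite presentation through limits: main theorem (helper24)

EGA IV 8.8.2 (ii) / Stacks 01ZM.
-/

set_option autoImplicit false

universe u

open CategoryTheory CategoryTheory.Limits AlgebraicGeometry

namespace Groth.Agent.Lib.Helper24.Lim8

variable {I : Type u} [SmallCategory I] {D : I ⥤ Scheme.{u}} {c : Cone D}

/-- Change the structure morphism of a model along an equality. -/
def Model.copy {i : I} {X : Scheme.{u}} {f f' : X ⟶ c.pt} (M : Model D c i f) (h : f = f') :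
    Model D c i f' where
  Xi := M.Xi
  fi := M.fi
  g := M.g
  sq := h ▸ M.sq

lemma Model.IsFP.copy {i : I} {X : Scheme.{u}} {f f' : X ⟶ c.pt} {M : Model D c i f}
    (hM : M.IsFP) (h : f = f') : (M.copy h).IsFP :=
  ⟨hM.lfp, hM.compact, hM.qs⟩

variable [IsCofiltered I] [∀ {i j} (f : i ⟶ j), IsAffineHom (D.map f)] (hc : IsLimit c)
  [∀ i, CompactSpace (D.obj i)] [∀ i, QuasiSeparatedSpace (D.obj i)]

include hc in
/-- **Descent of schemes of finite presentation** (EGA IV 8.8.2 (ii)). -/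
theorem Model.exists_isFP {X : Scheme.{u}} (f : X ⟶ c.pt) [LocallyOfFinitePresentation f]
    [QuasiCompact f] [QuasiSeparated f] : ∃ (l : I) (M : Model D c l f), M.IsFP := by
  classical
  have hπ := isAffineHom_π_app D c hc
  obtain ⟨i₀⟩ := IsCofiltered.nonempty (C := I)
  have : CompactSpace c.pt := Scheme.compactSpace_of_isLimit D c hc
  have : QuasiSeparatedSpace c.pt := quasiSeparatedSpace_of_quasiSeparated (c.π.app i₀)
  have : CompactSpace X := QuasiCompact.compactSpace_of_compactSpace f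
  have : QuasiSeparatedSpace X := quasiSeparatedSpace_of_quasiSeparated f
  -- the property to be proved for opens
  let Q : X.Opens → Prop := fun T ↦ ∃ (l : I) (M : Model D c l (T.ι ≫ f)), M.IsFP
  -- good affine opens
  have hgood : ∀ (U : X.Opens) (V : (D.obj i₀).Opens), IsAffineOpen U → IsAffineOpen V →
      U ≤ f ⁻¹ᵁ (c.π.app i₀ ⁻¹ᵁ V) → Q U := by
    intro U V hU hV hUV
    have : IsAffine U.toScheme := hU
    obtain ⟨l, φ, M, hM1, hM2⟩ := Model.exists_of_isAffine hc (U.ι ≫ f) i₀ V hV (by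
      rintro _ ⟨u, rfl⟩
      exact hUV u.2)
    exact ⟨l, M, hM2, inferInstance, inferInstance⟩
  have hsup : ∀ T₁ T₂ : X.Opens, Q T₁ → Q T₂ → Q (T₁ ⊔ T₂) := by
    rintro T₁ T₂ ⟨l₁, M₁, hM₁⟩ ⟨l₂, M₂, hM₂⟩
    have : QuasiSeparatedSpace (T₁ ⊔ T₂).toScheme :=
      quasiSeparatedSpace_of_quasiSeparated (T₁ ⊔ T₂).ι
    refine Model.exists_isFP_of_cover2 hc ((T₁ ⊔ T₂).ι ≫ f) (X.homOfLE le_sup_left)
      (X.homOfLE le_sup_right) ?_ (M₁.copy (X.homOfLE_ι_assoc _ _).symm)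
      (M₂.copy (X.homOfLE_ι_assoc _ _).symm) (hM₁.copy _) (hM₂.copy _)
    rintro ⟨x, hx⟩
    rcases hx with hx | hx
    · exact Or.inl ⟨⟨x, hx⟩, Subtype.ext (X.homOfLE_apply _ _)⟩
    · exact Or.inr ⟨⟨x, hx⟩, Subtype.ext (X.homOfLE_apply _ _)⟩
  -- choose good affine neighbourhoods
  have hx : ∀ x : X, ∃ U : X.Opens, x ∈ U ∧ Q U := by
    intro x
    obtain ⟨_, ⟨V, hV : IsAffineOpen V, rfl⟩, hxV, -⟩ :=
      (D.obj i₀).isBasis_affineOpens.exists_subset_of_mem_open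
        (Set.mem_univ (c.π.app i₀ (f x))) isOpen_univ
    obtain ⟨_, ⟨U, hU : IsAffineOpen U, rfl⟩, hxU, hUV⟩ :=
      X.isBasis_affineOpens.exists_subset_of_mem_open
        (show x ∈ (f ⁻¹ᵁ (c.π.app i₀ ⁻¹ᵁ V) : X.Opens) from hxV)
        (f ⁻¹ᵁ (c.π.app i₀ ⁻¹ᵁ V)).2
    exact ⟨U, hxU, hgood U V hU hV hUV⟩
  choose U hxU hQU using hx
  obtain ⟨t, ht⟩ := CompactSpace.elim_nhds_subcover (fun x ↦ (U x : Set X))
    (fun x ↦ (U x).2.mem_nhds (hxU x))
  have hQt : ∀ s : Finset X, Q (s.sup U) := by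
    intro s
    induction s using Finset.induction_on with
    | empty =>
      rw [Finset.sup_empty]
      exact hgood ⊥ ⊥ (isAffineOpen_bot X) (isAffineOpen_bot _) bot_le
    | insert a s _ ih =>
      rw [Finset.sup_insert]
      exact hsup _ _ (hQU a) ih
  have htop : t.sup U = ⊤ := by
    rw [eq_top_iff]
    intro x _
    have : x ∈ ⋃ y ∈ t, (U y : Set X) := by rw [ht]; trivial
    obtain ⟨y, hy, hxy⟩ := Set.mem_iUnion₂.mp this
    exact (Finset.le_sup (f := U) hy) hxy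
  have hQ := hQt t
  rw [htop] at hQ
  obtain ⟨l, M, hM⟩ := hQ
  refine ⟨l, ⟨M.Xi, M.fi, X.topIso.inv ≫ M.g, ?_⟩, hM.lfp, hM.compact, hM.qs⟩
  have h1 : IsPullback X.topIso.inv f ((⊤ : X.Opens).ι ≫ f) (𝟙 _) :=
    IsPullback.of_horiz_isIso ⟨by simp⟩
  have := h1.paste_horiz M.sq
  rwa [Category.id_comp] at this

end Groth.Agent.Lib.Helper24.Lim8
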