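import Mathlib

/-!
# Directed colimits of rings: recognition, f.g. subalgebras, f.g. subideals;
# characterization of finite presentation by factorization through directed colimits
-/

universe u

open CategoryTheory Limits

namespace Groth.Agent.Lib.Helper24.DirColim

/-- Recognition of filtered colimits of commutative rings. -/
noncomputable def isColimitCommRingCat {J : Type u} [SmallCategory J] [IsFiltered J]
    (F : J ⥤ CommRingCat.{u}) (t : Cocone F)
    (hsurj : ∀ x : t.pt, ∃ (j : J) (y : F.obj j), t.ι.app j y = x)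
    (hinj : ∀ (j : J) (y : F.obj j), t.ι.app j y = 0 → ∃ (k : J) (f : j ⟶ k), F.map f y = 0) :
    IsColimit t := by
  have : ReflectsColimit F (forget CommRingCat.{u}) :=
    reflectsColimit_of_reflectsIsomorphisms F (forget CommRingCat.{u})
  refine isColimitOfReflects (forget CommRingCat.{u}) ?_
  refine Types.FilteredColimit.isColimitOf' _ _ ?_ ?_
  · intro x
    obtain ⟨j, y, hy⟩ := hsurj x
    exact ⟨j, y, hy.symm⟩
  · intro j x y hxy
    have h0 : t.ι.app j (x - y) = 0 := by
      rw [map_sub, sub_eq_zero]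
      exact hxy
    obtain ⟨k, f, hk⟩ := hinj j (x - y) h0
    refine ⟨k, f, ?_⟩
    rw [map_sub, sub_eq_zero] at hk
    exact hk

section Subalgebras

variable (A B : Type u) [CommRing A] [CommRing B] [Algebra A B]

/-- The directed set of finitely generated subalgebras. -/
abbrev FGSub := {S : Subalgebra A B // S.FG}

instance : IsDirected (FGSub A B) (· ≤ ·) :=
  ⟨fun S T ↦ ⟨⟨S.1 ⊔ T.1, S.2.sup T.2⟩, (le_sup_left : S.1 ≤ S.1 ⊔ T.1),
    (le_sup_right : T.1 ≤ S.1 ⊔ T.1)⟩⟩

instance : Nonempty (FGSub A B) := ⟨⟨⊥, Subalgebra.fg_bot⟩⟩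

/-- The diagram of finitely generated subalgebras. -/
noncomputable def fgSubDiagram : FGSub A B ⥤ CommRingCat.{u} where
  obj S := CommRingCat.of S.1
  map {S T} h := CommRingCat.ofHom (Subalgebra.inclusion (show S.1 ≤ T.1 from leOfHom h)).toRingHom
  map_id _ := rfl
  map_comp _ _ := rfl

/-- The cocone of inclusions. -/
noncomputable def fgSubCocone : Cocone (fgSubDiagram A B) where
  pt := CommRingCat.of B
  ι :=
    { app S := CommRingCat.ofHom S.1.val.toRingHom
      naturality _ _ _ := rfl }

/-- `B` is the colimit of its finitely generated subalgebras. -/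
noncomputable def isColimitFgSubCocone : IsColimit (fgSubCocone A B) := by
  refine isColimitCommRingCat _ _ ?_ ?_
  · intro (x : B)
    have hfg : (Algebra.adjoin A {x} : Subalgebra A B).FG := by
      have := Subalgebra.fg_adjoin_finset (R := A) ({x} : Finset B)
      rwa [Finset.coe_singleton] at this
    exact ⟨⟨Algebra.adjoin A {x}, hfg⟩,
      (⟨x, Algebra.subset_adjoin (Set.mem_singleton x)⟩ : Algebra.adjoin A {x}), rfl⟩
  · intro S y hy
    refine ⟨S, 𝟙 S, ?_⟩
    obtain ⟨y, hyS⟩ : S.1 := y
    have : y = 0 := hy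
    rw [(fgSubDiagram A B).map_id]
    exact Subtype.ext this

end Subalgebras

section Subideals

variable (P : Type u) [CommRing P] (K : Ideal P)

/-- The directed set of finitely generated ideals contained in `K`. -/
abbrev FGIdeal := {I : Ideal P // I.FG ∧ I ≤ K}

instance : IsDirected (FGIdeal P K) (· ≤ ·) :=
  ⟨fun S T ↦ ⟨⟨S.1 ⊔ T.1, Submodule.FG.sup S.2.1 T.2.1, sup_le S.2.2 T.2.2⟩,
    (le_sup_left : S.1 ≤ S.1 ⊔ T.1), (le_sup_right : T.1 ≤ S.1 ⊔ T.1)⟩⟩

instance : Nonempty (FGIdeal P K) := ⟨⟨⊥, Submodule.fg_bot, bot_le⟩⟩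

/-- The diagram of quotients by finitely generated subideals. -/
noncomputable def fgIdealDiagram : FGIdeal P K ⥤ CommRingCat.{u} where
  obj I := CommRingCat.of (P ⧸ I.1)
  map {S T} h := CommRingCat.ofHom (Ideal.Quotient.factor (show S.1 ≤ T.1 from leOfHom h))
  map_id S := by
    ext x
    rfl
  map_comp f g := by
    ext x
    rfl

/-- The cocone of quotient maps to `P ⧸ K`. -/
noncomputable def fgIdealCocone : Cocone (fgIdealDiagram P K) where
  pt := CommRingCat.of (P ⧸ K)
  ι :=
    { app S := CommRingCat.ofHom (Ideal.Quotient.factor S.2.2)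
      naturality S T h := by
        ext x
        obtain ⟨x, rfl⟩ := Ideal.Quotient.mk_surjective x
        rfl }

/-- `P ⧸ K` is the colimit of the quotients by the finitely generated subideals of `K`. -/
noncomputable def isColimitFgIdealCocone : IsColimit (fgIdealCocone P K) := by
  refine isColimitCommRingCat _ _ ?_ ?_
  · intro (x : P ⧸ K)
    obtain ⟨x, rfl⟩ := Ideal.Quotient.mk_surjective x
    exact ⟨⟨⊥, Submodule.fg_bot, bot_le⟩, (Ideal.Quotient.mk _ x : P ⧸ (⊥ : Ideal P)), rfl⟩
  · intro S (y : P ⧸ S.1) hy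
    obtain ⟨y, rfl⟩ := Ideal.Quotient.mk_surjective y
    have hyK : y ∈ K := by
      have : (Ideal.Quotient.mk K y) = 0 := hy
      exact Ideal.Quotient.eq_zero_iff_mem.mp this
    let T : FGIdeal P K := ⟨S.1 ⊔ Ideal.span {y}, Submodule.FG.sup S.2.1 (Submodule.fg_span_singleton y),
      sup_le S.2.2 ((Ideal.span_singleton_le_iff_mem _).mpr hyK)⟩
    refine ⟨T, homOfLE (show S.1 ≤ T.1 from le_sup_left), ?_⟩
    change Ideal.Quotient.mk T.1 y = 0
    exact Ideal.Quotient.eq_zero_iff_mem.mpr
      (Ideal.mem_sup_right (Ideal.mem_span_singleton_self y))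

end Subideals

/-- The factorization hypothesis: every map from `B` to a directed colimit of `A`-algebras factors
through a stage. -/
def Factors {A B : Type u} [CommRing A] [CommRing B] (φ : A →+* B) : Prop :=
  ∀ (J : Type u) [Preorder J] [IsDirected J (· ≤ ·)] [Nonempty J] (C : J ⥤ CommRingCat.{u})
    (t : Cocone C) (_ : IsColimit t) (a : ∀ j, A →+* C.obj j)
    (_ : ∀ (j k : J) (h : j ⟶ k), (C.map h).hom.comp (a j) = a k)
    (ψ : B →+* t.pt) (_ : ∀ j, ψ.comp φ = (t.ι.app j).hom.comp (a j)),
    ∃ (j : J) (ψj : B →+* C.obj j), ψj.comp φ = a j ∧ (t.ι.app j).hom.comp ψj = ψ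

/-- Stage 1: finite type. -/
theorem finiteType_of_factors {A B : Type u} [CommRing A] [CommRing B] (φ : A →+* B)
    (H : Factors φ) : φ.FiniteType := by
  letI := φ.toAlgebra
  obtain ⟨S, ψS, h1, h2⟩ := H (FGSub A B) (fgSubDiagram A B) (fgSubCocone A B)
    (isColimitFgSubCocone A B) (fun S ↦ algebraMap A S.1) (fun _ _ _ ↦ rfl)
    (RingHom.id B) (fun _ ↦ rfl)
  have htop : S.1 = ⊤ := by
    rw [eq_top_iff]
    intro b _
    have : (S.1.val.toRingHom) (ψS b) = b := congr($h2 b)
    rw [← this]
    exact (ψS b).2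
  change Algebra.FiniteType A B
  exact ⟨htop ▸ S.2⟩

/-- A ring map `φ : A → B` such that every map from `B` to a directed colimit of `A`-algebras
factors through a stage is of finite presentation (EGA IV 8.14.2.2, necessity). -/
theorem finitePresentation_of_factors {A B : Type u} [CommRing A] [CommRing B] (φ : A →+* B)
    (H : Factors φ) : φ.FinitePresentation := by
  classical
  have hft := finiteType_of_factors φ H
  letI := φ.toAlgebra
  obtain ⟨n, g, hg⟩ := Algebra.FiniteType.iff_quotient_mvPolynomial''.mp hft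
  set K : Ideal (MvPolynomial (Fin n) A) := RingHom.ker g.toRingHom with hK
  let e : (MvPolynomial (Fin n) A ⧸ K) ≃+* B := RingHom.quotientKerEquivOfSurjective hg
  have he (q : MvPolynomial (Fin n) A) : e.symm (g q) = Ideal.Quotient.mk K q :=
    RingHom.quotientKerEquivOfSurjective_symm_apply (f := g.toRingHom) hg q
  obtain ⟨I, ψI, h1, h2⟩ := H (FGIdeal _ K) (fgIdealDiagram _ K) (fgIdealCocone _ K)
    (isColimitFgIdealCocone _ K)
    (fun I ↦ (Ideal.Quotient.mk I.1).comp (algebraMap A (MvPolynomial (Fin n) A)))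
    (fun _ _ _ ↦ rfl) e.symm.toRingHom (fun I ↦ by
      ext r
      change e.symm (φ r) = _
      have : φ r = g (algebraMap A _ r) := (g.commutes r).symm
      rw [this, he]
      rfl)
  -- lifts of the images of the variables
  choose y hy using fun i : Fin n ↦ Ideal.Quotient.mk_surjective (ψI (g (MvPolynomial.X i)))
  let I' : Ideal (MvPolynomial (Fin n) A) :=
    I.1 ⊔ Ideal.span (Set.range fun i ↦ MvPolynomial.X i - y i)
  have hI'fg : I'.FG := Submodule.FG.sup I.2.1 (Submodule.fg_span (Set.finite_range _))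
  have hle : I.1 ≤ I' := le_sup_left
  have hyK (i : Fin n) : MvPolynomial.X i - y i ∈ K := by
    have := congr($h2 (g (MvPolynomial.X i)))
    change Ideal.Quotient.factor I.2.2 (ψI (g (MvPolynomial.X i))) = e.symm _ at this
    rw [← hy i, he] at this
    change Ideal.Quotient.mk K (y i) = _ at this
    rw [← Ideal.Quotient.eq_zero_iff_mem, map_sub, this, sub_self]
  have hI'K : I' ≤ K :=
    sup_le I.2.2 (Ideal.span_le.mpr (by rintro _ ⟨i, rfl⟩; exact hyK i))
  have hKI' : K ≤ I' := by
    let θ : MvPolynomial (Fin n) A →+* MvPolynomial (Fin n) A ⧸ I' :=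
      ((Ideal.Quotient.factor hle).comp ψI).comp g.toRingHom
    have hθ : θ = Ideal.Quotient.mk I' := by
      refine MvPolynomial.ringHom_ext (fun r ↦ ?_) (fun i ↦ ?_)
      · change Ideal.Quotient.factor hle (ψI (g (MvPolynomial.C r))) = _
        have e1 : g (MvPolynomial.C r) = φ r := g.commutes r
        have e2 : ψI (φ r) = Ideal.Quotient.mk I.1 (MvPolynomial.C r) := congr($h1 r)
        rw [e1, e2]
        rfl
      · change Ideal.Quotient.factor hle (ψI (g (MvPolynomial.X i))) = _
        rw [← hy i]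
        change Ideal.Quotient.mk I' (y i) = Ideal.Quotient.mk I' (MvPolynomial.X i)
        rw [eq_comm, ← sub_eq_zero, ← map_sub, Ideal.Quotient.eq_zero_iff_mem]
        exact Ideal.mem_sup_right (Ideal.subset_span ⟨i, rfl⟩)
    intro p hp
    have hp0 : g p = 0 := hp
    have : θ p = 0 := by
      change Ideal.Quotient.factor hle (ψI (g p)) = 0
      rw [hp0, map_zero]
      exact map_zero (Ideal.Quotient.factor hle)
    rw [hθ] at this
    exact Ideal.Quotient.eq_zero_iff_mem.mp this
  have hKfg : K.FG := (le_antisymm hKI' hI'K) ▸ hI'fg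
  change Algebra.FinitePresentation A B
  exact Algebra.FinitePresentation.of_surjective hg hKfg

end Groth.Agent.Lib.Helper24.DirColim
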