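import Mathlib

/-!
# Closed immersions into a cofiltered limit factor through a closed immersion into a stage

Stacks 0GS2-type lemmas (Limits, "closed immersions at a finite stage").
-/

universe u

open CategoryTheory Limits AlgebraicGeometry

namespace Groth.Agent.Lib.Helper24.Lim8

variable {I : Type u} [Category.{u} I] (D : I ⥤ Scheme.{u}) (c : Cone D) (hc : IsLimit c)

section
include hc

/-- Finitely many global sections of an affine cofiltered limit come from a common stage. -/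
lemma exists_appTop_π_eq_of_finset [IsCofiltered I] [∀ i, IsAffine (D.obj i)]
    (T : Finset Γ(c.pt, ⊤)) :
    ∃ i : I, ∀ a ∈ T, ∃ b : Γ(D.obj i, ⊤), (c.π.app i).appTop b = a := by
  classical
  induction T using Finset.induction_on with
  | empty => exact ⟨IsCofiltered.nonempty.some, by simp⟩
  | insert a T _ ih =>
    obtain ⟨i₁, h₁⟩ := ih
    obtain ⟨i₂, b₂, h₂⟩ := exists_appTop_π_eq_of_isAffine_of_isLimit D c hc a
    refine ⟨IsCofiltered.min i₁ i₂, fun a' ha' ↦ ?_⟩
    rw [Finset.mem_insert] at ha'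
    rcases ha' with rfl | ha'
    · refine ⟨(D.map (IsCofiltered.minToRight i₁ i₂)).appTop b₂, ?_⟩
      rw [← h₂, ← c.w (IsCofiltered.minToRight i₁ i₂), Scheme.Hom.comp_appTop]
      rfl
    · obtain ⟨b, hb⟩ := h₁ a' ha'
      refine ⟨(D.map (IsCofiltered.minToLeft i₁ i₂)).appTop b, ?_⟩
      rw [← hb, ← c.w (IsCofiltered.minToLeft i₁ i₂), Scheme.Hom.comp_appTop]
      rfl

/-- Affine case: a closed immersion `h : Y ⟶ lim Dᵢ` into a cofiltered limit of affine schemes over
an affine base `S`, with `Y` of finite type over `S`, induces a closed immersion into a stage. -/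
lemma exists_isClosedImmersion_comp_π_of_isAffine [IsCofiltered I] [∀ i, IsAffine (D.obj i)]
    {S : Scheme.{u}} [IsAffine S] (t : D ⟶ (Functor.const I).obj S)
    {Y : Scheme.{u}} (h : Y ⟶ c.pt) [IsClosedImmersion h] (i₀ : I)
    [LocallyOfFiniteType (h ≫ c.π.app i₀ ≫ t.app i₀)] :
    ∃ i : I, IsClosedImmersion (h ≫ c.π.app i) := by
  classical
  have : IsAffine c.pt := Scheme.isAffine_of_isLimit c hc
  obtain ⟨hY, hsurj⟩ := IsClosedImmersion.isAffine_surjective_of_isAffine h
  -- the structure map `c.pt ⟶ S`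
  have hst (i : I) : (c.π.app i ≫ t.app i : c.pt ⟶ S) = c.π.app i₀ ≫ t.app i₀ := by
    have e1 := t.naturality (IsCofiltered.minToLeft i i₀)
    have e2 := t.naturality (IsCofiltered.minToRight i i₀)
    simp only [Functor.const_obj_obj, Functor.const_obj_map, Category.comp_id] at e1 e2
    rw [← c.w (IsCofiltered.minToLeft i i₀), Category.assoc, e1,
      ← c.w (IsCofiltered.minToRight i i₀), Category.assoc, e2]
  set g : Y ⟶ S := h ≫ c.π.app i₀ ≫ t.app i₀ with hg
  have hft : g.appTop.hom.FiniteType :=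
    (HasRingHomProperty.iff_of_isAffine (P := @LocallyOfFiniteType)).mp inferInstance
  letI := g.appTop.hom.toAlgebra
  obtain ⟨s, hs⟩ : (⊤ : Subalgebra Γ(S, ⊤) Γ(Y, ⊤)).FG := hft.1
  choose a ha using fun y : Γ(Y, ⊤) ↦ hsurj y
  obtain ⟨i, hi⟩ := exists_appTop_π_eq_of_finset D c hc (s.image a)
  refine ⟨i, ?_⟩
  have : IsAffine (D.obj i) := inferInstance
  apply IsClosedImmersion.of_surjective_of_isAffine
  set φ := (h ≫ c.π.app i).appTop with hφ
  let A' : Subalgebra Γ(S, ⊤) Γ(Y, ⊤) :=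
    { φ.hom.range with
      algebraMap_mem' := fun r ↦ by
        refine ⟨(t.app i).appTop r, ?_⟩
        change φ ((t.app i).appTop r) = g.appTop r
        rw [hφ, ← CommRingCat.comp_apply, ← Scheme.Hom.comp_appTop, Category.assoc, hst i] }
  have hle : Algebra.adjoin Γ(S, ⊤) (s : Set Γ(Y, ⊤)) ≤ A' := by
    refine Algebra.adjoin_le fun y hy ↦ ?_
    obtain ⟨b, hb⟩ := hi (a y) (Finset.mem_image_of_mem a hy)
    refine ⟨b, ?_⟩
    change φ b = y
    rw [hφ, Scheme.Hom.comp_appTop, CommRingCat.comp_apply, hb, ha]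
  intro y
  have : y ∈ A' := hle (hs ▸ Algebra.mem_top)
  exact this

/-- Monotone version of `exists_isClosedImmersion_comp_π_of_isAffine`. -/
lemma exists_forall_isClosedImmersion_comp_π_of_isAffine [IsCofiltered I]
    [∀ i, IsAffine (D.obj i)]
    {S : Scheme.{u}} [IsAffine S] (t : D ⟶ (Functor.const I).obj S)
    {Y : Scheme.{u}} (h : Y ⟶ c.pt) [IsClosedImmersion h] (i₀ : I)
    [LocallyOfFiniteType (h ≫ c.π.app i₀ ≫ t.app i₀)] :
    ∃ i : I, ∀ (j : I) (_ : j ⟶ i), IsClosedImmersion (h ≫ c.π.app j) := by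
  obtain ⟨i, hi⟩ := exists_isClosedImmersion_comp_π_of_isAffine D c hc t h i₀
  refine ⟨i, fun j f ↦ ?_⟩
  have : IsClosedImmersion ((h ≫ c.π.app j) ≫ D.map f) := by
    rw [Category.assoc, c.w]; exact hi
  exact IsClosedImmersion.of_comp (h ≫ c.π.app j) (D.map f)

omit hc in
lemma isClosedImmersion_morphismRestrict_of_resLE {X Y : Scheme.{u}} (f : X ⟶ Y) (U : Y.Opens)
    (V : X.Opens) (hV : V = f ⁻¹ᵁ U) (H : IsClosedImmersion (f.resLE U V hV.le)) :
    IsClosedImmersion (f ∣_ U) := by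
  subst hV
  rwa [Scheme.Hom.resLE_eq_morphismRestrict] at H

set_option backward.isDefEq.respectTransparency false in
/-- A closed immersion `h : Y ⟶ lim Dᵢ` into a cofiltered limit with affine transition maps,
with `Y` locally of finite type over a base `S` of the diagram and some stage quasi-compact,
induces a closed immersion into a stage (Stacks 0GS2 / Limits, Lemma 32.4.16). -/
lemma exists_isClosedImmersion_comp_π [IsCofiltered I]
    [∀ {i j} (f : i ⟶ j), IsAffineHom (D.map f)]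
    {S : Scheme.{u}} (t : D ⟶ (Functor.const I).obj S)
    {Y : Scheme.{u}} (h : Y ⟶ c.pt) [IsClosedImmersion h] (i₀ : I) [CompactSpace (D.obj i₀)]
    [LocallyOfFiniteType (h ≫ c.π.app i₀ ≫ t.app i₀)] :
    ∃ (i : I) (_ : i ⟶ i₀), IsClosedImmersion (h ≫ c.π.app i) := by
  classical
  have hnat {i j : I} (f : i ⟶ j) : (D.map f ≫ t.app j : D.obj i ⟶ S) = t.app i := by
    have := t.naturality f
    simpa only [Functor.const_obj_obj, Functor.const_obj_map, Category.comp_id] using this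
  -- choose affine opens
  have hex (x : D.obj i₀) : ∃ (U : (D.obj i₀).Opens) (W : S.Opens), IsAffineOpen U ∧
      IsAffineOpen W ∧ x ∈ U ∧ U ≤ t.app i₀ ⁻¹ᵁ W := by
    obtain ⟨_, ⟨W, hW : IsAffineOpen W, rfl⟩, hxW, -⟩ :=
      S.isBasis_affineOpens.exists_subset_of_mem_open (Set.mem_univ (t.app i₀ x)) isOpen_univ
    obtain ⟨_, ⟨U, hU : IsAffineOpen U, rfl⟩, hxU, hUW⟩ :=
      (D.obj i₀).isBasis_affineOpens.exists_subset_of_mem_open
        (show x ∈ ((t.app i₀ ⁻¹ᵁ W : (D.obj i₀).Opens) : Set (D.obj i₀)) from hxW)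
        (t.app i₀ ⁻¹ᵁ W).2
    exact ⟨U, W, hU, hW, hxU, hUW⟩
  choose U W hU hW hxU hUW using hex
  obtain ⟨s, hs⟩ := isCompact_univ.elim_finite_subcover (fun x ↦ (U x : Set (D.obj i₀)))
    (fun x ↦ (U x).2) (fun x _ ↦ Set.mem_iUnion.mpr ⟨x, hxU x⟩)
  -- the local claim
  have key (x : D.obj i₀) : ∃ j : Over i₀, ∀ (j' : Over i₀) (_ : j' ⟶ j),
      IsClosedImmersion ((h ≫ c.π.app j'.left) ∣_ (D.map j'.hom ⁻¹ᵁ U x)) := by
    have hle (j : Over i₀) : D.map j.hom ⁻¹ᵁ U x ≤ t.app j.left ⁻¹ᵁ W x := by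
      rw [← hnat j.hom, Scheme.Hom.comp_preimage]
      exact Scheme.Hom.preimage_mono _ (hUW x)
    let t' : opensDiagram D i₀ (U x) ⟶ (Functor.const (Over i₀)).obj (W x).toScheme :=
      { app j := (t.app j.left).resLE (W x) (D.map j.hom ⁻¹ᵁ U x) (hle j)
        naturality j k f := by
          simp only [opensDiagram_obj, opensDiagram_map, Functor.const_obj_obj,
            Functor.const_obj_map, Category.comp_id, Scheme.Hom.resLE_comp_resLE]
          congr 1
          exact hnat f.left }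
    have (j : Over i₀) : IsAffine ((opensDiagram D i₀ (U x)).obj j) := (hU x).preimage _
    have : IsAffine (W x).toScheme := hW x
    let j₀ : Over i₀ := Over.mk (𝟙 i₀)
    let h' := h ∣_ (c.π.app i₀ ⁻¹ᵁ U x)
    have hcomp (j : Over i₀) : h' ≫ (opensCone D c i₀ (U x)).π.app j =
        (h ≫ c.π.app j.left).resLE (D.map j.hom ⁻¹ᵁ U x) (h ⁻¹ᵁ (c.π.app i₀ ⁻¹ᵁ U x))
          (by rw [Scheme.Hom.comp_preimage, ← Scheme.Hom.comp_preimage (c.π.app j.left), c.w]) := by
      simp only [h', ← Scheme.Hom.resLE_eq_morphismRestrict, opensCone_π_app,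
        Scheme.Hom.resLE_comp_resLE]
    have : LocallyOfFiniteType (h' ≫ (opensCone D c i₀ (U x)).π.app j₀ ≫ t'.app j₀) := by
      have e : (h' ≫ (opensCone D c i₀ (U x)).π.app j₀ ≫ t'.app j₀) ≫ (W x).ι =
          (h ⁻¹ᵁ (c.π.app i₀ ⁻¹ᵁ U x)).ι ≫ h ≫ c.π.app i₀ ≫ t.app i₀ := by
        rw [← Category.assoc h', hcomp]
        simp only [t', Scheme.Hom.resLE_comp_resLE, Scheme.Hom.resLE_comp_ι]
        simp [j₀]
      have : LocallyOfFiniteType
          ((h' ≫ (opensCone D c i₀ (U x)).π.app j₀ ≫ t'.app j₀) ≫ (W x).ι) := by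
        rw [e]; infer_instance
      exact locallyOfFiniteType_of_comp _ (W x).ι
    obtain ⟨j, hj⟩ := exists_forall_isClosedImmersion_comp_π_of_isAffine _ _
      (isLimitOpensCone D c hc i₀ (U x)) t' h' j₀
    refine ⟨j, fun j' f ↦ ?_⟩
    have H := hj j' f
    rw [hcomp] at H
    exact isClosedImmersion_morphismRestrict_of_resLE _ _ _
      (by rw [Scheme.Hom.comp_preimage, ← Scheme.Hom.comp_preimage (c.π.app j'.left), c.w]) H
  choose j hj using key
  obtain ⟨j₁, hj₁⟩ := IsCofiltered.inf_objs_exists (s.image j)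
  refine ⟨j₁.left, j₁.hom, ?_⟩
  rw [IsZariskiLocalAtTarget.iff_of_iSup_eq_top (P := @IsClosedImmersion)
    (fun x : s ↦ D.map j₁.hom ⁻¹ᵁ U x.1)]
  · intro x
    exact hj x.1 j₁ (hj₁ (Finset.mem_image_of_mem j x.2)).some
  · rw [← Scheme.Hom.preimage_iSup, ← top_le_iff]
    rintro y -
    have := hs (Set.mem_univ (D.map j₁.hom y))
    simp only [Set.mem_iUnion, exists_prop] at this
    obtain ⟨x, hx, hy⟩ := this
    exact TopologicalSpace.Opens.mem_iSup.mpr ⟨⟨x, hx⟩, hy⟩

omit hc in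
lemma isClosedImmersion_resLE {X Y : Scheme.{u}} (f : X ⟶ Y) [IsClosedImmersion f] (U : Y.Opens)
    (V : X.Opens) (hV : V = f ⁻¹ᵁ U) : IsClosedImmersion (f.resLE U V hV.le) := by
  subst hV
  rw [Scheme.Hom.resLE_eq_morphismRestrict]
  infer_instance

/-- Affine case of Stacks 0C4R-type: a cofiltered system of affine schemes of finite type over an
affine base with closed immersions as transition maps, whose limit is a closed subscheme of the
base, consists eventually of closed subschemes of the base. -/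
lemma exists_isClosedImmersion_app_of_isAffine [IsCofiltered I] [∀ i, IsAffine (D.obj i)]
    [∀ {i j} (f : i ⟶ j), IsClosedImmersion (D.map f)]
    {S : Scheme.{u}} [IsAffine S] (t : D ⟶ (Functor.const I).obj S) (i₀ : I)
    [LocallyOfFiniteType (t.app i₀)] [IsClosedImmersion (c.π.app i₀ ≫ t.app i₀)] :
    ∃ (j : I) (_ : j ⟶ i₀), IsClosedImmersion (t.app j) := by
  classical
  have : IsAffine c.pt := Scheme.isAffine_of_isLimit c hc
  have hnat {i j : I} (f : i ⟶ j) : (D.map f ≫ t.app j : D.obj i ⟶ S) = t.app i := by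
    have := t.naturality f
    simpa only [Functor.const_obj_obj, Functor.const_obj_map, Category.comp_id] using this
  have hsurj : Function.Surjective (c.π.app i₀ ≫ t.app i₀ : c.pt ⟶ S).appTop :=
    (IsClosedImmersion.isAffine_surjective_of_isAffine (c.π.app i₀ ≫ t.app i₀ : c.pt ⟶ S)).2
  have hlft : LocallyOfFiniteType (t.app i₀ : D.obj i₀ ⟶ S) := ‹_›
  have hft : (t.app i₀ : D.obj i₀ ⟶ S).appTop.hom.FiniteType :=
    (HasRingHomProperty.iff_of_isAffine (P := @LocallyOfFiniteType) (X := D.obj i₀) (Y := S)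
      (f := t.app i₀)).mp hlft
  letI : Algebra Γ(S, ⊤) Γ(D.obj i₀, ⊤) := (t.app i₀ : D.obj i₀ ⟶ S).appTop.hom.toAlgebra
  obtain ⟨s, hs⟩ : (⊤ : Subalgebra Γ(S, ⊤) Γ(D.obj i₀, ⊤)).FG := hft.1
  -- each generator agrees with a section from the base at some stage
  have key (x : Γ(D.obj i₀, ⊤)) : ∃ (r : Γ(S, ⊤)) (j : I) (f : j ⟶ i₀),
      (D.map f).appTop x = (t.app j : D.obj j ⟶ S).appTop r := by
    obtain ⟨r, hr⟩ := hsurj ((c.π.app i₀).appTop x)
    have h0 : (c.π.app i₀).appTop (x - (t.app i₀ : D.obj i₀ ⟶ S).appTop r) = 0 := by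
      rw [map_sub, sub_eq_zero, ← hr, Scheme.Hom.comp_appTop, CommRingCat.comp_apply]
    obtain ⟨j, f, hj⟩ := exists_appTop_map_eq_zero_of_isAffine_of_isLimit D c hc i₀ _ h0
    refine ⟨r, j, f, ?_⟩
    rw [map_sub, sub_eq_zero] at hj
    rw [hj, ← CommRingCat.comp_apply, ← Scheme.Hom.comp_appTop, hnat]
  choose r j f hjf using key
  let jo (x : Γ(D.obj i₀, ⊤)) : Over i₀ := Over.mk (f x)
  obtain ⟨j₁, hj₁⟩ := IsCofiltered.inf_objs_exists (s.image jo)
  refine ⟨j₁.left, j₁.hom, ?_⟩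
  have hgen (x : Γ(D.obj i₀, ⊤)) (hx : x ∈ s) :
      (D.map j₁.hom).appTop x = (t.app j₁.left : D.obj j₁.left ⟶ S).appTop (r x) := by
    let g : j₁ ⟶ jo x := (hj₁ (Finset.mem_image_of_mem jo hx)).some
    have hg : g.left ≫ f x = j₁.hom := Over.w g
    rw [← hg, D.map_comp, Scheme.Hom.comp_appTop, CommRingCat.comp_apply, hjf x,
      ← CommRingCat.comp_apply, ← Scheme.Hom.comp_appTop]
    congr 3
    exact hnat g.left
  have hsurj' : Function.Surjective (D.map j₁.hom).appTop :=
    (IsClosedImmersion.isAffine_surjective_of_isAffine (D.map j₁.hom)).2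
  refine IsClosedImmersion.of_surjective_of_isAffine (X := D.obj j₁.left) (Y := S)
    (t.app j₁.left) ?_
  set φ := (t.app j₁.left : D.obj j₁.left ⟶ S).appTop with hφ
  set ψ := (D.map j₁.hom).appTop with hψ
  let A' : Subalgebra Γ(S, ⊤) Γ(D.obj i₀, ⊤) :=
    { φ.hom.range.comap ψ.hom with
      algebraMap_mem' := fun a ↦ by
        refine ⟨a, ?_⟩
        change φ a = ψ ((t.app i₀ : D.obj i₀ ⟶ S).appTop a)
        rw [hφ, hψ, ← CommRingCat.comp_apply, ← Scheme.Hom.comp_appTop, hnat] }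
  have hle : Algebra.adjoin Γ(S, ⊤) (s : Set Γ(D.obj i₀, ⊤)) ≤ A' := by
    refine Algebra.adjoin_le fun x hx ↦ ?_
    exact ⟨r x, (hgen x hx).symm⟩
  intro b
  obtain ⟨a, rfl⟩ := hsurj' b
  have : a ∈ A' := hle (hs ▸ Algebra.mem_top)
  exact this

set_option backward.isDefEq.respectTransparency false in
/-- Stacks 0C4R-type: a cofiltered system of schemes over a quasi-compact base `S` with closed
immersions as transition maps, one stage `i₁` being affine and locally of finite type over `S`,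
whose limit is a closed subscheme of `S`, has a stage which is a closed subscheme of `S`. -/
lemma exists_isClosedImmersion_app [IsCofiltered I]
    [∀ {i j} (f : i ⟶ j), IsClosedImmersion (D.map f)]
    {S : Scheme.{u}} [CompactSpace S] (t : D ⟶ (Functor.const I).obj S) (i₁ : I)
    [IsAffineHom (t.app i₁)] [LocallyOfFiniteType (t.app i₁)]
    [IsClosedImmersion (c.π.app i₁ ≫ t.app i₁)] :
    ∃ (j : I) (_ : j ⟶ i₁), IsClosedImmersion (t.app j) := by
  classical
  have hnat {i j : I} (f : i ⟶ j) : (D.map f ≫ t.app j : D.obj i ⟶ S) = t.app i := by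
    have := t.naturality f
    simpa only [Functor.const_obj_obj, Functor.const_obj_map, Category.comp_id] using this
  let 𝒰 := S.affineCover.finiteSubcover
  let W (a : 𝒰.I₀) : S.Opens := (𝒰.f a).opensRange
  have hW (a : 𝒰.I₀) : IsAffineOpen (W a) := isAffineOpen_opensRange _
  have key (a : 𝒰.I₀) : ∃ j : Over i₁,
      IsClosedImmersion ((t.app j.left : D.obj j.left ⟶ S) ∣_ W a) := by
    obtain ⟨U, hUdef⟩ : ∃ U : (D.obj i₁).Opens, U = (t.app i₁ : D.obj i₁ ⟶ S) ⁻¹ᵁ W a :=
      ⟨_, rfl⟩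
    have hU : IsAffineOpen U := hUdef ▸ (hW a).preimage (t.app i₁ : D.obj i₁ ⟶ S)
    have hle (j : Over i₁) :
        D.map j.hom ⁻¹ᵁ U = (t.app j.left : D.obj j.left ⟶ S) ⁻¹ᵁ W a := by
      rw [← hnat j.hom, Scheme.Hom.comp_preimage, hUdef]
    let t' : opensDiagram D i₁ U ⟶ (Functor.const (Over i₁)).obj (W a).toScheme :=
      { app j := (t.app j.left : D.obj j.left ⟶ S).resLE (W a) (D.map j.hom ⁻¹ᵁ U) (hle j).le
        naturality j k f := by
          simp only [opensDiagram_obj, opensDiagram_map, Functor.const_obj_obj,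
            Functor.const_obj_map, Category.comp_id, Scheme.Hom.resLE_comp_resLE]
          congr 1
          exact hnat f.left }
    have (j : Over i₁) : IsAffine ((opensDiagram D i₁ U).obj j) := hU.preimage _
    have : IsAffine (W a).toScheme := hW a
    have htr {j k : Over i₁} (f : j ⟶ k) : IsClosedImmersion ((opensDiagram D i₁ U).map f) := by
      rw [opensDiagram_map]
      exact isClosedImmersion_resLE _ _ _
        (by rw [← Scheme.Hom.comp_preimage, ← D.map_comp, Over.w f])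
    let j₀ : Over i₁ := Over.mk (𝟙 i₁)
    have h1 : LocallyOfFiniteType (t'.app j₀) := by
      have e : t'.app j₀ ≫ (W a).ι = (D.map j₀.hom ⁻¹ᵁ U).ι ≫ t.app i₁ := by
        simp only [t', Scheme.Hom.resLE_comp_ι]
        rfl
      have : LocallyOfFiniteType (t'.app j₀ ≫ (W a).ι) := by
        rw [e]; infer_instance
      exact locallyOfFiniteType_of_comp _ (W a).ι
    have h2 : IsClosedImmersion ((opensCone D c i₁ U).π.app j₀ ≫ t'.app j₀) := by
      have e : (opensCone D c i₁ U).π.app j₀ ≫ t'.app j₀ =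
          (c.π.app i₁ ≫ t.app i₁ : c.pt ⟶ S).resLE (W a) (c.π.app i₁ ⁻¹ᵁ U)
            (by rw [Scheme.Hom.comp_preimage, hUdef]) := by
        simp only [t', opensCone_π_app, Scheme.Hom.resLE_comp_resLE]
        rfl
      rw [e]
      exact isClosedImmersion_resLE _ _ _ (by rw [Scheme.Hom.comp_preimage, hUdef])
    obtain ⟨j, -, hj⟩ := @exists_isClosedImmersion_app_of_isAffine _ _ _ _
      (isLimitOpensCone D c hc i₁ U) _ _ (fun {j k} f ↦ htr f) _ _ t' j₀ h1 h2
    refine ⟨j, ?_⟩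
    exact isClosedImmersion_morphismRestrict_of_resLE _ _ _ (hle j) hj
  choose j hj using key
  obtain ⟨j₁, hj₁⟩ := IsCofiltered.inf_objs_exists (Finset.univ.image j)
  refine ⟨j₁.left, j₁.hom, ?_⟩
  rw [IsZariskiLocalAtTarget.iff_of_iSup_eq_top (P := @IsClosedImmersion) W 𝒰.iSup_opensRange]
  intro a
  let g : j₁ ⟶ j a := (hj₁ (Finset.mem_image_of_mem j (Finset.mem_univ a))).some
  have e : (t.app j₁.left : D.obj j₁.left ⟶ S) = D.map g.left ≫ t.app (j a).left :=
    (hnat g.left).symm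
  change IsClosedImmersion ((t.app j₁.left : D.obj j₁.left ⟶ S) ∣_ W a)
  rw [e, morphismRestrict_comp]
  have := hj a
  infer_instance

end

end Groth.Agent.Lib.Helper24.Lim8
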