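import Groth.Agent.Lib.Helper24.Lim8Descend
import Groth.Agent.Lib.Helper24.Lim8Closed
import Mathlib.AlgebraicGeometry.Morphisms.Finite
import Mathlib.AlgebraicGeometry.ZariskisMainTheorem

/-!
# Descent of finite morphisms, closed immersions and immersions along cofiltered limits
(EGA IV 8.10.5) (helper24)
-/

set_option autoImplicit false

universe u

open CategoryTheory CategoryTheory.Limits AlgebraicGeometry

namespace Groth.Agent.Lib.Helper24.Lim8

section algebra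

lemma isIntegralElem_map_of_comm {R R' A A' : Type*} [CommRing R] [CommRing R'] [CommRing A]
    [CommRing A'] (α : R →+* A) (α' : R' →+* A') (τR : R →+* R') (τA : A →+* A')
    (h : τA.comp α = α'.comp τR) {x : A} (hx : α.IsIntegralElem x) :
    α'.IsIntegralElem (τA x) := by
  obtain ⟨p, hp, hp0⟩ := hx
  refine ⟨p.map τR, hp.map _, ?_⟩
  rw [Polynomial.eval₂_map, ← h, ← Polynomial.hom_eval₂, hp0, map_zero]

lemma isIntegralElem_appTop_of_comm {X' Y' X'' Y'' X₀ : Scheme.{u}} {f' : X' ⟶ Y'}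
    {f'' : X'' ⟶ Y''} {a : X' ⟶ X''} {b : Y' ⟶ Y''} (h : a ≫ f'' = f' ≫ b) {s' : X' ⟶ X₀}
    {s'' : X'' ⟶ X₀} (hs : a ≫ s'' = s') (x : Γ(X₀, ⊤))
    (hx : f''.appTop.hom.IsIntegralElem (s''.appTop x)) :
    f'.appTop.hom.IsIntegralElem (s'.appTop x) := by
  have h1 : a.appTop.hom.comp f''.appTop.hom = f'.appTop.hom.comp b.appTop.hom := by
    have := congr($(h).appTop)
    rw [Scheme.Hom.comp_appTop, Scheme.Hom.comp_appTop] at this
    exact congr($(this).hom)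
  have := isIntegralElem_map_of_comm _ _ _ _ h1 hx
  rw [← hs, Scheme.Hom.comp_appTop]
  exact this

/-- Lift a monic integrality equation along `πR`, when the coefficients lift. -/
lemma exists_monic_lift_eval₂ {R' A' R A : Type*} [CommRing R'] [CommRing A'] [CommRing R]
    [CommRing A] (α' : R' →+* A') (α : R →+* A) (πR : R →+* R') (πA : A →+* A')
    (hcomm : πA.comp α = α'.comp πR) (x : A) (p : Polynomial R') (hp : p.Monic)
    (hp0 : Polynomial.eval₂ α' (πA x) p = 0) (hlift : ∀ a ∈ p.coeffs, ∃ b, πR b = a) :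
    ∃ q : Polynomial R, q.Monic ∧ πA (Polynomial.eval₂ α x q) = 0 := by
  have hl : p ∈ Polynomial.lifts πR := by
    rw [Polynomial.lifts_iff_coeff_lifts]
    intro n
    by_cases hn : p.coeff n = 0
    · exact ⟨0, by rw [map_zero, hn]⟩
    · exact hlift _ (Polynomial.coeff_mem_coeffs hn)
  obtain ⟨q, hq, hqm⟩ : ∃ q : Polynomial R, q.map πR = p ∧ q.Monic := by
    rcases subsingleton_or_nontrivial R' with h | h
    · exact ⟨1, Subsingleton.elim _ _, Polynomial.monic_one⟩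
    · obtain ⟨q, h1, -, h3⟩ := Polynomial.lifts_and_degree_eq_and_monic hl hp
      exact ⟨q, h1, h3⟩
  refine ⟨q, hqm, ?_⟩
  rw [Polynomial.hom_eval₂, hcomm, ← Polynomial.eval₂_map, hq, hp0]

lemma isIntegralElem_of_map_eval₂_eq_zero {R' A' R A : Type*} [CommRing R'] [CommRing A']
    [CommRing R] [CommRing A] (α' : R' →+* A') (α : R →+* A) (τR : R →+* R') (τA : A →+* A')
    (hcomm : τA.comp α = α'.comp τR) (x : A) (q : Polynomial R) (hq : q.Monic)
    (h0 : τA (Polynomial.eval₂ α x q) = 0) : α'.IsIntegralElem (τA x) := by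
  refine ⟨q.map τR, hq.map _, ?_⟩
  rw [Polynomial.eval₂_map, ← hcomm, ← Polynomial.hom_eval₂, h0]

/-- If `A'` is generated as a ring by the images of `β : B →+* A'` and `α' : R' →+* A'`, `B` is
generated over `R` by `s`, and `β x` is integral over `R'` for `x ∈ s`, then `α'` is integral. -/
lemma isIntegral_of_closure_eq_top {R B R' A' : Type*} [CommRing R] [CommRing B] [CommRing R']
    [CommRing A'] (φ : R →+* B) (γ : R →+* R') (β : B →+* A') (α' : R' →+* A')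
    (hcomm : β.comp φ = α'.comp γ)
    (hcl : Subring.closure (Set.range β ∪ Set.range α') = ⊤) (s : Set B)
    (hs : letI := φ.toAlgebra; Algebra.adjoin R s = ⊤)
    (hint : ∀ x ∈ s, α'.IsIntegralElem (β x)) : α'.IsIntegral := by
  letI := φ.toAlgebra
  letI := α'.toAlgebra
  let C : Subring A' := (integralClosure R' A').toSubring
  have hα : Set.range α' ⊆ C := by
    rintro _ ⟨r, rfl⟩
    exact isIntegral_algebraMap (R := R') (A := A') (x := r)
  have hβ : Set.range β ⊆ C := by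
    rintro _ ⟨b, rfl⟩
    have hb : b ∈ Algebra.adjoin R s := hs ▸ Algebra.mem_top
    induction hb using Algebra.adjoin_induction with
    | mem x hx => exact hint x hx
    | algebraMap r =>
      have : β (algebraMap R B r) = α' (γ r) := congr($(hcomm) r)
      rw [this]
      exact hα ⟨_, rfl⟩
    | add x y _ _ hx hy => rw [map_add]; exact C.add_mem hx hy
    | mul x y _ _ hx hy => rw [map_mul]; exact C.mul_mem hx hy
  have hC : C = ⊤ := by
    rw [eq_top_iff, ← hcl]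
    exact Subring.closure_le.mpr (Set.union_subset hβ hα)
  intro a
  have : a ∈ C := hC ▸ Subring.mem_top a
  exact this

end algebra

section affine

variable {I : Type u} [Category.{u} I] (D : I ⥤ Scheme.{u}) (c : Cone D) (hc : IsLimit c)
variable [IsCofiltered I] [∀ {i j} (f : i ⟶ j), IsAffineHom (D.map f)] (i₀ : I)
  {X₀ Y₀ : Scheme.{u}} (f₀ : X₀ ⟶ Y₀) (g₀ : Y₀ ⟶ D.obj i₀)

omit [IsCofiltered I] in
lemma isAffine_pbDiagram_obj [IsAffine Y₀] (j : Over i₀) :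
    IsAffine ((pbDiagram D i₀ g₀).obj j) := by
  change IsAffine (pullback (D.map j.hom) g₀)
  infer_instance

include hc in
lemma isAffine_pbCone_pt [IsAffine Y₀] : IsAffine (pbCone D c i₀ g₀).pt := by
  have := isAffineHom_π_app D c hc i₀
  change IsAffine (pullback (c.π.app i₀) g₀)
  infer_instance

set_option backward.isDefEq.respectTransparency false in
omit [IsCofiltered I] [∀ {i j} (f : i ⟶ j), IsAffineHom (D.map f)] in
lemma pbDiagram_map_snd {j k : Over i₀} (θ : j ⟶ k) :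
    (pbDiagram D i₀ g₀).map θ ≫ pullback.snd (D.map k.hom) g₀ = pullback.snd (D.map j.hom) g₀ := by
  simp [pbDiagram, pullback.map]

set_option backward.isDefEq.respectTransparency false in
omit [IsCofiltered I] [∀ {i j} (f : i ⟶ j), IsAffineHom (D.map f)] in
lemma pbCone_π_snd (j : Over i₀) :
    (pbCone D c i₀ g₀).π.app j ≫ pullback.snd (D.map j.hom) g₀ = pullback.snd (c.π.app i₀) g₀ := by
  simp [pbCone, pullback.map]

lemma appTop_hom_comp_eq {X Y Z W : Scheme.{u}} {a : X ⟶ Y} {b : Y ⟶ W} {a' : X ⟶ Z}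
    {b' : Z ⟶ W} (h : a ≫ b = a' ≫ b') :
    a.appTop.hom.comp b.appTop.hom = a'.appTop.hom.comp b'.appTop.hom := by
  have := congr($(h).appTop)
  rw [Scheme.Hom.comp_appTop, Scheme.Hom.comp_appTop] at this
  exact congr($(this).hom)

lemma appTop_hom_apply_eq {X Y Z : Scheme.{u}} {a : X ⟶ Y} {b : Y ⟶ Z} {ab : X ⟶ Z}
    (h : a ≫ b = ab) (x : Γ(Z, ⊤)) : a.appTop.hom (b.appTop.hom x) = ab.appTop.hom x := by
  subst h
  rw [Scheme.Hom.comp_appTop]
  rfl

include hc in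
/-- If the image of `x ∈ Γ(X₀)` in `Γ(X)` is integral over `Γ(Y)`, then its image in some
`Γ(X_j)` is integral over `Γ(Y_j)`. -/
lemma exists_isIntegralElem_stage [IsAffine X₀] [IsAffine Y₀] (x : Γ(X₀, ⊤))
    (hx : (bcMap (c.π.app i₀) f₀ g₀).appTop.hom.IsIntegralElem
      ((pullback.snd (c.π.app i₀) (f₀ ≫ g₀)).appTop.hom x)) :
    ∃ j : Over i₀, (bcMap (D.map j.hom) f₀ g₀).appTop.hom.IsIntegralElem
      ((pullback.snd (D.map j.hom) (f₀ ≫ g₀)).appTop.hom x) := by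
  classical
  have hYaff (j : Over i₀) := isAffine_pbDiagram_obj D i₀ g₀ j
  have hXaff (j : Over i₀) := isAffine_pbDiagram_obj D i₀ (f₀ ≫ g₀) j
  obtain ⟨p, hp, hp0⟩ := hx
  -- lift the coefficients of `p` to a stage
  obtain ⟨j₁, hj₁⟩ := exists_appTop_π_eq_of_finset (pbDiagram D i₀ g₀) (pbCone D c i₀ g₀)
    (isLimitPbCone D c hc i₀ g₀) p.coeffs
  let πY : pullback (c.π.app i₀) g₀ ⟶ pullback (D.map j₁.hom) g₀ := (pbCone D c i₀ g₀).π.app j₁
  let πX : pullback (c.π.app i₀) (f₀ ≫ g₀) ⟶ pullback (D.map j₁.hom) (f₀ ≫ g₀) :=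
    (pbCone D c i₀ (f₀ ≫ g₀)).π.app j₁
  have hcomm1 : πX.appTop.hom.comp (bcMap (D.map j₁.hom) f₀ g₀).appTop.hom =
      (bcMap (c.π.app i₀) f₀ g₀).appTop.hom.comp πY.appTop.hom :=
    appTop_hom_comp_eq (isPullback_pbCone_π_bcMap D c i₀ f₀ g₀ j₁).w
  have e1 : πX.appTop.hom ((pullback.snd (D.map j₁.hom) (f₀ ≫ g₀)).appTop.hom x) =
      (pullback.snd (c.π.app i₀) (f₀ ≫ g₀)).appTop.hom x :=
    appTop_hom_apply_eq (pbCone_π_snd D c i₀ (f₀ ≫ g₀) j₁) x
  obtain ⟨q, hqm, hq0⟩ := exists_monic_lift_eval₂ (bcMap (c.π.app i₀) f₀ g₀).appTop.hom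
    (bcMap (D.map j₁.hom) f₀ g₀).appTop.hom πY.appTop.hom πX.appTop.hom hcomm1
    ((pullback.snd (D.map j₁.hom) (f₀ ≫ g₀)).appTop.hom x) p hp (by rw [e1]; exact hp0)
    (fun a ha ↦ hj₁ a ha)
  obtain ⟨j, θ, hj⟩ := exists_appTop_map_eq_zero_of_isAffine_of_isLimit (pbDiagram D i₀ (f₀ ≫ g₀))
    (pbCone D c i₀ (f₀ ≫ g₀)) (isLimitPbCone D c hc i₀ (f₀ ≫ g₀)) j₁ _ hq0
  refine ⟨j, ?_⟩
  let τY : pullback (D.map j.hom) g₀ ⟶ pullback (D.map j₁.hom) g₀ := (pbDiagram D i₀ g₀).map θ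
  let τX : pullback (D.map j.hom) (f₀ ≫ g₀) ⟶ pullback (D.map j₁.hom) (f₀ ≫ g₀) :=
    (pbDiagram D i₀ (f₀ ≫ g₀)).map θ
  have hcomm2 : τX.appTop.hom.comp (bcMap (D.map j₁.hom) f₀ g₀).appTop.hom =
      (bcMap (D.map j.hom) f₀ g₀).appTop.hom.comp τY.appTop.hom :=
    appTop_hom_comp_eq (isPullback_pbDiagram_map_bcMap D i₀ f₀ g₀ θ).w
  have e2 : τX.appTop.hom ((pullback.snd (D.map j₁.hom) (f₀ ≫ g₀)).appTop.hom x) =
      (pullback.snd (D.map j.hom) (f₀ ≫ g₀)).appTop.hom x :=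
    appTop_hom_apply_eq (pbDiagram_map_snd D i₀ (f₀ ≫ g₀) θ) x
  rw [← e2]
  exact isIntegralElem_of_map_eval₂_eq_zero _ _ τY.appTop.hom τX.appTop.hom hcomm2 _ q hqm hj

omit [IsCofiltered I] [∀ {i j} (f : i ⟶ j), IsAffineHom (D.map f)] in
/-- If the images in `Γ(X_t)` of generators of `Γ(X₀)` over `Γ(Y₀)` are integral over `Γ(Y_t)`,
the base change `X_t ⟶ Y_t` of `f₀` is finite. -/
lemma isFinite_bcMap_of_isIntegralElem [IsAffine X₀] [IsAffine Y₀] [LocallyOfFiniteType f₀]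
    {T : Scheme.{u}} (t : T ⟶ D.obj i₀) [IsAffineHom t] (s : Set Γ(X₀, ⊤))
    (hs : letI := f₀.appTop.hom.toAlgebra; Algebra.adjoin Γ(Y₀, ⊤) s = ⊤)
    (hint : ∀ x ∈ s, (bcMap t f₀ g₀).appTop.hom.IsIntegralElem
      ((pullback.snd t (f₀ ≫ g₀)).appTop.hom x)) :
    IsFinite (bcMap t f₀ g₀) := by
  have hpo := isPushout_appTop_of_isPullback (isPullback_bcMap t f₀ g₀)
  have hcl := CommRingCat.closure_range_union_range_eq_top_of_isPushout hpo
  have hcomm : (pullback.snd t (f₀ ≫ g₀)).appTop.hom.comp f₀.appTop.hom =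
      (bcMap t f₀ g₀).appTop.hom.comp (pullback.snd t g₀).appTop.hom :=
    congr($(hpo.w).hom)
  have hI : (bcMap t f₀ g₀).appTop.hom.IsIntegral :=
    isIntegral_of_closure_eq_top f₀.appTop.hom (pullback.snd t g₀).appTop.hom
      (pullback.snd t (f₀ ≫ g₀)).appTop.hom (bcMap t f₀ g₀).appTop.hom hcomm hcl s hs hint
  have hlft : LocallyOfFiniteType (bcMap t f₀ g₀) :=
    bcMap_of_isStableUnderBaseChange (P := @LocallyOfFiniteType) _ _ _ inferInstance
  have hft : (bcMap t f₀ g₀).appTop.hom.FiniteType :=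
    (HasRingHomProperty.iff_of_isAffine (P := @LocallyOfFiniteType)).mp hlft
  exact (HasAffineProperty.iff_of_isAffine (P := @IsFinite)).mpr
    ⟨inferInstance, hI.to_finite hft⟩

include hc in
/-- Finite morphisms descend: affine case. -/
lemma descends_isFinite_of_isAffine [IsAffine X₀] [IsAffine Y₀] [LocallyOfFiniteType f₀] :
    Descends D c @IsFinite i₀ f₀ g₀ := by
  classical
  intro hP
  have hP' : IsFinite (bcMap (c.π.app i₀) f₀ g₀) := hP
  have haff : IsAffineHom (c.π.app i₀) := isAffineHom_π_app D c hc i₀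
  have hft : f₀.appTop.hom.FiniteType :=
    (HasRingHomProperty.iff_of_isAffine (P := @LocallyOfFiniteType)).mp inferInstance
  letI := f₀.appTop.hom.toAlgebra
  obtain ⟨s, hs⟩ : (⊤ : Subalgebra Γ(Y₀, ⊤) Γ(X₀, ⊤)).FG := hft.1
  have hfin : (bcMap (c.π.app i₀) f₀ g₀).appTop.hom.Finite :=
    ((HasAffineProperty.iff_of_isAffine (P := @IsFinite)).mp hP').2
  have key (x : Γ(X₀, ⊤)) := exists_isIntegralElem_stage D c hc i₀ f₀ g₀ x
    (hfin.to_isIntegral _)
  choose j hj using key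
  obtain ⟨j₁, hj₁⟩ := IsCofiltered.inf_objs_exists (s.image j)
  refine ⟨j₁.left, j₁.hom, ?_⟩
  refine isFinite_bcMap_of_isIntegralElem D i₀ f₀ g₀ (D.map j₁.hom) (s : Set Γ(X₀, ⊤)) hs ?_
  intro x hx
  let θ : j₁ ⟶ j x := (hj₁ (Finset.mem_image_of_mem j hx)).some
  exact isIntegralElem_appTop_of_comm (isPullback_pbDiagram_map_bcMap D i₀ f₀ g₀ θ).w
    (pbDiagram_map_snd D i₀ (f₀ ≫ g₀) θ) x (hj x)

end affine

section cover

lemma bcMap_morphismRestrict_iff {P : MorphismProperty Scheme.{u}} [P.RespectsIso]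
    {B T X₀ Y₀ : Scheme.{u}} (t : T ⟶ B) (f₀ : X₀ ⟶ Y₀) (g₀ : Y₀ ⟶ B) (V : Y₀.Opens) :
    P (bcMap t (f₀ ∣_ V) (V.ι ≫ g₀)) ↔ P (bcMap t f₀ g₀ ∣_ (pullback.snd t g₀ ⁻¹ᵁ V)) := by
  have h1 := (isPullback_bcMap t (f₀ ∣_ V) (V.ι ≫ g₀)).paste_horiz
    (isPullback_morphismRestrict f₀ V).flip
  have h2 := (isPullback_morphismRestrict (bcMap t f₀ g₀) (pullback.snd t g₀ ⁻¹ᵁ V)).flip.paste_horiz
    (isPullback_bcMap t f₀ g₀)
  have : IsOpenImmersion (bcMap t V.ι g₀) :=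
    bcMap_of_isStableUnderBaseChange (P := @IsOpenImmersion) t V.ι g₀ inferInstance
  have hr : Set.range (bcMap t V.ι g₀) = Set.range (pullback.snd t g₀ ⁻¹ᵁ V).ι := by
    rw [range_bcMap, Scheme.Opens.range_ι, Scheme.Opens.range_ι]
    rfl
  let ε := IsOpenImmersion.isoOfRangeEq (bcMap t V.ι g₀) (pullback.snd t g₀ ⁻¹ᵁ V).ι hr
  refine iff_of_isPullback_of_iso h1 h2 ε ?_
  rw [IsOpenImmersion.isoOfRangeEq_hom_fac_assoc, bcMap_snd]

lemma bcMap_iff_of_iSup_eq_top {P : MorphismProperty Scheme.{u}} [IsZariskiLocalAtTarget P]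
    {B T X₀ Y₀ : Scheme.{u}} (t : T ⟶ B) (f₀ : X₀ ⟶ Y₀) (g₀ : Y₀ ⟶ B) {ι : Type*}
    (V : ι → Y₀.Opens) (hV : iSup V = ⊤) :
    P (bcMap t f₀ g₀) ↔ ∀ a, P (bcMap t (f₀ ∣_ V a) ((V a).ι ≫ g₀)) := by
  rw [IsZariskiLocalAtTarget.iff_of_iSup_eq_top (P := P) (fun a ↦ pullback.snd t g₀ ⁻¹ᵁ V a)
    (by rw [← Scheme.Hom.preimage_iSup, hV]; rfl)]
  exact forall_congr' fun a ↦ (bcMap_morphismRestrict_iff t f₀ g₀ (V a)).symm

variable {I : Type u} [Category.{u} I] {D : I ⥤ Scheme.{u}} {c : Cone D}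
variable [IsCofiltered I] {i₀ : I} {X₀ Y₀ : Scheme.{u}} {f₀ : X₀ ⟶ Y₀} {g₀ : Y₀ ⟶ D.obj i₀}

/-- Descent of a property local on the target can be checked on a finite open cover of `Y₀`. -/
lemma Descends.of_openCover {P : MorphismProperty Scheme.{u}} [IsZariskiLocalAtTarget P]
    [P.IsStableUnderBaseChange] {ι : Type*} [Finite ι] (V : ι → Y₀.Opens) (hV : iSup V = ⊤)
    (h : ∀ a, Descends D c P i₀ (f₀ ∣_ V a) ((V a).ι ≫ g₀)) : Descends D c P i₀ f₀ g₀ := by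
  classical
  intro hP
  have := Fintype.ofFinite ι
  have h1 := (bcMap_iff_of_iSup_eq_top (c.π.app i₀) f₀ g₀ V hV).mp hP
  choose j φ hj using fun a ↦ h a (h1 a)
  let jo (a : ι) : Over i₀ := Over.mk (φ a)
  obtain ⟨j₁, hj₁⟩ := IsCofiltered.inf_objs_exists (Finset.univ.image jo)
  refine ⟨j₁.left, j₁.hom, (bcMap_iff_of_iSup_eq_top (D.map j₁.hom) f₀ g₀ V hV).mpr fun a ↦ ?_⟩
  let θ : j₁ ⟶ jo a := (hj₁ (Finset.mem_image_of_mem jo (Finset.mem_univ a))).some
  exact MorphismProperty.of_isPullback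
    (isPullback_pbDiagram_map_bcMap D i₀ (f₀ ∣_ V a) ((V a).ι ≫ g₀) θ) (hj a)

end cover

section general

variable {I : Type u} [Category.{u} I] (D : I ⥤ Scheme.{u}) (c : Cone D) (hc : IsLimit c)
variable [IsCofiltered I] [∀ {i j} (f : i ⟶ j), IsAffineHom (D.map f)] (i₀ : I)
  {X₀ Y₀ : Scheme.{u}} (f₀ : X₀ ⟶ Y₀) (g₀ : Y₀ ⟶ D.obj i₀)

include hc in
/-- Finite morphisms descend: case `f₀` affine. -/
lemma descends_isFinite_of_isAffineHom [CompactSpace Y₀] [IsAffineHom f₀]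
    [LocallyOfFiniteType f₀] : Descends D c @IsFinite i₀ f₀ g₀ := by
  let 𝒰 := Y₀.affineCover.finiteSubcover
  refine Descends.of_openCover (fun a : 𝒰.I₀ ↦ (𝒰.f a).opensRange) 𝒰.iSup_opensRange fun a ↦ ?_
  have hV : IsAffineOpen (𝒰.f a).opensRange := isAffineOpen_opensRange _
  have : IsAffine ((𝒰.f a).opensRange).toScheme := hV
  have : IsAffine (f₀ ⁻¹ᵁ (𝒰.f a).opensRange).toScheme := hV.preimage f₀
  exact descends_isFinite_of_isAffine D c hc i₀ _ _

include hc in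
/-- Finite morphisms descend (`X₀`, `Y₀` qcqs, `f₀` locally of finite type). -/
lemma descends_isFinite [CompactSpace X₀] [QuasiSeparatedSpace X₀] [CompactSpace Y₀]
    [QuasiSeparatedSpace Y₀] [LocallyOfFiniteType f₀] : Descends D c @IsFinite i₀ f₀ g₀ := by
  intro hP
  have hP' : IsFinite (bcMap (c.π.app i₀) f₀ g₀) := hP
  obtain ⟨k, ψ, hk⟩ := descends_isAffineHom D c hc i₀ f₀ g₀
    (inferInstance : IsAffineHom (bcMap (c.π.app i₀) f₀ g₀))
  refine Descends.of_rebase ψ ?_ hP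
  have hk' : IsAffineHom (bcMap (D.map ψ) f₀ g₀) := hk
  have : CompactSpace ↥(pullback (D.map ψ) g₀) := compactSpace_pbDiagram_obj D i₀ g₀ (Over.mk ψ)
  have : LocallyOfFiniteType (bcMap (D.map ψ) f₀ g₀) :=
    bcMap_of_isStableUnderBaseChange (P := @LocallyOfFiniteType) _ _ _ inferInstance
  exact descends_isFinite_of_isAffineHom D c hc k _ _

omit [IsCofiltered I] [∀ {i j} (f : i ⟶ j), IsAffineHom (D.map f)] in
variable {D i₀ f₀ g₀} in
/-- A base-change-stable property passes to later stages. -/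
lemma bcMap_map_comp_of_bcMap_map {P : MorphismProperty Scheme.{u}} [P.IsStableUnderBaseChange]
    {j k : I} (a : k ⟶ j) (φ : j ⟶ i₀) (h : P (bcMap (D.map φ) f₀ g₀)) :
    P (bcMap (D.map (a ≫ φ)) f₀ g₀) :=
  MorphismProperty.of_isPullback (isPullback_pbDiagram_map_bcMap D i₀ f₀ g₀
    (Over.homMk a : Over.mk (a ≫ φ) ⟶ Over.mk φ)) h

omit [∀ {i j} (f : i ⟶ j), IsAffineHom (D.map f)] in
variable {D c i₀ f₀ g₀} in
lemma Descends.inf {P Q : MorphismProperty Scheme.{u}} [P.IsStableUnderBaseChange]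
    [Q.IsStableUnderBaseChange] (hP : Descends D c P i₀ f₀ g₀) (hQ : Descends D c Q i₀ f₀ g₀) :
    Descends D c (P ⊓ Q) i₀ f₀ g₀ := by
  rintro ⟨h1, h2⟩
  obtain ⟨j₁, φ₁, hj₁⟩ := hP h1
  obtain ⟨j₂, φ₂, hj₂⟩ := hQ h2
  obtain ⟨k, a, b, e⟩ := IsCofiltered.cospan φ₁ φ₂
  refine ⟨k, a ≫ φ₁, bcMap_map_comp_of_bcMap_map a φ₁ hj₁, ?_⟩
  rw [e]
  exact bcMap_map_comp_of_bcMap_map b φ₂ hj₂

include hc in
/-- Closed immersions descend (`X₀`, `Y₀` qcqs, `f₀` locally of finite type). -/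
lemma descends_isClosedImmersion [CompactSpace X₀] [QuasiSeparatedSpace X₀] [CompactSpace Y₀]
    [QuasiSeparatedSpace Y₀] [LocallyOfFiniteType f₀] :
    Descends D c @IsClosedImmersion i₀ f₀ g₀ := by
  refine ((descends_isFinite D c hc i₀ f₀ g₀).inf
    (descends_monomorphisms D c hc i₀ f₀ g₀)).congr fun f ↦ ?_
  rw [IsClosedImmersion.iff_isFinite_and_mono f]
  exact and_congr Iff.rfl (MorphismProperty.monomorphisms.iff f)

end general

end Groth.Agent.Lib.Helper24.Lim8
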