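import Groth.Prelude.Def_W4ega4s0809p4Pair
import Groth.Agent.Lib.Helper24.Lim8DescendFinite
import Groth.Agent.Lib.Helper24.DirColim

/-!
# Ind-constructible properties of pairs: "geometrically there is a morphism with property `Q`"
(EGA IV 9.3.x via the limit formalism) (helper24)
-/

set_option autoImplicit false

universe u

open CategoryTheory CategoryTheory.Limits AlgebraicGeometry

namespace Groth.Agent.Lib.Helper24.IndConsPair

variable (Q : MorphismProperty Scheme.{u})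

/-- After base change along `τ : T' ⟶ T` there is a `T'`-morphism with property `Q`. -/
def HasQ {X Y T T' : Scheme.{u}} (gX : X ⟶ T) (gY : Y ⟶ T) (τ : T' ⟶ T) : Prop :=
  ∃ (X' Y' : Scheme.{u}) (gX' : X' ⟶ T') (gY' : Y' ⟶ T') (eX : X' ⟶ X) (eY : Y' ⟶ Y),
    IsPullback eX gX' gX τ ∧ IsPullback eY gY' gY τ ∧ ∃ g : X' ⟶ Y', g ≫ gY' = gX' ∧ Q g

/-- The relation on pairs. -/
def PairProp : ∀ ⦃X Y T : Scheme.{u}⦄, (X ⟶ T) → (Y ⟶ T) → Prop :=
  fun X Y T gX gY => ∃ (T' X' Y' : Scheme.{u}) (h : T' ⟶ T) (gX' : X' ⟶ T') (gY' : Y' ⟶ T')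
    (eX : X' ⟶ X) (eY : Y' ⟶ Y), IsIntegral T' ∧ Subsingleton ↥T' ∧
      IsPullback eX gX' gX h ∧ IsPullback eY gY' gY h ∧
        ∃ g : X' ⟶ Y', g ≫ gY' = gX' ∧ Q g

variable {Q}

lemma pairProp_iff {X Y T : Scheme.{u}} (gX : X ⟶ T) (gY : Y ⟶ T) :
    PairProp Q gX gY ↔ ∃ (T' : Scheme.{u}) (h : T' ⟶ T), IsIntegral T' ∧ Subsingleton ↥T' ∧
      HasQ Q gX gY h := by
  constructor
  · rintro ⟨T', X', Y', h, gX', gY', eX, eY, h1, h2, h3, h4, h5⟩
    exact ⟨T', h, h1, h2, X', Y', gX', gY', eX, eY, h3, h4, h5⟩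
  · rintro ⟨T', h, h1, h2, X', Y', gX', gY', eX, eY, h3, h4, h5⟩
    exact ⟨T', X', Y', h, gX', gY', eX, eY, h1, h2, h3, h4, h5⟩

set_option backward.isDefEq.respectTransparency false in
/-- Base change of `HasQ`. -/
lemma HasQ.comp [Q.IsStableUnderBaseChange] {X Y T T' T'' : Scheme.{u}} {gX : X ⟶ T} {gY : Y ⟶ T}
    {τ : T' ⟶ T} (H : HasQ Q gX gY τ) (σ : T'' ⟶ T') : HasQ Q gX gY (σ ≫ τ) := by
  obtain ⟨X', Y', gX', gY', eX, eY, hX, hY, g, hg, hQ⟩ := H
  refine ⟨pullback gX' σ, pullback gY' σ, pullback.snd _ _, pullback.snd _ _,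
    pullback.fst _ _ ≫ eX, pullback.fst _ _ ≫ eY,
    (IsPullback.of_hasPullback gX' σ).paste_horiz hX,
    (IsPullback.of_hasPullback gY' σ).paste_horiz hY,
    pullback.map gX' σ gY' σ g (𝟙 _) (𝟙 _) (by rw [hg, Category.comp_id]) (by simp), ?_, ?_⟩
  · simp
  · have hbig : IsPullback (pullback.fst gX' σ)
        (pullback.map gX' σ gY' σ g (𝟙 _) (𝟙 _) (by rw [hg, Category.comp_id]) (by simp) ≫
          pullback.snd gY' σ) (g ≫ gY') σ := by
      have : pullback.map gX' σ gY' σ g (𝟙 _) (𝟙 _) (by rw [hg, Category.comp_id]) (by simp) ≫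
          pullback.snd gY' σ = pullback.snd gX' σ := by simp
      rw [this, hg]
      exact IsPullback.of_hasPullback gX' σ
    have htop := IsPullback.of_bot hbig (by simp) (IsPullback.of_hasPullback gY' σ)
    exact Q.of_isPullback htop hQ

/-- `HasQ` for a base change of the pair. -/
lemma HasQ.of_isPullback_base {X Y T X₁ Y₁ T₁ T' : Scheme.{u}} {gX : X ⟶ T} {gY : Y ⟶ T}
    {gX₁ : X₁ ⟶ T₁} {gY₁ : Y₁ ⟶ T₁} {pX : X₁ ⟶ X} {pY : Y₁ ⟶ Y} {h : T₁ ⟶ T}
    (hX₁ : IsPullback pX gX₁ gX h) (hY₁ : IsPullback pY gY₁ gY h) {σ : T' ⟶ T₁}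
    (H : HasQ Q gX₁ gY₁ σ) : HasQ Q gX gY (σ ≫ h) := by
  obtain ⟨X', Y', gX', gY', eX, eY, hX, hY, g, hg, hQ⟩ := H
  exact ⟨X', Y', gX', gY', eX ≫ pX, eY ≫ pY, hX.paste_horiz hX₁, hY.paste_horiz hY₁, g, hg, hQ⟩

lemma HasQ.to_isPullback_base {X Y T X₁ Y₁ T₁ T' : Scheme.{u}} {gX : X ⟶ T} {gY : Y ⟶ T}
    {gX₁ : X₁ ⟶ T₁} {gY₁ : Y₁ ⟶ T₁} {pX : X₁ ⟶ X} {pY : Y₁ ⟶ Y} {h : T₁ ⟶ T}
    (hX₁ : IsPullback pX gX₁ gX h) (hY₁ : IsPullback pY gY₁ gY h) {σ : T' ⟶ T₁}
    (H : HasQ Q gX gY (σ ≫ h)) : HasQ Q gX₁ gY₁ σ := by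
  obtain ⟨X', Y', gX', gY', eX, eY, hX, hY, g, hg, hQ⟩ := H
  refine ⟨X', Y', gX', gY', hX₁.lift eX (gX' ≫ σ) (by rw [hX.w, Category.assoc]),
    hY₁.lift eY (gY' ≫ σ) (by rw [hY.w, Category.assoc]), ?_, ?_, g, hg, hQ⟩
  · refine IsPullback.of_right ?_ (hX₁.lift_snd _ _ _) hX₁
    rw [hX₁.lift_fst]
    exact hX
  · refine IsPullback.of_right ?_ (hY₁.lift_snd _ _ _) hY₁
    rw [hY₁.lift_fst]
    exact hY

lemma HasQ.congr {X Y T T' : Scheme.{u}} {gX : X ⟶ T} {gY : Y ⟶ T} {τ τ' : T' ⟶ T}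
    (H : HasQ Q gX gY τ) (e : τ = τ') : HasQ Q gX gY τ' := e ▸ H

/-- Field stability. -/
lemma isFieldStablePair [Q.IsStableUnderBaseChange] :
    ConsPropPair.IsFieldStablePair (PairProp Q) := by
  intro X X' Y Y' T T' gX gY gX' gY' eX eY h _ _ _ _ _ _ _ _ hX hY
  rw [pairProp_iff, pairProp_iff]
  constructor
  · rintro ⟨T'', τ, h1, h2, H⟩
    -- a point of the fibre product
    have hsurj : Surjective h := ⟨fun x => by
      obtain ⟨y⟩ := (inferInstance : Nonempty T')
      exact ⟨y, Subsingleton.elim _ _⟩⟩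
    have hsurj' : Surjective (pullback.fst τ h) :=
      MorphismProperty.pullback_fst (P := @Surjective) _ _ hsurj
    obtain ⟨y⟩ := (inferInstance : Nonempty T'')
    obtain ⟨z, -⟩ := hsurj'.surj y
    let σ := (pullback τ h).fromSpecResidueField z
    refine ⟨Spec ((pullback τ h).residueField z), σ ≫ pullback.snd τ h, inferInstance,
      inferInstance, ?_⟩
    have H1 := (H.comp (σ ≫ pullback.fst τ h)).congr
      (by rw [Category.assoc, pullback.condition, ← Category.assoc])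
    exact H1.to_isPullback_base hX hY
  · rintro ⟨T'', σ, h1, h2, H⟩
    exact ⟨T'', σ ≫ h, h1, h2, H.of_isPullback_base hX hY⟩


open Groth.Agent.Lib.Helper24.Lim8

/-- `Q` descends along cofiltered limits for morphisms between finitely presented schemes. -/
def DescendsFP (Q : MorphismProperty Scheme.{u}) : Prop :=
  ∀ {I : Type u} [SmallCategory I] [IsCofiltered I] (D : I ⥤ Scheme.{u}) (c : Cone D)
    (_ : IsLimit c) [∀ {i j} (f : i ⟶ j), IsAffineHom (D.map f)] (i₀ : I)
    [CompactSpace (D.obj i₀)] [QuasiSeparatedSpace (D.obj i₀)] {X₀ Y₀ : Scheme.{u}}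
    (f₀ : X₀ ⟶ Y₀) (g₀ : Y₀ ⟶ D.obj i₀) [LocallyOfFinitePresentation g₀] [QuasiCompact g₀]
    [QuasiSeparated g₀] [LocallyOfFinitePresentation (f₀ ≫ g₀)] [QuasiCompact (f₀ ≫ g₀)]
    [QuasiSeparated (f₀ ≫ g₀)], Descends D c Q i₀ f₀ g₀

section lim

variable {I : Type u} [SmallCategory I] [IsCofiltered I] (D : I ⥤ Scheme.{u}) (c : Cone D)
  (hc : IsLimit c) [∀ {i j} (f : i ⟶ j), IsAffineHom (D.map f)] (i₀ : I)
  {X₀ Y₀ : Scheme.{u}} (gX₀ : X₀ ⟶ D.obj i₀) (gY₀ : Y₀ ⟶ D.obj i₀)

set_option backward.isDefEq.respectTransparency false in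
/-- The structure maps `X_j ⟶ S_{i₀}`. -/
@[simps] noncomputable
def pbDiagramToStage : pbDiagram D i₀ gX₀ ⟶ (Functor.const (Over i₀)).obj (D.obj i₀) where
  app j := pullback.snd _ _ ≫ gX₀
  naturality j k θ := by simp [pbDiagram, pullback.map]

include hc in
set_option backward.isDefEq.respectTransparency false in
/-- Descent of morphisms (EGA IV 8.8.2 (i), surjectivity). -/
lemma exists_hom_stage [CompactSpace (D.obj i₀)] [QuasiSeparatedSpace (D.obj i₀)]
    [QuasiCompact gX₀] [QuasiSeparated gX₀] [LocallyOfFinitePresentation gY₀]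
    (g : pullback (c.π.app i₀) gX₀ ⟶ pullback (c.π.app i₀) gY₀)
    (hg : g ≫ pullback.fst _ _ = pullback.fst _ _) :
    ∃ (j : Over i₀) (gj : pullback (D.map j.hom) gX₀ ⟶ pullback (D.map j.hom) gY₀),
      gj ≫ pullback.fst _ _ = pullback.fst _ _ ∧
        g ≫ (pbCone D c i₀ gY₀).π.app j = (pbCone D c i₀ gX₀).π.app j ≫ gj := by
  have : CompactSpace X₀ := QuasiCompact.compactSpace_of_compactSpace gX₀
  have : QuasiSeparatedSpace X₀ := quasiSeparatedSpace_of_quasiSeparated gX₀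
  have h1 (j : Over i₀) : CompactSpace ((pbDiagram D i₀ gX₀).obj j) :=
    compactSpace_pbDiagram_obj D i₀ gX₀ j
  have h2 (j : Over i₀) : QuasiSeparatedSpace ((pbDiagram D i₀ gX₀).obj j) :=
    quasiSeparatedSpace_pbDiagram_obj D i₀ gX₀ j
  have ha : (pbCone D c i₀ gX₀).π ≫ pbDiagramToStage D i₀ gX₀ =
      (Functor.const _).map ((g ≫ pullback.snd _ gY₀) ≫ gY₀) := by
    ext j
    simp only [NatTrans.comp_app, pbDiagramToStage_app, Functor.const_map_app]
    rw [reassoc_of% pbCone_π_snd, Category.assoc, ← pullback.condition, ← pullback.condition,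
      reassoc_of% hg]
  obtain ⟨j, b, hb1, hb2⟩ := Scheme.exists_π_app_comp_eq_of_locallyOfFinitePresentation
    (pbDiagram D i₀ gX₀) (pbDiagramToStage D i₀ gX₀) gY₀ (pbCone D c i₀ gX₀)
    (isLimitPbCone D c hc i₀ gX₀) (g ≫ pullback.snd _ gY₀) ha
  rw [pbDiagramToStage_app] at hb2
  refine ⟨j, pullback.lift (pullback.fst _ _) b (by rw [hb2]; exact pullback.condition),
    pullback.lift_fst _ _ _, ?_⟩
  apply pullback.hom_ext
  · rw [Category.assoc, Category.assoc, pullback.lift_fst]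
    simp [pbCone, pullback.map, reassoc_of% hg]
  · rw [Category.assoc, Category.assoc, pullback.lift_snd, pbCone_π_snd, hb1]

include hc in
set_option backward.isDefEq.respectTransparency false in
/-- `HasQ` over the limit descends to a stage. -/
lemma HasQ.exists_stage [Q.RespectsIso] (hQ : DescendsFP Q)
    [CompactSpace (D.obj i₀)] [QuasiSeparatedSpace (D.obj i₀)]
    [LocallyOfFinitePresentation gX₀] [QuasiCompact gX₀] [QuasiSeparated gX₀]
    [LocallyOfFinitePresentation gY₀] [QuasiCompact gY₀] [QuasiSeparated gY₀]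
    (H : HasQ Q gX₀ gY₀ (c.π.app i₀)) : ∃ (j : I) (φ : j ⟶ i₀), HasQ Q gX₀ gY₀ (D.map φ) := by
  obtain ⟨X', Y', gX', gY', eX, eY, hX, hY, g, hg, hQg⟩ := H
  let εX := hX.flip.isoPullback
  let εY := hY.flip.isoPullback
  let g' : pullback (c.π.app i₀) gX₀ ⟶ pullback (c.π.app i₀) gY₀ := εX.inv ≫ g ≫ εY.hom
  have hg' : g' ≫ pullback.fst _ _ = pullback.fst _ _ := by
    simp only [g', εX, εY, Category.assoc, IsPullback.isoPullback_hom_fst, hg,
      IsPullback.isoPullback_inv_fst]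
  have hQg' : Q g' :=
    (Q.cancel_left_of_respectsIso _ _).mpr ((Q.cancel_right_of_respectsIso _ _).mpr hQg)
  obtain ⟨j, gj, hgj, hcomm⟩ := exists_hom_stage D c hc i₀ gX₀ gY₀ g' hg'
  have : CompactSpace (D.obj j.left) := compactSpace_of_hom D j.hom
  have : QuasiSeparatedSpace (D.obj j.left) := quasiSeparatedSpace_of_hom D j.hom
  have : LocallyOfFinitePresentation (gj ≫ pullback.fst (D.map j.hom) gY₀) := by
    rw [hgj]; infer_instance
  have : QuasiCompact (gj ≫ pullback.fst (D.map j.hom) gY₀) := by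
    rw [hgj]; infer_instance
  have : QuasiSeparated (gj ≫ pullback.fst (D.map j.hom) gY₀) := by
    rw [hgj]; infer_instance
  have hdesc := hQ D c hc j.left gj (pullback.fst (D.map j.hom) gY₀)
  have hX' : IsPullback ((pbCone D c i₀ gX₀).π.app j) g' gj ((pbCone D c i₀ gY₀).π.app j) := by
    refine IsPullback.of_bot ?_ hcomm.symm (isPullback_pbCone_π D c i₀ gY₀ j)
    rw [hg', hgj]
    exact isPullback_pbCone_π D c i₀ gX₀ j
  have h3 : Q (bcMap (c.π.app j.left) gj (pullback.fst (D.map j.hom) gY₀)) :=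
    (bcMap_iff_of_isPullback (isPullback_pbCone_π D c i₀ gY₀ j) hX').mpr hQg'
  obtain ⟨k, φ, hk⟩ := hdesc h3
  refine ⟨k, φ ≫ j.hom, pullback (D.map φ) (gj ≫ pullback.fst (D.map j.hom) gY₀),
    pullback (D.map φ) (pullback.fst (D.map j.hom) gY₀), pullback.fst _ _, pullback.fst _ _,
    pullback.snd _ _ ≫ pullback.snd _ _, pullback.snd _ _ ≫ pullback.snd _ _, ?_, ?_,
    bcMap (D.map φ) gj (pullback.fst (D.map j.hom) gY₀), bcMap_fst _ _ _, hk⟩
  · rw [D.map_comp]
    refine (IsPullback.of_hasPullback (D.map φ) (gj ≫ pullback.fst (D.map j.hom) gY₀)).flip.paste_horiz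
      ?_
    rw [hgj]
    exact (IsPullback.of_hasPullback (D.map j.hom) gX₀).flip
  · rw [D.map_comp]
    exact (IsPullback.of_hasPullback (D.map φ) (pullback.fst (D.map j.hom) gY₀)).flip.paste_horiz
      (IsPullback.of_hasPullback (D.map j.hom) gY₀).flip

end lim


section topology

open Topology

/-- A constructible set containing a dense point contains a neighbourhood of it. -/
lemma mem_interior_of_isConstructible_of_dense {Z : Type*} [TopologicalSpace Z] {η : Z}
    (hη : Dense ({η} : Set Z)) {E : Set Z} (hE : IsConstructible E) :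
    (η ∈ E → η ∈ interior E) ∧ (η ∉ E → η ∈ interior Eᶜ) := by
  induction hE using IsConstructible.empty_union_induction with
  | open_retrocompact U hUopen hUcomp =>
    refine ⟨fun h => by rwa [hUopen.interior_eq], fun h => ?_⟩
    have hU : U = ∅ := by
      by_contra hne
      obtain ⟨x, hxU, hx⟩ := hη.inter_open_nonempty U hUopen (Set.nonempty_iff_ne_empty.mpr hne)
      rw [Set.mem_singleton_iff] at hx
      exact h (hx ▸ hxU)
    rw [hU, Set.compl_empty, interior_univ]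
    trivial
  | union s hs t ht hs' ht' =>
    refine ⟨fun h => ?_, fun h => ?_⟩
    · rcases h with h | h
      · exact interior_mono Set.subset_union_left (hs'.1 h)
      · exact interior_mono Set.subset_union_right (ht'.1 h)
    · rw [Set.compl_union, interior_inter]
      exact ⟨hs'.2 fun h' => h (Or.inl h'), ht'.2 fun h' => h (Or.inr h')⟩
  | compl s hs hs' =>
    refine ⟨fun h => hs'.2 h, fun h => ?_⟩
    rw [compl_compl]
    exact hs'.1 (Set.notMem_compl_iff.mp h)

end topology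

section core

open DirColim

set_option backward.isDefEq.respectTransparency false in
/-- Spreading out: if `HasQ` holds over a point lying over the generic point of an integral
noetherian scheme, then it holds over field-valued points over all points of a nonempty open. -/
theorem exists_open_of_hasQ [Q.IsStableUnderBaseChange] (hQ : DescendsFP Q) {X Y S : Scheme.{u}}
    (u : X ⟶ S) (v : Y ⟶ S) [IsIntegral S] [IsNoetherian S] [LocallyOfFiniteType u] [QuasiCompact u]
    [LocallyOfFiniteType v] [QuasiCompact v] {T' : Scheme.{u}} [Nonempty T'] (τ₀ : T' ⟶ S)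
    (hτ₀ : ∀ x, τ₀ x = genericPoint S) (H₀ : HasQ Q u v τ₀) :
    ∃ W : Set S, IsOpen W ∧ genericPoint S ∈ W ∧ ∀ s ∈ W, ∃ (T'' : Scheme.{u})
      (σ : T'' ⟶ Spec (S.residueField s)), IsIntegral T'' ∧ Subsingleton T'' ∧
        HasQ Q u v (σ ≫ S.fromSpecResidueField s) := by
  classical
  -- reduce to the spectrum of a field
  obtain ⟨x₀⟩ := (inferInstance : Nonempty T')
  let K : CommRingCat.{u} := T'.residueField x₀
  let τ : Spec K ⟶ S := T'.fromSpecResidueField x₀ ≫ τ₀
  have hτ : ∀ x, τ x = genericPoint S := fun x => hτ₀ _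
  have H : HasQ Q u v τ := H₀.comp _
  -- an affine open neighbourhood of the generic point
  obtain ⟨U₀, hU₀, hηU₀⟩ : ∃ U₀ : S.Opens, IsAffineOpen U₀ ∧ genericPoint S ∈ U₀ := by
    obtain ⟨_, ⟨U, hU, rfl⟩, hx, -⟩ := S.isBasis_affineOpens.exists_subset_of_mem_open
      (Set.mem_univ (genericPoint S)) isOpen_univ
    exact ⟨U, hU, hx⟩
  have hrange : Set.range τ ⊆ Set.range hU₀.fromSpec := by
    rw [hU₀.range_fromSpec]
    rintro _ ⟨x, rfl⟩
    rw [hτ]
    exact hηU₀
  let τ' := IsOpenImmersion.lift hU₀.fromSpec τ hrange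
  have hτ' : τ' ≫ hU₀.fromSpec = τ := IsOpenImmersion.lift_fac _ _ _
  let ρ : Γ(S, U₀) ⟶ K := Spec.preimage τ'
  have hρ : Spec.map ρ = τ' := Spec.map_preimage τ'
  letI : Algebra Γ(S, U₀) K := ρ.hom.toAlgebra
  have hnoeth : IsNoetherianRing Γ(S, U₀) := IsLocallyNoetherian.component_noetherian ⟨U₀, hU₀⟩
  -- the system of finitely generated subalgebras
  let C : FGSub Γ(S, U₀) K ⥤ CommRingCat.{u} := fgSubDiagram Γ(S, U₀) K
  let D : (FGSub Γ(S, U₀) K)ᵒᵖ ⥤ Scheme.{u} := C.op ⋙ Scheme.Spec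
  let c : Cone D := Scheme.Spec.mapCone (fgSubCocone Γ(S, U₀) K).op
  have hc : IsLimit c := isLimitOfPreserves Scheme.Spec (isColimitFgSubCocone Γ(S, U₀) K).op
  have hD {i k : (FGSub Γ(S, U₀) K)ᵒᵖ} (h : i ⟶ k) : IsAffineHom (D.map h) := by
    dsimp [D]; infer_instance
  let β (B : (FGSub Γ(S, U₀) K)ᵒᵖ) : D.obj B ⟶ S :=
    Spec.map (CommRingCat.ofHom (algebraMap Γ(S, U₀) B.unop.1)) ≫ hU₀.fromSpec
  have hβπ (B : (FGSub Γ(S, U₀) K)ᵒᵖ) : c.π.app B ≫ β B = τ := by
    rw [← hτ', ← hρ]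
    change Spec.map (CommRingCat.ofHom B.unop.1.val.toRingHom) ≫
      Spec.map (CommRingCat.ofHom (algebraMap Γ(S, U₀) B.unop.1)) ≫ hU₀.fromSpec = _
    rw [← Spec.map_comp_assoc]
    rfl
  have hβmap {B B' : (FGSub Γ(S, U₀) K)ᵒᵖ} (φ : B ⟶ B') : D.map φ ≫ β B' = β B := by
    change Spec.map (C.map φ.unop) ≫
      Spec.map (CommRingCat.ofHom (algebraMap Γ(S, U₀) B'.unop.1)) ≫ hU₀.fromSpec = _
    rw [← Spec.map_comp_assoc]
    rfl
  let i₀ : (FGSub Γ(S, U₀) K)ᵒᵖ := Opposite.op ⟨⊥, Subalgebra.fg_bot⟩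
  have : IsAffine (D.obj i₀) := by dsimp [D]; infer_instance
  have : QuasiSeparatedSpace X := by
    have : IsLocallyNoetherian X := LocallyOfFiniteType.isLocallyNoetherian u
    infer_instance
  have : QuasiSeparatedSpace Y := by
    have : IsLocallyNoetherian Y := LocallyOfFiniteType.isLocallyNoetherian v
    infer_instance
  let gX₀ : pullback u (β i₀) ⟶ D.obj i₀ := pullback.snd u (β i₀)
  let gY₀ : pullback v (β i₀) ⟶ D.obj i₀ := pullback.snd v (β i₀)
  have : LocallyOfFinitePresentation gX₀ := by dsimp only [gX₀]; infer_instance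
  have : QuasiCompact gX₀ := by dsimp only [gX₀]; infer_instance
  have : QuasiSeparated gX₀ := by dsimp only [gX₀]; infer_instance
  have : LocallyOfFinitePresentation gY₀ := by dsimp only [gY₀]; infer_instance
  have : QuasiCompact gY₀ := by dsimp only [gY₀]; infer_instance
  have : QuasiSeparated gY₀ := by dsimp only [gY₀]; infer_instance
  have H1 : HasQ Q gX₀ gY₀ (c.π.app i₀) :=
    (H.congr (hβπ i₀).symm).to_isPullback_base (IsPullback.of_hasPullback u (β i₀))
      (IsPullback.of_hasPullback v (β i₀))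
  obtain ⟨B, φ, H2⟩ := H1.exists_stage D c hc i₀ gX₀ gY₀ hQ
  have H3 : HasQ Q u v (β B) :=
    (H2.of_isPullback_base (IsPullback.of_hasPullback u (β i₀))
      (IsPullback.of_hasPullback v (β i₀))).congr (hβmap φ)
  -- Chevalley
  have hfp : LocallyOfFinitePresentation (β B) := by
    have h1 : LocallyOfFinitePresentation
        (Spec.map (CommRingCat.ofHom (algebraMap Γ(S, U₀) B.unop.1))) := by
      rw [HasRingHomProperty.Spec_iff (P := @LocallyOfFinitePresentation)]
      change (algebraMap Γ(S, U₀) B.unop.1).FinitePresentation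
      rw [RingHom.finitePresentation_algebraMap, ← Algebra.FinitePresentation.of_finiteType,
        ← Subalgebra.fg_iff_finiteType]
      exact B.unop.2
    dsimp only [β]
    infer_instance
  have : IsAffine (D.obj B) := by dsimp [D]; infer_instance
  have hqc : QuasiCompact (β B) := inferInstance
  have hcons : Topology.IsConstructible (Set.range (β B)) := by
    rw [← Set.image_univ]
    exact (β B).isConstructible_image Topology.IsConstructible.univ
  have hdense : Dense ({genericPoint S} : Set S) := by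
    rw [dense_iff_closure_eq]
    exact (genericPoint_spec S).def
  have hKne : Nonempty (Spec K) := inferInstance
  obtain ⟨xK⟩ := hKne
  have hηmem : genericPoint S ∈ Set.range (β B) := by
    refine ⟨c.π.app B xK, ?_⟩
    rw [← Scheme.Hom.comp_apply, hβπ]
    exact hτ xK
  refine ⟨interior (Set.range (β B)), isOpen_interior,
    (mem_interior_of_isConstructible_of_dense hdense hcons).1 hηmem, fun s hs => ?_⟩
  obtain ⟨y, rfl⟩ := interior_subset hs
  refine ⟨Spec ((D.obj B).residueField y), Spec.map ((β B).residueFieldMap y), inferInstance,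
    inferInstance, ?_⟩
  rw [Scheme.Hom.SpecMap_residueFieldMap_fromSpecResidueField]
  exact H3.comp _

/-- The main theorem: "geometrically there is a morphism with property `Q`" is an ind-constructible
property of pairs, whenever `Q` is stable under base change and descends along limits. -/
theorem isIndConsPair [Q.IsStableUnderBaseChange] (hQ : DescendsFP Q) :
    ConsPropPair.IsIndConsPair (PairProp Q) := by
  refine ⟨isFieldStablePair, fun X Y S u v _ _ _ _ _ _ hη => ?_⟩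
  change PairProp Q _ _ at hη
  rw [pairProp_iff] at hη
  obtain ⟨T', h, h1, h2, H⟩ := hη
  have hXs (s : S) : IsPullback (u.fiberι s) (u.fiberToSpecResidueField s) u
      (S.fromSpecResidueField s) := IsPullback.of_hasPullback _ _
  have hYs (s : S) : IsPullback (v.fiberι s) (v.fiberToSpecResidueField s) v
      (S.fromSpecResidueField s) := IsPullback.of_hasPullback _ _
  have H' := H.of_isPullback_base (hXs _) (hYs _)
  obtain ⟨W, hW, hηW, hWs⟩ := exists_open_of_hasQ hQ u v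
    (h ≫ S.fromSpecResidueField (genericPoint S)) (fun x => by simp) H'
  refine ⟨genericPoint S, mem_interior.mpr ⟨W, fun s hs => ?_, hW, hηW⟩⟩
  obtain ⟨T'', σ, h1', h2', H''⟩ := hWs s hs
  change PairProp Q _ _
  rw [pairProp_iff]
  exact ⟨T'', σ, h1', h2', H''.to_isPullback_base (hXs s) (hYs s)⟩

end core

end Groth.Agent.Lib.Helper24.IndConsPair
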