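import Groth.Agent.Lib.Helper24.Lim8
import Groth.Agent.Lib.Helper17.ProCScheme
import Groth.Agent.Lib.Helper17.ProCPreimage
import Groth.Agent.Lib.Helper17.ProCCompact
import Groth.Prelude.Def_ProCons

/-!
# Pro-constructible sets and cofiltered limits of schemes (helper24)

* `isProConstructible_inter`: intersection of two pro-constructible sets.
* `exists_affine_range_eq'`: a pro-constructible subset of a quasi-compact scheme is the image of an
  affine scheme (no quasi-separatedness needed; proof after helper17's `exists_affine_range_eq`).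
* `exists_preimage_range_eq_empty`: if the preimage in the limit of the range of `g : T ⟶ D.obj i`
  (`T` quasi-compact) is empty, so is its preimage at some stage.
* `exists_preimage_eq_empty_of_isProConstructible`: same for a pro-constructible subset of a
  quasi-compact stage (EGA IV 8.3.2-8.3.4).
-/

set_option autoImplicit false

universe u

open CategoryTheory CategoryTheory.Limits AlgebraicGeometry Topology Set

namespace Groth.Agent.Lib.Helper24.Lim8

open Groth.Agent.Lib.Helper17

lemma isProConstructible_inter {X : Type*} [TopologicalSpace X] {E F : Set X}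
    (hE : ProCons.IsProConstructible E) (hF : ProCons.IsProConstructible F) :
    ProCons.IsProConstructible (E ∩ F) := by
  intro x
  obtain ⟨U₁, hU₁, hx₁, S₁, hS₁, e₁⟩ := hE x
  obtain ⟨U₂, hU₂, hx₂, S₂, hS₂, e₂⟩ := hF x
  let V₁ : TopologicalSpace.Opens X := ⟨U₁, hU₁⟩
  let V₂ : TopologicalSpace.Opens X := ⟨U₂, hU₂⟩
  have h₁ : V₁ ⊓ V₂ ≤ V₁ := inf_le_left
  have h₂ : V₁ ⊓ V₂ ≤ V₂ := inf_le_right
  have ho₁ := TopologicalSpace.Opens.isOpenEmbedding_of_le h₁
  have ho₂ := TopologicalSpace.Opens.isOpenEmbedding_of_le h₂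
  refine ⟨U₁ ∩ U₂, hU₁.inter hU₂, ⟨hx₁, hx₂⟩,
    ((fun T ↦ Set.inclusion (SetLike.coe_subset_coe.2 h₁) ⁻¹' T) '' S₁) ∪
      ((fun T ↦ Set.inclusion (SetLike.coe_subset_coe.2 h₂) ⁻¹' T) '' S₂), ?_, ?_⟩
  · rintro _ (⟨T, hT, rfl⟩ | ⟨T, hT, rfl⟩)
    · exact (hS₁ T hT).preimage_of_isOpenEmbedding ho₁
    · exact (hS₂ T hT).preimage_of_isOpenEmbedding ho₂
  · rw [sInter_union, sInter_image, sInter_image, ← preimage_iInter₂, ← preimage_iInter₂,
      ← sInter_eq_biInter, ← sInter_eq_biInter, ← e₁, ← e₂]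
    ext y
    rfl

lemma isProConstructible_of_isLocallyConstructible {X : Type*} [TopologicalSpace X] {E : Set X}
    (hE : IsLocallyConstructible E) : ProCons.IsProConstructible E := by
  intro x
  refine ⟨univ, isOpen_univ, mem_univ x, {Subtype.val ⁻¹' E}, ?_, (sInter_singleton _).symm⟩
  rintro _ rfl
  exact hE.preimage_of_isOpenEmbedding isOpen_univ.isOpenEmbedding_subtypeVal

lemma isIndConstructible_of_isLocallyConstructible {X : Type*} [TopologicalSpace X] {E : Set X}
    (hE : IsLocallyConstructible E) : ProCons.IsIndConstructible E := by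
  intro x
  refine ⟨univ, isOpen_univ, mem_univ x, {Subtype.val ⁻¹' E}, ?_, (sUnion_singleton _).symm⟩
  rintro _ rfl
  exact hE.preimage_of_isOpenEmbedding isOpen_univ.isOpenEmbedding_subtypeVal

/-- A pro-constructible subset of a quasi-compact scheme is the image of an affine scheme. -/
theorem exists_affine_range_eq' (X : Scheme.{u}) [CompactSpace X]
    (E : Set X) (hE : ProCons.IsProConstructible E) :
    ∃ (X' : Scheme.{u}) (f : X' ⟶ X), IsAffine X' ∧ Set.range f.base = E := by
  obtain ⟨s, hs, hcov⟩ := isCompact_and_isOpen_iff_finite_and_eq_biUnion_affineOpens.mp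
    ⟨(isCompact_univ : IsCompact (univ : Set X)), isOpen_univ⟩
  haveI : Finite ↥s := hs.to_subtype
  let Ei : ∀ i : ↥s, Set (PrimeSpectrum Γ(X, i.1.1)) := fun i => (i.1.2.fromSpec.base) ⁻¹' E
  have hEi : ∀ i, IsProC (Ei i) := fun i =>
    isProC_preimage_of_isOpenEmbedding X hE _ (i.1.2.fromSpec.isOpenEmbedding)
  let g : ↥s → Scheme.{u} := fun i => Spec (CommRingCat.of (ProdRes (Ei i)))
  let F : ∀ i, g i ⟶ X := fun i =>
    Spec.map (CommRingCat.ofHom (toProdRes (Ei i))) ≫ i.1.2.fromSpec
  refine ⟨∐ g, Sigma.desc F, inferInstance, ?_⟩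
  ext y
  constructor
  · rintro ⟨z, rfl⟩
    obtain ⟨⟨i, x⟩, rfl⟩ := (sigmaMk g).surjective z
    rw [sigmaMk_mk]
    have e1 : (Sigma.desc F).base ((Sigma.ι g i).base x) = (F i).base x := by
      rw [← Scheme.Hom.comp_apply, Sigma.ι_desc]
    rw [e1]
    have e2 : PrimeSpectrum.comap (toProdRes (Ei i)) x ∈ Ei i :=
      (range_comap_toProdRes (hEi i)).subset ⟨x, rfl⟩
    exact e2
  · intro hy
    have hy' : y ∈ ⋃ i ∈ s, ((i : X.Opens) : Set X) := hcov ▸ mem_univ y
    obtain ⟨i, hi, hyi⟩ := mem_iUnion₂.mp hy'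
    have hyr : y ∈ range i.2.fromSpec.base := by
      rw [IsAffineOpen.range_fromSpec]; exact hyi
    obtain ⟨w, rfl⟩ := hyr
    have hw : w ∈ Ei ⟨i, hi⟩ := hy
    obtain ⟨x, rfl⟩ := (range_comap_toProdRes (hEi _)).superset hw
    refine ⟨(Sigma.ι g ⟨i, hi⟩).base x, ?_⟩
    rw [← Scheme.Hom.comp_apply, Sigma.ι_desc]
    rfl

variable {I : Type u} [SmallCategory I] (D : I ⥤ Scheme.{u}) (c : Cone D) (hc : IsLimit c)

set_option backward.isDefEq.respectTransparency false in
include hc in
/-- If the preimage in the limit of the range of `g : T ⟶ D.obj i` (with `T` quasi-compact) is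
empty, then so is its preimage at some stage. -/
lemma exists_preimage_range_eq_empty [IsCofiltered I] [∀ {i j} (f : i ⟶ j), IsAffineHom (D.map f)]
    {i : I} {T : Scheme.{u}} [CompactSpace T] (g : T ⟶ D.obj i)
    (h : c.π.app i ⁻¹' Set.range g = ∅) :
    ∃ (j : I) (φ : j ⟶ i), D.map φ ⁻¹' Set.range g = ∅ := by
  have hempty : IsEmpty (pbCone D c i g).pt := by
    refine ⟨fun z ↦ ?_⟩
    have : pullback.fst (c.π.app i) g z ∈ c.π.app i ⁻¹' Set.range g := by
      refine ⟨pullback.snd (c.π.app i) g z, ?_⟩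
      rw [← Scheme.Hom.comp_apply, ← pullback.condition, Scheme.Hom.comp_apply]
    rw [h] at this
    exact this
  have hcpt : CompactSpace ((pbDiagram D i g).obj (Over.mk (𝟙 i))) := by
    have : IsAffineHom (pullback.snd (D.map (Over.mk (𝟙 i)).hom) g) :=
      MorphismProperty.pullback_snd _ _ inferInstance
    exact QuasiCompact.compactSpace_of_compactSpace (pullback.snd (D.map (Over.mk (𝟙 i)).hom) g)
  obtain ⟨j, -, hj⟩ := exists_isEmpty_of_isEmpty (pbDiagram D i g) (pbCone D c i g)
    (isLimitPbCone D c hc i g) (Over.mk (𝟙 i))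
  refine ⟨j.left, j.hom, ?_⟩
  rw [Set.eq_empty_iff_forall_notMem]
  rintro y ⟨t, ht⟩
  obtain ⟨z, -, -⟩ := Scheme.Pullback.exists_preimage_pullback (f := D.map j.hom) (g := g) y t
    ht.symm
  exact hj.false z

include hc in
/-- If the preimage in the limit of a pro-constructible subset `P` of a quasi-compact stage
`D.obj i` is empty, then so is the preimage of `P` at some stage. -/
lemma exists_preimage_eq_empty_of_isProConstructible [IsCofiltered I]
    [∀ {i j} (f : i ⟶ j), IsAffineHom (D.map f)]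
    {i : I} [CompactSpace (D.obj i)] (P : Set (D.obj i)) (hP : ProCons.IsProConstructible P)
    (h : c.π.app i ⁻¹' P = ∅) :
    ∃ (j : I) (φ : j ⟶ i), D.map φ ⁻¹' P = ∅ := by
  obtain ⟨T, g, hT, rfl⟩ := exists_affine_range_eq' (D.obj i) P hP
  exact exists_preimage_range_eq_empty D c hc g h

end Groth.Agent.Lib.Helper24.Lim8
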