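import Groth.Agent.Lib.Helper24.ResidueLimit
import Groth.Agent.Lib.Helper24.IndConsPair
import Groth.Agent.Lib.Helper24.Lim8ProC

/-!
# `Spec κ(x)` as a cofiltered limit of finitely presented subschemes, and ind-constructibility of
# the locus where the morphism of fibres has a property which descends along limits (helper24)
-/

set_option autoImplicit false

universe u

open CategoryTheory CategoryTheory.Limits AlgebraicGeometry Opposite

namespace Groth.Agent.Lib.Helper24.ResidueLimit

open Groth.Agent.Lib.Helper24.Lim8 Groth.Agent.Lib.Helper24.IndConsPair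

section system

variable (X : Scheme.{u}) (x : X)

/-- The system of finitely presented subschemes through `x`. -/
noncomputable def D : (Idx X x)ᵒᵖ ⥤ Scheme.{u} := (diagram (X := X) (x := x)).op ⋙ Scheme.Spec

/-- The cone with point `Spec κ(x)`. -/
noncomputable def c : Cone (D X x) := Scheme.Spec.mapCone (cocone (X := X) (x := x)).op

/-- `Spec κ(x)` is the limit. -/
noncomputable def hc : IsLimit (c X x) :=
  isLimitOfPreserves Scheme.Spec (isColimitCocone (X := X) (x := x)).op

instance {i k : (Idx X x)ᵒᵖ} (h : i ⟶ k) : IsAffineHom ((D X x).map h) := by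
  dsimp [D]; infer_instance

instance (i : (Idx X x)ᵒᵖ) : IsAffine ((D X x).obj i) := by
  dsimp [D]; infer_instance

/-- The quotient map, typed with the diagram. -/
noncomputable def q (a : Idx X x) : Γ(X, a.V) ⟶ (diagram (X := X) (x := x)).obj a :=
  CommRingCat.ofHom (Ideal.Quotient.mk a.J)

lemma q_surjective (a : Idx X x) : Function.Surjective (q X x a).hom :=
  Ideal.Quotient.mk_surjective

lemma ker_q (a : Idx X x) : RingHom.ker (q X x a).hom = a.J := Ideal.mk_ker

lemma q_comp_map {a b : Idx X x} (h : a ⟶ b) :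
    q X x a ≫ (diagram (X := X) (x := x)).map h =
      X.presheaf.map (homOfLE (le_V (leOfHom h))).op ≫ q X x b := by
  ext r
  rfl

lemma q_comp_ι (a : Idx X x) :
    q X x a ≫ (cocone (X := X) (x := x)).ι.app a = X.evaluation a.V x a.hx := by
  ext r
  rfl

/-- The immersion of a stage into `X`. -/
noncomputable def β (a : (Idx X x)ᵒᵖ) : (D X x).obj a ⟶ X :=
  Spec.map (q X x a.unop) ≫ a.unop.hV.fromSpec

lemma map_β {a b : (Idx X x)ᵒᵖ} (φ : a ⟶ b) : (D X x).map φ ≫ β X x b = β X x a := by
  change Spec.map ((diagram (X := X) (x := x)).map φ.unop) ≫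
    Spec.map (q X x b.unop) ≫ b.unop.hV.fromSpec = _
  rw [← Spec.map_comp_assoc, q_comp_map, Spec.map_comp_assoc,
    b.unop.hV.map_fromSpec a.unop.hV]
  rfl

lemma π_β (a : (Idx X x)ᵒᵖ) : (c X x).π.app a ≫ β X x a = X.fromSpecResidueField x := by
  change Spec.map ((cocone (X := X) (x := x)).ι.app a.unop) ≫
    Spec.map (q X x a.unop) ≫ a.unop.hV.fromSpec = _
  rw [← Spec.map_comp_assoc, q_comp_ι, Scheme.fromSpecResidueField,
    ← a.unop.hV.fromSpecStalk_eq_fromSpecStalk a.unop.hx,
    IsAffineOpen.fromSpecStalk, ← Spec.map_comp_assoc]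
  rfl

instance (a : (Idx X x)ᵒᵖ) : LocallyOfFinitePresentation (β X x a) := by
  have : LocallyOfFinitePresentation (Spec.map (q X x a.unop)) := by
    rw [HasRingHomProperty.Spec_iff (P := @LocallyOfFinitePresentation)]
    refine RingHom.FinitePresentation.of_surjective _ (q_surjective X x a.unop) ?_
    rw [ker_q]
    exact a.unop.hJ
  have h2 : IsOpenImmersion a.unop.hV.fromSpec := inferInstance
  exact MorphismProperty.comp_mem _ (Spec.map (q X x a.unop)) a.unop.hV.fromSpec this inferInstance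

instance (a : (Idx X x)ᵒᵖ) : IsPreimmersion (β X x a) := by
  have : IsClosedImmersion (Spec.map (q X x a.unop)) :=
    IsClosedImmersion.spec_of_surjective _ (q_surjective X x a.unop)
  have h2 : IsOpenImmersion a.unop.hV.fromSpec := inferInstance
  exact MorphismProperty.comp_mem _ (Spec.map (q X x a.unop)) a.unop.hV.fromSpec inferInstance
    inferInstance

end system

/-- The residue field map of a morphism which is surjective on stalks is an isomorphism. -/
lemma isIso_residueFieldMap {X Y : Scheme.{u}} (f : X ⟶ Y) [SurjectiveOnStalks f] (x : X) :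
    IsIso (f.residueFieldMap x) := by
  rw [ConcreteCategory.isIso_iff_bijective]
  refine ⟨(f.residueFieldMap x).hom.injective, ?_⟩
  intro k
  obtain ⟨σ, rfl⟩ := X.residue_surjective x k
  obtain ⟨σ', rfl⟩ := f.stalkMap_surjective x σ
  refine ⟨Y.residue (f x) σ', ?_⟩
  exact congr($(Scheme.residue_residueFieldMap f x) σ')

section bcMap

variable {X Y S : Scheme.{u}} (f : X ⟶ Y) (g : Y ⟶ S)

/-- Base change in stages. -/
lemma bcMap_bcMap_iff {P : MorphismProperty Scheme.{u}} [P.RespectsIso] {T T' : Scheme.{u}}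
    (τ : T ⟶ S) (σ : T' ⟶ T) :
    P (bcMap σ (bcMap τ f g) (pullback.fst τ g)) ↔ P (bcMap (σ ≫ τ) f g) := by
  have hY : IsPullback (pullback.snd σ (pullback.fst τ g) ≫ pullback.snd τ g)
      (pullback.fst σ (pullback.fst τ g)) g (σ ≫ τ) :=
    (IsPullback.of_hasPullback σ (pullback.fst τ g)).flip.paste_horiz
      (IsPullback.of_hasPullback τ g).flip
  have hX := (isPullback_bcMap σ (bcMap τ f g) (pullback.fst τ g)).paste_horiz
    (isPullback_bcMap τ f g)
  exact (bcMap_iff_of_isPullback hY hX).symm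

lemma bcMap_comp_of_bcMap {P : MorphismProperty Scheme.{u}} [P.IsStableUnderBaseChange]
    {T T' : Scheme.{u}} (τ : T ⟶ S) (σ : T' ⟶ T) (h : P (bcMap τ f g)) :
    P (bcMap (σ ≫ τ) f g) :=
  (bcMap_bcMap_iff f g τ σ).mp (bcMap_of_isStableUnderBaseChange σ _ _ h)

lemma bcMap_congr {P : MorphismProperty Scheme.{u}} {T : Scheme.{u}} {τ τ' : T ⟶ S}
    (e : τ = τ') (h : P (bcMap τ f g)) : P (bcMap τ' f g) := e ▸ h

end bcMap

set_option backward.isDefEq.respectTransparency false in
/-- If `Q` holds for the morphism of fibres over `s`, it holds over all points of a constructible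
subset of any given affine open neighbourhood of `s`. -/
theorem exists_isConstructible_of_bcMap {Q : MorphismProperty Scheme.{u}}
    [Q.IsStableUnderBaseChange] (hQ : DescendsFP Q) {X Y S : Scheme.{u}} (f : X ⟶ Y) (g : Y ⟶ S)
    [LocallyOfFinitePresentation g] [QuasiCompact g] [QuasiSeparated g]
    [LocallyOfFinitePresentation (f ≫ g)] [QuasiCompact (f ≫ g)] [QuasiSeparated (f ≫ g)]
    (U : S.Opens) (hU : IsAffineOpen U) (x' : U.toScheme)
    (H : Q (bcMap (S.fromSpecResidueField (U.ι x')) f g)) :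
    ∃ Z : Set U.toScheme, Topology.IsConstructible Z ∧ x' ∈ Z ∧
      ∀ z ∈ Z, Q (bcMap (S.fromSpecResidueField (U.ι z)) f g) := by
  have : IsAffine U.toScheme := hU
  let τ (a : (Idx U.toScheme x')ᵒᵖ) : (D U.toScheme x').obj a ⟶ S := β U.toScheme x' a ≫ U.ι
  obtain ⟨i₀⟩ := (inferInstance : Nonempty (Idx U.toScheme x')ᵒᵖ)
  have e1 : (c U.toScheme x').π.app i₀ ≫ τ i₀ =
      Spec.map (U.ι.residueFieldMap x') ≫ S.fromSpecResidueField (U.ι x') := by
    rw [Scheme.Hom.SpecMap_residueFieldMap_fromSpecResidueField]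
    dsimp only [τ]
    rw [reassoc_of% π_β]
  have H0 : Q (bcMap ((c U.toScheme x').π.app i₀ ≫ τ i₀) f g) :=
    bcMap_congr f g e1.symm (bcMap_comp_of_bcMap f g _ _ H)
  have h1 : LocallyOfFinitePresentation (bcMap (τ i₀) f g ≫ pullback.fst (τ i₀) g) := by
    rw [bcMap_fst]; infer_instance
  have h2 : QuasiCompact (bcMap (τ i₀) f g ≫ pullback.fst (τ i₀) g) := by
    rw [bcMap_fst]; infer_instance
  have h3 : QuasiSeparated (bcMap (τ i₀) f g ≫ pullback.fst (τ i₀) g) := by
    rw [bcMap_fst]; infer_instance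
  have H1 : Q (bcMap ((c U.toScheme x').π.app i₀) (bcMap (τ i₀) f g) (pullback.fst (τ i₀) g)) :=
    (bcMap_bcMap_iff f g _ _).mpr H0
  obtain ⟨j, φ, H2⟩ := hQ (D U.toScheme x') (c U.toScheme x') (hc U.toScheme x') i₀
    (bcMap (τ i₀) f g) (pullback.fst (τ i₀) g) H1
  have H3 : Q (bcMap (τ j) f g) := by
    have := (bcMap_bcMap_iff f g _ _).mp H2
    refine bcMap_congr f g ?_ this
    dsimp only [τ]
    rw [reassoc_of% map_β]
  have hqc : QuasiCompact (β U.toScheme x' j) := inferInstance
  refine ⟨Set.range (β U.toScheme x' j), ?_, ?_, ?_⟩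
  · rw [← Set.image_univ]
    exact (β U.toScheme x' j).isConstructible_image Topology.IsConstructible.univ
  · obtain ⟨pt⟩ := (inferInstance : Nonempty (Spec (U.toScheme.residueField x')))
    refine ⟨(c U.toScheme x').π.app j pt, ?_⟩
    rw [← Scheme.Hom.comp_apply, π_β]
    exact Scheme.fromSpecResidueField_apply _ _
  · rintro _ ⟨t, rfl⟩
    have H4 := bcMap_comp_of_bcMap f g (τ j) (((D U.toScheme x').obj j).fromSpecResidueField t) H3
    rw [← Scheme.Hom.SpecMap_residueFieldMap_fromSpecResidueField] at H4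
    have : IsIso ((τ j).residueFieldMap t) := isIso_residueFieldMap _ _
    have H5 := bcMap_comp_of_bcMap f g _ (Spec.map (inv ((τ j).residueFieldMap t))) H4
    rw [← Category.assoc, ← Spec.map_comp, IsIso.hom_inv_id, Spec.map_id, Category.id_comp] at H5
    exact H5

/-- The locus where the morphism of fibres has `Q` is ind-constructible, if `Q` is stable under
base change and descends along limits. -/
theorem isIndConstructible_setOf_bcMap {Q : MorphismProperty Scheme.{u}}
    [Q.IsStableUnderBaseChange] (hQ : DescendsFP Q) {X Y S : Scheme.{u}} (f : X ⟶ Y) (g : Y ⟶ S)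
    [LocallyOfFinitePresentation g] [QuasiCompact g] [QuasiSeparated g]
    [LocallyOfFinitePresentation (f ≫ g)] [QuasiCompact (f ≫ g)] [QuasiSeparated (f ≫ g)] :
    ProCons.IsIndConstructible {s : S | Q (bcMap (S.fromSpecResidueField s) f g)} := by
  intro x
  obtain ⟨U, hU, hxU⟩ := exists_idx S x
  refine ⟨U, U.isOpen, hxU, {Z | Topology.IsLocallyConstructible Z ∧
    Z ⊆ Subtype.val ⁻¹' {s : S | Q (bcMap (S.fromSpecResidueField s) f g)}},
    fun T hT => hT.1, ?_⟩
  apply Set.Subset.antisymm
  · rintro ⟨s, hs⟩ hsE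
    obtain ⟨Z, hZ, hxZ, hZE⟩ := exists_isConstructible_of_bcMap hQ f g U hU ⟨s, hs⟩ hsE
    exact Set.mem_sUnion.mpr ⟨Z, ⟨hZ.isLocallyConstructible, fun z hz => hZE z hz⟩, hxZ⟩
  · exact Set.sUnion_subset fun T hT => hT.2

end Groth.Agent.Lib.Helper24.ResidueLimit
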