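import Mathlib
import Groth.Agent.Lib.Helper24.ResidueLimitScheme
import Groth.Agent.Lib.Helper24.Lim8FPMain
import Groth.Agent.Lib.Helper24.Lim8DescendImm
import Groth.Agent.Lib.Helper24.ConsCompact

/-!
# Completely decomposed morphisms descend along cofiltered limits (helper24)
`cdLocus`, base change, sections over finitely presented immersions, `descends_cd`.
-/

set_option autoImplicit false
universe u
open CategoryTheory AlgebraicGeometry Limits

namespace Groth.Agent.Lib.Helper24.CDDescent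

open Groth.Agent.Lib.Helper24.ResidueLimit

/-- The completely decomposed locus of a morphism. -/
def cdLocus {X Y : Scheme.{u}} (f : X ⟶ Y) : Set Y :=
  {y | ∃ x : X, f x = y ∧ Function.Bijective (f.residueFieldMap x)}

/-- A section over a (pre)immersion puts its range in the completely decomposed locus. -/
lemma range_subset_cdLocus {Z X Y : Scheme.{u}} (ι : Z ⟶ Y) [SurjectiveOnStalks ι] (s : Z ⟶ X)
    (f : X ⟶ Y) (h : s ≫ f = ι) : Set.range ι ⊆ cdLocus f := by
  subst h
  rintro _ ⟨z, rfl⟩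
  refine ⟨s z, rfl, ?_⟩
  have hiso : IsIso ((s ≫ f).residueFieldMap z) := isIso_residueFieldMap _ _
  have hbij : Function.Bijective ((s ≫ f).residueFieldMap z) :=
    (ConcreteCategory.isIso_iff_bijective _).mp hiso
  have hcomp : (⇑((s ≫ f).residueFieldMap z) : _ → _) =
      ⇑(s.residueFieldMap z) ∘ ⇑(f.residueFieldMap (s z)) := by
    funext a
    exact congrArg (fun φ : Y.residueField ((s ≫ f) z) ⟶ Z.residueField z => φ a)
      (Scheme.residueFieldMap_comp s f z)
  have hbij' : Function.Bijective (⇑(s.residueFieldMap z) ∘ ⇑(f.residueFieldMap (s z))) :=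
    hcomp ▸ hbij
  have hB_inj : Function.Injective (s.residueFieldMap z) :=
    (s.residueFieldMap z).hom.injective
  have hB_surj : Function.Surjective (s.residueFieldMap z) := hbij'.2.of_comp
  exact (Function.Bijective.of_comp_iff' ⟨hB_inj, hB_surj⟩ _).mp hbij'

/-- The completely decomposed locus is compatible with base change. -/
lemma preimage_cdLocus_subset {X' X Y' Y : Scheme.{u}} {g' : X' ⟶ X} {p : X' ⟶ Y'} {f : X ⟶ Y}
    {q : Y' ⟶ Y} (h : IsPullback g' p f q) : q ⁻¹' cdLocus f ⊆ cdLocus p := by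
  rintro y' ⟨x, hx, hbij⟩
  have hiso : IsIso (f.residueFieldMap x) := (ConcreteCategory.isIso_iff_bijective _).mpr hbij
  let θ : X.residueField x ⟶ Y'.residueField y' :=
    inv (f.residueFieldMap x) ≫ (Y.residueFieldCongr hx).hom ≫ q.residueFieldMap y'
  let a : Spec (Y'.residueField y') ⟶ Y' := Y'.fromSpecResidueField y'
  let b : Spec (Y'.residueField y') ⟶ X := Spec.map θ ≫ X.fromSpecResidueField x
  have hab : b ≫ f = a ≫ q := by
    dsimp only [a, b, θ]
    rw [Category.assoc, ← Scheme.Hom.SpecMap_residueFieldMap_fromSpecResidueField,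
      ← Scheme.Hom.SpecMap_residueFieldMap_fromSpecResidueField, ← Spec.map_comp_assoc,
      IsIso.hom_inv_id_assoc, Spec.map_comp_assoc,
      Scheme.residueFieldCongr_fromSpecResidueField]
  let ℓ := h.lift b a hab
  have hℓ : ℓ ≫ p = a := h.lift_snd _ _ _
  have := range_subset_cdLocus a ℓ p hℓ
  apply this
  obtain ⟨pt⟩ := (inferInstance : Nonempty (Spec (Y'.residueField y')))
  exact ⟨pt, Scheme.fromSpecResidueField_apply _ _⟩


lemma isImmersion_β (Y : Scheme.{u}) (y : Y) (a : (Idx Y y)ᵒᵖ) : IsImmersion (β Y y a) := by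
  have : IsClosedImmersion (Spec.map (q Y y a.unop)) :=
    IsClosedImmersion.spec_of_surjective _ (q_surjective Y y a.unop)
  have h2 : IsOpenImmersion a.unop.hV.fromSpec := inferInstance
  exact IsImmersion.comp (Spec.map (q Y y a.unop)) a.unop.hV.fromSpec

/-- A point of the completely decomposed locus of a morphism locally of finite presentation lies
on a finitely presented affine locally closed subscheme over which the morphism has a section. -/
lemma exists_section_of_mem_cdLocus {X Y : Scheme.{u}} (f : X ⟶ Y) [LocallyOfFinitePresentation f]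
    (y : Y) (hy : y ∈ cdLocus f) :
    ∃ (Z : Scheme.{u}) (ι : Z ⟶ Y) (τ : Z ⟶ X), IsAffine Z ∧ IsImmersion ι ∧
      LocallyOfFinitePresentation ι ∧ τ ≫ f = ι ∧ y ∈ Set.range ι := by
  obtain ⟨x, rfl, hbij⟩ := hy
  have hiso : IsIso (f.residueFieldMap x) := (ConcreteCategory.isIso_iff_bijective _).mpr hbij
  let σ₀ : Spec (Y.residueField (f x)) ⟶ X :=
    Spec.map (inv (f.residueFieldMap x)) ≫ X.fromSpecResidueField x
  let σ : (c Y (f x)).pt ⟶ X := σ₀
  have hσ : σ ≫ f = Y.fromSpecResidueField (f x) := by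
    change σ₀ ≫ f = _
    dsimp only [σ₀]
    rw [Category.assoc, ← Scheme.Hom.SpecMap_residueFieldMap_fromSpecResidueField,
      ← Spec.map_comp_assoc, IsIso.hom_inv_id, Spec.map_id, Category.id_comp]
  let t : D Y (f x) ⟶ (Functor.const _).obj Y :=
    { app := fun a => β Y (f x) a
      naturality := fun a b φ => by
        simp only [Functor.const_obj_obj, Functor.const_obj_map, Category.comp_id]
        exact map_β Y (f x) φ }
  obtain ⟨a, g, hg1, hg2⟩ := Scheme.exists_π_app_comp_eq_of_locallyOfFinitePresentation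
    (D Y (f x)) t f (c Y (f x)) (hc Y (f x)) σ (by
      ext a
      simp only [NatTrans.comp_app, Functor.const_map_app, t]
      exact (π_β Y (f x) a).trans hσ.symm)
  refine ⟨(D Y (f x)).obj a, β Y (f x) a, g, inferInstance, isImmersion_β Y (f x) a,
    inferInstance, hg2, ?_⟩
  obtain ⟨pt⟩ := (inferInstance : Nonempty (Spec (Y.residueField (f x))))
  refine ⟨(c Y (f x)).π.app a pt, ?_⟩
  have h1 : (β Y (f x) a) ((c Y (f x)).π.app a pt) = ((c Y (f x)).π.app a ≫ β Y (f x) a) pt := rfl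
  rw [h1, π_β]
  exact Scheme.fromSpecResidueField_apply _ _


lemma cdLocus_subset_of_isPullback {X' X'' X Y' Y : Scheme.{u}} {g' : X' ⟶ X} {p' : X' ⟶ Y'}
    {g'' : X'' ⟶ X} {p'' : X'' ⟶ Y'} {f : X ⟶ Y} {q : Y' ⟶ Y} (h' : IsPullback g' p' f q)
    (h'' : IsPullback g'' p'' f q) : cdLocus p' ⊆ cdLocus p'' := by
  let ε := h''.isoIsPullback _ _ h'
  have hε : ε.hom ≫ p' = p'' := IsPullback.isoIsPullback_hom_snd _ _ _ _
  have hsq : IsPullback ε.hom p'' p' (𝟙 Y') :=
    IsPullback.of_horiz_isIso ⟨by rw [hε, Category.comp_id]⟩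
  have := preimage_cdLocus_subset hsq
  intro y hy
  exact this hy

section limit

open Groth.Agent.Lib.Helper24.Lim8

variable {J : Type u} [SmallCategory J] [IsCofiltered J] {E : J ⥤ Scheme.{u}} {e : Cone E}
  (he : IsLimit e) [∀ {i j} (f : i ⟶ j), IsAffineHom (E.map f)] [∀ j, CompactSpace (E.obj j)]
  [∀ j, QuasiSeparatedSpace (E.obj j)]
  (j₀ : J) {X₁ : Scheme.{u}} (f₁ : X₁ ⟶ E.obj j₀) [LocallyOfFinitePresentation f₁]

include he in
lemma exists_stage_constructible (y : e.pt)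
    (hy : y ∈ cdLocus (pullback.fst (e.π.app j₀) f₁)) :
    ∃ (l : J) (φ : l ⟶ j₀) (W : Set (E.obj l)), Topology.IsConstructible W ∧ e.π.app l y ∈ W ∧
      W ⊆ cdLocus (pullback.fst (E.map φ) f₁) := by
  have hqs : QuasiSeparatedSpace e.pt := by
    have := isAffineHom_π_app E e he j₀
    exact quasiSeparatedSpace_of_quasiSeparated (e.π.app j₀)
  obtain ⟨Z, ι, τ, hZ, hι, hιfp, hτ, z₀, hz₀⟩ :=
    exists_section_of_mem_cdLocus (pullback.fst (e.π.app j₀) f₁) y hy
  -- models
  obtain ⟨l₁, M₁, hM₁⟩ := Model.exists_isFP he ι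
  let M₂ : Model E e j₀ (pullback.fst (e.π.app j₀) f₁) :=
    ⟨X₁, f₁, pullback.snd _ _, (IsPullback.of_hasPullback _ _).flip⟩
  let l₂ := IsCofiltered.min l₁ j₀
  let a₁ : l₂ ⟶ l₁ := IsCofiltered.minToLeft l₁ j₀
  let a₂ : l₂ ⟶ j₀ := IsCofiltered.minToRight l₁ j₀
  let N₁ := M₁.rebase a₁
  let N₂ := M₂.rebase a₂
  have hN₁ : N₁.IsFP := hM₁.rebase a₁
  have := hN₁.lfp
  have := hN₁.compact
  have := hN₁.qs
  have hN₂ : LocallyOfFinitePresentation N₂.fi :=
    inferInstanceAs (LocallyOfFinitePresentation (pullback.fst (E.map a₂) f₁))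
  obtain ⟨l₃, φ₃, ⟨H⟩⟩ := HomModel.exists_stage he N₁ N₂ τ hτ
  let O₁ := N₁.rebase φ₃
  let O₂ := N₂.rebase φ₃
  have hO₁ : O₁.IsFP := hN₁.rebase φ₃
  have := hO₁.lfp
  have := hO₁.compact
  have := hO₁.qs
  -- immersion at some stage
  haveI : MorphismProperty.RespectsIso @IsImmersion.{u} :=
    MorphismProperty.IsStableUnderBaseChange.respectsIso
  have hY : IsPullback (e.π.app l₃) (𝟙 e.pt) (𝟙 (E.obj l₃)) (e.π.app l₃) :=
    IsPullback.id_vert _
  have himm : IsImmersion (bcMap (e.π.app l₃) O₁.fi (𝟙 _)) :=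
    (bcMap_iff_of_isPullback (P := @IsImmersion) hY O₁.sq).mpr hι
  obtain ⟨l₄, φ₄, himm₄⟩ := descends_isImmersion E e he l₃ O₁.fi (𝟙 _) himm
  let Q₁ := O₁.rebase φ₄
  let Q₂ := O₂.rebase φ₄
  let H' : HomModel Q₁ Q₂ τ := H.rebase hτ φ₄
  have hQ₁ : Q₁.IsFP := hO₁.rebase φ₄
  have := hQ₁.lfp
  have := hQ₁.compact
  have := hQ₁.qs
  have hY₄ : IsPullback (E.map φ₄) (𝟙 (E.obj l₄)) (𝟙 (E.obj l₃)) (E.map φ₄) :=
    IsPullback.id_vert _
  have hQimm : IsImmersion Q₁.fi :=
    (bcMap_iff_of_isPullback (P := @IsImmersion) hY₄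
      (IsPullback.of_hasPullback (E.map φ₄) O₁.fi).flip).mp himm₄
  refine ⟨l₄, φ₄ ≫ φ₃ ≫ a₂, Set.range Q₁.fi, ?_, ?_, ?_⟩
  · rw [← Set.image_univ]
    exact Q₁.fi.isConstructible_image Topology.IsConstructible.univ
  · refine ⟨Q₁.g z₀, ?_⟩
    rw [← hz₀]
    have h1 : Q₁.fi (Q₁.g z₀) = (Q₁.g ≫ Q₁.fi) z₀ := rfl
    have h2 : e.π.app l₄ (ι z₀) = (ι ≫ e.π.app l₄) z₀ := rfl
    rw [h1, h2, Q₁.sq.w]
  · have hsub : Set.range Q₁.fi ⊆ cdLocus Q₂.fi :=
      range_subset_cdLocus Q₁.fi H'.hi Q₂.fi H'.hi_fi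
    refine hsub.trans ?_
    -- `Q₂.fi` is a base change of `f₁` along `E.map (φ₄ ≫ φ₃ ≫ a₂)`
    have sqa : IsPullback (pullback.snd (E.map a₂) f₁) (pullback.fst (E.map a₂) f₁) f₁ (E.map a₂) :=
      (IsPullback.of_hasPullback _ _).flip
    have sq3 : IsPullback (pullback.snd (E.map φ₃) N₂.fi) (pullback.fst (E.map φ₃) N₂.fi) N₂.fi
        (E.map φ₃) := (IsPullback.of_hasPullback _ _).flip
    have sq4 : IsPullback (pullback.snd (E.map φ₄) O₂.fi) (pullback.fst (E.map φ₄) O₂.fi) O₂.fi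
        (E.map φ₄) := (IsPullback.of_hasPullback _ _).flip
    have sq := (sq4.paste_horiz sq3).paste_horiz sqa
    have hmap : (E.map φ₄ ≫ E.map φ₃) ≫ E.map a₂ = E.map (φ₄ ≫ φ₃ ≫ a₂) := by
      rw [Functor.map_comp, Functor.map_comp, Category.assoc]
    rw [hmap] at sq
    exact cdLocus_subset_of_isPullback sq (IsPullback.of_hasPullback _ _).flip


omit [IsCofiltered J] [∀ {i j} (f : i ⟶ j), IsAffineHom (E.map f)] [∀ j, CompactSpace (E.obj j)]
  [∀ j, QuasiSeparatedSpace (E.obj j)] [LocallyOfFinitePresentation f₁] in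
lemma preimage_cdLocus_stage {k m : J} (a : k ⟶ m) (ψ : m ⟶ j₀) :
    E.map a ⁻¹' cdLocus (pullback.fst (E.map ψ) f₁) ⊆
      cdLocus (pullback.fst (E.map (a ≫ ψ)) f₁) :=
  preimage_cdLocus_subset
    (isPullback_pbDiagram_map E j₀ f₁ (Over.homMk a : Over.mk (a ≫ ψ) ⟶ Over.mk ψ))

include he in
/-- **Completely decomposed morphisms descend** (absolute form). -/
theorem exists_stage_cdLocus_eq_univ
    (h : cdLocus (pullback.fst (e.π.app j₀) f₁) = Set.univ) :
    ∃ (l : J) (φ : l ⟶ j₀), cdLocus (pullback.fst (E.map φ) f₁) = Set.univ := by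
  classical
  have hqs : QuasiSeparatedSpace e.pt := by
    have := isAffineHom_π_app E e he j₀
    exact quasiSeparatedSpace_of_quasiSeparated (e.π.app j₀)
  have hcpt : CompactSpace e.pt := Scheme.compactSpace_of_isLimit E e he
  have key : ∀ y : e.pt, ∃ (l : J) (φ : l ⟶ j₀) (W : Set (E.obj l)), Topology.IsConstructible W ∧
      e.π.app l y ∈ W ∧ W ⊆ cdLocus (pullback.fst (E.map φ) f₁) := fun y =>
    exists_stage_constructible he j₀ f₁ y (h ▸ Set.mem_univ y)
  choose l φ W hWc hyW hWsub using key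
  let C : e.pt → Set e.pt := fun y => e.π.app (l y) ⁻¹' W y
  have hC : ∀ y, Topology.IsConstructible (C y) := fun y =>
    (e.π.app (l y)).isConstructible_preimage (hWc y)
  obtain ⟨t, ht⟩ := ConsCompact.exists_finite_subcover C hC (fun y => ⟨y, hyW y⟩)
  -- a common stage for a finite set of points
  have hfin : ∀ s : Finset e.pt, ∃ (m : J) (ψ : m ⟶ j₀) (V : Set (E.obj m)),
      Topology.IsConstructible V ∧ V ⊆ cdLocus (pullback.fst (E.map ψ) f₁) ∧
      ∀ y ∈ s, C y ⊆ e.π.app m ⁻¹' V := by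
    intro s
    induction s using Finset.induction_on with
    | empty =>
      exact ⟨j₀, 𝟙 j₀, ∅, Topology.IsConstructible.empty, Set.empty_subset _, by simp⟩
    | insert y s _ ih =>
      obtain ⟨m, ψ, V, hV, hVsub, hVcov⟩ := ih
      obtain ⟨k, a, b, hab⟩ := IsCofiltered.cospan ψ (φ y)
      refine ⟨k, a ≫ ψ, E.map a ⁻¹' V ∪ E.map b ⁻¹' W y,
        ((E.map a).isConstructible_preimage hV).union ((E.map b).isConstructible_preimage (hWc y)),
        ?_, ?_⟩
      · apply Set.union_subset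
        · exact (Set.preimage_mono hVsub).trans (preimage_cdLocus_stage j₀ f₁ a ψ)
        · rw [hab]
          exact (Set.preimage_mono (hWsub y)).trans (preimage_cdLocus_stage j₀ f₁ b (φ y))
      · intro y' hy'
        rw [Finset.mem_insert] at hy'
        rcases hy' with rfl | hy'
        · intro z hz
          refine Or.inr ?_
          change (E.map b) (e.π.app k z) ∈ W y'
          have : (E.map b) (e.π.app k z) = e.π.app (l y') z := by
            rw [← e.w b]; rfl
          rw [this]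
          exact hz
        · intro z hz
          refine Or.inl ?_
          change (E.map a) (e.π.app k z) ∈ V
          have : (E.map a) (e.π.app k z) = e.π.app m z := by
            rw [← e.w a]; rfl
          rw [this]
          exact hVcov y' hy' hz
  obtain ⟨m, ψ, V, hV, hVsub, hVcov⟩ := hfin t
  have hVuniv : e.π.app m ⁻¹' Vᶜ = ∅ := by
    rw [Set.preimage_compl, Set.compl_empty_iff]
    refine Set.eq_univ_of_forall fun z => ?_
    obtain ⟨y, hyt, hzy⟩ := ht z
    exact hVcov y hyt hzy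
  obtain ⟨n, θ, hn⟩ := exists_preimage_eq_empty_of_isGood E e he Vᶜ
    (IsGood.of_isConstructible hV.compl) hVuniv
  refine ⟨n, θ ≫ ψ, Set.eq_univ_of_forall fun z => ?_⟩
  apply preimage_cdLocus_stage j₀ f₁ θ ψ
  apply hVsub
  by_contra hz
  have : z ∈ E.map θ ⁻¹' Vᶜ := hz
  rw [hn] at this
  exact this

end limit


/-- Completely decomposed morphisms, as a morphism property. -/
def CD : MorphismProperty Scheme.{u} := fun X Y f =>
  ∀ y : Y, ∃ x : X, f x = y ∧ Function.Bijective (f.residueFieldMap x)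

lemma cd_iff {X Y : Scheme.{u}} (f : X ⟶ Y) : CD f ↔ cdLocus f = Set.univ :=
  ⟨fun h => Set.eq_univ_of_forall h, fun h y => (h ▸ Set.mem_univ y : y ∈ cdLocus f)⟩

instance : (CD.{u}).IsStableUnderBaseChange where
  of_isPullback {_ _ _ _ f g f' g'} sq h := by
    rw [cd_iff] at h ⊢
    refine Set.eq_univ_of_forall fun y => preimage_cdLocus_subset sq ?_
    change f y ∈ cdLocus g
    rw [h]
    exact Set.mem_univ _

instance : (CD.{u}).RespectsIso := MorphismProperty.IsStableUnderBaseChange.respectsIso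

section main

open Groth.Agent.Lib.Helper24.Lim8

variable {I : Type u} [SmallCategory I] [IsCofiltered I] (D : I ⥤ Scheme.{u}) (c : Cone D)
  (hc : IsLimit c) [∀ {i j} (f : i ⟶ j), IsAffineHom (D.map f)]

include hc in
theorem descends_cd (i₀ : I) {X₀ Y₀ : Scheme.{u}} (f₀ : X₀ ⟶ Y₀) (g₀ : Y₀ ⟶ D.obj i₀)
    [CompactSpace Y₀] [QuasiSeparatedSpace Y₀] [LocallyOfFinitePresentation f₀] :
    Descends D c CD i₀ f₀ g₀ := by
  refine Descends.of_absolute ?_
  haveI : ∀ j : Over i₀, CompactSpace ((pbDiagram D i₀ g₀).obj j) :=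
    fun j => compactSpace_pbDiagram_obj D i₀ g₀ j
  haveI : ∀ j : Over i₀, QuasiSeparatedSpace ((pbDiagram D i₀ g₀).obj j) :=
    fun j => quasiSeparatedSpace_pbDiagram_obj D i₀ g₀ j
  set f₁ := f₀ ≫ (pbDiagramBaseIso D i₀ g₀).inv with hf₁
  have key : ∀ {T : Scheme.{u}} (t : T ⟶ (pbDiagram D i₀ g₀).obj (Over.mk (𝟙 i₀))),
      CD (bcMap t f₁ (𝟙 _)) ↔ CD (pullback.fst t f₁) := fun t =>
    bcMap_iff_of_isPullback (P := CD) (IsPullback.id_vert t) (IsPullback.of_hasPullback t f₁).flip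
  intro hP
  have h1 := (cd_iff _).mp ((key _).mp hP)
  obtain ⟨l, φ, hl⟩ := exists_stage_cdLocus_eq_univ (isLimitPbCone D c hc i₀ g₀)
    (Over.mk (𝟙 i₀)) f₁ h1
  exact ⟨l, φ, (key _).mpr ((cd_iff _).mpr hl)⟩

end main

end Groth.Agent.Lib.Helper24.CDDescent
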