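import Mathlib.Topology.NoetherianSpace
import Mathlib.Topology.Connected.Clopen
import Mathlib.Topology.Irreducible

/-!
# Topological lemmas on connected / irreducible components and dominant maps (helper24)
-/

set_option autoImplicit false

open Set Topology

namespace Groth.Agent.Lib.Helper24.CompTop

variable {S T : Type*} [TopologicalSpace S] [TopologicalSpace T]

/-- In a Noetherian space every connected component is open. -/
lemma isOpen_connectedComponent_of_noetherianSpace [TopologicalSpace.NoetherianSpace S] (s : S) :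
    IsOpen (connectedComponent s) := by
  have hfin : (irreducibleComponents S).Finite :=
    TopologicalSpace.NoetherianSpace.finite_irreducibleComponents
  have : (connectedComponent s)ᶜ =
      ⋃ Z ∈ {Z ∈ irreducibleComponents S | ¬ Z ⊆ connectedComponent s}, Z := by
    ext x
    simp only [mem_compl_iff, mem_iUnion, exists_prop]
    constructor
    · intro hx
      have hx' : x ∈ ⋃₀ irreducibleComponents S := by
        rw [sUnion_irreducibleComponents]; exact mem_univ x
      obtain ⟨Z, hZ, hxZ⟩ := hx'
      exact ⟨Z, ⟨hZ, fun h ↦ hx (h hxZ)⟩, hxZ⟩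
    · rintro ⟨Z, ⟨hZ, hZC⟩, hxZ⟩ hxC
      apply hZC
      have h1 : Z ⊆ connectedComponent x :=
        hZ.1.isConnected.isPreconnected.subset_connectedComponent hxZ
      rwa [← connectedComponent_eq hxC] at h1
  rw [← isClosed_compl_iff, this]
  exact (hfin.subset (sep_subset _ _)).isClosed_biUnion fun Z hZ ↦
    isClosed_of_mem_irreducibleComponents Z hZ.1

/-- A Noetherian space has finitely many connected components. -/
lemma finite_range_connectedComponent [TopologicalSpace.NoetherianSpace S] :
    (range (connectedComponent : S → Set S)).Finite := by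
  obtain ⟨t, ht⟩ := CompactSpace.elim_nhds_subcover (connectedComponent : S → Set S)
    (fun x ↦ (isOpen_connectedComponent_of_noetherianSpace x).mem_nhds mem_connectedComponent)
  refine (t.finite_toSet.image connectedComponent).subset ?_
  rintro _ ⟨s, rfl⟩
  have hs : s ∈ ⋃ x ∈ t, connectedComponent x := by rw [ht]; exact mem_univ s
  simp only [mem_iUnion, exists_prop] at hs
  obtain ⟨x, hxt, hsx⟩ := hs
  exact ⟨x, hxt, (connectedComponent_eq hsx)⟩

/-- Bijection on connected components induced by a dominant map, given a compatible cover of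
the target by open sets whose preimages are the connected components of the source. -/
lemma bijOn_connectedComponents (f : S → T) (hf : Continuous f) (hd : DenseRange f)
    {ι : Type*} (A : ι → Set T) (C : ι → Set S) (hA : ∀ r, IsOpen (A r))
    (hcov : ⋃ r, A r = univ) (hC : ∀ r, f ⁻¹' A r = C r) (hCinj : Function.Injective C)
    (hCrange : range C = range (connectedComponent : S → Set S)) :
    BijOn (fun Y : Set S ↦ closure (f '' Y)) (range (connectedComponent : S → Set S))
      (range (connectedComponent : T → Set T)) := by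
  have hCmem : ∀ r, ∃ s, connectedComponent s = C r := fun r ↦ by
    have : C r ∈ range (connectedComponent : S → Set S) := hCrange ▸ mem_range_self r
    exact this
  have hCconn : ∀ r, IsConnected (C r) := by
    intro r
    obtain ⟨s, hs⟩ := hCmem r
    rw [← hs]; exact isConnected_connectedComponent
  have hAne : ∀ r, (A r).Nonempty := by
    intro r
    obtain ⟨s, hs⟩ := (hCconn r).nonempty
    rw [← hC r] at hs
    exact ⟨f s, hs⟩
  have hdisj : ∀ r r', r ≠ r' → A r ∩ A r' = ∅ := by
    intro r r' hrr'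
    by_contra hne
    obtain ⟨_, hy, ⟨s, rfl⟩⟩ := hd.inter_open_nonempty _ ((hA r).inter (hA r'))
      (nonempty_iff_ne_empty.mpr hne)
    have h1 : s ∈ C r := by rw [← hC r]; exact hy.1
    have h2 : s ∈ C r' := by rw [← hC r']; exact hy.2
    apply hrr'
    apply hCinj
    obtain ⟨a, ha⟩ := hCmem r
    obtain ⟨b, hb⟩ := hCmem r'
    rw [← ha] at h1; rw [← hb] at h2
    rw [← ha, ← hb, connectedComponent_eq h1, connectedComponent_eq h2]
  have hAclosed : ∀ r, IsClosed (A r) := by
    intro r
    have : (A r)ᶜ = ⋃ r' ∈ {r' | r' ≠ r}, A r' := by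
      ext t
      simp only [mem_compl_iff, mem_iUnion, exists_prop]
      constructor
      · intro ht
        have : t ∈ ⋃ r, A r := by rw [hcov]; exact mem_univ t
        obtain ⟨r', hr'⟩ := mem_iUnion.mp this
        exact ⟨r', fun e ↦ ht (e ▸ hr'), hr'⟩
      · rintro ⟨r', hr'r, htr'⟩ htr
        have := hdisj r' r hr'r
        exact (this ▸ (⟨htr', htr⟩ : t ∈ A r' ∩ A r) : t ∈ (∅ : Set T))
    rw [← isOpen_compl_iff, this]
    exact isOpen_biUnion fun r' _ ↦ hA r'
  have hcl : ∀ r, closure (f '' C r) = A r := by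
    intro r
    apply subset_antisymm
    · rw [(hAclosed r).closure_subset_iff]
      rintro _ ⟨s, hs, rfl⟩
      rw [← hC r] at hs
      exact hs
    · intro t ht
      rw [mem_closure_iff]
      intro W hW htW
      obtain ⟨_, hy, ⟨s, rfl⟩⟩ := hd.inter_open_nonempty _ (hW.inter (hA r)) ⟨t, htW, ht⟩
      exact ⟨f s, hy.1, s, by rw [← hC r]; exact hy.2, rfl⟩
  have hAconn : ∀ r, IsConnected (A r) := fun r ↦ by
    rw [← hcl r]
    exact ((hCconn r).image f hf.continuousOn).closure
  have hAcomp : ∀ r, ∀ t ∈ A r, connectedComponent t = A r := fun r t ht ↦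
    subset_antisymm (IsClopen.connectedComponent_subset ⟨hAclosed r, hA r⟩ ht)
      ((hAconn r).isPreconnected.subset_connectedComponent ht)
  refine ⟨?_, ?_, ?_⟩
  · rintro _ ⟨s, rfl⟩
    have : connectedComponent s ∈ range C := hCrange ▸ mem_range_self s
    obtain ⟨r, hr⟩ := this
    obtain ⟨t, ht⟩ := hAne r
    exact ⟨t, by simp only; rw [← hr, hcl r, hAcomp r t ht]⟩
  · rintro _ ⟨s, rfl⟩ _ ⟨s', rfl⟩ h
    have h1 : connectedComponent s ∈ range C := hCrange ▸ mem_range_self s
    have h2 : connectedComponent s' ∈ range C := hCrange ▸ mem_range_self s'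
    obtain ⟨r, hr⟩ := h1
    obtain ⟨r', hr'⟩ := h2
    simp only at h
    rw [← hr, ← hr', hcl r, hcl r'] at h
    by_cases e : r = r'
    · rw [← hr, ← hr', e]
    · exfalso
      have := hdisj r r' e
      rw [h, inter_self] at this
      exact (hAne r').ne_empty this
  · rintro _ ⟨t, rfl⟩
    have : t ∈ ⋃ r, A r := by rw [hcov]; exact mem_univ t
    obtain ⟨r, hr⟩ := mem_iUnion.mp this
    obtain ⟨s, hs⟩ := hCmem r
    exact ⟨C r, ⟨s, hs⟩, by simp only; rw [hcl r, hAcomp r t hr]⟩

/-- Bijection on irreducible components induced by a dominant map, given open subsets of the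
target whose preimages are the "generic parts" of the irreducible components of the source. -/
lemma bijOn_irreducibleComponents (f : S → T) (hf : Continuous f) (hd : DenseRange f)
    (hfin : (irreducibleComponents S).Finite)
    (A : irreducibleComponents S → Set T) (hA : ∀ Z, IsOpen (A Z))
    (hpre : ∀ Z : irreducibleComponents S,
      f ⁻¹' A Z = (⋃₀ (irreducibleComponents S \ {Z.1}))ᶜ) :
    BijOn (fun Y : Set S ↦ closure (f '' Y)) (irreducibleComponents S)
      (irreducibleComponents T) := by
  classical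
  have := hfin.fintype
  set U : irreducibleComponents S → Set S :=
    fun Z ↦ (⋃₀ (irreducibleComponents S \ {Z.1}))ᶜ with hU
  have hUcl : ∀ Z, closure (U Z) = Z.1 := fun Z ↦
    closure_sUnion_irreducibleComponents_sdiff_singleton hfin Z.1 Z.2
  have hUsub : ∀ Z, U Z ⊆ Z.1 := fun Z ↦ subset_closure.trans (hUcl Z).le
  have hUdisj : ∀ Z Z', (U Z ∩ U Z').Nonempty → Z = Z' := by
    rintro Z Z' ⟨x, hxZ, hxZ'⟩
    by_contra hne
    apply hxZ
    refine ⟨Z'.1, ⟨Z'.2, ?_⟩, hUsub Z' hxZ'⟩
    simp only [mem_singleton_iff]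
    exact fun e ↦ hne (Subtype.ext e.symm)
  set B : irreducibleComponents S → Set T := fun Z ↦ closure (f '' Z.1) with hB
  have hBU : ∀ Z, B Z = closure (f '' U Z) := fun Z ↦ by
    rw [hB]; simp only; rw [← hUcl Z, closure_image_closure hf]
  have hBirr : ∀ Z, IsIrreducible (B Z) := fun Z ↦ (Z.2.1.image f hf.continuousOn).closure
  have hAB : ∀ Z, A Z ⊆ B Z := by
    intro Z t ht
    rw [hBU, mem_closure_iff]
    intro W hW htW
    obtain ⟨_, hy, ⟨s, rfl⟩⟩ := hd.inter_open_nonempty _ (hW.inter (hA Z)) ⟨t, htW, ht⟩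
    exact ⟨f s, hy.1, s, by rw [hU]; simp only; rw [← hpre Z]; exact hy.2, rfl⟩
  have hUne : ∀ Z, (U Z).Nonempty := fun Z ↦ by
    rw [← closure_nonempty_iff, hUcl]; exact Z.2.1.nonempty
  have hAne : ∀ Z, (A Z).Nonempty := fun Z ↦ by
    obtain ⟨s, hs⟩ := hUne Z
    refine ⟨f s, ?_⟩
    have : s ∈ f ⁻¹' A Z := by rw [hpre Z]; exact hs
    exact this
  have hkey : ∀ Z Z', A Z ⊆ B Z' → Z = Z' := by
    intro Z Z' h
    obtain ⟨t, ht⟩ := hAne Z
    have h1 := h ht
    rw [hBU, mem_closure_iff] at h1
    obtain ⟨_, hy, ⟨s, hs, rfl⟩⟩ := h1 (A Z) (hA Z) ht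
    apply hUdisj
    refine ⟨s, ?_, hs⟩
    have : s ∈ f ⁻¹' A Z := hy
    rwa [hpre Z] at this
  have hcover : ⋃ Z, B Z = univ := by
    have hcl : IsClosed (⋃ Z, B Z) := isClosed_iUnion_of_finite fun Z ↦ isClosed_closure
    rw [← univ_subset_iff, ← hd.closure_range, hcl.closure_subset_iff]
    rintro _ ⟨s, rfl⟩
    have hx' : s ∈ ⋃₀ irreducibleComponents S := by
      rw [sUnion_irreducibleComponents]; exact mem_univ s
    obtain ⟨Z, hZ, hsZ⟩ := hx'
    exact mem_iUnion.mpr ⟨⟨Z, hZ⟩, subset_closure ⟨s, hsZ, rfl⟩⟩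
  have hsurj : ∀ W ∈ irreducibleComponents T, ∃ Z, W = B Z := by
    intro W hW
    obtain ⟨z, hz, hWz⟩ := isIrreducible_iff_sUnion_isClosed.1 hW.1 (Finset.univ.image B)
      (fun z hz ↦ by
        obtain ⟨Z, -, rfl⟩ := Finset.mem_image.mp hz
        exact isClosed_closure)
      (by
        rw [Finset.coe_image, Finset.coe_univ, image_univ, sUnion_range, hcover]
        exact subset_univ _)
    obtain ⟨Z, -, rfl⟩ := Finset.mem_image.mp hz
    exact ⟨Z, subset_antisymm hWz (hW.2 (hBirr Z) hWz)⟩
  refine ⟨?_, ?_, ?_⟩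
  · intro Y hY
    obtain ⟨W, hW, hBW⟩ := exists_mem_irreducibleComponents_subset_of_isIrreducible _
      (hBirr ⟨Y, hY⟩)
    obtain ⟨Z', rfl⟩ := hsurj W hW
    have := hkey ⟨Y, hY⟩ Z' ((hAB _).trans hBW)
    subst this
    exact hW
  · intro Y hY Y' hY' h
    have := hkey ⟨Y, hY⟩ ⟨Y', hY'⟩ ((hAB _).trans h.le)
    exact congrArg Subtype.val this
  · intro W hW
    obtain ⟨Z, rfl⟩ := hsurj W hW
    exact ⟨Z.1, Z.2, rfl⟩

/-- Bijection on irreducible components induced by an inducing map `f : S → T`, when `T` is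
covered by the closures of the images of the irreducible components of `S`. -/
lemma bijOn_irreducibleComponents_of_isInducing (f : S → T) (hf : IsInducing f)
    (hfin : (irreducibleComponents S).Finite)
    (hcover : ∀ t : T, ∃ Y ∈ irreducibleComponents S, t ∈ closure (f '' Y)) :
    BijOn (fun Y : Set S ↦ closure (f '' Y)) (irreducibleComponents S)
      (irreducibleComponents T) := by
  classical
  have := hfin.fintype
  set B : irreducibleComponents S → Set T := fun Z ↦ closure (f '' Z.1) with hB
  have hBirr : ∀ Z, IsIrreducible (B Z) := fun Z ↦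
    (Z.2.1.image f hf.continuous.continuousOn).closure
  have hpre : ∀ Z : irreducibleComponents S, f ⁻¹' B Z = Z.1 := fun Z ↦ by
    rw [hB]; simp only
    rw [← hf.closure_eq_preimage_closure_image,
      (isClosed_of_mem_irreducibleComponents Z.1 Z.2).closure_eq]
  have hkey : ∀ Z Z', B Z ⊆ B Z' → Z = Z' := by
    intro Z Z' h
    have h1 : Z.1 ⊆ Z'.1 := by
      rw [← hpre Z, ← hpre Z']; exact preimage_mono h
    exact Subtype.ext (subset_antisymm h1 (Z.2.2 Z'.2.1 h1))
  have hsurj : ∀ W ∈ irreducibleComponents T, ∃ Z, W = B Z := by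
    intro W hW
    obtain ⟨z, hz, hWz⟩ := isIrreducible_iff_sUnion_isClosed.1 hW.1 (Finset.univ.image B)
      (fun z hz ↦ by
        obtain ⟨Z, -, rfl⟩ := Finset.mem_image.mp hz
        exact isClosed_closure)
      (by
        intro t _
        obtain ⟨Y, hY, htY⟩ := hcover t
        rw [Finset.coe_image, Finset.coe_univ, image_univ, sUnion_range]
        exact mem_iUnion.mpr ⟨⟨Y, hY⟩, htY⟩)
    obtain ⟨Z, -, rfl⟩ := Finset.mem_image.mp hz
    exact ⟨Z, subset_antisymm hWz (hW.2 (hBirr Z) hWz)⟩
  refine ⟨?_, ?_, ?_⟩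
  · intro Y hY
    obtain ⟨W, hW, hBW⟩ := exists_mem_irreducibleComponents_subset_of_isIrreducible _
      (hBirr ⟨Y, hY⟩)
    obtain ⟨Z', rfl⟩ := hsurj W hW
    have := hkey ⟨Y, hY⟩ Z' hBW
    subst this
    exact hW
  · intro Y hY Y' hY' h
    have := hkey ⟨Y, hY⟩ ⟨Y', hY'⟩ h.le
    exact congrArg Subtype.val this
  · intro W hW
    obtain ⟨Z, rfl⟩ := hsurj W hW
    exact ⟨Z.1, Z.2, rfl⟩

/-- Bijection on connected components induced by a continuous map `f : S → T`, when the closures of
the images of the (finitely many) connected components of `S` are pairwise disjoint and cover `T`. -/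
lemma bijOn_connectedComponents_of_closure (f : S → T) (hf : Continuous f)
    (hfin : (range (connectedComponent : S → Set S)).Finite)
    (hcover : ∀ t : T, ∃ C ∈ range (connectedComponent : S → Set S), t ∈ closure (f '' C))
    (hdisj : ∀ C ∈ range (connectedComponent : S → Set S),
      ∀ C' ∈ range (connectedComponent : S → Set S), C ≠ C' →
        closure (f '' C) ∩ closure (f '' C') = ∅) :
    BijOn (fun Y : Set S ↦ closure (f '' Y)) (range (connectedComponent : S → Set S))
      (range (connectedComponent : T → Set T)) := by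
  have hconn : ∀ C ∈ range (connectedComponent : S → Set S), IsConnected (closure (f '' C)) := by
    rintro _ ⟨s, rfl⟩
    exact (isConnected_connectedComponent.image f hf.continuousOn).closure
  have hclopen : ∀ C ∈ range (connectedComponent : S → Set S), IsClopen (closure (f '' C)) := by
    intro C hC
    refine ⟨isClosed_closure, ?_⟩
    have : (closure (f '' C))ᶜ =
        ⋃ C' ∈ {C' ∈ range (connectedComponent : S → Set S) | C' ≠ C}, closure (f '' C') := by
      ext t
      simp only [mem_compl_iff, mem_iUnion, exists_prop]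
      constructor
      · intro ht
        obtain ⟨C', hC', htC'⟩ := hcover t
        exact ⟨C', ⟨hC', fun e ↦ ht (e ▸ htC')⟩, htC'⟩
      · rintro ⟨C', ⟨hC', hne⟩, htC'⟩ htC
        have := hdisj C' hC' C hC hne
        exact (this ▸ (⟨htC', htC⟩ : t ∈ closure (f '' C') ∩ closure (f '' C)) : t ∈ (∅ : Set T))
    rw [← isClosed_compl_iff, this]
    exact (hfin.subset (sep_subset _ _)).isClosed_biUnion fun _ _ ↦ isClosed_closure
  have hcomp : ∀ C ∈ range (connectedComponent : S → Set S), ∀ t ∈ closure (f '' C),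
      connectedComponent t = closure (f '' C) := fun C hC t ht ↦
    subset_antisymm ((hclopen C hC).connectedComponent_subset ht)
      ((hconn C hC).isPreconnected.subset_connectedComponent ht)
  refine ⟨?_, ?_, ?_⟩
  · intro C hC
    obtain ⟨t, ht⟩ := (hconn C hC).nonempty
    exact ⟨t, hcomp C hC t ht⟩
  · intro C hC C' hC' h
    by_contra hne
    have h1 := hdisj C hC C' hC' hne
    simp only at h
    rw [h, inter_self] at h1
    exact (hconn C' hC').nonempty.ne_empty h1
  · rintro _ ⟨t, rfl⟩
    obtain ⟨C, hC, htC⟩ := hcover t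
    exact ⟨C, hC, (hcomp C hC t htC).symm⟩

end Groth.Agent.Lib.Helper24.CompTop
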