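import Groth.Agent.S0434
import Groth.Agent.Lib.Helper24.ConsLocusSingle
import Groth.Agent.Lib.Helper24.GeomDescent

/-!
# Geometric reducedness of fibres as a locus theory (helper24)
-/

set_option autoImplicit false

universe u

open AlgebraicGeometry CategoryTheory Limits

namespace Groth.Agent.Lib.Helper24.ConsGeomReduced

open Groth.Agent.Lib.Helper24.ConsLocus

/-- The relation "geometrically reduced". -/
def PGR : ∀ ⦃Y T : Scheme.{u}⦄, (Y ⟶ T) → Prop := fun _ _ g ↦ GeometricallyReduced g

lemma isFieldStable_PGR : ConsProp.IsFieldStable PGR.{u} := by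
  intro Y Y' T T' g g' e h _ _ _ _ _ _ hsq
  constructor
  · intro hg
    exact MorphismProperty.of_isPullback (P := @GeometricallyReduced) hsq hg
  · intro hg'
    have hh : Surjective h := ⟨fun t ↦ by
      obtain ⟨t'⟩ := (inferInstance : Nonempty T')
      exact ⟨t', Subsingleton.elim _ _⟩⟩
    change GeometricallyReduced g' at hg'
    change GeometricallyReduced g
    rw [GeometricallyReduced.eq_geometrically] at hg' ⊢
    refine Groth.Agent.Lib.Helper24.geometrically_of_pullback_snd_of_surjective
      (fun a _ _ s p q hpb hW ↦ Groth.Agent.Lib.Helper24.isReduced_of_isPullback_field a s p q hpb hW)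
      g h ?_
    have e' : pullback.snd g h = hsq.isoPullback.inv ≫ g' := hsq.isoPullback_inv_snd.symm
    rw [e']
    exact (MorphismProperty.cancel_left_of_respectsIso _ _ _).2 hg'

/-- The locus theory of geometric reducedness of fibres. -/
noncomputable def theoryGR : LocusTheory.{u} := singleTheory PGR isFieldStable_PGR

lemma genInd_theoryGR : theoryGR.{u}.GenInd := by
  intro S _ _ d hη
  obtain ⟨V, hηV, hV⟩ := Groth.Agent.S0434.exists_open_forall_fibre d.u hη
  exact ⟨genericPoint S, mem_interior.mpr ⟨V, fun y hy ↦ hV y hy, V.isOpen, hηV⟩⟩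

end Groth.Agent.Lib.Helper24.ConsGeomReduced
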