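import Groth.Agent.Lib.Helper24.Lim8FPMain
import Groth.Agent.Lib.Helper24.Lim8ProC
import Groth.Agent.Lib.Helper24.DirColim
import Groth.Agent.Lib.Helper8.ConstrTop
import Groth.Agent.Lib.Helper17.ProCPreimage

/-!
# Constructible properties: loci of fibrewise properties are (ind-)constructible (helper24)

EGA IV 9.2.3 and 9.3.3 in an abstract form ("locus theories"): data of finite presentation over a
base, with base change, a fibrewise locus compatible with base change, and descent through limits.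
-/

set_option autoImplicit false

universe u

open CategoryTheory CategoryTheory.Limits AlgebraicGeometry Topology TopologicalSpace

namespace Groth.Agent.Lib.Helper24.ConsLocus

open Groth.Agent.Lib.Helper8.ConstrTop

section topology

variable {X : Type*} [TopologicalSpace X]

/-- A union of locally constructible sets ("globally ind-constructible"). -/
def IsUnionLC (E : Set X) : Prop :=
  ∃ 𝒮 : Set (Set X), (∀ T ∈ 𝒮, IsLocallyConstructible T) ∧ E = ⋃₀ 𝒮

lemma isUnionLC_of_noetherian [NoetherianSpace X] (E : Set X)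
    (h : ∀ x ∈ E, ∃ U : Set X, IsOpen U ∧ x ∈ U ∧ U ∩ closure {x} ⊆ E) : IsUnionLC E := by
  choose U hU hxU hUE using h
  refine ⟨{T | ∃ (x : X) (hx : x ∈ E), T = U x hx ∩ closure {x}}, ?_, ?_⟩
  · rintro _ ⟨x, hx, rfl⟩
    exact ((isConstructible_of_isOpen (hU x hx)).inter
      (isConstructible_of_isClosed isClosed_closure)).isLocallyConstructible
  · ext x
    simp only [Set.mem_sUnion, Set.mem_setOf_eq]
    constructor
    · intro hx
      exact ⟨_, ⟨x, hx, rfl⟩, hxU x hx, subset_closure (Set.mem_singleton x)⟩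
    · rintro ⟨_, ⟨y, hy, rfl⟩, hx⟩
      exact hUE y hy hx

lemma isConstructible_of_noetherian [NoetherianSpace X] (E : Set X)
    (h : ∀ Z : Set X, IsClosed Z → IsIrreducible Z →
      ∃ U : Set X, IsOpen U ∧ (U ∩ Z).Nonempty ∧ (U ∩ Z ⊆ E ∨ U ∩ Z ⊆ Eᶜ)) :
    IsConstructible E := by
  have := (constructible_of_locally_constant (fun x ↦ x ∈ E) (fun Z hZ hZ' ↦ by
    obtain ⟨U, hU, hne, hUZ⟩ := h Z hZ hZ'
    refine ⟨U, hU, hne, fun a ha b hb ↦ ?_⟩
    rcases hUZ with hUZ | hUZ
    · exact propext ⟨fun _ ↦ hUZ hb, fun _ ↦ hUZ ha⟩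
    · exact propext ⟨fun h ↦ absurd h (hUZ ha), fun h ↦ absurd h (hUZ hb)⟩)).1 True
  convert this using 1
  ext x
  simp

/-- Transfer "nonempty interior" along a closed embedding. -/
lemma exists_open_of_interior_preimage {Z' : Type*} [TopologicalSpace Z'] {ι : Z' → X}
    (hι : IsInducing ι) {E : Set X} (h : (interior (ι ⁻¹' E)).Nonempty) :
    ∃ U : Set X, IsOpen U ∧ (U ∩ Set.range ι).Nonempty ∧ U ∩ Set.range ι ⊆ E := by
  obtain ⟨z, hz⟩ := h
  obtain ⟨V, hVE, hV, hzV⟩ := mem_interior.mp hz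
  obtain ⟨U, hU, rfl⟩ := hι.isOpen_iff.mp hV
  refine ⟨U, hU, ⟨ι z, hzV, z, rfl⟩, ?_⟩
  rintro _ ⟨hxU, y, rfl⟩
  exact hVE hxU

end topology

section schemes

lemma IsUnionLC.preimage {X Y : Scheme.{u}} (f : X ⟶ Y) {E : Set Y} (h : IsUnionLC E) :
    IsUnionLC (f ⁻¹' E) := by
  obtain ⟨𝒮, h𝒮, rfl⟩ := h
  refine ⟨(fun T ↦ f ⁻¹' T) '' 𝒮, ?_, ?_⟩
  · rintro _ ⟨T, hT, rfl⟩
    exact Groth.Agent.Lib.Helper17.isLocallyConstructible_preimage f (h𝒮 T hT)
  · rw [Set.preimage_sUnion, Set.sUnion_image]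

lemma isIndConstructible_of_forall_isUnionLC {X : Scheme.{u}} (E : Set X)
    (h : ∀ x : X, ∃ U : X.Opens, x ∈ U ∧ IsUnionLC (U.ι ⁻¹' E)) :
    ProCons.IsIndConstructible E := by
  intro x
  obtain ⟨U, hxU, 𝒮, h𝒮, e⟩ := h x
  exact ⟨U, U.2, hxU, 𝒮, h𝒮, e⟩

/-- The reduced induced subscheme on a closed subset is reduced. -/
theorem isReduced_vanishingIdeal_subscheme {X : Scheme.{u}} (W : TopologicalSpace.Closeds X) :
    IsReduced (Scheme.IdealSheafData.vanishingIdeal W).subscheme := by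
  have : ∀ U, IsReduced ((Scheme.IdealSheafData.vanishingIdeal W).subschemeCover.openCover.X U) := by
    intro U
    change IsReduced (Spec (.of <| Γ(X, U.1) ⧸ (Scheme.IdealSheafData.vanishingIdeal W).ideal U))
    have : _root_.IsReduced (Γ(X, U.1) ⧸ (Scheme.IdealSheafData.vanishingIdeal W).ideal U) := by
      rw [← Ideal.isRadical_iff_quotient_reduced, Scheme.IdealSheafData.vanishingIdeal_ideal]
      exact PrimeSpectrum.isRadical_vanishingIdeal _
    infer_instance
  exact IsReduced.of_openCover _ (Scheme.IdealSheafData.vanishingIdeal W).subschemeCover.openCover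

/-- An irreducible closed subset of a Noetherian scheme underlies an integral Noetherian closed
subscheme. -/
lemma exists_integral_closed_subscheme (S : Scheme.{u}) [IsNoetherian S] (Z : Set S)
    (hZ : IsClosed Z) (hZ' : IsIrreducible Z) :
    ∃ (Z' : Scheme.{u}) (ι : Z' ⟶ S), IsClosedImmersion ι ∧ IsIntegral Z' ∧ IsNoetherian Z' ∧
      Set.range ι = Z := by
  let W : TopologicalSpace.Closeds S := ⟨Z, hZ⟩
  let ι := (Scheme.IdealSheafData.vanishingIdeal W).subschemeι
  have hr : Set.range ι = Z := by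
    rw [Scheme.IdealSheafData.range_subschemeι, Scheme.IdealSheafData.coe_support_vanishingIdeal]
    rfl
  have : IsReduced (Scheme.IdealSheafData.vanishingIdeal W).subscheme :=
    isReduced_vanishingIdeal_subscheme W
  have : IrreducibleSpace (Scheme.IdealSheafData.vanishingIdeal W).subscheme := by
    have h1 : IrreducibleSpace ↥(Set.range ι) := by
      rw [hr]
      exact Subtype.irreducibleSpace hZ'
    exact ι.isEmbedding.toHomeomorph.irreducibleSpace_iff.mpr h1
  have : IsLocallyNoetherian (Scheme.IdealSheafData.vanishingIdeal W).subscheme :=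
    LocallyOfFiniteType.isLocallyNoetherian ι
  have : CompactSpace (Scheme.IdealSheafData.vanishingIdeal W).subscheme :=
    ι.isClosedEmbedding.compactSpace
  exact ⟨_, ι, inferInstance, isIntegral_of_irreducibleSpace_of_isReduced _, ⟨⟩, hr⟩

end schemes

section fgZ

/-- The directed set of finitely generated `ℤ`-subalgebras of a ring. -/
abbrev FGSubZ (B : CommRingCat.{u}) := {S : Subalgebra ℤ B // S.FG}

instance (B : CommRingCat.{u}) : IsDirected (FGSubZ B) (· ≤ ·) :=
  ⟨fun S T ↦ ⟨⟨S.1 ⊔ T.1, S.2.sup T.2⟩, (le_sup_left : S.1 ≤ S.1 ⊔ T.1),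
    (le_sup_right : T.1 ≤ S.1 ⊔ T.1)⟩⟩

instance (B : CommRingCat.{u}) : Nonempty (FGSubZ B) := ⟨⟨⊥, Subalgebra.fg_bot⟩⟩

/-- The diagram of finitely generated `ℤ`-subalgebras. -/
noncomputable def fgSubZDiagram (B : CommRingCat.{u}) : FGSubZ B ⥤ CommRingCat.{u} where
  obj S := CommRingCat.of S.1
  map {S T} h := CommRingCat.ofHom (Subalgebra.inclusion (show S.1 ≤ T.1 from leOfHom h)).toRingHom
  map_id _ := rfl
  map_comp _ _ := rfl

/-- The cocone of inclusions. -/
noncomputable def fgSubZCocone (B : CommRingCat.{u}) : Cocone (fgSubZDiagram B) where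
  pt := B
  ι :=
    { app S := CommRingCat.ofHom S.1.val.toRingHom
      naturality _ _ _ := rfl }

/-- A ring is the colimit of its finitely generated `ℤ`-subalgebras. -/
noncomputable def isColimitFgSubZCocone (B : CommRingCat.{u}) : IsColimit (fgSubZCocone B) := by
  refine DirColim.isColimitCommRingCat _ _ ?_ ?_
  · intro (x : B)
    have hfg : (Algebra.adjoin ℤ {x} : Subalgebra ℤ B).FG := by
      have := Subalgebra.fg_adjoin_finset (R := ℤ) ({x} : Finset B)
      rwa [Finset.coe_singleton] at this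
    exact ⟨⟨Algebra.adjoin ℤ {x}, hfg⟩,
      (⟨x, Algebra.subset_adjoin (Set.mem_singleton x)⟩ : Algebra.adjoin ℤ {x}), rfl⟩
  · intro S y hy
    refine ⟨S, 𝟙 S, ?_⟩
    obtain ⟨y, hyS⟩ : S.1 := y
    have : y = 0 := hy
    rw [(fgSubZDiagram B).map_id]
    exact Subtype.ext this

instance (B : CommRingCat.{u}) (S : FGSubZ B) : IsNoetherianRing ((fgSubZDiagram B).obj S) := by
  have : Algebra.FiniteType ℤ S.1 := (Subalgebra.fg_iff_finiteType S.1).mp S.2
  exact Algebra.FiniteType.isNoetherianRing ℤ S.1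

end fgZ

lemma locus_eq_aux {S S₁ S₀ : Scheme.{u}} (e : S ≅ S₁) (π : S₁ ⟶ S₀) (E : Set S) (E₁ : Set S₁)
    (E₀ : Set S₀) (h1 : E₁ = e.inv ⁻¹' E) (h2 : E₁ = π ⁻¹' E₀) : E = (e.hom ≫ π) ⁻¹' E₀ := by
  ext x
  have h3 : x ∈ E ↔ e.hom x ∈ E₁ := by
    rw [h1]
    change x ∈ E ↔ e.inv (e.hom x) ∈ E
    rw [← Scheme.Hom.comp_apply, Iso.hom_inv_id]
    rfl
  rw [h3, h2]
  rfl

/-- A "locus theory": data over schemes, a base change relation, and a fibrewise locus compatible
with base change; data over a limit descend to a stage. -/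
structure LocusTheory where
  Dat : Scheme.{u} → Type (u + 1)
  IsBC : ∀ {S' S : Scheme.{u}}, (S' ⟶ S) → Dat S' → Dat S → Prop
  locus : ∀ {S : Scheme.{u}}, Dat S → Set S
  locus_bc : ∀ {S' S : Scheme.{u}} (h : S' ⟶ S) (d' : Dat S') (d : Dat S), IsBC h d' d →
    locus d' = h ⁻¹' locus d
  exists_bc : ∀ {S' S : Scheme.{u}} (h : S' ⟶ S) (d : Dat S), ∃ d' : Dat S', IsBC h d' d
  descend : ∀ {I : Type u} [SmallCategory I] [IsCofiltered I] (D : I ⥤ Scheme.{u}) (c : Cone D),
    IsLimit c → (∀ {i j : I} (f : i ⟶ j), IsAffineHom (D.map f)) → (∀ i, CompactSpace (D.obj i)) →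
    (∀ i, QuasiSeparatedSpace (D.obj i)) → ∀ (d : Dat c.pt),
    ∃ (i : I) (di : Dat (D.obj i)), IsBC (c.π.app i) d di

namespace LocusTheory

variable (T : LocusTheory.{u})

/-- The constructible generic condition. -/
def GenCons : Prop :=
  ∀ (S : Scheme.{u}) [IsIntegral S] [IsNoetherian S] (d : T.Dat S),
    (interior (T.locus d)).Nonempty ∨ (interior (T.locus d)ᶜ).Nonempty

/-- The ind-constructible generic condition. -/
def GenInd : Prop :=
  ∀ (S : Scheme.{u}) [IsIntegral S] [IsNoetherian S] (d : T.Dat S),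
    genericPoint S ∈ T.locus d → (interior (T.locus d)).Nonempty

variable {T}

lemma isConstructible_locus_of_isNoetherian (hT : T.GenCons) {S : Scheme.{u}} [IsNoetherian S]
    (d : T.Dat S) : IsConstructible (T.locus d) := by
  refine isConstructible_of_noetherian _ fun Z hZ hZ' ↦ ?_
  obtain ⟨Z', ι, hι, hint, hnoeth, rfl⟩ := exists_integral_closed_subscheme S Z hZ hZ'
  obtain ⟨d', hd'⟩ := T.exists_bc ι d
  have e := T.locus_bc ι d' d hd'
  rcases hT Z' d' with h | h
  · rw [e] at h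
    obtain ⟨U, hU, hne, hUE⟩ := exists_open_of_interior_preimage ι.isEmbedding.isInducing h
    exact ⟨U, hU, hne, Or.inl hUE⟩
  · rw [e, ← Set.preimage_compl] at h
    obtain ⟨U, hU, hne, hUE⟩ := exists_open_of_interior_preimage ι.isEmbedding.isInducing h
    exact ⟨U, hU, hne, Or.inr hUE⟩

lemma isUnionLC_locus_of_isNoetherian (hT : T.GenInd) {S : Scheme.{u}} [IsNoetherian S]
    (d : T.Dat S) : IsUnionLC (T.locus d) := by
  refine isUnionLC_of_noetherian _ fun x hx ↦ ?_
  obtain ⟨Z', ι, hι, hint, hnoeth, hr⟩ := exists_integral_closed_subscheme S (closure {x})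
    isClosed_closure isIrreducible_singleton.closure
  obtain ⟨d', hd'⟩ := T.exists_bc ι d
  have e := T.locus_bc ι d' d hd'
  have hgen : ι (genericPoint Z') = x := by
    have h1 : IsGenericPoint (ι (genericPoint Z')) (closure (ι '' Set.univ)) :=
      (genericPoint_spec Z').image ι.continuous
    rw [Set.image_univ, hr, closure_closure] at h1
    exact h1.eq isGenericPoint_closure
  have h2 : genericPoint Z' ∈ T.locus d' := by
    rw [e]
    change ι (genericPoint Z') ∈ T.locus d
    rw [hgen]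
    exact hx
  have h3 := hT Z' d' h2
  rw [e] at h3
  obtain ⟨U, hU, ⟨y, hyU, hyZ⟩, hUE⟩ :=
    exists_open_of_interior_preimage ι.isEmbedding.isInducing h3
  rw [hr] at hyZ hUE
  refine ⟨U, hU, ?_, hUE⟩
  exact (specializes_iff_mem_closure.mpr hyZ).mem_open hU hyU

section affine

variable {S : Scheme.{u}} [IsAffine S] (d : T.Dat S)

/-- Approximation of an affine base by spectra of finitely generated `ℤ`-algebras. -/
lemma exists_noetherian_approx :
    ∃ (S₀ : Scheme.{u}) (_ : IsNoetherian S₀) (p : S ⟶ S₀) (d₀ : T.Dat S₀),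
      T.locus d = p ⁻¹' T.locus d₀ := by
  let B : CommRingCat.{u} := Γ(S, ⊤)
  let D : (FGSubZ B)ᵒᵖ ⥤ Scheme.{u} := (fgSubZDiagram B).op ⋙ Scheme.Spec
  let c : Cone D := Scheme.Spec.mapCone (fgSubZCocone B).op
  have hc : IsLimit c := isLimitOfPreserves Scheme.Spec (isColimitFgSubZCocone B).op
  have hD : ∀ {i k : (FGSubZ B)ᵒᵖ} (h : i ⟶ k), IsAffineHom (D.map h) := fun h ↦ by
    dsimp [D]; infer_instance
  have hD1 : ∀ i, CompactSpace (D.obj i) := fun i ↦ by dsimp [D]; infer_instance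
  have hD2 : ∀ i, QuasiSeparatedSpace (D.obj i) := fun i ↦ by dsimp [D]; infer_instance
  obtain ⟨d₁, hd₁⟩ := T.exists_bc (S.isoSpec.inv : c.pt ⟶ S) d
  obtain ⟨i, di, hdi⟩ := T.descend D c hc hD hD1 hD2 d₁
  have e₁ := T.locus_bc _ _ _ hd₁
  have e₂ := T.locus_bc _ _ _ hdi
  have hnoeth : IsNoetherian (D.obj i) := by
    change IsNoetherian (Spec ((fgSubZDiagram B).obj i.unop))
    infer_instance
  refine ⟨D.obj i, hnoeth, S.isoSpec.hom ≫ c.π.app i, di, ?_⟩
  exact locus_eq_aux S.isoSpec (c.π.app i) _ _ _ e₁ e₂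

lemma isLocallyConstructible_locus_of_isAffine (hT : T.GenCons) :
    IsLocallyConstructible (T.locus d) := by
  obtain ⟨S₀, _, p, d₀, e⟩ := exists_noetherian_approx d
  rw [e]
  exact Groth.Agent.Lib.Helper17.isLocallyConstructible_preimage p
    (isConstructible_locus_of_isNoetherian hT d₀).isLocallyConstructible

lemma isUnionLC_locus_of_isAffine (hT : T.GenInd) : IsUnionLC (T.locus d) := by
  obtain ⟨S₀, _, p, d₀, e⟩ := exists_noetherian_approx d
  rw [e]
  exact (isUnionLC_locus_of_isNoetherian hT d₀).preimage p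

end affine

/-- **EGA IV 9.2.3, constructible case.** -/
theorem isLocallyConstructible_locus (hT : T.GenCons) {S : Scheme.{u}} (d : T.Dat S) :
    IsLocallyConstructible (T.locus d) := by
  refine IsLocallyConstructible.of_isOpenCover (U := fun U : S.affineOpens ↦ U.1)
    (iSup_affineOpens_eq_top S) fun U ↦ ?_
  obtain ⟨d', hd'⟩ := T.exists_bc U.1.ι d
  have e := T.locus_bc _ _ _ hd'
  have : IsAffine U.1.toScheme := U.2
  have := isLocallyConstructible_locus_of_isAffine d' hT
  rw [e] at this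
  exact this

/-- **EGA IV 9.2.3, ind-constructible case.** -/
theorem isIndConstructible_locus (hT : T.GenInd) {S : Scheme.{u}} (d : T.Dat S) :
    ProCons.IsIndConstructible (T.locus d) := by
  refine isIndConstructible_of_forall_isUnionLC _ fun x ↦ ?_
  obtain ⟨_, ⟨U, hU : IsAffineOpen U, rfl⟩, hxU, -⟩ :=
    S.isBasis_affineOpens.exists_subset_of_mem_open (Set.mem_univ x) isOpen_univ
  refine ⟨U, hxU, ?_⟩
  obtain ⟨d', hd'⟩ := T.exists_bc (Scheme.Opens.ι U) d
  have e := T.locus_bc _ _ _ hd'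
  have : IsAffine (Scheme.Opens.toScheme U) := hU
  have := isUnionLC_locus_of_isAffine d' hT
  rw [e] at this
  exact this

/-- **EGA IV 9.3.3.** An ind-constructible property holding on all fibres over a limit holds on all
fibres over some stage. -/
theorem exists_stage_locus_eq_univ (hT : T.GenInd) {I : Type u} [SmallCategory I]
    [IsCofiltered I] (D : I ⥤ Scheme.{u}) (c : Cone D) (hc : IsLimit c)
    [∀ {i j : I} (f : i ⟶ j), IsAffineHom (D.map f)] (i₀ : I) [CompactSpace (D.obj i₀)]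
    (d₀ : T.Dat (D.obj i₀)) (d : T.Dat c.pt) (hd : T.IsBC (c.π.app i₀) d d₀)
    (h : T.locus d = Set.univ) :
    ∃ (j : I) (φ : j ⟶ i₀) (dj : T.Dat (D.obj j)), T.IsBC (D.map φ) dj d₀ ∧
      T.locus dj = Set.univ := by
  have e := T.locus_bc _ _ _ hd
  have hpro : ProCons.IsProConstructible (T.locus d₀)ᶜ :=
    Groth.Agent.Lib.Helper17.isProConstructible_compl_of_isIndConstructible
      (isIndConstructible_locus hT d₀)
  obtain ⟨j, φ, hj⟩ := Lim8.exists_preimage_eq_empty_of_isProConstructible D c hc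
    (T.locus d₀)ᶜ hpro (by rw [Set.preimage_compl, ← e, h, Set.compl_univ])
  obtain ⟨dj, hdj⟩ := T.exists_bc (D.map φ) d₀
  refine ⟨j, φ, dj, hdj, ?_⟩
  rw [T.locus_bc _ _ _ hdj]
  rw [Set.preimage_compl, Set.compl_empty_iff] at hj
  exact hj

end LocusTheory

end Groth.Agent.Lib.Helper24.ConsLocus
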