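import Groth.Agent.Lib.Helper24.ConsLocusPair
import Groth.Prelude.Def_EGA4Misc

/-!
# Locus theory for morphisms between schemes of finite presentation (helper24)
-/

set_option autoImplicit false

universe u

open CategoryTheory CategoryTheory.Limits AlgebraicGeometry Topology TopologicalSpace

namespace Groth.Agent.Lib.Helper24.ConsLocus

/-- A morphism between two schemes of finite presentation over `S`. -/
structure MorDat (S : Scheme.{u}) where
  X : Scheme.{u}
  Y : Scheme.{u}
  f : X ⟶ Y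
  g : Y ⟶ S
  lfp_g : LocallyOfFinitePresentation g
  qc_g : QuasiCompact g
  qs_g : QuasiSeparated g
  lfp_fg : LocallyOfFinitePresentation (f ≫ g)
  qc_fg : QuasiCompact (f ≫ g)
  qs_fg : QuasiSeparated (f ≫ g)

attribute [instance] MorDat.lfp_g MorDat.qc_g MorDat.qs_g MorDat.lfp_fg MorDat.qc_fg
  MorDat.qs_fg

section fiberMap

variable {X Y S : Scheme.{u}} (f : X ⟶ Y) (g : Y ⟶ S) (s : S)

@[reassoc]
lemma fiberMap_fiberToSpecResidueField :
    MoreMor.fiberMap f g s ≫ g.fiberToSpecResidueField s = (f ≫ g).fiberToSpecResidueField s :=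
  pullback.lift_snd _ _ _

@[reassoc]
lemma fiberMap_fiberι :
    MoreMor.fiberMap f g s ≫ g.fiberι s = (f ≫ g).fiberι s ≫ f :=
  pullback.lift_fst _ _ _

instance [LocallyOfFiniteType (f ≫ g)] :
    LocallyOfFiniteType (MoreMor.fiberMap f g s ≫ g.fiberToSpecResidueField s) := by
  rw [fiberMap_fiberToSpecResidueField]
  infer_instance

instance [QuasiCompact (f ≫ g)] :
    QuasiCompact (MoreMor.fiberMap f g s ≫ g.fiberToSpecResidueField s) := by
  rw [fiberMap_fiberToSpecResidueField]
  infer_instance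

end fiberMap

/-- The morphisms of fibres of a base change are the base changes of the morphisms of fibres. -/
lemma exists_isPullback_fiberMap {S' S X Y X' Y' : Scheme.{u}} {h : S' ⟶ S} {f : X ⟶ Y}
    {g : Y ⟶ S} {f' : X' ⟶ Y'} {g' : Y' ⟶ S'} {eX : X' ⟶ X} {eY : Y' ⟶ Y}
    (hY : IsPullback eY g' g h) (hX : IsPullback eX f' f eY) (s' : S') :
    ∃ (eYs : g'.fiber s' ⟶ g.fiber (h s')) (eXs : (f' ≫ g').fiber s' ⟶ (f ≫ g).fiber (h s')),
      IsPullback eYs (g'.fiberToSpecResidueField s') (g.fiberToSpecResidueField (h s'))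
        (Spec.map (h.residueFieldMap s')) ∧
      IsPullback eXs (MoreMor.fiberMap f' g' s') (MoreMor.fiberMap f g (h s')) eYs := by
  obtain ⟨eYs, sqY, hYs⟩ := exists_isPullback_fiber hY s'
  obtain ⟨eXs, sqX, hXs⟩ := exists_isPullback_fiber (hX.paste_vert hY) s'
  refine ⟨eYs, eXs, sqY, ?_⟩
  refine IsPullback.of_bot ?_ ?_ sqY
  · rw [fiberMap_fiberToSpecResidueField, fiberMap_fiberToSpecResidueField]
    exact sqX
  · apply pullback.hom_ext
    · change (eXs ≫ MoreMor.fiberMap f g (h s')) ≫ g.fiberι (h s') =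
        (MoreMor.fiberMap f' g' s' ≫ eYs) ≫ g.fiberι (h s')
      rw [Category.assoc, Category.assoc, fiberMap_fiberι, reassoc_of% hXs, hYs,
        fiberMap_fiberι_assoc, hX.w]
    · change (eXs ≫ MoreMor.fiberMap f g (h s')) ≫ g.fiberToSpecResidueField (h s') =
        (MoreMor.fiberMap f' g' s' ≫ eYs) ≫ g.fiberToSpecResidueField (h s')
      rw [Category.assoc, Category.assoc, fiberMap_fiberToSpecResidueField, sqX.w, sqY.w,
        fiberMap_fiberToSpecResidueField_assoc]

lemma locusMor_bc {P : ∀ ⦃X Y T : Scheme.{u}⦄, (X ⟶ Y) → (Y ⟶ T) → Prop}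
    (hP : ConsProp.IsFieldStableMor P) {S' S X Y X' Y' : Scheme.{u}} (h : S' ⟶ S) {f : X ⟶ Y}
    {g : Y ⟶ S} {f' : X' ⟶ Y'} {g' : Y' ⟶ S'} {eX : X' ⟶ X} {eY : Y' ⟶ Y}
    [LocallyOfFiniteType g] [QuasiCompact g] [LocallyOfFiniteType (f ≫ g)] [QuasiCompact (f ≫ g)]
    (hY : IsPullback eY g' g h) (hX : IsPullback eX f' f eY) :
    ConsProp.locusMor P f' g' = h ⁻¹' ConsProp.locusMor P f g := by
  ext s'
  obtain ⟨eYs, eXs, sq₁, sq₂⟩ := exists_isPullback_fiberMap hY hX s'
  exact (hP _ _ _ _ _ _ _ sq₁ sq₂).symm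

/-- The locus theory of a field-stable relation on morphisms of schemes. -/
noncomputable def morTheory (P : ∀ ⦃X Y T : Scheme.{u}⦄, (X ⟶ Y) → (Y ⟶ T) → Prop)
    (hP : ConsProp.IsFieldStableMor P) : LocusTheory.{u} where
  Dat := MorDat
  IsBC h d' d := ∃ (eY : d'.Y ⟶ d.Y) (eX : d'.X ⟶ d.X),
    IsPullback eY d'.g d.g h ∧ IsPullback eX d'.f d.f eY
  locus d := ConsProp.locusMor P d.f d.g
  locus_bc h d' d := by
    rintro ⟨eY, eX, hY, hX⟩
    exact locusMor_bc hP h hY hX
  exists_bc h d := by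
    have sqY := IsPullback.of_hasPullback d.g h
    have sqX := IsPullback.of_hasPullback d.f (pullback.fst d.g h)
    have sqXY := sqX.paste_vert sqY
    exact ⟨⟨pullback d.f (pullback.fst d.g h), pullback d.g h, pullback.snd _ _, pullback.snd _ _,
      inferInstance, inferInstance, inferInstance,
      MorphismProperty.of_isPullback (P := @LocallyOfFinitePresentation) sqXY inferInstance,
      MorphismProperty.of_isPullback (P := @QuasiCompact) sqXY inferInstance,
      MorphismProperty.of_isPullback (P := @QuasiSeparated) sqXY inferInstance⟩,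
      pullback.fst _ _, pullback.fst _ _, sqY, sqX⟩
  descend D c hc hD hD1 hD2 d := by
    haveI : ∀ {i j : _} (f : i ⟶ j), IsAffineHom (D.map f) := hD
    haveI := hD1
    haveI := hD2
    obtain ⟨l₁, MX, hMX⟩ := Lim8.Model.exists_isFP hc (d.f ≫ d.g)
    obtain ⟨l₂, MY, hMY⟩ := Lim8.Model.exists_isFP hc d.g
    have hX' := hMX.rebase (IsCofiltered.minToLeft l₁ l₂)
    have hY' := hMY.rebase (IsCofiltered.minToRight l₁ l₂)
    have := hX'.compact
    have := hX'.qs
    have := hY'.lfp
    obtain ⟨l, φ, ⟨H⟩⟩ := Lim8.HomModel.exists_stage hc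
      (MX.rebase (IsCofiltered.minToLeft l₁ l₂)) (MY.rebase (IsCofiltered.minToRight l₁ l₂))
      d.f rfl
    have hX'' := hX'.rebase φ
    have hY'' := hY'.rebase φ
    have := hX''.compact
    have := hX''.qs
    have := hX''.lfp
    have := hY''.compact
    have := hY''.qs
    have e := H.hi_fi
    exact ⟨l, ⟨_, _, H.hi, ((MY.rebase (IsCofiltered.minToRight l₁ l₂)).rebase φ).fi, hY''.lfp,
      inferInstance, inferInstance, by rw [e]; infer_instance, by rw [e]; infer_instance,
      by rw [e]; infer_instance⟩,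
      ((MY.rebase (IsCofiltered.minToRight l₁ l₂)).rebase φ).g,
      ((MX.rebase (IsCofiltered.minToLeft l₁ l₂)).rebase φ).g,
      ((MY.rebase (IsCofiltered.minToRight l₁ l₂)).rebase φ).sq, H.isPullback rfl⟩

end Groth.Agent.Lib.Helper24.ConsLocus
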