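import Groth.Agent.Lib.Helper24.ConsLocus
import Groth.Prelude.Def_W4ega4s0809p4Pair

/-!
# Locus theory for pairs of schemes of finite presentation (helper24)
-/

set_option autoImplicit false

universe u

open CategoryTheory CategoryTheory.Limits AlgebraicGeometry Topology TopologicalSpace

namespace Groth.Agent.Lib.Helper24.ConsLocus

/-- Two schemes of finite presentation over `S`. -/
structure PairDat (S : Scheme.{u}) where
  X : Scheme.{u}
  Y : Scheme.{u}
  u : X ⟶ S
  v : Y ⟶ S
  lfp_u : LocallyOfFinitePresentation u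
  qc_u : QuasiCompact u
  qs_u : QuasiSeparated u
  lfp_v : LocallyOfFinitePresentation v
  qc_v : QuasiCompact v
  qs_v : QuasiSeparated v

attribute [instance] PairDat.lfp_u PairDat.qc_u PairDat.qs_u PairDat.lfp_v PairDat.qc_v
  PairDat.qs_v

instance (K : Type u) [Field K] : Subsingleton ↥(Spec (CommRingCat.of K)) :=
  inferInstanceAs (Subsingleton (PrimeSpectrum K))

set_option backward.isDefEq.respectTransparency false in
/-- The fibres of a base change are the base changes of the fibres. -/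
lemma exists_isPullback_fiber {P X Y Z : Scheme.{u}} {fst : P ⟶ X} {snd : P ⟶ Y} {f : X ⟶ Z}
    {g : Y ⟶ Z} (h : IsPullback fst snd f g) (y : Y) :
    ∃ e : snd.fiber y ⟶ f.fiber (g y),
      IsPullback e (snd.fiberToSpecResidueField y) (f.fiberToSpecResidueField (g y))
        (Spec.map (g.residueFieldMap y)) ∧ e ≫ f.fiberι (g y) = snd.fiberι y ≫ fst :=
  ⟨_, isPullback_fiberToSpecResidueField_of_isPullback h y, by
    simp [Scheme.Hom.fiberι, Scheme.Hom.fiber]⟩

instance {X S : Scheme.{u}} (u : X ⟶ S) [LocallyOfFiniteType u] (s : S) :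
    LocallyOfFiniteType (u.fiberToSpecResidueField s) :=
  inferInstanceAs (LocallyOfFiniteType (pullback.snd u _))

instance {X S : Scheme.{u}} (u : X ⟶ S) [QuasiCompact u] (s : S) :
    QuasiCompact (u.fiberToSpecResidueField s) :=
  inferInstanceAs (QuasiCompact (pullback.snd u _))

lemma locusPair_bc {P : ∀ ⦃X Y T : Scheme.{u}⦄, (X ⟶ T) → (Y ⟶ T) → Prop}
    (hP : ConsPropPair.IsFieldStablePair P) {S' S X Y X' Y' : Scheme.{u}} (h : S' ⟶ S)
    {u : X ⟶ S} {v : Y ⟶ S} {u' : X' ⟶ S'} {v' : Y' ⟶ S'} {eX : X' ⟶ X} {eY : Y' ⟶ Y}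
    [LocallyOfFiniteType u] [QuasiCompact u] [LocallyOfFiniteType v] [QuasiCompact v]
    (hX : IsPullback eX u' u h) (hY : IsPullback eY v' v h) :
    ConsPropPair.locusPair P u' v' = h ⁻¹' ConsPropPair.locusPair P u v := by
  ext s'
  obtain ⟨e₁, sq₁, -⟩ := exists_isPullback_fiber hX s'
  obtain ⟨e₂, sq₂, -⟩ := exists_isPullback_fiber hY s'
  exact (hP _ _ _ _ _ _ _ sq₁ sq₂).symm

/-- The locus theory of a field-stable relation on pairs of schemes. -/
noncomputable def pairTheory (P : ∀ ⦃X Y T : Scheme.{u}⦄, (X ⟶ T) → (Y ⟶ T) → Prop)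
    (hP : ConsPropPair.IsFieldStablePair P) : LocusTheory.{u} where
  Dat := PairDat
  IsBC h d' d := ∃ (eX : d'.X ⟶ d.X) (eY : d'.Y ⟶ d.Y),
    IsPullback eX d'.u d.u h ∧ IsPullback eY d'.v d.v h
  locus d := ConsPropPair.locusPair P d.u d.v
  locus_bc h d' d := by
    rintro ⟨eX, eY, hX, hY⟩
    exact locusPair_bc hP h hX hY
  exists_bc h d :=
    ⟨⟨pullback d.u h, pullback d.v h, pullback.snd _ _, pullback.snd _ _, inferInstance,
      inferInstance, inferInstance, inferInstance, inferInstance, inferInstance⟩,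
      pullback.fst _ _, pullback.fst _ _, IsPullback.of_hasPullback _ _,
      IsPullback.of_hasPullback _ _⟩
  descend D c hc hD hD1 hD2 d := by
    haveI : ∀ {i j : _} (f : i ⟶ j), IsAffineHom (D.map f) := hD
    haveI := hD1
    haveI := hD2
    obtain ⟨l₁, MX, hMX⟩ := Lim8.Model.exists_isFP hc d.u
    obtain ⟨l₂, MY, hMY⟩ := Lim8.Model.exists_isFP hc d.v
    have hX' := hMX.rebase (IsCofiltered.minToLeft l₁ l₂)
    have hY' := hMY.rebase (IsCofiltered.minToRight l₁ l₂)
    have := hX'.compact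
    have := hX'.qs
    have := hY'.compact
    have := hY'.qs
    exact ⟨IsCofiltered.min l₁ l₂,
      ⟨_, _, (MX.rebase (IsCofiltered.minToLeft l₁ l₂)).fi,
        (MY.rebase (IsCofiltered.minToRight l₁ l₂)).fi, hX'.lfp, inferInstance, inferInstance,
        hY'.lfp, inferInstance, inferInstance⟩,
      (MX.rebase (IsCofiltered.minToLeft l₁ l₂)).g, (MY.rebase (IsCofiltered.minToRight l₁ l₂)).g,
      (MX.rebase (IsCofiltered.minToLeft l₁ l₂)).sq, (MY.rebase (IsCofiltered.minToRight l₁ l₂)).sq⟩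

end Groth.Agent.Lib.Helper24.ConsLocus
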