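import Mathlib.AlgebraicGeometry.AffineTransitionLimit
import Mathlib.AlgebraicGeometry.PullbackCarrier
import Mathlib.AlgebraicGeometry.ResidueField
import Mathlib.Topology.Constructible
import Mathlib.AlgebraicGeometry.Morphisms.Separated
import Mathlib.AlgebraicGeometry.Morphisms.FinitePresentation

/-!
# Cofiltered limits of schemes with affine transition maps: base change of the diagram (helper24)
-/

set_option autoImplicit false

open CategoryTheory CategoryTheory.Limits AlgebraicGeometry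

universe u

namespace Groth.Agent.Lib.Helper24.Lim8

variable {I : Type u} [Category.{u} I] (D : I ⥤ Scheme.{u}) (c : Cone D) (hc : IsLimit c)

set_option backward.isDefEq.respectTransparency false in
/-- The base change of the diagram `D` (restricted to `Over i`) along `g : T ⟶ D.obj i`. -/
@[simps] noncomputable
def pbDiagram (i : I) {T : Scheme.{u}} (g : T ⟶ D.obj i) : Over i ⥤ Scheme.{u} where
  obj j := pullback (D.map j.hom) g
  map {j k} f := pullback.map (D.map j.hom) g (D.map k.hom) g (D.map f.left) (𝟙 _) (𝟙 _)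
    (by rw [Category.comp_id, ← D.map_comp, Over.w f]) (by simp)
  map_id j := by
    apply pullback.hom_ext <;> simp [pullback.map]
  map_comp f g := by
    apply pullback.hom_ext <;> simp [pullback.map]

set_option backward.isDefEq.respectTransparency false in
/-- The projection from the base-changed diagram to the original one. -/
@[simps] noncomputable
def pbDiagramι (i : I) {T : Scheme.{u}} (g : T ⟶ D.obj i) :
    pbDiagram D i g ⟶ Over.forget _ ⋙ D where
  app j := pullback.fst _ _
  naturality j k f := by simp [pullback.map]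

set_option backward.isDefEq.respectTransparency false in
/-- The cone over the base-changed diagram with point `c.pt ×[D.obj i] T`. -/
@[simps] noncomputable
def pbCone (i : I) {T : Scheme.{u}} (g : T ⟶ D.obj i) : Cone (pbDiagram D i g) where
  pt := pullback (c.π.app i) g
  π :=
  { app j := pullback.map (c.π.app i) g (D.map j.hom) g (c.π.app j.left) (𝟙 _) (𝟙 _)
      (by rw [Category.comp_id, c.w]) (by simp)
    naturality j k f := by
      apply pullback.hom_ext <;> simp [pullback.map] }

attribute [local instance] CategoryTheory.isConnected_of_hasTerminal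

set_option backward.isDefEq.respectTransparency false in
lemma isPullback_pbDiagram_map (i : I) {T : Scheme.{u}} (g : T ⟶ D.obj i) {j k : Over i}
    (f : j ⟶ k) :
    IsPullback ((pbDiagram D i g).map f) (pullback.fst _ _) (pullback.fst _ _) (D.map f.left) := by
  refine IsPullback.of_right ?_ (by simp [pullback.map])
    (IsPullback.of_hasPullback (D.map k.hom) g).flip
  have h1 : D.map f.left ≫ D.map k.hom = D.map j.hom := by rw [← D.map_comp, Over.w f]
  have h2 : (pbDiagram D i g).map f ≫ pullback.snd (D.map k.hom) g =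
      pullback.snd (D.map j.hom) g := by
    simp [pullback.map]
  rw [h1, h2]
  exact (IsPullback.of_hasPullback (D.map j.hom) g).flip

set_option backward.isDefEq.respectTransparency false in
lemma isPullback_pbCone_π (i : I) {T : Scheme.{u}} (g : T ⟶ D.obj i) (j : Over i) :
    IsPullback ((pbCone D c i g).π.app j) (pullback.fst _ _) (pullback.fst _ _)
      (c.π.app j.left) := by
  refine IsPullback.of_right ?_ (by simp [pullback.map])
    (IsPullback.of_hasPullback (D.map j.hom) g).flip
  have h1 : c.π.app j.left ≫ D.map j.hom = c.π.app i := c.w j.hom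
  have h2 : (pbCone D c i g).π.app j ≫ pullback.snd (D.map j.hom) g =
      pullback.snd (c.π.app i) g := by
    simp [pullback.map]
  rw [h1, h2]
  exact (IsPullback.of_hasPullback (c.π.app i) g).flip

set_option backward.isDefEq.respectTransparency false in
/-- The base change of a limit cone is a limit cone of the base-changed diagram. -/
noncomputable
def isLimitPbCone [IsCofiltered I] (i : I) {T : Scheme.{u}} (g : T ⟶ D.obj i) :
    IsLimit (pbCone D c i g) :=
  isLimitOfIsPullbackOfIsConnected (pbDiagramι D i g) _ _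
    (by exact { hom := pullback.fst _ _ })
    (fun j ↦ isPullback_pbCone_π D c i g j)
    ((Functor.Initial.isLimitWhiskerEquiv (Over.forget i) c).symm hc)

instance [∀ {i j} (f : i ⟶ j), IsAffineHom (D.map f)] (i : I) {T : Scheme.{u}} (g : T ⟶ D.obj i)
    {j k : Over i} (f : j ⟶ k) : IsAffineHom ((pbDiagram D i g).map f) :=
  MorphismProperty.of_isPullback (isPullback_pbDiagram_map D i g f).flip inferInstance

set_option backward.isDefEq.respectTransparency false in
include hc in
/-- A point of `D.obj i` lying in the image of every transition map `D.obj j ⟶ D.obj i` lies in the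
image of the projection from the limit (EGA IV 8.3.8 (i), Stacks 0CUF). -/
lemma exists_π_app_eq [IsCofiltered I] [∀ {i j} (f : i ⟶ j), IsAffineHom (D.map f)] {i : I}
    (x : D.obj i) (hx : ∀ (j : I) (φ : j ⟶ i), x ∈ Set.range (D.map φ)) :
    ∃ s : c.pt, c.π.app i s = x := by
  let g := (D.obj i).fromSpecResidueField x
  have hg : ∀ t, g t = x := fun t ↦ Scheme.fromSpecResidueField_apply _ _
  have (j : Over i) : IsAffine ((pbDiagram D i g).obj j) :=
    have : IsAffineHom (pullback.snd (D.map j.hom) g) :=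
      MorphismProperty.pullback_snd _ _ inferInstance
    isAffine_of_isAffineHom (pullback.snd (D.map j.hom) g)
  have (j : Over i) : Nonempty ((pbDiagram D i g).obj j) := by
    obtain ⟨y, hy⟩ := hx j.left j.hom
    obtain ⟨z, -, -⟩ := Scheme.Pullback.exists_preimage_pullback (f := D.map j.hom) (g := g) y
      (Nonempty.some inferInstance) (by rw [hy, hg])
    exact ⟨z⟩
  have : Nonempty (pbCone D c i g).pt :=
    Scheme.nonempty_of_isLimit _ _ (isLimitPbCone D c hc i g)
  obtain ⟨z⟩ := this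
  refine ⟨pullback.fst (c.π.app i) g z, ?_⟩
  rw [← Scheme.Hom.comp_apply, pullback.condition, Scheme.Hom.comp_apply, hg]

set_option backward.isDefEq.respectTransparency false in
include hc in
/-- If a quasi-compact open `V ⊆ D.obj i` meets the image of every transition map
`D.obj j ⟶ D.obj i`, then it meets the image of the projection from the limit. -/
lemma exists_π_app_mem_of_isCompact [IsCofiltered I] [∀ {i j} (f : i ⟶ j), IsAffineHom (D.map f)]
    {i : I} (V : (D.obj i).Opens) (hV : IsCompact (V : Set (D.obj i)))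
    (h : ∀ (j : I) (φ : j ⟶ i), ∃ y, D.map φ y ∈ V) :
    ∃ s : c.pt, c.π.app i s ∈ V := by
  have (j : Over i) : CompactSpace ↥((opensDiagram D i V).obj j) :=
    isCompact_iff_compactSpace.mp (QuasiCompact.isCompact_preimage (f := (D.map j.hom)) _ V.2 hV)
  have (j : Over i) : Nonempty ↥((opensDiagram D i V).obj j) := by
    obtain ⟨y, hy⟩ := h j.left j.hom
    exact ⟨⟨y, hy⟩⟩
  have : Nonempty (opensCone D c i V).pt :=
    Scheme.nonempty_of_isLimit _ _ (isLimitOpensCone D c hc i V)
  obtain ⟨⟨s, hs⟩⟩ := this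
  exact ⟨s, hs⟩

section Good

/-- "Good" sets: finite unions of sets of the form (quasi-compact open) ∩ closed. In a
quasi-compact space every constructible set is good (even when the space is not quasi-separated). -/
inductive IsGood {X : Type*} [TopologicalSpace X] : Set X → Prop
  | base (U Z : Set X) : IsOpen U → IsCompact U → IsClosed Z → IsGood (U ∩ Z)
  | union (A B : Set X) : IsGood A → IsGood B → IsGood (A ∪ B)

variable {X Y : Type*} [TopologicalSpace X] [TopologicalSpace Y]

lemma IsGood.empty : IsGood (∅ : Set X) := by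
  simpa using IsGood.base (∅ : Set X) Set.univ isOpen_empty isCompact_empty isClosed_univ

lemma IsGood.of_isCompact_isOpen {U : Set X} (hU : IsCompact U) (hU' : IsOpen U) : IsGood U := by
  simpa using IsGood.base U Set.univ hU' hU isClosed_univ

lemma IsGood.inter_isClosed {A Z : Set X} (hA : IsGood A) (hZ : IsClosed Z) : IsGood (A ∩ Z) := by
  induction hA with
  | base U Z' hU hU' hZ' =>
    rw [Set.inter_assoc]
    exact .base _ _ hU hU' (hZ'.inter hZ)
  | union A B _ _ ihA ihB =>
    rw [Set.union_inter_distrib_right]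
    exact .union _ _ ihA ihB

lemma IsGood.inter_isRetrocompact {A V : Set X} (hA : IsGood A) (hV : IsOpen V)
    (hV' : IsRetrocompact V) : IsGood (A ∩ V) := by
  induction hA with
  | base U Z hU hU' hZ =>
    rw [Set.inter_right_comm]
    exact .base _ _ (hU.inter hV) (by rw [Set.inter_comm]; exact hV' hU' hU) hZ
  | union A B _ _ ihA ihB =>
    rw [Set.union_inter_distrib_right]
    exact .union _ _ ihA ihB

lemma IsGood.sdiff_isConstructible {A E : Set X} (hA : IsGood A)
    (hE : Topology.IsConstructible E) : IsGood (A \ E) := by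
  induction E, hE using BooleanSubalgebra.closure_sdiff_sup_induction generalizing A with
  | isSublattice =>
    exact ⟨fun s hs t ht ↦ ⟨hs.1.union ht.1, hs.2.union ht.2⟩,
      fun s hs t ht ↦ ⟨hs.1.inter ht.1, hs.2.inter_isOpen ht.2 ht.1⟩⟩
  | bot_mem => exact ⟨isOpen_empty, .empty⟩
  | top_mem => exact ⟨isOpen_univ, .univ⟩
  | sdiff U hU V hV =>
    have : A \ (U \ V) = (A ∩ Uᶜ) ∪ (A ∩ V) := by
      ext x; simp only [Set.mem_sdiff, Set.mem_union, Set.mem_inter_iff, Set.mem_compl_iff]; tauto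
    rw [this]
    exact .union _ _ (hA.inter_isClosed hU.1.isClosed_compl) (hA.inter_isRetrocompact hV.1 hV.2)
  | sup s _ t _ hs' ht' =>
    have : A \ (s ⊔ t) = (A \ s) \ t := by
      ext x; simp only [Set.sup_eq_union, Set.mem_sdiff, Set.mem_union]; tauto
    rw [this]
    exact ht' (hs' hA)

lemma IsGood.of_isConstructible [CompactSpace X] {E : Set X} (hE : Topology.IsConstructible E) :
    IsGood E := by
  have := (IsGood.of_isCompact_isOpen (X := X) isCompact_univ isOpen_univ).sdiff_isConstructible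
    hE.compl
  simpa using this

lemma IsGood.isCompact {A : Set X} (hA : IsGood A) : IsCompact A := by
  induction hA with
  | base U Z hU hU' hZ => exact hU'.inter_right hZ
  | union A B _ _ ihA ihB => exact ihA.union ihB

lemma IsGood.preimage {f : X → Y} (hf : Continuous f)
    (hf' : ∀ U : Set Y, IsOpen U → IsCompact U → IsCompact (f ⁻¹' U)) {A : Set Y} (hA : IsGood A) :
    IsGood (f ⁻¹' A) := by
  induction hA with
  | base U Z hU hU' hZ =>
    rw [Set.preimage_inter]
    exact .base _ _ (hU.preimage hf) (hf' U hU hU') (hZ.preimage hf)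
  | union A B _ _ ihA ihB =>
    rw [Set.preimage_union]
    exact .union _ _ ihA ihB

end Good

lemma IsGood.preimage_hom {X Y : Scheme.{u}} (f : X ⟶ Y) [QuasiCompact f] {A : Set Y}
    (hA : IsGood A) : IsGood (f ⁻¹' A) :=
  hA.preimage f.continuous fun U hU hU' ↦ QuasiCompact.isCompact_preimage (f := f) U hU hU'

set_option backward.isDefEq.respectTransparency false in
include hc in
/-- If `U ∩ Z` (`U` quasi-compact open, `Z` closed in `D.obj i`) meets the image of every
transition map into `D.obj i`, it meets the image of the projection from the limit. -/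
lemma exists_π_app_mem_inter [IsCofiltered I] [∀ {i j} (f : i ⟶ j), IsAffineHom (D.map f)]
    {i : I} (U : (D.obj i).Opens) (hU : IsCompact (U : Set (D.obj i))) (Z : Set (D.obj i))
    (hZ : IsClosed Z) (h : ∀ (j : I) (φ : j ⟶ i), ∃ y, D.map φ y ∈ (U : Set (D.obj i)) ∩ Z) :
    ∃ s : c.pt, c.π.app i s ∈ (U : Set (D.obj i)) ∩ Z := by
  have hcpt (j : Over i) : CompactSpace ↥((opensDiagram D i U).obj j) :=
    isCompact_iff_compactSpace.mp (QuasiCompact.isCompact_preimage (f := (D.map j.hom)) _ U.2 hU)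
  have hcl (j : Over i) : IsClosed (((opensDiagramι D i U).app j ≫ D.map j.hom) ⁻¹' Z) :=
    hZ.preimage ((opensDiagramι D i U).app j ≫ D.map j.hom).continuous
  obtain ⟨s, hs⟩ := exists_mem_of_isClosed_of_nonempty (opensDiagram D i U) _
    (isLimitOpensCone D c hc i U)
    (fun j ↦ ((opensDiagramι D i U).app j ≫ D.map j.hom) ⁻¹' Z)
    hcl
    (fun j ↦ by
      obtain ⟨y, hyU, hyZ⟩ := h j.left j.hom
      exact ⟨⟨y, hyU⟩, hyZ⟩)
    (fun j ↦ (hcl j).isCompact)
    (fun {j k} f x hx ↦ by
      simp only [Set.mem_preimage] at hx ⊢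
      rw [← Scheme.Hom.comp_apply]
      have h1 : (opensDiagram D i U).map f ≫ (opensDiagramι D i U).app k ≫ D.map k.hom =
          (opensDiagramι D i U).app j ≫ D.map j.hom := by
        rw [← Category.assoc, (opensDiagramι D i U).naturality f, Category.assoc]
        congr 1
        simp only [Functor.comp_map, Over.forget_map]
        rw [← D.map_comp, Over.w f]
      rw [h1]
      exact hx)
  have h2 := hs (Over.mk (𝟙 i))
  simp only [Set.mem_preimage] at h2
  rw [← Scheme.Hom.comp_apply] at h2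
  have h3 : (opensCone D c i U).π.app (Over.mk (𝟙 i)) ≫
      (opensDiagramι D i U).app (Over.mk (𝟙 i)) ≫ D.map (Over.mk (𝟙 i)).hom =
      (c.π.app i ⁻¹ᵁ U).ι ≫ c.π.app i := by
    simp
  rw [h3] at h2
  exact ⟨(c.π.app i ⁻¹ᵁ U).ι s, s.2, h2⟩

include hc in
/-- If the preimage in the limit of a good subset `E` of `D.obj i` is empty, then so is the
preimage of `E` in some `D.obj j`. -/
lemma exists_preimage_eq_empty_of_isGood [IsCofiltered I]
    [∀ {i j} (f : i ⟶ j), IsAffineHom (D.map f)]
    {i : I} (E : Set (D.obj i)) (hE : IsGood E) (h : c.π.app i ⁻¹' E = ∅) :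
    ∃ (j : I) (φ : j ⟶ i), D.map φ ⁻¹' E = ∅ := by
  induction hE with
  | base U Z hU hU' hZ =>
    by_contra! H
    obtain ⟨s, hs⟩ := exists_π_app_mem_inter D c hc ⟨U, hU⟩ hU' Z hZ (fun j φ ↦ by
      obtain ⟨y, hy⟩ := (H j φ)
      exact ⟨y, hy⟩)
    exact (h ▸ (show s ∈ c.π.app i ⁻¹' (U ∩ Z) from hs) : s ∈ (∅ : Set c.pt))
  | union A B _ _ ihA ihB =>
    rw [Set.preimage_union, Set.union_empty_iff] at h
    obtain ⟨j₁, φ₁, h₁⟩ := ihA h.1
    obtain ⟨j₂, φ₂, h₂⟩ := ihB h.2
    obtain ⟨k, a, b, e⟩ := IsCofiltered.cospan φ₁ φ₂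
    refine ⟨k, a ≫ φ₁, ?_⟩
    rw [Set.preimage_union, Set.union_empty_iff]
    constructor
    · rw [D.map_comp, Scheme.Hom.comp_base, TopCat.coe_comp, Set.preimage_comp, h₁,
        Set.preimage_empty]
    · rw [e, D.map_comp, Scheme.Hom.comp_base, TopCat.coe_comp, Set.preimage_comp, h₂,
        Set.preimage_empty]

include hc in
/-- `A` good, `E` constructible in `D.obj i`: an inclusion of preimages in the limit already holds
at some stage. -/
lemma exists_preimage_subset_of_isGood [IsCofiltered I]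
    [∀ {i j} (f : i ⟶ j), IsAffineHom (D.map f)]
    {i : I} (A E : Set (D.obj i)) (hA : IsGood A) (hE : Topology.IsConstructible E)
    (h : c.π.app i ⁻¹' A ⊆ c.π.app i ⁻¹' E) :
    ∃ (j : I) (φ : j ⟶ i), D.map φ ⁻¹' A ⊆ D.map φ ⁻¹' E := by
  obtain ⟨j, φ, hj⟩ := exists_preimage_eq_empty_of_isGood D c hc (A \ E)
    (hA.sdiff_isConstructible hE) (by
      rw [Set.preimage_sdiff, Set.sdiff_eq_empty]; exact h)
  refine ⟨j, φ, ?_⟩
  rwa [Set.preimage_sdiff, Set.sdiff_eq_empty] at hj

include hc in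
/-- `A` constructible, `Z` closed in a quasi-compact `D.obj i`. -/
lemma exists_preimage_subset_compl_of_isClosed [IsCofiltered I]
    [∀ {i j} (f : i ⟶ j), IsAffineHom (D.map f)]
    {i : I} (A Z : Set (D.obj i)) (hA : IsGood A) (hZ : IsClosed Z)
    (h : c.π.app i ⁻¹' A ⊆ (c.π.app i ⁻¹' Z)ᶜ) :
    ∃ (j : I) (φ : j ⟶ i), D.map φ ⁻¹' A ⊆ (D.map φ ⁻¹' Z)ᶜ := by
  obtain ⟨j, φ, hj⟩ := exists_preimage_eq_empty_of_isGood D c hc (A ∩ Z)
    (hA.inter_isClosed hZ) (by
      rw [Set.preimage_inter, ← Set.disjoint_iff_inter_eq_empty]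
      exact Set.subset_compl_iff_disjoint_right.mp h)
  refine ⟨j, φ, ?_⟩
  rw [Set.preimage_inter, ← Set.disjoint_iff_inter_eq_empty] at hj
  exact Set.subset_compl_iff_disjoint_right.mpr hj

/-- Pulling an inclusion of preimages further back. -/
lemma preimage_subset_of_comp {i j k : I} (φ : j ⟶ i) (ψ : k ⟶ j) {A B : Set (D.obj i)}
    (h : D.map φ ⁻¹' A ⊆ D.map φ ⁻¹' B) : D.map (ψ ≫ φ) ⁻¹' A ⊆ D.map (ψ ≫ φ) ⁻¹' B := by
  rw [D.map_comp, Scheme.Hom.comp_base, TopCat.coe_comp, Set.preimage_comp, Set.preimage_comp]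
  exact Set.preimage_mono h

lemma preimage_map_comp {i j k : I} (φ : j ⟶ i) (ψ : k ⟶ j) (A : Set (D.obj i)) :
    D.map (ψ ≫ φ) ⁻¹' A = D.map ψ ⁻¹' (D.map φ ⁻¹' A) := by
  rw [D.map_comp, Scheme.Hom.comp_base, TopCat.coe_comp, Set.preimage_comp]

lemma preimage_π_map {i j : I} (φ : j ⟶ i) (A : Set (D.obj i)) :
    c.π.app j ⁻¹' (D.map φ ⁻¹' A) = c.π.app i ⁻¹' A := by
  rw [← c.w φ, Scheme.Hom.comp_base, TopCat.coe_comp, Set.preimage_comp]

include hc in
/-- Two constructible subsets of a quasi-compact stage with the same preimage in the limit have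
the same preimage at some stage. -/
lemma exists_preimage_eq_of_isConstructible [IsCofiltered I]
    [∀ {i j} (f : i ⟶ j), IsAffineHom (D.map f)]
    {i : I} [CompactSpace (D.obj i)] (E₁ E₂ : Set (D.obj i)) (h₁ : Topology.IsConstructible E₁)
    (h₂ : Topology.IsConstructible E₂) (h : c.π.app i ⁻¹' E₁ = c.π.app i ⁻¹' E₂) :
    ∃ (j : I) (φ : j ⟶ i), D.map φ ⁻¹' E₁ = D.map φ ⁻¹' E₂ := by
  obtain ⟨j₁, φ₁, e₁⟩ := exists_preimage_subset_of_isGood D c hc E₁ E₂ (.of_isConstructible h₁) h₂
    h.le
  obtain ⟨j₂, φ₂, e₂⟩ := exists_preimage_subset_of_isGood D c hc E₂ E₁ (.of_isConstructible h₂) h₁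
    h.ge
  obtain ⟨k, a, b, e⟩ := IsCofiltered.cospan φ₁ φ₂
  refine ⟨k, a ≫ φ₁, subset_antisymm (preimage_subset_of_comp D _ _ e₁) ?_⟩
  rw [e]
  exact preimage_subset_of_comp D _ _ e₂

lemma compactSpace_of_hom [∀ {i j} (f : i ⟶ j), IsAffineHom (D.map f)] {i j : I} (φ : j ⟶ i)
    [CompactSpace (D.obj i)] : CompactSpace (D.obj j) :=
  QuasiCompact.compactSpace_of_compactSpace (D.map φ)

lemma quasiSeparatedSpace_of_hom [∀ {i j} (f : i ⟶ j), IsAffineHom (D.map f)] {i j : I}
    (φ : j ⟶ i) [QuasiSeparatedSpace (D.obj i)] : QuasiSeparatedSpace (D.obj j) :=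
  quasiSeparatedSpace_of_quasiSeparated (D.map φ)

include hc in
lemma compactSpace_pt [IsCofiltered I] [∀ {i j} (f : i ⟶ j), IsAffineHom (D.map f)] (i : I)
    [CompactSpace (D.obj i)] : CompactSpace c.pt :=
  have := isAffineHom_π_app D c hc i
  QuasiCompact.compactSpace_of_compactSpace (c.π.app i)

include hc in
lemma quasiSeparatedSpace_pt [IsCofiltered I] [∀ {i j} (f : i ⟶ j), IsAffineHom (D.map f)] (i : I)
    [QuasiSeparatedSpace (D.obj i)] : QuasiSeparatedSpace c.pt :=
  have := isAffineHom_π_app D c hc i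
  quasiSeparatedSpace_of_quasiSeparated (c.π.app i)

include hc in
/-- A quasi-compact open of the limit descends to a quasi-compact open of a stage over `i₀`. -/
lemma exists_preimage_eq_over [IsCofiltered I] [∀ {i j} (f : i ⟶ j), IsAffineHom (D.map f)]
    (i₀ : I) (U : c.pt.Opens) (hU : IsCompact (U : Set c.pt)) :
    ∃ (i : I) (_ : i ⟶ i₀) (V : (D.obj i).Opens),
      IsCompact (V : Set (D.obj i)) ∧ c.π.app i ⁻¹ᵁ V = U := by
  obtain ⟨k, V, hV, e⟩ := exists_preimage_eq D c hc U hU
  obtain ⟨l, a, b, -⟩ := IsCofilteredOrEmpty.cone_objs k i₀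
  refine ⟨l, b, D.map a ⁻¹ᵁ V, QuasiCompact.isCompact_preimage (f := D.map a) _ V.2 hV, ?_⟩
  rw [← e, ← Scheme.Hom.comp_preimage, c.w]

include hc in
/-- If all transition maps into `D.obj i` are dominant, so is the projection from the limit. -/
lemma isDominant_π_app [IsCofiltered I] [∀ {i j} (f : i ⟶ j), IsAffineHom (D.map f)] (i : I)
    (h : ∀ (j : I) (φ : j ⟶ i), IsDominant (D.map φ)) : IsDominant (c.π.app i) := by
  refine ⟨?_⟩
  rw [DenseRange, dense_iff_inter_open]
  intro U hU hne
  obtain ⟨x, hx⟩ := hne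
  obtain ⟨_, ⟨V, hV : IsAffineOpen V, rfl⟩, hxV, hVU⟩ :=
    (D.obj i).isBasis_affineOpens.exists_subset_of_mem_open hx hU
  obtain ⟨s, hs⟩ := exists_π_app_mem_of_isCompact D c hc V
    hV.isCompact (fun j φ ↦ by
      have hd := (h j φ).denseRange
      obtain ⟨_, hy, ⟨y, rfl⟩⟩ := hd.inter_open_nonempty V V.2 ⟨x, hxV⟩
      exact ⟨y, hy⟩)
  exact ⟨_, hVU hs, s, rfl⟩

include hc in
/-- If the limit is empty and `D.obj i` is quasi-compact, some stage over `i` is empty. -/
lemma exists_isEmpty_of_isEmpty [IsCofiltered I] [∀ {i j} (f : i ⟶ j), IsAffineHom (D.map f)]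
    (i : I) [CompactSpace (D.obj i)] [IsEmpty c.pt] : ∃ (j : I) (_ : j ⟶ i), IsEmpty (D.obj j) := by
  obtain ⟨j, φ, hj⟩ := exists_preimage_eq_empty_of_isGood D c hc
    (Set.univ : Set (D.obj i)) (.of_isCompact_isOpen isCompact_univ isOpen_univ)
    (Set.eq_empty_of_forall_notMem fun x _ ↦ IsEmpty.false (α := c.pt) x)
  refine ⟨j, φ, ⟨fun x ↦ ?_⟩⟩
  have : x ∈ D.map φ ⁻¹' (Set.univ : Set (D.obj i)) := Set.mem_univ _
  rw [hj] at this
  exact this

lemma irreducibleSpace_of_denseRange {α β : Type*} [TopologicalSpace α] [TopologicalSpace β]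
    [IrreducibleSpace α] {f : α → β} (hf : DenseRange f) (hc : Continuous f) :
    IrreducibleSpace β := by
  rw [irreducibleSpace_def]
  have h1 : IsIrreducible (Set.range f) := by
    rw [← Set.image_univ]
    exact (IrreducibleSpace.isIrreducible_univ α).image f hc.continuousOn
  have := h1.closure
  rwa [hf.closure_range] at this

include hc in
/-- A good set `A` and a constructible set `E` of a quasi-compact stage with the same preimage in
the limit have the same preimage at some stage. -/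
lemma exists_preimage_eq_of_isGood_of_isConstructible [IsCofiltered I]
    [∀ {i j} (f : i ⟶ j), IsAffineHom (D.map f)]
    {i : I} [CompactSpace (D.obj i)] (A E : Set (D.obj i)) (hA : IsGood A) (hA' : IsOpen A)
    (hE : Topology.IsConstructible E) (h : c.π.app i ⁻¹' A = c.π.app i ⁻¹' E) :
    ∃ (j : I) (φ : j ⟶ i), D.map φ ⁻¹' A = D.map φ ⁻¹' E := by
  obtain ⟨j, φ, hj⟩ := exists_preimage_eq_empty_of_isGood D c hc ((A \ E) ∪ (E ∩ Aᶜ))
    (.union _ _ (hA.sdiff_isConstructible hE)
      ((IsGood.of_isConstructible hE).inter_isClosed hA'.isClosed_compl)) (by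
      rw [Set.preimage_union, Set.preimage_sdiff, Set.preimage_inter, Set.preimage_compl, h]
      simp)
  refine ⟨j, φ, ?_⟩
  rw [Set.preimage_union, Set.preimage_sdiff, Set.preimage_inter, Set.preimage_compl,
    Set.union_empty_iff, Set.sdiff_eq_empty, ← Set.sdiff_eq, Set.sdiff_eq_empty] at hj
  exact subset_antisymm hj.1 hj.2

lemma IsGood.inter_isConstructible {X : Type*} [TopologicalSpace X] {A E : Set X} (hA : IsGood A)
    (hE : Topology.IsConstructible E) : IsGood (A ∩ E) := by
  have := hA.sdiff_isConstructible hE.compl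
  rwa [Set.sdiff_eq, compl_compl] at this

/-- In a quasi-compact scheme, a locally closed constructible set is the difference of two
quasi-compact opens. -/
lemma exists_isCompact_isOpen_sdiff_eq {X : Scheme.{u}} [CompactSpace X] (Z : Set X)
    (hZ : Topology.IsConstructible Z) (hZ' : IsLocallyClosed Z) :
    ∃ O T : X.Opens, IsCompact (O : Set X) ∧ IsCompact (T : Set X) ∧ Z = (O : Set X) \ T := by
  have hZc : IsCompact Z := (IsGood.of_isConstructible hZ).isCompact
  obtain ⟨O, C, hO, hC, rfl⟩ := hZ'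
  have key : ∀ x ∈ O ∩ C, ∃ V : X.Opens, IsAffineOpen V ∧ x ∈ V ∧ (V : Set X) ⊆ O := by
    intro x hx
    obtain ⟨_, ⟨V, hV : IsAffineOpen V, rfl⟩, hxV, hVO⟩ :=
      X.isBasis_affineOpens.exists_subset_of_mem_open hx.1 hO
    exact ⟨V, hV, hxV, hVO⟩
  classical
  let V : X → X.Opens := fun x ↦ if hx : x ∈ O ∩ C then (key x hx).choose else ⊥
  have hV : ∀ x, IsCompact (V x : Set X) := by
    intro x
    by_cases hx : x ∈ O ∩ C
    · simp only [V, hx, dif_pos]; exact (key x hx).choose_spec.1.isCompact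
    · simp only [V, hx, dif_neg, not_false_eq_true]; simp
  have hVO : ∀ x, (V x : Set X) ⊆ O := by
    intro x
    by_cases hx : x ∈ O ∩ C
    · simp only [V, hx, dif_pos]; exact (key x hx).choose_spec.2.2
    · simp only [V, hx, dif_neg, not_false_eq_true]; simp
  have hxV : ∀ x ∈ O ∩ C, x ∈ V x := by
    intro x hx
    simp only [V, hx, dif_pos]; exact (key x hx).choose_spec.2.1
  obtain ⟨t, -, ht⟩ := hZc.elim_nhds_subcover (fun x ↦ (V x : Set X))
    (fun x hx ↦ (V x).2.mem_nhds (hxV x hx))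
  let O' : X.Opens := ⟨⋃ x ∈ t, (V x : Set X), isOpen_biUnion fun x _ ↦ (V x).2⟩
  have hO'c : IsCompact (O' : Set X) := t.isCompact_biUnion fun x _ ↦ hV x
  have hO'O : (O' : Set X) ⊆ O := Set.iUnion₂_subset fun x _ ↦ hVO x
  have hT : IsGood ((O' : Set X) \ (O ∩ C)) :=
    (IsGood.of_isCompact_isOpen hO'c O'.2).sdiff_isConstructible hZ
  have hTeq : (O' : Set X) \ (O ∩ C) = (O' : Set X) ∩ Cᶜ := by
    ext x
    simp only [Set.mem_sdiff, Set.mem_inter_iff, not_and, Set.mem_compl_iff]
    exact ⟨fun h ↦ ⟨h.1, h.2 (hO'O h.1)⟩, fun h ↦ ⟨h.1, fun _ ↦ h.2⟩⟩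
  refine ⟨O', ⟨(O' : Set X) ∩ Cᶜ, O'.2.inter hC.isOpen_compl⟩, hO'c, ?_, ?_⟩
  · have := hT.isCompact
    rw [hTeq] at this
    exact this
  · ext x
    simp only [Set.mem_inter_iff, TopologicalSpace.Opens.coe_mk, Set.mem_sdiff, Set.mem_compl_iff,
      not_and, not_not]
    exact ⟨fun h ↦ ⟨ht h, fun _ ↦ h.2⟩, fun h ↦ ⟨hO'O h.1, h.2 h.1⟩⟩

include hc in
/-- Two subsets of a stage whose two differences are good and which have the same preimage in
the limit have the same preimage at some stage. -/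
lemma exists_preimage_eq_of_isGood_sdiff [IsCofiltered I]
    [∀ {i j} (f : i ⟶ j), IsAffineHom (D.map f)]
    {i : I} (A E : Set (D.obj i)) (hAE : IsGood (A \ E)) (hEA : IsGood (E \ A))
    (h : c.π.app i ⁻¹' A = c.π.app i ⁻¹' E) :
    ∃ (j : I) (φ : j ⟶ i), D.map φ ⁻¹' A = D.map φ ⁻¹' E := by
  obtain ⟨j, φ, hj⟩ := exists_preimage_eq_empty_of_isGood D c hc ((A \ E) ∪ (E \ A))
    (.union _ _ hAE hEA) (by
      rw [Set.preimage_union, Set.preimage_sdiff, Set.preimage_sdiff, h]
      simp)
  refine ⟨j, φ, ?_⟩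
  rw [Set.preimage_union, Set.preimage_sdiff, Set.preimage_sdiff,
    Set.union_empty_iff, Set.sdiff_eq_empty, Set.sdiff_eq_empty] at hj
  exact subset_antisymm hj.1 hj.2

include hc in
/-- Finitely many quasi-compact opens of the limit descend to a common stage over `i₀`. -/
lemma exists_common_stage_preimage_eq [IsCofiltered I]
    [∀ {i j} (f : i ⟶ j), IsAffineHom (D.map f)] {ι : Type*} [Finite ι] (i₀ : I)
    (U : ι → c.pt.Opens) (hU : ∀ r, IsCompact (U r : Set c.pt)) :
    ∃ (i : I) (_ : i ⟶ i₀) (V : ι → (D.obj i).Opens),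
      (∀ r, IsCompact (V r : Set (D.obj i))) ∧ ∀ r, c.π.app i ⁻¹ᵁ V r = U r := by
  classical
  have := Fintype.ofFinite ι
  choose k φ V hV e using fun r ↦ exists_preimage_eq_over D c hc i₀ (U r) (hU r)
  obtain ⟨j, hj⟩ := IsCofiltered.inf_objs_exists (insert i₀ (Finset.univ.image k))
  have g : ∀ r, j ⟶ k r := fun r ↦
    (hj (Finset.mem_insert_of_mem (Finset.mem_image_of_mem _ (Finset.mem_univ r)))).some
  refine ⟨j, (hj (Finset.mem_insert_self _ _)).some, fun r ↦ D.map (g r) ⁻¹ᵁ V r,
    fun r ↦ QuasiCompact.isCompact_preimage (f := D.map (g r)) _ (V r).2 (hV r), fun r ↦ ?_⟩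
  rw [← e r, ← Scheme.Hom.comp_preimage, c.w]

include hc in
/-- Open-map criterion for the projection of a limit (EGA IV 8.3.8-like). -/
lemma isOpenMap_π_app_iff [IsCofiltered I] [∀ {i j} (f : i ⟶ j), IsAffineHom (D.map f)] (i : I)
    (hs : ∀ (j : I) (_ : j ⟶ i), Function.Surjective (c.π.app j)) :
    IsOpenMap (c.π.app i) ↔ ∀ (j : I) (φ : j ⟶ i), IsOpenMap (D.map φ) := by
  constructor
  · intro h j φ W hW
    have : D.map φ '' W = c.π.app i '' (c.π.app j ⁻¹' W) := by
      rw [← c.w φ, Scheme.Hom.comp_base, TopCat.coe_comp, Set.image_comp,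
        Set.image_preimage_eq _ (hs j φ)]
    rw [this]
    exact h _ (hW.preimage (c.π.app j).continuous)
  · intro h
    have H : ∀ {U : c.pt.Opens} {x : c.pt}, x ∈ U → ∃ U' ∈ { (c.π.app i ⁻¹ᵁ V : c.pt.Opens) |
        (i : I) (V : (D.obj i).Opens) (_ : IsAffineOpen V) }, x ∈ U' ∧ U' ≤ U :=
      TopologicalSpace.Opens.isBasis_iff_nbhd.mp (isBasis_preimage_isAffineOpen D c hc)
    intro U hU
    rw [isOpen_iff_forall_mem_open]
    rintro _ ⟨x, hxU, rfl⟩
    obtain ⟨_, ⟨k, V, -, rfl⟩, hxV, hVU⟩ := H (U := ⟨U, hU⟩) hxU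
    obtain ⟨l, a, b, -⟩ := IsCofilteredOrEmpty.cone_objs k i
    have e : c.π.app k ⁻¹' (V : Set (D.obj k)) = c.π.app l ⁻¹' (D.map a ⁻¹' V) := by
      rw [preimage_π_map]
    refine ⟨D.map b '' (D.map a ⁻¹' V), ?_, h l b _ (V.2.preimage (D.map a).continuous), ?_⟩
    · rintro _ ⟨y, hy, rfl⟩
      obtain ⟨z, rfl⟩ := hs l b y
      refine ⟨z, hVU ?_, ?_⟩
      · change z ∈ c.π.app k ⁻¹' (V : Set (D.obj k))
        rw [e]; exact hy
      · rw [← Scheme.Hom.comp_apply, c.w]
    · refine ⟨c.π.app l x, ?_, ?_⟩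
      · have : x ∈ c.π.app k ⁻¹' (V : Set (D.obj k)) := hxV
        rw [e] at this; exact this
      · rw [← Scheme.Hom.comp_apply, c.w]

include hc in
/-- If all transition maps are topological embeddings, so are the projections from the limit. -/
lemma isEmbedding_π_app [IsCofiltered I] [∀ {i j} (f : i ⟶ j), IsAffineHom (D.map f)]
    (he : ∀ (i j : I) (φ : i ⟶ j), Topology.IsEmbedding (D.map φ)) (i : I) :
    Topology.IsEmbedding (c.π.app i) := by
  have H : ∀ {U : c.pt.Opens} {x : c.pt}, x ∈ U → ∃ U' ∈ { (c.π.app i ⁻¹ᵁ V : c.pt.Opens) |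
      (i : I) (V : (D.obj i).Opens) (_ : IsAffineOpen V) }, x ∈ U' ∧ U' ≤ U :=
    TopologicalSpace.Opens.isBasis_iff_nbhd.mp (isBasis_preimage_isAffineOpen D c hc)
  have hind : Topology.IsInducing (c.π.app i) := by
    rw [Topology.isInducing_iff]
    refine le_antisymm (continuous_iff_le_induced.mp (c.π.app i).continuous) ?_
    intro U hU
    rw [isOpen_induced_iff]
    -- for each point of U choose an open of `D.obj i` whose preimage is a neighbourhood in U
    have key : ∀ x ∈ U, ∃ W : Set (D.obj i), IsOpen W ∧ x ∈ c.π.app i ⁻¹' W ∧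
        c.π.app i ⁻¹' W ⊆ U := by
      intro x hx
      obtain ⟨_, ⟨k, V, -, rfl⟩, hxV, hVU⟩ := H (U := ⟨U, hU⟩) hx
      obtain ⟨l, a, b, -⟩ := IsCofilteredOrEmpty.cone_objs k i
      obtain ⟨W, hW, hWV⟩ := (he l i b).isInducing.isOpen_iff.mp
        (V.2.preimage (D.map a).continuous)
      refine ⟨W, hW, ?_, ?_⟩
      · rw [← preimage_π_map D c b, hWV, preimage_π_map]
        exact hxV
      · rw [← preimage_π_map D c b, hWV, preimage_π_map]
        exact hVU
    choose! W hW hxW hWU using key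
    refine ⟨⋃ x ∈ U, W x, isOpen_biUnion hW, ?_⟩
    rw [Set.preimage_iUnion₂]
    exact subset_antisymm (Set.iUnion₂_subset hWU)
      (fun x hx ↦ Set.mem_iUnion₂.mpr ⟨x, hx, hxW x hx⟩)
  exact ⟨hind, hind.injective⟩

end Groth.Agent.Lib.Helper24.Lim8
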