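import Groth.Agent.Lib.Helper24.ConsLocusSingle
import Groth.Agent.S4759

/-!
# Locus theory for a scheme of finite presentation with two constructible subsets (helper24)

EGA IV 9.5.3 / 9.5.4-type statements ("the set of `s` such that `Z_s` is dense in `Z'_s`, closed, open,
locally closed in `X_s` is locally constructible") reduce to the generic dichotomy by this locus theory.
-/

set_option autoImplicit false

universe u

open CategoryTheory CategoryTheory.Limits AlgebraicGeometry Topology TopologicalSpace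

namespace Groth.Agent.Lib.Helper24.ConsLocus

section descend

open Groth.Agent.Lib.Helper24.Lim8

variable {I : Type u} [SmallCategory I] {D : I ⥤ Scheme.{u}} {c : Cone D}
variable [IsCofiltered I] [∀ {i j} (f : i ⟶ j), IsAffineHom (D.map f)] (hc : IsLimit c)

include hc in
/-- A constructible subset of a scheme with a (qcqs) model comes from a later stage of the model. -/
lemma Model.exists_isConstructible_preimage {i : I} {X : Scheme.{u}} {f : X ⟶ c.pt}
    (M : Model D c i f) [CompactSpace M.Xi] [QuasiSeparatedSpace M.Xi] {Z : Set X}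
    (hZ : IsConstructible Z) :
    ∃ (j : Over i) (Zj : Set ↥(pullback (D.map j.hom) M.fi)), IsConstructible Zj ∧
      (M.rebase j.hom).g ⁻¹' Zj = Z := by
  have hZ' : IsConstructible (M.iso.inv ⁻¹' Z) := M.iso.inv.isConstructible_preimage hZ
  haveI : IsAffineHom (pullback.snd (D.map (𝟙 i)) M.fi) :=
    MorphismProperty.pullback_snd _ _ inferInstance
  have hbase₀ : CompactSpace ↥(pullback (D.map (𝟙 i)) M.fi) :=
    QuasiCompact.compactSpace_of_compactSpace (pullback.snd (D.map (𝟙 i)) M.fi)
  have hbase₀' : QuasiSeparatedSpace ↥(pullback (D.map (𝟙 i)) M.fi) :=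
    quasiSeparatedSpace_of_quasiSeparated (pullback.snd (D.map (𝟙 i)) M.fi)
  have hbase : CompactSpace ↥((pbDiagram D i M.fi).obj (Over.mk (𝟙 i))) := hbase₀
  have hbase' : QuasiSeparatedSpace ↥((pbDiagram D i M.fi).obj (Over.mk (𝟙 i))) := hbase₀'
  have haff : ∀ (j k : Over i) (θ : j ⟶ k), IsAffineHom ((pbDiagram D i M.fi).map θ) :=
    fun _ _ θ => inferInstance
  obtain ⟨j, -, Zj, hZj, e⟩ := Groth.Agent.S4759.result (pbDiagram D i M.fi) (pbCone D c i M.fi)
    (isLimitPbCone D c hc i M.fi) (Over.mk (𝟙 i)) (M.iso.inv ⁻¹' Z) hZ'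
  refine ⟨j, Zj, hZj, ?_⟩
  rw [M.rebase_g_eq j]
  change M.iso.hom ⁻¹' ((pbπ c M.fi j) ⁻¹' Zj) = Z
  have e' : (pbπ c M.fi j) ⁻¹' Zj = M.iso.inv ⁻¹' Z := e
  rw [e']
  ext x
  simp only [Set.mem_preimage]
  rw [← Scheme.Hom.comp_apply, Iso.hom_inv_id]
  rfl

end descend

/-- A scheme of finite presentation over `S` with two locally constructible subsets. -/
structure SetDat (S : Scheme.{u}) where
  X : Scheme.{u}
  u : X ⟶ S
  lfp_u : LocallyOfFinitePresentation u
  qc_u : QuasiCompact u
  qs_u : QuasiSeparated u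
  Z : Set X
  Z' : Set X
  hZ : IsLocallyConstructible Z
  hZ' : IsLocallyConstructible Z'

attribute [instance] SetDat.lfp_u SetDat.qc_u SetDat.qs_u

/-- A property of pairs of subsets of a topological space invariant under open continuous
surjections. -/
def IsOpenSurjInvariant (Q : ∀ (F : Type u) [TopologicalSpace F], Set F → Set F → Prop) : Prop :=
  ∀ (F F' : Type u) [TopologicalSpace F] [TopologicalSpace F'] (p : F' → F), Continuous p →
    IsOpenMap p → Function.Surjective p → ∀ A A' : Set F, Q F A A' ↔ Q F' (p ⁻¹' A) (p ⁻¹' A')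

/-- The set of points `s` such that `Q` holds for the traces of `Z`, `Z'` on the fibre `X_s`. -/
def setLocus (Q : ∀ (F : Type u) [TopologicalSpace F], Set F → Set F → Prop) {X S : Scheme.{u}}
    (u : X ⟶ S) (Z Z' : Set X) : Set S :=
  {s | Q (u.fiber s) ((u.fiberι s) ⁻¹' Z) ((u.fiberι s) ⁻¹' Z')}

instance (S : Scheme.{u}) (s : S) : Subsingleton ↥(Spec (S.residueField s)) :=
  inferInstanceAs (Subsingleton (PrimeSpectrum (S.residueField s)))

lemma setLocus_bc {Q : ∀ (F : Type u) [TopologicalSpace F], Set F → Set F → Prop}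
    (hQ : IsOpenSurjInvariant Q) {S' S X X' : Scheme.{u}} (h : S' ⟶ S)
    {u : X ⟶ S} {u' : X' ⟶ S'} {eX : X' ⟶ X} (hX : IsPullback eX u' u h) (Z Z' : Set X) :
    setLocus Q u' (eX ⁻¹' Z) (eX ⁻¹' Z') = h ⁻¹' setLocus Q u Z Z' := by
  ext s'
  obtain ⟨e, sq, he⟩ := exists_isPullback_fiber hX s'
  have hsurj : Surjective (Spec.map (h.residueFieldMap s')) := by
    constructor
    intro t
    obtain ⟨t'⟩ : Nonempty ↥(Spec (S'.residueField s')) := inferInstance
    exact ⟨t', Subsingleton.elim _ _⟩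
  have hopen : UniversallyOpen (Spec.map (h.residueFieldMap s')) := inferInstance
  have hes : Surjective e := MorphismProperty.of_isPullback sq.flip hsurj
  have heo : UniversallyOpen e := MorphismProperty.of_isPullback sq.flip hopen
  have key : ∀ W : Set X, (u'.fiberι s') ⁻¹' (eX ⁻¹' W) = e ⁻¹' ((u.fiberι (h s')) ⁻¹' W) := by
    intro W
    ext z
    simp only [Set.mem_preimage]
    rw [← Scheme.Hom.comp_apply, ← Scheme.Hom.comp_apply, he]
  change Q _ _ _ ↔ Q _ _ _
  rw [key, key]
  exact (hQ _ _ e e.continuous e.isOpenMap e.surjective _ _).symm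

/-- The locus theory of a property of pairs of subsets of the fibres. -/
noncomputable def setTheory (Q : ∀ (F : Type u) [TopologicalSpace F], Set F → Set F → Prop)
    (hQ : IsOpenSurjInvariant Q) : LocusTheory.{u} where
  Dat := SetDat
  IsBC h d' d := ∃ (eX : d'.X ⟶ d.X), IsPullback eX d'.u d.u h ∧ d'.Z = eX ⁻¹' d.Z ∧
    d'.Z' = eX ⁻¹' d.Z'
  locus d := setLocus Q d.u d.Z d.Z'
  locus_bc h d' d := by
    rintro ⟨eX, hX, e₁, e₂⟩
    rw [e₁, e₂]
    exact setLocus_bc hQ h hX _ _
  exists_bc h d :=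
    ⟨⟨pullback d.u h, pullback.snd _ _, inferInstance, inferInstance, inferInstance,
      (pullback.fst d.u h) ⁻¹' d.Z, (pullback.fst d.u h) ⁻¹' d.Z',
      Groth.Agent.Lib.Helper17.isLocallyConstructible_preimage _ d.hZ,
      Groth.Agent.Lib.Helper17.isLocallyConstructible_preimage _ d.hZ'⟩,
      pullback.fst _ _, IsPullback.of_hasPullback _ _, rfl, rfl⟩
  descend D c hc hD hD1 hD2 d := by
    haveI : ∀ {i j : _} (f : i ⟶ j), IsAffineHom (D.map f) := hD
    haveI := hD1
    haveI := hD2
    obtain ⟨l₁, MX, hMX⟩ := Lim8.Model.exists_isFP hc d.u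
    have := hMX.compact
    have := hMX.qs
    have : CompactSpace c.pt := Lim8.compactSpace_pt D c hc l₁
    have : QuasiSeparatedSpace c.pt := Lim8.quasiSeparatedSpace_pt D c hc l₁
    have : CompactSpace d.X := QuasiCompact.compactSpace_of_compactSpace d.u
    have : QuasiSeparatedSpace d.X := quasiSeparatedSpace_of_quasiSeparated d.u
    obtain ⟨j₁, Z₁, hZ₁, e₁⟩ := Model.exists_isConstructible_preimage hc MX d.hZ.isConstructible
    obtain ⟨j₂, Z₂, hZ₂, e₂⟩ := Model.exists_isConstructible_preimage hc MX d.hZ'.isConstructible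
    obtain ⟨k, a, b, -⟩ := IsCofilteredOrEmpty.cone_objs j₁ j₂
    have hk := hMX.rebase k.hom
    have := hk.compact
    have := hk.qs
    have hcomm : ∀ (j : Over l₁) (θ : k ⟶ j),
        (MX.rebase k.hom).g ≫ (Lim8.pbDiagram D l₁ MX.fi).map θ = (MX.rebase j.hom).g := by
      intro j θ
      rw [MX.rebase_g_eq k, MX.rebase_g_eq j, Category.assoc]
      congr 1
      exact (Lim8.pbCone D c l₁ MX.fi).w θ
    refine ⟨k.left, ⟨_, (MX.rebase k.hom).fi, hk.lfp, inferInstance, inferInstance,
      ((Lim8.pbDiagram D l₁ MX.fi).map a) ⁻¹' Z₁, ((Lim8.pbDiagram D l₁ MX.fi).map b) ⁻¹' Z₂,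
      (((Lim8.pbDiagram D l₁ MX.fi).map a).isConstructible_preimage hZ₁).isLocallyConstructible,
      (((Lim8.pbDiagram D l₁ MX.fi).map b).isConstructible_preimage hZ₂).isLocallyConstructible⟩,
      (MX.rebase k.hom).g, (MX.rebase k.hom).sq, ?_, ?_⟩
    · change d.Z = (MX.rebase k.hom).g ⁻¹' (((Lim8.pbDiagram D l₁ MX.fi).map a) ⁻¹' Z₁)
      rw [← e₁, ← hcomm j₁ a]
      rfl
    · change d.Z' = (MX.rebase k.hom).g ⁻¹' (((Lim8.pbDiagram D l₁ MX.fi).map b) ⁻¹' Z₂)
      rw [← e₂, ← hcomm j₂ b]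
      rfl

/-- **Main reduction.** If the dichotomy holds over integral noetherian bases, then the locus is
locally constructible. -/
theorem isLocallyConstructible_setLocus
    {Q : ∀ (F : Type u) [TopologicalSpace F], Set F → Set F → Prop} (hQ : IsOpenSurjInvariant Q)
    (hgen : ∀ (S : Scheme.{u}) [IsIntegral S] [IsNoetherian S] (X : Scheme.{u}) (u : X ⟶ S)
      [LocallyOfFiniteType u] [QuasiCompact u] [IsNoetherian X] (Z Z' : Set X),
      IsConstructible Z → IsConstructible Z' →
      (interior (setLocus Q u Z Z')).Nonempty ∨ (interior (setLocus Q u Z Z')ᶜ).Nonempty)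
    {X S : Scheme.{u}} (u : X ⟶ S) [LocallyOfFinitePresentation u] [QuasiCompact u]
    [QuasiSeparated u] {Z Z' : Set X} (hZ : IsLocallyConstructible Z)
    (hZ' : IsLocallyConstructible Z') : IsLocallyConstructible (setLocus Q u Z Z') := by
  refine LocusTheory.isLocallyConstructible_locus (T := setTheory Q hQ) ?_
    ⟨X, u, inferInstance, inferInstance, inferInstance, Z, Z', hZ, hZ'⟩
  intro S _ _ d
  have : IsLocallyNoetherian d.X := LocallyOfFiniteType.isLocallyNoetherian d.u
  have : CompactSpace d.X := QuasiCompact.compactSpace_of_compactSpace d.u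
  have : IsNoetherian d.X := ⟨⟩
  exact hgen S d.X d.u d.Z d.Z' d.hZ.isConstructible d.hZ'.isConstructible

end Groth.Agent.Lib.Helper24.ConsLocus
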