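import Groth.Agent.Lib.Helper24.ConsMorSep

/-!
# Constructibility of the locus where the morphism of fibres is dominant; density in fibres
(EGA IV 9.5.3, 9.6.1 (i)) (helper24)

* `dich_subset_closure_fibre`: for `Z`, `Z'` constructible in `Y`, the set of `s` with `Z'_s ⊆ closure Z_s`
  satisfies the dichotomy.
* `dich_isDominant`, `isFieldStableMor_isDominant`, `isConsMor_isDominant`.
-/

set_option autoImplicit false

universe u

open CategoryTheory CategoryTheory.Limits AlgebraicGeometry Topology TopologicalSpace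

namespace Groth.Agent.Lib.Helper24.ConsMorDom

open Groth.Agent.Lib.Helper8.ConstrTop Groth.Agent.Lib.Helper24.ConsLocus
open Groth.Agent.Lib.Helper24.Lim8 Groth.Agent.Lib.Helper24.FibreLocus
open Groth.Agent.Lib.Helper24.ConsMorIso Groth.Agent.Lib.Helper24.FibreClosure
open Groth.Agent.Lib.Helper24.ConsMorSep

variable {X Y S : Scheme.{u}} (f : X ⟶ Y) (g : Y ⟶ S)

/-- density in the fibre, in terms of points of `Y`. -/
lemma dense_fibre_iff (s : S) (R : Set Y) :
    Dense ((g.fiberι s) ⁻¹' R) ↔ g ⁻¹' {s} ⊆ closure (R ∩ g ⁻¹' {s}) := by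
  have hind := (g.fiberι s).isEmbedding.toIsInducing
  have himg : (g.fiberι s) '' ((g.fiberι s) ⁻¹' R) = R ∩ g ⁻¹' {s} := by
    rw [Set.image_preimage_eq_inter_range, Scheme.Hom.range_fiberι]
  rw [dense_iff_closure_eq, hind.closure_eq_preimage_closure_image, himg, Set.eq_univ_iff_forall]
  constructor
  · intro h y hy
    obtain ⟨y', rfl⟩ : y ∈ Set.range (g.fiberι s) := by rw [Scheme.Hom.range_fiberι]; exact hy
    exact h y'
  · intro h y'
    refine h ?_
    have : (g.fiberι s) y' ∈ Set.range (g.fiberι s) := ⟨y', rfl⟩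
    rw [Scheme.Hom.range_fiberι] at this
    exact this

section

variable [IsIntegral S] [IsNoetherian S] [LocallyOfFiniteType g] [QuasiCompact g]

/-- **EGA IV 9.5.3, dichotomy form.** -/
lemma dich_subset_closure_fibre {Z Z' : Set Y} (hZ : IsConstructible Z) (hZ' : IsConstructible Z') :
    Dich {s : S | Z' ∩ g ⁻¹' {s} ⊆ closure (Z ∩ g ⁻¹' {s})} := by
  have : IsLocallyNoetherian Y := LocallyOfFiniteType.isLocallyNoetherian g
  have : CompactSpace Y := QuasiCompact.compactSpace_of_compactSpace g
  have : IsNoetherian Y := ⟨⟩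
  obtain ⟨V, hηV, hV⟩ := exists_open_forall_mem_closure_fibre g hZ
  have hC : IsConstructible ((g '' (Z' \ closure Z))ᶜ) :=
    (g.isConstructible_image (hZ'.sdiff (isConstructible_of_isClosed isClosed_closure))).compl
  refine dich_of_agree hC V.2 ⟨_, hηV⟩ fun s hs => ?_
  change Z' ∩ g ⁻¹' {s} ⊆ closure (Z ∩ g ⁻¹' {s}) ↔ _
  constructor
  · rintro h ⟨y, ⟨hy1, hy2⟩, hys⟩
    exact hy2 (closure_mono Set.inter_subset_left (h ⟨hy1, hys⟩))
  · rintro h y ⟨hy1, hys⟩
    have hys' : g y = s := hys
    have hyc : y ∈ closure Z := by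
      by_contra hcon
      exact h ⟨y, ⟨hy1, hcon⟩, hys'⟩
    have := hV y hyc (by rw [hys']; exact hs)
    rw [hys'] at this
    exact this

variable [LocallyOfFiniteType (f ≫ g)] [QuasiCompact (f ≫ g)]

lemma dich_isDominant : Dich {s | IsDominant (MoreMor.fiberMap f g s)} := by
  obtain ⟨h1, h2, h3, h4⟩ := props_of_comp f g
  have hr : IsConstructible (Set.range f) := by
    rw [← Set.image_univ]
    exact f.isConstructible_image IsConstructible.univ
  have : {s | IsDominant (MoreMor.fiberMap f g s)} =
      {s : S | Set.univ ∩ g ⁻¹' {s} ⊆ closure (Set.range f ∩ g ⁻¹' {s})} := by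
    ext s
    change IsDominant (MoreMor.fiberMap f g s) ↔
      Set.univ ∩ g ⁻¹' {s} ⊆ closure (Set.range f ∩ g ⁻¹' {s})
    rw [isDominant_iff, DenseRange, range_fiberMap, dense_fibre_iff, Set.univ_inter]
  rw [this]
  exact dich_subset_closure_fibre g hr IsConstructible.univ

end

lemma isFieldStableMor_isDominant :
    ConsProp.IsFieldStableMor.{u} (fun _ _ _ f _ => IsDominant f) := by
  intro X X' Y Y' T T' f g f' g' eX eY h _ _ _ _ _ _ _ _ hY hX
  have hsurj : Surjective h := by
    constructor
    intro t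
    obtain ⟨t'⟩ := (inferInstance : Nonempty T')
    exact ⟨t', Subsingleton.elim _ _⟩
  have hopen : UniversallyOpen h := inferInstance
  have heYs : Surjective eY := MorphismProperty.of_isPullback hY.flip hsurj
  have heYo : UniversallyOpen eY := MorphismProperty.of_isPullback hY.flip hopen
  have hrange : Set.range f' = eY ⁻¹' Set.range f := by
    have := Scheme.image_preimage_eq_of_isPullback hX Set.univ
    rw [Set.preimage_univ, Set.image_univ, Set.image_univ] at this
    exact this
  change IsDominant f ↔ IsDominant f'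
  rw [isDominant_iff, isDominant_iff, DenseRange, DenseRange, hrange]
  constructor
  · intro hd
    exact hd.preimage eY.isOpenMap
  · intro hd
    have := (eY.surjective.denseRange).dense_image eY.continuous hd
    rwa [Set.image_preimage_eq _ eY.surjective] at this

theorem isConsMor_isDominant : ConsProp.IsConsMor.{u} (fun _ _ _ f _ => IsDominant f) :=
  ⟨isFieldStableMor_isDominant, fun _ _ _ f g _ _ _ _ _ _ ↦ dich_isDominant f g⟩

end Groth.Agent.Lib.Helper24.ConsMorDom
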