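import Groth.Agent.Lib.Helper24.Lim8Descend
import Mathlib.AlgebraicGeometry.ZariskisMainTheorem
import Mathlib.AlgebraicGeometry.Morphisms.UniversallyOpen

/-!
# Descent of locally quasi-finite morphisms along cofiltered limits (EGA IV 8.10.5 (xi)) (helper24)
-/

set_option autoImplicit false

universe u

open CategoryTheory CategoryTheory.Limits AlgebraicGeometry

namespace Groth.Agent.Lib.Helper24.Lim8

section point

/-- A point of the fibre which is open in the fibre is a quasi-finite point. -/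
lemma quasiFiniteAt_of_isOpen_singleton_fiber {X Y : Scheme.{u}} (f : X ⟶ Y)
    [LocallyOfFiniteType f] (x : X) (y : Y) (hxy : f x = y) (z : f.fiber y)
    (hz : f.fiberι y z = x) (hopen : IsOpen ({z} : Set (f.fiber y))) : f.QuasiFiniteAt x := by
  subst hxy
  have : z = f.asFiber x := by
    apply (f.fiberι (f x)).isEmbedding.injective
    rw [hz, Scheme.Hom.fiberι_asFiber]
  subst this
  exact Scheme.Hom.quasiFiniteAt_iff_isOpen_singleton_asFiber.mpr hopen

set_option backward.isDefEq.respectTransparency false in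
/-- Quasi-finiteness at a point descends along arbitrary base change. -/
lemma quasiFiniteAt_of_isPullback {P X Y Z : Scheme.{u}} {fst : P ⟶ X} {snd : P ⟶ Y} {f : X ⟶ Z}
    {g : Y ⟶ Z} (h : IsPullback fst snd f g) [LocallyOfFiniteType f] (x' : P)
    (hx' : snd.QuasiFiniteAt x') : f.QuasiFiniteAt (fst x') := by
  have : LocallyOfFiniteType snd := MorphismProperty.of_isPullback h inferInstance
  have hpb := isPullback_fiberToSpecResidueField_of_isPullback h (snd x')
  set π := pullback.map snd (Y.fromSpecResidueField (snd x')) f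
    (Z.fromSpecResidueField (g (snd x'))) fst (Spec.map (g.residueFieldMap (snd x'))) g h.w.symm
    (by simp) with hπ
  have huo : UniversallyOpen (Spec.map (g.residueFieldMap (snd x'))) := inferInstance
  have : UniversallyOpen π := MorphismProperty.of_isPullback hpb.flip huo
  have hopen : IsOpen ({snd.asFiber x'} : Set (snd.fiber (snd x'))) :=
    Scheme.Hom.quasiFiniteAt_iff_isOpen_singleton_asFiber.mp hx'
  have h1 : IsOpen (π '' {snd.asFiber x'}) := π.isOpenMap _ hopen
  rw [Set.image_singleton] at h1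
  refine quasiFiniteAt_of_isOpen_singleton_fiber f (fst x') (g (snd x')) ?_
    (π (snd.asFiber x')) ?_ h1
  · rw [← Scheme.Hom.comp_apply, h.w, Scheme.Hom.comp_apply]
  · have e : π ≫ f.fiberι (g (snd x')) = snd.fiberι (snd x') ≫ fst := by
      simp [hπ, Scheme.Hom.fiberι]
    have e2 := congr($(e) (snd.asFiber x'))
    rw [Scheme.Hom.comp_apply, Scheme.Hom.comp_apply, Scheme.Hom.fiberι_asFiber] at e2
    exact e2

end point

section main

variable {I : Type u} [Category.{u} I] (D : I ⥤ Scheme.{u}) (c : Cone D) (hc : IsLimit c)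
variable [IsCofiltered I] [∀ {i j} (f : i ⟶ j), IsAffineHom (D.map f)]

include hc in
/-- Local quasi-finiteness descends (`X₀` quasi-compact, `f₀` locally of finite type). -/
lemma descends_locallyQuasiFinite (i₀ : I) {X₀ Y₀ : Scheme.{u}} (f₀ : X₀ ⟶ Y₀)
    (g₀ : Y₀ ⟶ D.obj i₀) [CompactSpace X₀] [LocallyOfFiniteType f₀] :
    Descends D c @LocallyQuasiFinite i₀ f₀ g₀ := by
  intro hP
  have hP' : LocallyQuasiFinite (bcMap (c.π.app i₀) f₀ g₀) := hP
  set U₀ := f₀.quasiFiniteLocus with hU₀
  have hgood : IsGood ((U₀ : Set X₀)ᶜ) := by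
    have := (IsGood.of_isCompact_isOpen (isCompact_univ (X := X₀)) isOpen_univ).inter_isClosed
      U₀.2.isClosed_compl
    rwa [Set.univ_inter] at this
  obtain ⟨j, φ, hj⟩ := exists_preimage_snd_eq_empty D c hc i₀ (f₀ ≫ g₀) _ hgood (by
    rw [Set.preimage_compl, Set.compl_empty_iff, Set.eq_univ_iff_forall]
    intro x'
    exact quasiFiniteAt_of_isPullback (isPullback_bcMap (c.π.app i₀) f₀ g₀) x'
      ((bcMap (c.π.app i₀) f₀ g₀).quasiFiniteAt x'))
  refine ⟨j, φ, ?_⟩
  have h1 : IsOpenImmersion (bcMap (D.map φ) U₀.ι (f₀ ≫ g₀)) :=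
    bcMap_of_isStableUnderBaseChange (P := @IsOpenImmersion) _ _ _ inferInstance
  have h2 : Surjective (bcMap (D.map φ) U₀.ι (f₀ ≫ g₀)) := by
    refine ⟨?_⟩
    rw [← Set.range_eq_univ, range_bcMap, Scheme.Opens.range_ι]
    rw [Set.preimage_compl, Set.compl_empty_iff] at hj
    exact hj
  have h3 : IsIso (bcMap (D.map φ) U₀.ι (f₀ ≫ g₀)) :=
    (isIso_iff_isOpenImmersion_and_surjective _).mpr ⟨h1, h2⟩
  have h4 : LocallyQuasiFinite (bcMap (D.map φ) (U₀.ι ≫ f₀) g₀) :=
    bcMap_of_isStableUnderBaseChange (P := @LocallyQuasiFinite) _ _ _ inferInstance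
  rw [← bcMap_comp_iff (P := @LocallyQuasiFinite) (D.map φ) U₀.ι f₀ g₀ (U₀.ι ≫ f₀) rfl] at h4
  exact (MorphismProperty.cancel_left_of_respectsIso (P := @LocallyQuasiFinite) _ _).mp h4

end main

end Groth.Agent.Lib.Helper24.Lim8
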