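import Groth.Agent.Lib.Helper24.ConsMorIso
import Groth.Agent.Lib.Helper24.Lim8DescendLqf

/-!
# Constructibility of the locus where the morphism of fibres is locally quasi-finite (helper24)
-/

set_option autoImplicit false

universe u

open CategoryTheory CategoryTheory.Limits AlgebraicGeometry Topology TopologicalSpace

namespace Groth.Agent.Lib.Helper24.ConsMorLqf

open Groth.Agent.Lib.Helper8.ConstrTop Groth.Agent.Lib.Helper24.ConsLocus
open Groth.Agent.Lib.Helper24.Lim8 Groth.Agent.Lib.Helper24.FibreLocus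
open Groth.Agent.Lib.Helper24.ConsMorIso

variable {X Y S : Scheme.{u}} (f : X ⟶ Y) (g : Y ⟶ S)

/-- A base change of `f` whose source maps into the quasi-finite locus is locally quasi-finite. -/
lemma locallyQuasiFinite_of_isPullback {P X Y Z : Scheme.{u}} {fst : P ⟶ X} {snd : P ⟶ Y}
    {f : X ⟶ Z} {g : Y ⟶ Z} (h : IsPullback fst snd f g) [LocallyOfFiniteType f]
    (H : ∀ p : P, f.QuasiFiniteAt (fst p)) : LocallyQuasiFinite snd := by
  have htop : fst ⁻¹ᵁ f.quasiFiniteLocus = ⊤ := top_le_iff.mp fun p _ ↦ H p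
  have h1 := (isPullback_morphismRestrict fst f.quasiFiniteLocus).paste_vert h
  have h2 : LocallyQuasiFinite ((fst ⁻¹ᵁ f.quasiFiniteLocus).ι ≫ snd) :=
    MorphismProperty.of_isPullback h1 inferInstance
  have : IsIso (fst ⁻¹ᵁ f.quasiFiniteLocus).ι := by
    rw [htop]; exact (Scheme.topIso P).isIso_hom
  have : MorphismProperty.RespectsIso @LocallyQuasiFinite :=
    MorphismProperty.IsStableUnderBaseChange.respectsIso
  exact (MorphismProperty.cancel_left_of_respectsIso @LocallyQuasiFinite
    (fst ⁻¹ᵁ f.quasiFiniteLocus).ι snd).mp h2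

lemma lqf_fiberMap_iff [LocallyOfFiniteType f] (s : S) :
    LocallyQuasiFinite (MoreMor.fiberMap f g s) ↔ ∀ x : X, (f ≫ g) x = s → f.QuasiFiniteAt x := by
  constructor
  · intro H x hx
    subst hx
    have := quasiFiniteAt_of_isPullback (isPullback_fiberMap f g ((f ≫ g) x))
      ((f ≫ g).asFiber x) ((MoreMor.fiberMap f g ((f ≫ g) x)).quasiFiniteAt _)
    rwa [Scheme.Hom.fiberι_asFiber] at this
  · intro H
    refine locallyQuasiFinite_of_isPullback (isPullback_fiberMap f g s) fun p ↦ H _ ?_
    have : (f ≫ g).fiberι s p ∈ Set.range ((f ≫ g).fiberι s) := ⟨p, rfl⟩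
    rw [Scheme.Hom.range_fiberι] at this
    exact this

lemma isFieldStableMor_lqf :
    ConsProp.IsFieldStableMor.{u} (fun _ _ _ f _ => LocallyQuasiFinite f) := by
  intro X X' Y Y' T T' f g f' g' eX eY h _ _ _ _ _ _ _ _ hY hX
  have := ConsLocus.isNoetherian_of_subsingleton T
  obtain ⟨h1, h2⟩ := lft_qc_of_comp f g
  have hh : Surjective h := by
    constructor
    intro t
    obtain ⟨t'⟩ := (inferInstance : Nonempty T')
    exact ⟨t', Subsingleton.elim _ _⟩
  have heY : Surjective eY := MorphismProperty.of_isPullback hY.flip hh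
  have heX : Surjective eX := MorphismProperty.of_isPullback hX.flip heY
  constructor
  · intro (H : LocallyQuasiFinite f)
    exact (MorphismProperty.of_isPullback hX H : LocallyQuasiFinite f')
  · intro (H : LocallyQuasiFinite f')
    change LocallyQuasiFinite f
    rw [← Scheme.Hom.quasiFiniteLocus_eq_top_iff]
    refine top_le_iff.mp fun x _ ↦ ?_
    obtain ⟨x', rfl⟩ := eX.surjective x
    exact quasiFiniteAt_of_isPullback hX x' (f'.quasiFiniteAt x')

theorem isConsMor_lqf : ConsProp.IsConsMor.{u} (fun _ _ _ f _ => LocallyQuasiFinite f) := by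
  refine ⟨isFieldStableMor_lqf, fun X Y S f g _ _ _ _ _ _ ↦ ?_⟩
  obtain ⟨h1, h2, h3, h4⟩ := props_of_comp f g
  have : {s | LocallyQuasiFinite (MoreMor.fiberMap f g s)} =
      ((f ≫ g) '' (f.quasiFiniteLocus : Set X)ᶜ)ᶜ := by
    ext s
    change LocallyQuasiFinite (MoreMor.fiberMap f g s) ↔ _
    rw [lqf_fiberMap_iff]
    constructor
    · rintro H ⟨x, hxG, hx⟩
      exact hxG (H x hx)
    · intro H x hx
      by_contra hfx
      exact H ⟨x, hfx, hx⟩
  change Dich {s | LocallyQuasiFinite (MoreMor.fiberMap f g s)}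
  rw [this]
  exact interior_nonempty_or_of_isConstructible
    ((f ≫ g).isConstructible_image
      (isConstructible_of_isClosed f.quasiFiniteLocus.isOpen.isClosed_compl)).compl

end Groth.Agent.Lib.Helper24.ConsMorLqf
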