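import Mathlib
import Groth.Agent.Lib.Helper97.QuasiAffine

/-!
# Quasi-affine preimages are local on the target (helper24)
-/

set_option autoImplicit false

universe u

open CategoryTheory CategoryTheory.Limits AlgebraicGeometry TopologicalSpace

namespace Groth.Agent.Lib.Helper24.QAffLocal

open Groth.Agent.Lib.Helper97.QAff

/-- If `D ≤ W` are affine opens of `Y` and `f ⁻¹ W` is quasi-affine, so is `f ⁻¹ D`. -/
theorem isQuasiAffine_preimage_of_le {X Y : Scheme.{u}} (f : X ⟶ Y) {W D : Y.Opens}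
    (hW : IsAffineOpen W) (hD : IsAffineOpen D) (hDW : D ≤ W)
    [hq : (f ⁻¹ᵁ W : Scheme.{u}).IsQuasiAffine] : (f ⁻¹ᵁ D : Scheme.{u}).IsQuasiAffine := by
  have H : IsPullback (𝟙 X) f f (𝟙 Y) := IsPullback.id_horiz f
  have key := Scheme.Hom.isPullback_resLE H (US := W) (UT := D) (UX := f ⁻¹ᵁ W) (hUST := hDW)
    (hUSX := le_rfl) (UY := f ⁻¹ᵁ D) (by
      rw [Scheme.Hom.id_preimage]
      exact (inf_eq_right.mpr (f.preimage_mono hDW)).symm)
  have : IsAffine D.toScheme := hD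
  have : IsAffine W.toScheme := hW
  have haff : IsAffineHom (Scheme.Hom.resLE (𝟙 Y) W D hDW) := inferInstance
  have h2 := MorphismProperty.of_isPullback (P := @IsAffineHom) key.flip haff
  exact @Scheme.IsQuasiAffine.of_isAffineHom _ _ _ h2 hq

/-- Quasi-affineness of preimages of affine opens can be checked on an affine open cover. -/
theorem isQuasiAffine_preimage_of_cover {X Y : Scheme.{u}} (f : X ⟶ Y) {ι : Type*}
    (W : ι → Y.Opens) (hWa : ∀ i, IsAffineOpen (W i))
    (hq : ∀ i, (f ⁻¹ᵁ W i : Scheme.{u}).IsQuasiAffine)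
    (V : Y.Opens) (hV : IsAffineOpen V) (hVW : V ≤ iSup W)
    (hc : IsCompact ((f ⁻¹ᵁ V : X.Opens) : Set X)) :
    (f ⁻¹ᵁ V : Scheme.{u}).IsQuasiAffine := by
  refine isQuasiAffine_of_forall_exists_quasiAffine _ hc fun x hx => ?_
  obtain ⟨i, hi⟩ := Opens.mem_iSup.mp (hVW hx)
  obtain ⟨r, hr, hxr⟩ := hV.exists_basicOpen_le (V := W i) ⟨f x, hi⟩ hx
  refine ⟨f.app V r, ?_, ?_⟩
  · rw [← Scheme.preimage_basicOpen]
    have := hq i
    exact isQuasiAffine_preimage_of_le f (hWa i) (hV.basicOpen r) hr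
  · rw [← Scheme.preimage_basicOpen]; exact hxr

end Groth.Agent.Lib.Helper24.QAffLocal
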