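import Groth.Agent.Lib.Helper24.Lim8DescendFinite
import Groth.Agent.Lib.Helper24.QAffLocal

/-!
# Descent of quasi-affine morphisms along cofiltered limits (EGA IV 8.10.5 (viii)) (helper24)
-/

set_option autoImplicit false

universe u

open CategoryTheory CategoryTheory.Limits AlgebraicGeometry TopologicalSpace

namespace Groth.Agent.Lib.Helper24.Lim8

open Groth.Agent.Lib.Helper97.QAff Groth.Agent.Lib.Helper24.QAffLocal

/-- "The source is quasi-affine", as a morphism property. -/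
def srcQAff : MorphismProperty Scheme.{u} := fun X _ _ => X.IsQuasiAffine

instance : srcQAff.{u}.RespectsIso :=
  .mk _ (fun e _ hf => by
    have : Scheme.IsQuasiAffine _ := hf
    exact isQuasiAffine_of_iso e) (fun _ _ hf => hf)

/-- Quasi-affine morphisms (same body as `Mor2.IsQuasiAffine` and `MoreMor.IsQuasiAffineHom`). -/
def qaffHom : MorphismProperty Scheme.{u} := fun X Y f =>
  QuasiCompact f ∧ ∀ V : Y.Opens, IsAffineOpen V → Scheme.IsQuasiAffine (f ⁻¹ᵁ V : Scheme.{u})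

instance : qaffHom.{u}.RespectsIso := by
  refine .mk _ (fun e f hf => ?_) (fun e f hf => ?_)
  · obtain ⟨h1, h2⟩ := hf
    refine ⟨inferInstance, fun V hV => ?_⟩
    have := h2 V hV
    have h3 : (e.hom ⁻¹ᵁ (f ⁻¹ᵁ V) : Scheme.{u}).IsQuasiAffine :=
      isQuasiAffine_of_iso (asIso (e.hom ∣_ (f ⁻¹ᵁ V)))
    exact h3
  · obtain ⟨h1, h2⟩ := hf
    refine ⟨inferInstance, fun V hV => ?_⟩
    exact h2 (e.hom ⁻¹ᵁ V) (hV.preimage_of_isIso e.hom)

lemma qaffHom_bcMap_iff {B T X₀ Y₀ : Scheme.{u}} (t : T ⟶ B) [IsAffineHom t] (f₀ : X₀ ⟶ Y₀)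
    [QuasiCompact f₀] (g₀ : Y₀ ⟶ B) {ι : Type*} (V : ι → Y₀.Opens) (hV : iSup V = ⊤)
    (hVa : ∀ a, IsAffineOpen (V a)) :
    qaffHom (bcMap t f₀ g₀) ↔ ∀ a, srcQAff (bcMap t (f₀ ∣_ V a) ((V a).ι ≫ g₀)) := by
  have haff : IsAffineHom (pullback.snd t g₀) := isAffineHom_pullback_snd t g₀
  have hW a : IsAffineOpen (pullback.snd t g₀ ⁻¹ᵁ V a) := (hVa a).preimage _
  constructor
  · rintro ⟨-, h⟩ a
    exact (bcMap_morphismRestrict_iff (P := srcQAff) t f₀ g₀ (V a)).mpr (h _ (hW a))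
  · intro h
    have hqc : QuasiCompact (bcMap t f₀ g₀) :=
      bcMap_of_isStableUnderBaseChange (P := @QuasiCompact) t f₀ g₀ inferInstance
    refine ⟨hqc, fun U hU => ?_⟩
    have hq a : ((bcMap t f₀ g₀) ⁻¹ᵁ (pullback.snd t g₀ ⁻¹ᵁ V a) : Scheme.{u}).IsQuasiAffine :=
      (bcMap_morphismRestrict_iff (P := srcQAff) t f₀ g₀ (V a)).mp (h a)
    refine isQuasiAffine_preimage_of_cover _ (fun a => pullback.snd t g₀ ⁻¹ᵁ V a) hW hq U hU ?_
      (QuasiCompact.isCompact_preimage (f := bcMap t f₀ g₀) _ U.isOpen hU.isCompact)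
    rw [← Scheme.Hom.preimage_iSup, hV]
    exact le_top

variable {I : Type u} [Category.{u} I] (D : I ⥤ Scheme.{u}) (c : Cone D) (hc : IsLimit c)
variable [IsCofiltered I] [∀ {i j} (f : i ⟶ j), IsAffineHom (D.map f)] (i₀ : I)
  {X₀ Y₀ : Scheme.{u}} (f₀ : X₀ ⟶ Y₀) (g₀ : Y₀ ⟶ D.obj i₀)

include hc in
/-- Quasi-affine morphisms descend. -/
lemma descends_qaffHom [CompactSpace Y₀] [QuasiCompact f₀] [QuasiSeparated f₀] :
    Descends D c qaffHom i₀ f₀ g₀ := by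
  classical
  intro hP
  have : IsAffineHom (c.π.app i₀) := isAffineHom_π_app D c hc i₀
  let 𝒰 := Y₀.affineCover.finiteSubcover
  let V (a : 𝒰.I₀) : Y₀.Opens := (𝒰.f a).opensRange
  have hV : iSup V = ⊤ := 𝒰.iSup_opensRange
  have hVa a : IsAffineOpen (V a) := isAffineOpen_opensRange _
  have h1 := (qaffHom_bcMap_iff (c.π.app i₀) f₀ g₀ V hV hVa).mp hP
  have h2 (a) : ∃ j : Over i₀, srcQAff (bcMap (D.map j.hom) (f₀ ∣_ V a) ((V a).ι ≫ g₀)) := by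
    have : CompactSpace (f₀ ⁻¹ᵁ V a).toScheme := isCompact_iff_compactSpace.mp
      (QuasiCompact.isCompact_preimage (f := f₀) _ (V a).isOpen (hVa a).isCompact)
    have : IsAffine (V a).toScheme := hVa a
    have : QuasiSeparatedSpace (f₀ ⁻¹ᵁ V a).toScheme :=
      quasiSeparatedSpace_of_quasiSeparated (f₀ ∣_ V a)
    have h3 (j : Over i₀) := compactSpace_pbDiagram_obj D i₀ ((f₀ ∣_ V a) ≫ (V a).ι ≫ g₀) j
    have h4 (j : Over i₀) :=
      quasiSeparatedSpace_pbDiagram_obj D i₀ ((f₀ ∣_ V a) ≫ (V a).ι ≫ g₀) j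
    have : (pbCone D c i₀ ((f₀ ∣_ V a) ≫ (V a).ι ≫ g₀)).pt.IsQuasiAffine := h1 a
    obtain ⟨j, hj⟩ := Scheme.exists_isQuasiAffine_of_isLimit _ _
      (isLimitPbCone D c hc i₀ ((f₀ ∣_ V a) ≫ (V a).ι ≫ g₀))
    exact ⟨j, hj⟩
  choose j hj using h2
  have := Fintype.ofFinite 𝒰.I₀
  obtain ⟨j₁, hj₁⟩ := IsCofiltered.inf_objs_exists (Finset.univ.image j)
  refine ⟨j₁.left, j₁.hom, (qaffHom_bcMap_iff (D.map j₁.hom) f₀ g₀ V hV hVa).mpr fun a ↦ ?_⟩
  let θ : j₁ ⟶ j a := (hj₁ (Finset.mem_image_of_mem j (Finset.mem_univ a))).some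
  have h5 : IsAffineHom ((pbDiagram D i₀ ((f₀ ∣_ V a) ≫ (V a).ι ≫ g₀)).map θ) := inferInstance
  exact @Scheme.IsQuasiAffine.of_isAffineHom _ _
    ((pbDiagram D i₀ ((f₀ ∣_ V a) ≫ (V a).ι ≫ g₀)).map θ) h5 (hj a)

end Groth.Agent.Lib.Helper24.Lim8
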