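import Groth.Agent.Lib.Helper24.IndConsPair
import Groth.Agent.Lib.Helper24.Lim8DescendImm
import Groth.Agent.Lib.Helper24.Lim8DescendLqf
import Groth.Agent.Lib.Helper24.Lim8QAff
import Groth.Agent.Lib.Helper24.LfpOfComp

/-!
# `DescendsFP` for the usual properties, and base change of quasi-affine morphisms (helper24)
-/

set_option autoImplicit false

universe u

open CategoryTheory CategoryTheory.Limits AlgebraicGeometry TopologicalSpace

namespace Groth.Agent.Lib.Helper24.IndConsPair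

open Groth.Agent.Lib.Helper24.Lim8

lemma DescendsFP.mk' {Q : MorphismProperty Scheme.{u}}
    (h : ∀ {I : Type u} [SmallCategory I] [IsCofiltered I] (D : I ⥤ Scheme.{u}) (c : Cone D)
      (_ : IsLimit c) [∀ {i j} (f : i ⟶ j), IsAffineHom (D.map f)] (i₀ : I)
      {X₀ Y₀ : Scheme.{u}} (f₀ : X₀ ⟶ Y₀) (g₀ : Y₀ ⟶ D.obj i₀) [CompactSpace X₀]
      [QuasiSeparatedSpace X₀] [CompactSpace Y₀] [QuasiSeparatedSpace Y₀]
      [LocallyOfFinitePresentation f₀] [QuasiCompact f₀] [QuasiSeparated f₀],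
      Descends D c Q i₀ f₀ g₀) : DescendsFP Q := by
  intro I _ _ D c hc _ i₀ _ _ X₀ Y₀ f₀ g₀ _ _ _ _ _ _
  have : CompactSpace Y₀ := QuasiCompact.compactSpace_of_compactSpace g₀
  have : QuasiSeparatedSpace Y₀ := quasiSeparatedSpace_of_quasiSeparated g₀
  have : CompactSpace X₀ := QuasiCompact.compactSpace_of_compactSpace (f₀ ≫ g₀)
  have : QuasiSeparatedSpace X₀ := quasiSeparatedSpace_of_quasiSeparated (f₀ ≫ g₀)
  have : QuasiCompact f₀ := QuasiCompact.of_comp f₀ g₀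
  have : QuasiSeparated f₀ := QuasiSeparated.of_comp f₀ g₀
  have : LocallyOfFinitePresentation f₀ :=
    Groth.Agent.Lib.Helper24.locallyOfFinitePresentation_of_comp f₀ g₀
  exact h D c hc i₀ f₀ g₀

lemma descendsFP_isAffineHom : DescendsFP.{u} @IsAffineHom :=
  DescendsFP.mk' (by intro I _ _ D c hc _ i₀ X₀ Y₀ f₀ g₀ _ _ _ _ _ _ _; exact descends_isAffineHom D c hc i₀ f₀ g₀)

lemma descendsFP_isomorphisms : DescendsFP.{u} (MorphismProperty.isomorphisms Scheme.{u}) :=
  DescendsFP.mk' (by intro I _ _ D c hc _ i₀ X₀ Y₀ f₀ g₀ _ _ _ _ _ _ _; exact descends_isomorphisms D c hc i₀ f₀ g₀)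

lemma descendsFP_monomorphisms : DescendsFP.{u} (MorphismProperty.monomorphisms Scheme.{u}) :=
  DescendsFP.mk' (by intro I _ _ D c hc _ i₀ X₀ Y₀ f₀ g₀ _ _ _ _ _ _ _; exact descends_monomorphisms D c hc i₀ f₀ g₀)

lemma descendsFP_isClosedImmersion : DescendsFP.{u} @IsClosedImmersion :=
  DescendsFP.mk' (by intro I _ _ D c hc _ i₀ X₀ Y₀ f₀ g₀ _ _ _ _ _ _ _; exact descends_isClosedImmersion D c hc i₀ f₀ g₀)

lemma descendsFP_isOpenImmersion : DescendsFP.{u} @IsOpenImmersion :=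
  DescendsFP.mk' (by intro I _ _ D c hc _ i₀ X₀ Y₀ f₀ g₀ _ _ _ _ _ _ _; exact descends_isOpenImmersion D c hc i₀ f₀ g₀)

lemma descendsFP_surjective : DescendsFP.{u} @Surjective :=
  DescendsFP.mk' (by intro I _ _ D c hc _ i₀ X₀ Y₀ f₀ g₀ _ _ _ _ _ _ _; exact descends_surjective D c hc i₀ g₀ f₀)

lemma descendsFP_isFinite : DescendsFP.{u} @IsFinite :=
  DescendsFP.mk' (by intro I _ _ D c hc _ i₀ X₀ Y₀ f₀ g₀ _ _ _ _ _ _ _; exact descends_isFinite D c hc i₀ f₀ g₀)

lemma descendsFP_universallyInjective : DescendsFP.{u} @UniversallyInjective :=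
  DescendsFP.mk' (by intro I _ _ D c hc _ i₀ X₀ Y₀ f₀ g₀ _ _ _ _ _ _ _; exact descends_universallyInjective D c hc i₀ f₀ g₀)

lemma descendsFP_isImmersion : DescendsFP.{u} @IsImmersion :=
  DescendsFP.mk' (by intro I _ _ D c hc _ i₀ X₀ Y₀ f₀ g₀ _ _ _ _ _ _ _; exact descends_isImmersion D c hc i₀ f₀ g₀)

lemma descendsFP_isSeparated : DescendsFP.{u} @IsSeparated :=
  DescendsFP.mk' (by intro I _ _ D c hc _ i₀ X₀ Y₀ f₀ g₀ _ _ _ _ _ _ _; exact descends_isSeparated_of_finiteType D c hc i₀ f₀ g₀)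

lemma descendsFP_qaffHom : DescendsFP.{u} qaffHom :=
  DescendsFP.mk' (by intro I _ _ D c hc _ i₀ X₀ Y₀ f₀ g₀ _ _ _ _ _ _ _; exact descends_qaffHom D c hc i₀ f₀ g₀)

/-- Quasi-finite morphisms (locally of finite type, quasi-compact, locally quasi-finite). -/
def qfinHom : MorphismProperty Scheme.{u} := fun _ _ g =>
  LocallyOfFiniteType g ∧ QuasiCompact g ∧ LocallyQuasiFinite g

instance : qfinHom.{u}.IsStableUnderBaseChange where
  of_isPullback sq h :=
    ⟨MorphismProperty.of_isPullback (P := @LocallyOfFiniteType) sq h.1,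
      MorphismProperty.of_isPullback (P := @QuasiCompact) sq h.2.1,
      MorphismProperty.of_isPullback (P := @LocallyQuasiFinite) sq h.2.2⟩

lemma descendsFP_qfinHom : DescendsFP.{u} qfinHom :=
  DescendsFP.mk' (by
    intro I _ _ D c hc _ i₀ X₀ Y₀ f₀ g₀ _ _ _ _ _ _ _
    intro hP
    obtain ⟨j, φ, hj⟩ := descends_locallyQuasiFinite D c hc i₀ f₀ g₀ hP.2.2
    exact ⟨j, φ, bcMap_of_isStableUnderBaseChange (P := @LocallyOfFiniteType) _ f₀ g₀ inferInstance,
      bcMap_of_isStableUnderBaseChange (P := @QuasiCompact) _ f₀ g₀ inferInstance, hj⟩)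

set_option backward.isDefEq.respectTransparency false in
open Groth.Agent.Lib.Helper97.QAff Groth.Agent.Lib.Helper24.QAffLocal in
/-- Quasi-affine morphisms are stable under base change. -/
instance : qaffHom.{u}.IsStableUnderBaseChange := by
  refine MorphismProperty.IsStableUnderBaseChange.mk' fun X Y S f g _ hg => ?_
  obtain ⟨h1, h2⟩ := hg
  have hqc : QuasiCompact (pullback.fst f g) := inferInstance
  refine ⟨hqc, fun D hD => ?_⟩
  -- rewrite in terms of `pullback.snd g f`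
  have key : ∀ x ∈ D, ∃ W : X.Opens, IsAffineOpen W ∧ x ∈ W ∧
      ((pullback.fst f g) ⁻¹ᵁ W : Scheme.{u}).IsQuasiAffine := by
    intro x hx
    obtain ⟨_, ⟨V, hV, rfl⟩, hxV, -⟩ := S.isBasis_affineOpens.exists_subset_of_mem_open
      (Set.mem_univ (f x)) isOpen_univ
    obtain ⟨_, ⟨W, hW, rfl⟩, hxW, hWV⟩ := X.isBasis_affineOpens.exists_subset_of_mem_open
      (show x ∈ ((f ⁻¹ᵁ V : X.Opens) : Set X) from hxV) (f ⁻¹ᵁ V).isOpen
    refine ⟨W, hW, hxW, ?_⟩
    have := h2 V hV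
    have h3 := isQuasiAffine_preimage_snd g f V W hV hW hWV
    -- transport along the symmetry iso
    have e : (pullbackSymmetry f g).hom ≫ pullback.snd g f = pullback.fst f g := by simp
    have h4 : (((pullbackSymmetry f g).hom ≫ pullback.snd g f) ⁻¹ᵁ W : Scheme.{u}).IsQuasiAffine :=
      isQuasiAffine_of_iso (asIso ((pullbackSymmetry f g).hom ∣_ (pullback.snd g f ⁻¹ᵁ W)))
    exact e ▸ h4
  choose W hWa hxW hWq using key
  refine isQuasiAffine_preimage_of_cover (pullback.fst f g) (fun x : D => W x.1 x.2)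
    (fun x => hWa _ _) (fun x => hWq _ _) D hD ?_
    (QuasiCompact.isCompact_preimage (f := pullback.fst f g) _ D.isOpen hD.isCompact)
  intro x hx
  exact Opens.mem_iSup.mpr ⟨⟨x, hx⟩, hxW x hx⟩

end Groth.Agent.Lib.Helper24.IndConsPair
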