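import Groth.Agent.Lib.Helper24.ResidueLimitScheme
import Groth.Agent.Lib.Helper24.IndConsPairInst

/-!
# Spreading out a property of the morphism of generic fibres to an affine open of the base
(helper24)
-/

set_option autoImplicit false

universe u

open CategoryTheory CategoryTheory.Limits AlgebraicGeometry Opposite

namespace Groth.Agent.Lib.Helper24.SpreadGeneric

open Groth.Agent.Lib.Helper24.Lim8 Groth.Agent.Lib.Helper24.IndConsPair
  Groth.Agent.Lib.Helper24.ResidueLimit

lemma evaluation_genericPoint_injective {S : Scheme.{u}} [IsIntegral S] (V : S.Opens)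
    (hη : genericPoint S ∈ V) :
    RingHom.ker (S.evaluation V (genericPoint S) hη).hom = ⊥ := by
  rw [eq_bot_iff]
  intro r hr
  rw [RingHom.mem_ker] at hr
  rw [Ideal.mem_bot]
  have h0 : S.evaluation V (genericPoint S) hη r = 0 := hr
  rw [Scheme.evaluation_eq_zero_iff_notMem_basicOpen] at h0
  rw [← AlgebraicGeometry.basicOpen_eq_bot_iff]
  by_contra hne
  apply h0
  change genericPoint S ∈ (S.basicOpen r : Set S)
  rw [(genericPoint_spec S).mem_open_set_iff (S.basicOpen r).isOpen]
  obtain ⟨x, hx⟩ : (S.basicOpen r : Set S).Nonempty := by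
    rw [Set.nonempty_iff_ne_empty]
    intro h0'
    exact hne (TopologicalSpace.Opens.ext h0')
  exact ⟨x, Set.mem_univ x, hx⟩

set_option backward.isDefEq.respectTransparency false in
/-- If `Q` holds for the morphism of generic fibres, it holds over an affine open neighbourhood of
the generic point. -/
theorem exists_open_bcMap_of_generic {Q : MorphismProperty Scheme.{u}}
    [Q.IsStableUnderBaseChange] (hQ : DescendsFP Q) {X Y S : Scheme.{u}} [IsIntegral S]
    (f : X ⟶ Y) (g : Y ⟶ S)
    [LocallyOfFinitePresentation g] [QuasiCompact g] [QuasiSeparated g]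
    [LocallyOfFinitePresentation (f ≫ g)] [QuasiCompact (f ≫ g)] [QuasiSeparated (f ≫ g)]
    (H : Q (bcMap (S.fromSpecResidueField (genericPoint S)) f g)) :
    ∃ (S' : Scheme.{u}) (h : S' ⟶ S), IsOpenImmersion h ∧ IsAffine S' ∧ Nonempty S' ∧
      Q (bcMap h f g) := by
  set η := genericPoint S with hη
  obtain ⟨i₀⟩ := (inferInstance : Nonempty (Idx S η)ᵒᵖ)
  have e1 : (c S η).π.app i₀ ≫ β S η i₀ = S.fromSpecResidueField η := π_β S η i₀
  have H0 : Q (bcMap ((c S η).π.app i₀ ≫ β S η i₀) f g) := bcMap_congr f g e1.symm H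
  have h1 : LocallyOfFinitePresentation (bcMap (β S η i₀) f g ≫ pullback.fst (β S η i₀) g) := by
    rw [bcMap_fst]; infer_instance
  have h2 : QuasiCompact (bcMap (β S η i₀) f g ≫ pullback.fst (β S η i₀) g) := by
    rw [bcMap_fst]; infer_instance
  have h3 : QuasiSeparated (bcMap (β S η i₀) f g ≫ pullback.fst (β S η i₀) g) := by
    rw [bcMap_fst]; infer_instance
  have H1 : Q (bcMap ((c S η).π.app i₀) (bcMap (β S η i₀) f g) (pullback.fst (β S η i₀) g)) :=
    (bcMap_bcMap_iff f g _ _).mpr H0
  obtain ⟨j, φ, H2⟩ := hQ (D S η) (c S η) (hc S η) i₀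
    (bcMap (β S η i₀) f g) (pullback.fst (β S η i₀) g) H1
  have H3 : Q (bcMap (β S η j) f g) := by
    have := (bcMap_bcMap_iff f g _ _).mp H2
    refine bcMap_congr f g ?_ this
    rw [map_β]
  refine ⟨(D S η).obj j, β S η j, ?_, inferInstance, ?_, H3⟩
  · have hJ : j.unop.J = ⊥ := by
      have := j.unop.hJx
      rw [evaluation_genericPoint_injective] at this
      exact le_bot_iff.mp this
    have hbij : Function.Bijective (q S η j.unop).hom := by
      refine ⟨?_, q_surjective S η j.unop⟩
      rw [RingHom.injective_iff_ker_eq_bot, ker_q, hJ]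
    haveI : IsIso (q S η j.unop) := (ConcreteCategory.isIso_iff_bijective _).mpr hbij
    change IsOpenImmersion (Spec.map (q S η j.unop) ≫ j.unop.hV.fromSpec)
    infer_instance
  · obtain ⟨pt⟩ := (inferInstance : Nonempty (Spec (S.residueField η)))
    exact ⟨(c S η).π.app j pt⟩

end Groth.Agent.Lib.Helper24.SpreadGeneric
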