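import Groth.Agent.Lib.Helper24.ConsMorSep
import Groth.Agent.Lib.Helper24.ConsMorLqf
import Groth.Agent.Lib.Helper24.ConsMorSmooth
import Groth.Agent.Lib.Helper24.ZMTFinite
import Groth.Agent.Lib.Helper24.SpreadGeneric
import Groth.Agent.Lib.Helper24.IndConsPairInst
import Groth.Agent.S0084
import Groth.Agent.S0083

/-!
# Constructibility of the locus where the morphism of fibres is finite / a closed immersion
(EGA IV 9.6.1) (helper24)
-/

set_option autoImplicit false

universe u

open CategoryTheory CategoryTheory.Limits AlgebraicGeometry Topology TopologicalSpace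

namespace Groth.Agent.Lib.Helper24.ConsMorFinite

open Groth.Agent.Lib.Helper8.ConstrTop Groth.Agent.Lib.Helper24.ConsLocus
open Groth.Agent.Lib.Helper24.Lim8 Groth.Agent.Lib.Helper24.FibreLocus
open Groth.Agent.Lib.Helper24.ConsMorIso Groth.Agent.Lib.Helper24.ConsMorSep
open Groth.Agent.Lib.Helper24.ConsMorSmooth Groth.Agent.Lib.Helper24.ZMTFinite
open Groth.Agent.Lib.Helper24.SpreadGeneric Groth.Agent.Lib.Helper24.IndConsPair
open Groth.Agent.Lib.Helper24.ResidueLimit

section general

variable {P : MorphismProperty Scheme.{u}}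

/-- Any base change of `f` along `t` has `P` iff the canonical one has. -/
lemma iff_pullback_snd_of_isPullback [P.RespectsIso] {X Y T Z : Scheme.{u}} {f : X ⟶ Y}
    {t : T ⟶ Y} {p : Z ⟶ X} {q : Z ⟶ T} (h : IsPullback p q f t) :
    P q ↔ P (pullback.snd f t) := by
  rw [← h.isoPullback_hom_snd, P.cancel_left_of_respectsIso]

/-- Base change along a further map. -/
lemma pullback_snd_comp [P.IsStableUnderBaseChange] {X Y T R : Scheme.{u}} (f : X ⟶ Y)
    (a : T ⟶ Y) (r : R ⟶ T) (h : P (pullback.snd f a)) : P (pullback.snd f (r ≫ a)) := by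
  have h1 : IsPullback (pullback.fst (pullback.snd f a) r ≫ pullback.fst f a)
      (pullback.snd (pullback.snd f a) r) f (r ≫ a) :=
    (IsPullback.of_hasPullback (pullback.snd f a) r).flip.paste_vert
      (IsPullback.of_hasPullback f a).flip |>.flip
  have h2 : P (pullback.snd (pullback.snd f a) r) :=
    MorphismProperty.pullback_snd _ _ h
  exact (iff_pullback_snd_of_isPullback h1).mp h2

lemma pullback_snd_iso_comp_iff [P.IsStableUnderBaseChange] {X Y T R : Scheme.{u}} (f : X ⟶ Y)
    (a : T ⟶ Y) (r : R ⟶ T) [IsIso r] :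
    P (pullback.snd f (r ≫ a)) ↔ P (pullback.snd f a) := by
  refine ⟨fun h ↦ ?_, pullback_snd_comp f a r⟩
  have := pullback_snd_comp f (r ≫ a) (inv r) h
  rwa [IsIso.inv_hom_id_assoc] at this

/-- Restriction to an open of the target. -/
lemma pullback_snd_morphismRestrict_iff [P.RespectsIso] {X Y T : Scheme.{u}} (f : X ⟶ Y)
    (U : Y.Opens) (b : T ⟶ U) :
    P (pullback.snd (f ∣_ U) b) ↔ P (pullback.snd f (b ≫ U.ι)) := by
  have h1 : IsPullback (pullback.fst (f ∣_ U) b ≫ (f ⁻¹ᵁ U).ι) (pullback.snd (f ∣_ U) b) f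
      (b ≫ U.ι) :=
    (IsPullback.of_hasPullback (f ∣_ U) b).paste_horiz (isPullback_morphismRestrict f U).flip
  exact iff_pullback_snd_of_isPullback h1

end general

section L1

variable {X Xb Y S T : Scheme.{u}} (j : X ⟶ Xb) (h : Xb ⟶ Y) [IsOpenImmersion j] [IsFinite h]

lemma isFinite_pullback_snd_iff (t : T ⟶ Y) :
    IsFinite (pullback.snd (j ≫ h) t) ↔ IsClosed ((pullback.fst h t) ⁻¹' Set.range j) := by
  have hpb : IsPullback (pullback.fst j (pullback.fst h t))
      (pullback.snd j (pullback.fst h t) ≫ pullback.snd h t) (j ≫ h) t :=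
    (IsPullback.of_hasPullback j (pullback.fst h t)).paste_vert (IsPullback.of_hasPullback h t)
  rw [← iff_pullback_snd_of_isPullback (P := @IsFinite) hpb, ← Scheme.Pullback.range_snd]
  constructor
  · intro hfin
    haveI := hfin
    haveI : IsProper (pullback.snd j (pullback.fst h t)) :=
      IsProper.of_comp _ (pullback.snd h t)
    exact (pullback.snd j (pullback.fst h t)).isClosedMap.isClosed_range
  · intro hcl
    haveI : IsClosedImmersion (pullback.snd j (pullback.fst h t)) :=
      IsClosedImmersion.of_isPreimmersion _ hcl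
    infer_instance

lemma isFinite_fiberMap_iff (g : Y ⟶ S) (s : S) :
    IsFinite (MoreMor.fiberMap (j ≫ h) g s) ↔
      IsClosed (((h ≫ g).fiberι s) ⁻¹' Set.range j) := by
  rw [fiberMap_iff_pullback_snd (P := @IsFinite), isFinite_pullback_snd_iff]
  have hpb := isPullback_fiberMap h g s
  have e : hpb.isoPullback.hom ≫ pullback.fst h (g.fiberι s) = (h ≫ g).fiberι s :=
    hpb.isoPullback_hom_fst
  have hfun : ∀ z, (h ≫ g).fiberι s z =
      pullback.fst h (g.fiberι s) (hpb.isoPullback.hom z) := fun z ↦ (congr($(e) z)).symm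
  have hpre : ((h ≫ g).fiberι s) ⁻¹' Set.range j =
      hpb.isoPullback.hom ⁻¹' ((pullback.fst h (g.fiberι s)) ⁻¹' Set.range j) := by
    ext z
    simp only [Set.mem_preimage, hfun]
  rw [hpre]
  exact (hpb.isoPullback.hom.homeomorph.isClosed_preimage).symm

end L1

section L2

variable {X Y S : Scheme.{u}} (f : X ⟶ Y) (g : Y ⟶ S)

/-- Finiteness of the morphism of fibres can be tested on an open cover of `Y`. -/
lemma isFinite_fiberMap_iff_of_openCover {ι : Type*} (W : ι → Y.Opens)
    (hW : ∀ y : Y, ∃ i, y ∈ W i) (s : S) :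
    IsFinite (MoreMor.fiberMap f g s) ↔
      ∀ i, IsFinite (MoreMor.fiberMap (f ∣_ W i) ((W i).ι ≫ g) s) := by
  have hoi : ∀ i, IsOpenImmersion (MoreMor.fiberMap (W i).ι g s) := fun i ↦
    MorphismProperty.of_isPullback (P := @IsOpenImmersion) (isPullback_fiberMap (W i).ι g s)
      inferInstance
  let 𝒰 : (g.fiber s).OpenCover := Scheme.Cover.mkOfCovers ι (fun i ↦ ((W i).ι ≫ g).fiber s)
    (fun i ↦ MoreMor.fiberMap (W i).ι g s) (fun z ↦ by
      obtain ⟨i, hi⟩ := hW (g.fiberι s z)
      have : z ∈ Set.range (MoreMor.fiberMap (W i).ι g s) := by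
        rw [ConsMorSep.range_fiberMap, Scheme.Opens.range_ι]
        exact hi
      obtain ⟨z', hz'⟩ := this
      exact ⟨i, z', hz'⟩)
  rw [IsZariskiLocalAtTarget.iff_of_openCover (P := @IsFinite) 𝒰]
  refine forall_congr' fun i ↦ ?_
  change IsFinite (pullback.snd (MoreMor.fiberMap f g s) (MoreMor.fiberMap (W i).ι g s)) ↔ _
  have h1 : IsPullback (pullback.fst (MoreMor.fiberMap f g s) (MoreMor.fiberMap (W i).ι g s) ≫
      (f ≫ g).fiberι s) (pullback.snd (MoreMor.fiberMap f g s) (MoreMor.fiberMap (W i).ι g s)) f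
      (MoreMor.fiberMap (W i).ι g s ≫ g.fiberι s) :=
    (IsPullback.of_hasPullback (MoreMor.fiberMap f g s)
      (MoreMor.fiberMap (W i).ι g s)).paste_horiz (isPullback_fiberMap f g s)
  rw [iff_pullback_snd_of_isPullback (P := @IsFinite) h1, fiberMap_iff_pullback_snd (P := @IsFinite),
    pullback_snd_morphismRestrict_iff (P := @IsFinite), (isPullback_fiberMap (W i).ι g s).w]

end L2

section DichTop

lemma Dich.finset_iInter {Z : Type*} [TopologicalSpace Z] [IrreducibleSpace Z] {ι : Type*}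
    (s : Finset ι) (E : ι → Set Z) (h : ∀ i ∈ s, Dich (E i)) : Dich (⋂ i ∈ s, E i) := by
  classical
  induction s using Finset.induction_on with
  | empty =>
    left
    simp
  | insert a s ha ih =>
    rw [Finset.set_biInter_insert]
    exact Dich.inter (h a (Finset.mem_insert_self a s))
      (ih fun i hi ↦ h i (Finset.mem_insert_of_mem hi))

lemma Dich.of_preimage_isOpenEmbedding {Z Z' : Type*} [TopologicalSpace Z] [TopologicalSpace Z']
    {h : Z' → Z} (hh : IsOpenEmbedding h) {E : Set Z} (H : Dich (h ⁻¹' E)) : Dich E := by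
  have key : ∀ F : Set Z, (interior (h ⁻¹' F)).Nonempty → (interior F).Nonempty := by
    rintro F ⟨z', hz'⟩
    refine ⟨h z', mem_interior.mpr ⟨h '' interior (h ⁻¹' F), ?_,
      hh.isOpenMap _ isOpen_interior, ⟨z', hz', rfl⟩⟩⟩
    rintro _ ⟨w, hw, rfl⟩
    exact (interior_subset hw : w ∈ h ⁻¹' F)
  rcases H with H | H
  · exact Or.inl (key E H)
  · exact Or.inr (key Eᶜ H)

lemma DescendsFP.inf {Q₁ Q₂ : MorphismProperty Scheme.{u}} [Q₁.IsStableUnderBaseChange]
    [Q₂.IsStableUnderBaseChange] (h₁ : DescendsFP Q₁) (h₂ : DescendsFP Q₂) :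
    DescendsFP (Q₁ ⊓ Q₂) := by
  intro I _ _ D c hc _ i₀ _ _ X₀ Y₀ f₀ g₀ _ _ _ _ _ _ H
  obtain ⟨j₁, φ₁, H₁⟩ := h₁ D c hc i₀ f₀ g₀ H.1
  obtain ⟨j₂, φ₂, H₂⟩ := h₂ D c hc i₀ f₀ g₀ H.2
  obtain ⟨j, a₁, a₂, e⟩ := IsCofiltered.cospan φ₁ φ₂
  refine ⟨j, a₁ ≫ φ₁, ?_, ?_⟩
  · exact bcMap_congr f₀ g₀ (D.map_comp _ _).symm (bcMap_comp_of_bcMap f₀ g₀ _ (D.map a₁) H₁)
  · exact bcMap_congr f₀ g₀ (by rw [← D.map_comp, e])
      (bcMap_comp_of_bcMap f₀ g₀ _ (D.map a₂) H₂)

end DichTop

section Dich

variable {X Y S : Scheme.{u}} (f : X ⟶ Y) (g : Y ⟶ S)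

section

variable [IsIntegral S] [IsNoetherian S] [LocallyOfFiniteType g] [QuasiCompact g]
    [LocallyOfFiniteType (f ≫ g)] [QuasiCompact (f ≫ g)]

/-- Affine target, separated quasi-finite `f`. -/
lemma dich_isFinite_of_isAffine [IsAffine Y] [IsSeparated f] [LocallyQuasiFinite f] :
    Dich {s | IsFinite (MoreMor.fiberMap f g s)} := by
  obtain ⟨h1, h2, h3, h4⟩ := props_of_comp f g
  haveI := h1
  haveI := h2
  haveI := h3
  haveI := h4
  obtain ⟨Xb, j, h, hj, hh, rfl⟩ := exists_finite_factorization f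
  haveI := hj
  haveI := hh
  haveI : IsAffine Xb := isAffine_of_isAffineHom h
  have : {s | IsFinite (MoreMor.fiberMap (j ≫ h) g s)} =
      {s : S | IsClosed (((h ≫ g).fiberι s) ⁻¹' Set.range j)} := by
    ext s
    exact isFinite_fiberMap_iff j h g s
  rw [this]
  have hr : IsConstructible (Set.range j) := by
    rw [← Set.image_univ]
    exact j.isConstructible_image IsConstructible.univ
  exact dich_isClosed_fibre (h ≫ g) hr

/-- Separated quasi-finite `f`, arbitrary `Y`. -/
lemma dich_isFinite_of_sep_lqf [IsSeparated f] [LocallyQuasiFinite f] :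
    Dich {s | IsFinite (MoreMor.fiberMap f g s)} := by
  obtain ⟨h1, h2, h3, h4⟩ := props_of_comp f g
  haveI := h1
  haveI := h2
  haveI := h3
  haveI := h4
  have hqc : IsCompact ((⊤ : Y.Opens) : Set Y) := by
    simpa using (isCompact_univ : IsCompact (Set.univ : Set Y))
  obtain ⟨t, htfin, ht⟩ := isCompact_iff_finite_and_eq_biUnion_affineOpens.mp hqc
  haveI : Fintype t := htfin.fintype
  have hcov : ∀ y : Y, ∃ W : t, y ∈ (W.1 : Y.Opens) := by
    intro y
    have hy : y ∈ (⊤ : Y.Opens) := trivial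
    rw [ht] at hy
    simp only [Opens.mem_iSup] at hy
    obtain ⟨W, hW, hyW⟩ := hy
    exact ⟨⟨W, hW⟩, hyW⟩
  have : {s | IsFinite (MoreMor.fiberMap f g s)} =
      ⋂ W ∈ (Finset.univ : Finset t),
        {s | IsFinite (MoreMor.fiberMap (f ∣_ (W.1 : Y.Opens)) ((W.1 : Y.Opens).ι ≫ g) s)} := by
    ext s
    simp only [Set.mem_setOf_eq, Finset.mem_univ, Set.iInter_true, Set.mem_iInter]
    exact isFinite_fiberMap_iff_of_openCover f g (fun W : t ↦ (W.1 : Y.Opens)) hcov s
  rw [this]
  refine Dich.finset_iInter _ _ fun W _ ↦ ?_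
  haveI : IsAffine ((W.1 : Y.Opens) : Scheme.{u}) := W.1.2
  haveI : LocallyOfFiniteType ((f ∣_ (W.1 : Y.Opens)) ≫ (W.1 : Y.Opens).ι ≫ g) := by
    rw [morphismRestrict_ι_assoc]
    infer_instance
  haveI : QuasiCompact ((f ∣_ (W.1 : Y.Opens)) ≫ (W.1 : Y.Opens).ι ≫ g) := by
    rw [morphismRestrict_ι_assoc]
    infer_instance
  exact dich_isFinite_of_isAffine (f ∣_ (W.1 : Y.Opens)) ((W.1 : Y.Opens).ι ≫ g)

lemma mem_interior_genericPoint {E : Set S} (h : (interior E).Nonempty) :
    genericPoint S ∈ E := by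
  obtain ⟨x, hx⟩ := h
  have : genericPoint S ∈ interior E := by
    rw [(genericPoint_spec S).mem_open_set_iff isOpen_interior]
    exact ⟨x, Set.mem_univ x, hx⟩
  exact interior_subset this

/-- If `Q` is implied by `P` pointwise, `Q` is dichotomous and fails generically, then
`P` is dichotomous. -/
lemma Dich.of_imp_of_not_generic {P Q : S → Prop} (hPQ : ∀ s, P s → Q s) (hQ : Dich {s | Q s})
    (hη : ¬ Q (genericPoint S)) : Dich {s | P s} := by
  rcases hQ with H | H
  · exact absurd (mem_interior_genericPoint H) hη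
  · right
    refine H.mono (interior_mono ?_)
    intro s hs hP
    exact hs (hPQ s hP)

/-- **EGA IV 9.6.1 (finite morphisms), dichotomy form.** -/
lemma dich_isFinite : Dich {s | IsFinite (MoreMor.fiberMap f g s)} := by
  obtain ⟨h1, h2, h3, h4⟩ := props_of_comp f g
  haveI := h1
  haveI := h2
  haveI := h3
  haveI := h4
  set η := genericPoint S with hη
  by_cases hsep : IsSeparated (MoreMor.fiberMap f g η)
  swap
  · exact Dich.of_imp_of_not_generic (Q := fun s ↦ IsSeparated (MoreMor.fiberMap f g s))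
      (fun s hs ↦ by haveI := hs; infer_instance) (dich_isSeparated f g) hsep
  by_cases hlqf : LocallyQuasiFinite (MoreMor.fiberMap f g η)
  swap
  · exact Dich.of_imp_of_not_generic (Q := fun s ↦ LocallyQuasiFinite (MoreMor.fiberMap f g s))
      (fun s hs ↦ by haveI := hs; infer_instance) ((ConsMorLqf.isConsMor_lqf).2 f g) hlqf
  -- spread out separatedness and quasi-finiteness
  haveI : LocallyOfFinitePresentation g := inferInstance
  haveI : QuasiSeparated g := inferInstance
  haveI : LocallyOfFinitePresentation (f ≫ g) := inferInstance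
  haveI : QuasiSeparated (f ≫ g) := inferInstance
  have Hη : (@IsSeparated ⊓ qfinHom : MorphismProperty Scheme.{u})
      (bcMap (S.fromSpecResidueField η) f g) := by
    refine ⟨(fiberMap_iff_bcMap (P := @IsSeparated) f g η).mp hsep, ?_, ?_, ?_⟩
    · exact bcMap_of_isStableUnderBaseChange (P := @LocallyOfFiniteType) _ f g inferInstance
    · exact bcMap_of_isStableUnderBaseChange (P := @QuasiCompact) _ f g inferInstance
    · exact (fiberMap_iff_bcMap (P := @LocallyQuasiFinite) f g η).mp hlqf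
  obtain ⟨S', h, hh, hS'aff, hS'ne, hsepS', -, -, hlqfS'⟩ :=
    exists_open_bcMap_of_generic (DescendsFP.inf descendsFP_isSeparated descendsFP_qfinHom) f g Hη
  haveI := hh
  haveI := hS'aff
  haveI := hS'ne
  haveI : IsIntegral S' := isIntegral_of_isOpenImmersion h
  haveI : IsLocallyNoetherian S' := isLocallyNoetherian_of_isOpenImmersion h
  haveI : IsNoetherian S' := ⟨⟩
  haveI : IsSeparated (bcMap h f g) := hsepS'
  haveI : LocallyQuasiFinite (bcMap h f g) := hlqfS'
  haveI : LocallyOfFiniteType (bcMap h f g ≫ pullback.fst h g) := by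
    rw [bcMap_fst]
    infer_instance
  haveI : QuasiCompact (bcMap h f g ≫ pullback.fst h g) := by
    rw [bcMap_fst]
    infer_instance
  have key := dich_isFinite_of_sep_lqf (bcMap h f g) (pullback.fst h g)
  haveI := Groth.Agent.S0084.result.{u}
  have hP : ConsProp.IsFieldStableMor.{u} (fun _ _ _ f _ => IsFinite f) :=
    isFieldStableMor_of_descends @IsFinite
  have hloc := locusMor_bc hP h (IsPullback.of_hasPullback h g).flip (isPullback_bcMap h f g)
  refine Dich.of_preimage_isOpenEmbedding h.isOpenEmbedding ?_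
  have e : (h : S' → S) ⁻¹' {s | IsFinite (MoreMor.fiberMap f g s)} =
      {s | IsFinite (MoreMor.fiberMap (bcMap h f g) (pullback.fst h g) s)} := hloc.symm
  rw [e]
  exact key

/-- **EGA IV 9.6.1 (closed immersions), dichotomy form.** -/
lemma dich_isClosedImmersion : Dich {s | IsClosedImmersion (MoreMor.fiberMap f g s)} := by
  have : {s | IsClosedImmersion (MoreMor.fiberMap f g s)} =
      {s | IsFinite (MoreMor.fiberMap f g s)} ∩ {s | Mono (MoreMor.fiberMap f g s)} := by
    ext s
    exact IsClosedImmersion.iff_isFinite_and_mono _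
  rw [this]
  exact Dich.inter (dich_isFinite f g) (dich_mono f g)

end

end Dich

theorem isConsMor_isFinite : ConsProp.IsConsMor.{u} (fun _ _ _ f _ => IsFinite f) := by
  haveI := Groth.Agent.S0084.result.{u}
  exact ⟨isFieldStableMor_of_descends @IsFinite,
    fun _ _ _ f g _ _ _ _ _ _ ↦ dich_isFinite f g⟩

theorem isConsMor_isClosedImmersion :
    ConsProp.IsConsMor.{u} (fun _ _ _ f _ => IsClosedImmersion f) := by
  haveI := Groth.Agent.S0083.result.{u}
  exact ⟨isFieldStableMor_of_descends @IsClosedImmersion,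
    fun _ _ _ f g _ _ _ _ _ _ ↦ dich_isClosedImmersion f g⟩

end Groth.Agent.Lib.Helper24.ConsMorFinite
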