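import Groth.Agent.Lib.Helper24.ConsMorFinite
import Groth.Agent.S1124

/-!
# Constructibility of the locus where the morphism of fibres is an immersion
(EGA IV 9.6.1 (viii)) (helper24)
-/

set_option autoImplicit false

universe u

open CategoryTheory CategoryTheory.Limits AlgebraicGeometry Topology TopologicalSpace

namespace Groth.Agent.Lib.Helper24.ConsMorImm

open Groth.Agent.Lib.Helper8.ConstrTop Groth.Agent.Lib.Helper24.ConsLocus
open Groth.Agent.Lib.Helper24.Lim8 Groth.Agent.Lib.Helper24.FibreLocus
open Groth.Agent.Lib.Helper24.ConsMorIso Groth.Agent.Lib.Helper24.ConsMorSep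
open Groth.Agent.Lib.Helper24.ConsMorSmooth Groth.Agent.Lib.Helper24.ConsMorFinite
open Groth.Agent.Lib.Helper24.FibreClosure

section general

variable {X Y S : Scheme.{u}} (f : X ⟶ Y) (g : Y ⟶ S)

/-- The fibre map of the restriction of `f` to an open `W` of `Y` is the base change of the fibre map
along the open immersion of fibres. -/
lemma fiberMap_morphismRestrict_iff {P : MorphismProperty Scheme.{u}} [P.RespectsIso]
    (W : Y.Opens) (s : S) :
    P (MoreMor.fiberMap (f ∣_ W) (W.ι ≫ g) s) ↔
      P (pullback.snd (MoreMor.fiberMap f g s) (MoreMor.fiberMap W.ι g s)) := by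
  have h1 : IsPullback (pullback.fst (MoreMor.fiberMap f g s) (MoreMor.fiberMap W.ι g s) ≫
      (f ≫ g).fiberι s) (pullback.snd (MoreMor.fiberMap f g s) (MoreMor.fiberMap W.ι g s)) f
      (MoreMor.fiberMap W.ι g s ≫ g.fiberι s) :=
    (IsPullback.of_hasPullback (MoreMor.fiberMap f g s)
      (MoreMor.fiberMap W.ι g s)).paste_horiz (isPullback_fiberMap f g s)
  rw [iff_pullback_snd_of_isPullback (P := P) h1, fiberMap_iff_pullback_snd (P := P),
    pullback_snd_morphismRestrict_iff (P := P), (isPullback_fiberMap W.ι g s).w]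

/-- An immersion criterion relative to an open subscheme containing the image, in which the image is
closed. -/
lemma isImmersion_iff_of_isOpenImmersion {X Y W : Scheme.{u}} (f : X ⟶ Y) (j : W ⟶ Y)
    [IsOpenImmersion j] (h1 : Set.range f ⊆ Set.range j) (h2 : IsClosed (j ⁻¹' Set.range f)) :
    IsImmersion f ↔ IsClosedImmersion (pullback.snd f j) := by
  constructor
  · intro hf
    haveI : IsImmersion (pullback.snd f j) := MorphismProperty.pullback_snd _ _ hf
    refine IsClosedImmersion.of_isPreimmersion _ ?_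
    rw [Scheme.Pullback.range_snd]
    exact h2
  · intro hcl
    haveI : IsIso (pullback.fst f j) := by
      rw [isIso_iff_isOpenImmersion_and_surjective]
      refine ⟨inferInstance, ⟨?_⟩⟩
      rw [← Set.range_eq_univ, Scheme.Pullback.range_fst]
      exact Set.eq_univ_of_forall fun x ↦ h1 ⟨x, rfl⟩
    have e : f = inv (pullback.fst f j) ≫ pullback.snd f j ≫ j := by
      rw [IsIso.eq_inv_comp, pullback.condition]
    rw [e]
    infer_instance

end general

section DichTop

lemma Dich.congr_on_open {Z : Type*} [TopologicalSpace Z] [IrreducibleSpace Z] {E E' U : Set Z}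
    (hU : IsOpen U) (hUne : U.Nonempty) (h : ∀ s ∈ U, s ∈ E ↔ s ∈ E') (H : Dich E') : Dich E := by
  rcases H with hc | hc
  · left
    obtain ⟨z, hz1, hz2⟩ := nonempty_preirreducible_inter isOpen_interior hU hc hUne
    refine ⟨z, mem_interior.mpr ⟨interior E' ∩ U, ?_, isOpen_interior.inter hU, hz1, hz2⟩⟩
    intro s hs
    exact (h s hs.2).mpr (interior_subset hs.1)
  · right
    obtain ⟨z, hz1, hz2⟩ := nonempty_preirreducible_inter isOpen_interior hU hc hUne
    refine ⟨z, mem_interior.mpr ⟨interior E'ᶜ ∩ U, ?_, isOpen_interior.inter hU, hz1, hz2⟩⟩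
    intro s hs hsE
    exact interior_subset hs.1 ((h s hs.2).mp hsE)

end DichTop

section Dich

variable {X Y S : Scheme.{u}} (f : X ⟶ Y) (g : Y ⟶ S)

/-- closure in the fibre in terms of points of `Y`. -/
lemma closure_fibre_eq (s : S) (R : Set Y) :
    closure ((g.fiberι s) ⁻¹' R) = (g.fiberι s) ⁻¹' closure (R ∩ g ⁻¹' {s}) := by
  have hind := (g.fiberι s).isEmbedding.toIsInducing
  have himg : (g.fiberι s) '' ((g.fiberι s) ⁻¹' R) = R ∩ g ⁻¹' {s} := by
    rw [Set.image_preimage_eq_inter_range, Scheme.Hom.range_fiberι]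
  rw [hind.closure_eq_preimage_closure_image, himg]

lemma g_fiberι (s : S) (y' : g.fiber s) : g (g.fiberι s y') = s := by
  have : (g.fiberι s) y' ∈ Set.range (g.fiberι s) := ⟨y', rfl⟩
  rw [Scheme.Hom.range_fiberι] at this
  exact this

variable [IsIntegral S] [IsNoetherian S] [LocallyOfFiniteType g] [QuasiCompact g]
    [LocallyOfFiniteType (f ≫ g)] [QuasiCompact (f ≫ g)]

/-- **EGA IV 9.6.1 (immersions), dichotomy form.** -/
lemma dich_isImmersion : Dich {s | IsImmersion (MoreMor.fiberMap f g s)} := by
  obtain ⟨h1, h2, h3, h4⟩ := props_of_comp f g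
  haveI := h1
  haveI := h2
  haveI := h3
  haveI := h4
  set η := genericPoint S with hη
  have hR : IsConstructible (Set.range f) := by
    rw [← Set.image_univ]
    exact f.isConstructible_image IsConstructible.univ
  set T : Set Y := closure (Set.range f) \ Set.range f with hTdef
  have hT : IsConstructible T := (isConstructible_of_isClosed isClosed_closure).sdiff hR
  obtain ⟨V, hηV, hV⟩ := exists_open_forall_mem_closure_fibre g hR
  -- an immersion of fibres over `V` forces `T_s` to be closed
  have claim1 : ∀ s ∈ V, IsImmersion (MoreMor.fiberMap f g s) →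
      IsClosed ((g.fiberι s) ⁻¹' T) := by
    intro s hs himm
    have hlc : IsLocallyClosed ((g.fiberι s) ⁻¹' Set.range f) := by
      rw [← range_fiberMap]
      exact (MoreMor.fiberMap f g s).isLocallyClosed_range
    have hcl : closure ((g.fiberι s) ⁻¹' Set.range f) = (g.fiberι s) ⁻¹' closure (Set.range f) := by
      rw [closure_fibre_eq]
      ext y'
      constructor
      · intro hy'
        exact closure_mono Set.inter_subset_left hy'
      · intro hy'
        have := hV _ hy' (by rw [g_fiberι]; exact hs)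
        rwa [g_fiberι] at this
    have : (g.fiberι s) ⁻¹' T = (coborder ((g.fiberι s) ⁻¹' Set.range f))ᶜ := by
      rw [coborder, compl_compl, hcl, hTdef, Set.preimage_sdiff]
    rw [this]
    exact hlc.isOpen_coborder.isClosed_compl
  rcases dich_isClosed_fibre g hT with H | H
  swap
  · right
    obtain ⟨z, hz1, hz2⟩ := nonempty_preirreducible_inter isOpen_interior V.2 H ⟨η, hηV⟩
    refine ⟨z, mem_interior.mpr ⟨interior {s : S | IsClosed ((g.fiberι s) ⁻¹' T)}ᶜ ∩ V, ?_,
      isOpen_interior.inter V.2, hz1, hz2⟩⟩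
    intro s hs hsE
    exact interior_subset hs.1 (claim1 s hs.2 hsE)
  have hηT : IsClosed ((g.fiberι η) ⁻¹' T) := mem_interior_genericPoint H
  obtain ⟨V', hηV', hV'⟩ := exists_open_forall_mem_closure_fibre g hT
  set D : Set Y := closure T \ T with hDdef
  have hD : IsConstructible D := (isConstructible_of_isClosed isClosed_closure).sdiff hT
  have hηD : η ∈ (g '' D)ᶜ := by
    rintro ⟨y, ⟨hy1, hy2⟩, hyη⟩
    have := hV' y hy1 (by rw [hyη]; exact hηV')
    rw [hyη] at this
    exact hy2 ((isClosed_fibre_iff g η T).mp hηT y this hyη)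
  have hCD : IsConstructible (g '' D)ᶜ := (g.isConstructible_image hD).compl
  have hint : (interior (g '' D)ᶜ).Nonempty := by
    rcases interior_nonempty_or_of_isConstructible hCD with hc | hc
    · exact hc
    · exact absurd hηD (mem_interior_genericPoint hc)
  set U : Set S := interior (g '' D)ᶜ with hUdef
  have hU : IsOpen U := isOpen_interior
  have hUD : ∀ y : Y, g y ∈ U → y ∈ closure T → y ∈ T := by
    intro y hy hyT
    by_contra hcon
    exact interior_subset hy ⟨y, ⟨hyT, hcon⟩, rfl⟩
  let W : Y.Opens := ⟨g ⁻¹' U ∩ (closure T)ᶜ,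
    (hU.preimage g.continuous).inter isClosed_closure.isOpen_compl⟩
  have hWR : ∀ y ∈ W, y ∈ closure (Set.range f) → y ∈ Set.range f := by
    intro y hyW hy
    by_contra hcon
    exact hyW.2 (subset_closure ⟨hy, hcon⟩)
  have hRW : ∀ y ∈ Set.range f, g y ∈ U → y ∈ W := by
    intro y hy hyU
    refine ⟨hyU, fun hyT ↦ ?_⟩
    exact (hUD y hyU hyT).2 hy
  haveI : LocallyOfFiniteType ((f ∣_ W) ≫ W.ι ≫ g) := by
    rw [morphismRestrict_ι_assoc]
    infer_instance
  haveI : QuasiCompact ((f ∣_ W) ≫ W.ι ≫ g) := by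
    rw [morphismRestrict_ι_assoc]
    infer_instance
  refine Dich.congr_on_open hU hint (fun s hs ↦ ?_) (dich_isClosedImmersion (f ∣_ W) (W.ι ≫ g))
  change IsImmersion (MoreMor.fiberMap f g s) ↔
    IsClosedImmersion (MoreMor.fiberMap (f ∣_ W) (W.ι ≫ g) s)
  rw [fiberMap_morphismRestrict_iff (P := @IsClosedImmersion)]
  haveI : IsOpenImmersion (MoreMor.fiberMap W.ι g s) :=
    MorphismProperty.of_isPullback (P := @IsOpenImmersion) (isPullback_fiberMap W.ι g s)
      inferInstance
  refine isImmersion_iff_of_isOpenImmersion _ _ ?_ ?_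
  · rw [range_fiberMap, range_fiberMap, Scheme.Opens.range_ι]
    intro y' hy'
    exact hRW _ hy' (by rw [g_fiberι]; exact hs)
  · rw [range_fiberMap]
    have : (MoreMor.fiberMap W.ι g s) ⁻¹' ((g.fiberι s) ⁻¹' Set.range f) =
        (MoreMor.fiberMap W.ι g s) ⁻¹' ((g.fiberι s) ⁻¹' closure (Set.range f)) := by
      ext z
      constructor
      · intro hz
        exact subset_closure hz
      · intro hz
        refine hWR _ ?_ hz
        have : MoreMor.fiberMap W.ι g s z ∈ Set.range (MoreMor.fiberMap W.ι g s) := ⟨z, rfl⟩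
        rw [range_fiberMap, Scheme.Opens.range_ι] at this
        exact this
    rw [this]
    exact (isClosed_closure.preimage (g.fiberι s).continuous).preimage
      (MoreMor.fiberMap W.ι g s).continuous

end Dich

lemma isFieldStableMor_isImmersion :
    ConsProp.IsFieldStableMor.{u} (fun _ _ _ f _ => IsImmersion f) := by
  intro X X' Y Y' T T' f g f' g' eX eY h _ _ _ _ _ _ _ _ hY hX
  have := ConsLocus.isNoetherian_of_subsingleton T
  obtain ⟨h1, h2⟩ := lft_qc_of_comp f g
  haveI := Groth.Agent.S1124.result.{u}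
  have hQ := isFieldStableMor_of_descends
    (@IsImmersion ⊓ @QuasiCompact : MorphismProperty Scheme.{u})
  have key := hQ f g f' g' eX eY h hY hX
  have hqc' : QuasiCompact f' := MorphismProperty.of_isPullback hX h2
  exact ⟨fun H ↦ (key.mp ⟨H, h2⟩).1, fun H ↦ (key.mpr ⟨H, hqc'⟩).1⟩

theorem isConsMor_isImmersion : ConsProp.IsConsMor.{u} (fun _ _ _ f _ => IsImmersion f) :=
  ⟨isFieldStableMor_isImmersion, fun _ _ _ f g _ _ _ _ _ _ ↦ dich_isImmersion f g⟩

end Groth.Agent.Lib.Helper24.ConsMorImm
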