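import Groth.Agent.Lib.Helper24.Lim8

/-!
# Good sets and locally constructible sets in (not necessarily quasi-separated) schemes (helper24)
-/

set_option autoImplicit false

open CategoryTheory CategoryTheory.Limits AlgebraicGeometry Topology

universe u

namespace Groth.Agent.Lib.Helper24.Lim8

lemma isLocallyConstructible_compl {X : Type*} [TopologicalSpace X] {E : Set X}
    (hE : IsLocallyConstructible E) : IsLocallyConstructible Eᶜ := by
  intro x
  obtain ⟨U, hxU, hU, hUE⟩ := hE x
  exact ⟨U, hxU, hU, by rw [Set.preimage_compl]; exact hUE.compl⟩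

/-- (G1) the image in `X` of a constructible subset of a quasi-compact open subspace is good. -/
lemma IsGood.image_of_isConstructible {X : Type*} [TopologicalSpace X] {W : Set X}
    (hW : IsOpen W) (hWc : IsCompact W) {T : Set W} (hT : IsConstructible T) :
    IsGood (Subtype.val '' T : Set X) := by
  have : CompactSpace W := isCompact_iff_compactSpace.mp hWc
  induction T, hT using BooleanSubalgebra.closure_sdiff_sup_induction with
  | isSublattice =>
    exact ⟨fun s hs t ht ↦ ⟨hs.1.union ht.1, hs.2.union ht.2⟩,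
      fun s hs t ht ↦ ⟨hs.1.inter ht.1, hs.2.inter_isOpen ht.2 ht.1⟩⟩
  | bot_mem => exact ⟨isOpen_empty, .empty⟩
  | top_mem => exact ⟨isOpen_univ, .univ⟩
  | sdiff U hU V hV =>
    have e : (Subtype.val '' (U \ V) : Set X) =
        (Subtype.val '' U) ∩ (Subtype.val '' V)ᶜ := by
      rw [Set.image_sdiff Subtype.val_injective, Set.sdiff_eq]
    rw [e]
    exact .base _ _ (hW.isOpenMap_subtype_val _ hU.1) (hU.2.isCompact.image continuous_subtype_val)
      (hW.isOpenMap_subtype_val _ hV.1).isClosed_compl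
  | sup s _ t _ hs' ht' =>
    show IsGood (Subtype.val '' (s ∪ t))
    rw [Set.image_union]
    exact .union _ _ hs' ht'

/-- Finite unions of good sets are good. -/
lemma IsGood.biUnion {X : Type*} [TopologicalSpace X] {ι : Type*} (t : Finset ι) (A : ι → Set X)
    (hA : ∀ i ∈ t, IsGood (A i)) : IsGood (⋃ i ∈ t, A i) := by
  classical
  induction t using Finset.induction_on with
  | empty => simpa using IsGood.empty
  | insert a s ha ih =>
    rw [Finset.set_biUnion_insert]
    exact .union _ _ (hA a (Finset.mem_insert_self a s))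
      (ih fun i hi ↦ hA i (Finset.mem_insert_of_mem hi))

/-- (G2) In a scheme, the intersection of a quasi-compact open and a locally constructible set
is good. -/
lemma IsGood.of_isCompact_inter_isLocallyConstructible {X : Scheme.{u}} {K E : Set X}
    (hK : IsOpen K) (hKc : IsCompact K) (hE : IsLocallyConstructible E) : IsGood (K ∩ E) := by
  classical
  have key : ∀ x ∈ K, ∃ W : X.Opens, IsAffineOpen W ∧ x ∈ W ∧ (W : Set X) ⊆ K ∧
      IsGood ((W : Set X) ∩ E) := by
    intro x hx
    obtain ⟨U, hxU, hU, hUE⟩ := hE x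
    obtain ⟨_, ⟨W, hW : IsAffineOpen W, rfl⟩, hxW, hWU⟩ :=
      X.isBasis_affineOpens.exists_subset_of_mem_open
        (⟨mem_of_mem_nhds hxU, hx⟩ : x ∈ U ∩ K) (hU.inter hK)
    refine ⟨W, hW, hxW, fun y hy ↦ (hWU hy).2, ?_⟩
    have hWU' : (W : Set X) ⊆ U := fun y hy ↦ (hWU hy).1
    have h1 : IsConstructible (Subtype.val ⁻¹' E : Set (W : Set X)) :=
      hUE.preimage_of_isOpenEmbedding (f := Set.inclusion hWU')
        (.inclusion hWU' (W.2.preimage continuous_subtype_val))
    have := IsGood.image_of_isConstructible W.2 hW.isCompact h1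
    have e : (Subtype.val '' (Subtype.val ⁻¹' E : Set (W : Set X)) : Set X) = (W : Set X) ∩ E := by
      rw [Set.image_preimage_eq_inter_range, Subtype.range_coe, Set.inter_comm]
    rw [← e]
    exact this
  choose! W hWaff hxW hWK hWgood using key
  obtain ⟨t, htK, ht⟩ := hKc.elim_nhds_subcover (fun x ↦ (W x : Set X))
    (fun x hx ↦ (W x).2.mem_nhds (hxW x hx))
  have e : K ∩ E = ⋃ x ∈ t, (W x : Set X) ∩ E := by
    rw [← Set.iUnion₂_inter]
    congr 1
    exact subset_antisymm ht (Set.iUnion₂_subset fun x hx ↦ hWK x (htK x hx))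
  rw [e]
  exact IsGood.biUnion t _ fun x hx ↦ hWgood x (htK x hx)

/-- (G3) -/
lemma IsGood.inter_isLocallyConstructible {X : Scheme.{u}} {A E : Set X} (hA : IsGood A)
    (hE : IsLocallyConstructible E) : IsGood (A ∩ E) := by
  induction hA with
  | base U Z hU hU' hZ =>
    rw [Set.inter_right_comm]
    exact (IsGood.of_isCompact_inter_isLocallyConstructible hU hU' hE).inter_isClosed hZ
  | union A B _ _ ihA ihB =>
    rw [Set.union_inter_distrib_right]
    exact .union _ _ ihA ihB

lemma IsGood.sdiff_isLocallyConstructible {X : Scheme.{u}} {A E : Set X} (hA : IsGood A)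
    (hE : IsLocallyConstructible E) : IsGood (A \ E) := by
  rw [Set.sdiff_eq]
  exact hA.inter_isLocallyConstructible (isLocallyConstructible_compl hE)

/-- (G4) -/
lemma IsGood.of_isLocallyConstructible {X : Scheme.{u}} [CompactSpace X] {E : Set X}
    (hE : IsLocallyConstructible E) : IsGood E := by
  have := IsGood.of_isCompact_inter_isLocallyConstructible (X := X) isOpen_univ isCompact_univ hE
  rwa [Set.univ_inter] at this

/-- Preimages of locally constructible sets under morphisms of schemes are locally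
constructible. -/
lemma isLocallyConstructible_preimage {X Y : Scheme.{u}} (f : X ⟶ Y) {E : Set Y}
    (hE : IsLocallyConstructible E) : IsLocallyConstructible (f ⁻¹' E) := by
  intro x
  obtain ⟨U, hxU, hU, hUE⟩ := hE (f x)
  refine ⟨f ⁻¹' U, f.continuous.continuousAt.preimage_mem_nhds hxU, hU.preimage f.continuous, ?_⟩
  have h1 : IsConstructible ((f ∣_ (⟨U, hU⟩ : Y.Opens)) ⁻¹' (Subtype.val ⁻¹' E)) :=
    (f ∣_ (⟨U, hU⟩ : Y.Opens)).isConstructible_preimage hUE
  have e : ((f ∣_ (⟨U, hU⟩ : Y.Opens)) ⁻¹' (Subtype.val ⁻¹' E)) =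
      (Subtype.val ⁻¹' (f ⁻¹' E) : Set ↥(f ⁻¹ᵁ (⟨U, hU⟩ : Y.Opens))) := by
    ext y
    simp only [Set.mem_preimage, morphismRestrict_base_coe]
    rfl
  rw [e] at h1
  exact h1

variable {I : Type u} [Category.{u} I] (D : I ⥤ Scheme.{u}) (c : Cone D) (hc : IsLimit c)

include hc in
/-- EGA IV 8.3.11 for locally constructible subsets of a quasi-compact (not necessarily
quasi-separated) stage: openness of the preimage in the limit is detected at a finite stage. -/
lemma isOpen_preimage_iff_of_isLocallyConstructible [IsCofiltered I]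
    [∀ {i j} (f : i ⟶ j), IsAffineHom (D.map f)] (i₁ : I) [CompactSpace (D.obj i₁)]
    (Z₁ : Set (D.obj i₁)) (hZ : IsLocallyConstructible Z₁) :
    IsOpen (c.π.app i₁ ⁻¹' Z₁) ↔ ∃ (j : I) (φ : j ⟶ i₁), IsOpen (D.map φ ⁻¹' Z₁) := by
  have hcpt : CompactSpace c.pt := compactSpace_pt D c hc i₁
  constructor
  · intro hW
    have haff := isAffineHom_π_app D c hc i₁
    have hWc : IsCompact (c.π.app i₁ ⁻¹' Z₁) :=
      ((IsGood.of_isLocallyConstructible hZ).preimage_hom (c.π.app i₁)).isCompact
    obtain ⟨k, φ, V, hV, eV⟩ := exists_preimage_eq_over D c hc i₁ ⟨_, hW⟩ hWc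
    replace eV : c.π.app k ⁻¹' (V : Set (D.obj k)) = c.π.app i₁ ⁻¹' Z₁ :=
      congrArg (fun W : c.pt.Opens ↦ (W : Set c.pt)) eV
    have : CompactSpace (D.obj k) := compactSpace_of_hom D φ
    have hZ' : IsLocallyConstructible (D.map φ ⁻¹' Z₁) := isLocallyConstructible_preimage _ hZ
    obtain ⟨l, ψ, hl⟩ := exists_preimage_eq_of_isGood_sdiff D c hc
      (V : Set (D.obj k)) (D.map φ ⁻¹' Z₁)
      ((IsGood.of_isCompact_isOpen hV V.2).sdiff_isLocallyConstructible hZ')
      (by
        rw [Set.sdiff_eq]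
        exact (IsGood.of_isLocallyConstructible hZ').inter_isClosed V.2.isClosed_compl)
      (by rw [eV, preimage_π_map])
    refine ⟨l, ψ ≫ φ, ?_⟩
    rw [preimage_map_comp, ← hl]
    exact V.2.preimage (D.map ψ).continuous
  · rintro ⟨j, φ, hj⟩
    rw [← preimage_π_map D c φ]
    exact hj.preimage (c.π.app j).continuous

include hc in
lemma isClosed_preimage_iff_of_isLocallyConstructible [IsCofiltered I]
    [∀ {i j} (f : i ⟶ j), IsAffineHom (D.map f)] (i₁ : I) [CompactSpace (D.obj i₁)]
    (Z₁ : Set (D.obj i₁)) (hZ : IsLocallyConstructible Z₁) :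
    IsClosed (c.π.app i₁ ⁻¹' Z₁) ↔ ∃ (j : I) (φ : j ⟶ i₁), IsClosed (D.map φ ⁻¹' Z₁) := by
  simp_rw [← isOpen_compl_iff, ← Set.preimage_compl]
  exact isOpen_preimage_iff_of_isLocallyConstructible D c hc i₁ _ (isLocallyConstructible_compl hZ)

end Groth.Agent.Lib.Helper24.Lim8
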