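import Groth.Agent.Lib.Helper24.Lim8Descend
import Groth.Agent.Lib.Helper24.LfpOfComp
import Groth.Agent.Lib.Helper24.Lim8LC

/-!
# Loci of points of the base where the morphism of fibres has a property (EGA IV 9.6.1) (helper24)
-/

set_option autoImplicit false

universe u

open CategoryTheory CategoryTheory.Limits AlgebraicGeometry

namespace Groth.Agent.Lib.Helper24.FibreLocus

open Groth.Agent.Lib.Helper24.Lim8

variable {X Y S : Scheme.{u}} (f : X ⟶ Y) (g : Y ⟶ S)

/-- The morphism of fibres over `s`, in the form used by the statements. -/
noncomputable abbrev fibreMap (s : S) :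
    pullback (f ≫ g) (S.fromSpecResidueField s) ⟶ pullback g (S.fromSpecResidueField s) :=
  pullback.lift (pullback.fst (f ≫ g) (S.fromSpecResidueField s) ≫ f)
    (pullback.snd (f ≫ g) (S.fromSpecResidueField s))
    ((Category.assoc _ _ _).trans pullback.condition)

lemma isPullback_fibreMap (s : S) :
    IsPullback (pullback.fst (f ≫ g) (S.fromSpecResidueField s)) (fibreMap f g s) f
      (pullback.fst g (S.fromSpecResidueField s)) := by
  refine IsPullback.of_bot ?_ (pullback.lift_fst _ _ _).symm (IsPullback.of_hasPullback g _)
  rw [pullback.lift_snd]
  exact IsPullback.of_hasPullback (f ≫ g) _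

/-- The statement's morphism of fibres has `P` iff `bcMap` has. -/
lemma fibreMap_iff {P : MorphismProperty Scheme.{u}} [P.RespectsIso] (s : S) :
    P (fibreMap f g s) ↔ P (bcMap (S.fromSpecResidueField s) f g) :=
  (bcMap_iff_of_isPullback (IsPullback.of_hasPullback g (S.fromSpecResidueField s))
    (isPullback_fibreMap f g s)).symm

/-- The surjectivity locus is the complement of the image of the complement of the range. -/
lemma surjective_bcMap_iff (s : S) :
    Surjective (bcMap (S.fromSpecResidueField s) f g) ↔ s ∉ g '' (Set.range f)ᶜ := by
  rw [surjective_iff, ← Set.range_eq_univ, range_bcMap, Set.preimage_eq_univ_iff,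
    Scheme.Pullback.range_snd, Scheme.range_fromSpecResidueField]
  constructor
  · rintro h ⟨y, hy, rfl⟩
    exact hy (h rfl)
  · intro h y hy
    by_contra hyf
    exact h ⟨y, hyf, hy⟩

lemma setOf_surjective_bcMap :
    {s : S | Surjective (bcMap (S.fromSpecResidueField s) f g)} = (g '' (Set.range f)ᶜ)ᶜ := by
  ext s
  exact surjective_bcMap_iff f g s

/-- The set of points where the morphism of fibres is surjective is locally constructible. -/
theorem isLocallyConstructible_setOf_surjective [LocallyOfFinitePresentation f] [QuasiCompact f]
    [LocallyOfFinitePresentation g] [QuasiCompact g] :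
    Topology.IsLocallyConstructible
      {s : S | Surjective (bcMap (S.fromSpecResidueField s) f g)} := by
  rw [setOf_surjective_bcMap]
  refine isLocallyConstructible_compl (g.isLocallyConstructible_image ?_)
  rw [← Set.image_univ]
  exact isLocallyConstructible_compl
    (f.isLocallyConstructible_image Topology.IsLocallyConstructible.univ)

/-- The set of points where the morphism of fibres is universally injective is locally
constructible. -/
theorem isLocallyConstructible_setOf_universallyInjective [LocallyOfFinitePresentation f]
    [QuasiCompact f] [QuasiSeparated f] [LocallyOfFinitePresentation g] [QuasiCompact g] :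
    Topology.IsLocallyConstructible
      {s : S | UniversallyInjective (bcMap (S.fromSpecResidueField s) f g)} := by
  have h1 : LocallyOfFinitePresentation (pullback.diagonal f) :=
    locallyOfFinitePresentation_diagonal f
  have h2 : QuasiCompact (pullback.diagonal f) := inferInstance
  have h3 : LocallyOfFinitePresentation (pullback.fst f f ≫ f ≫ g) := inferInstance
  have h4 : QuasiCompact (pullback.fst f f ≫ f ≫ g) := inferInstance
  have := isLocallyConstructible_setOf_surjective (pullback.diagonal f) (pullback.fst f f ≫ f ≫ g)
  convert this using 2
  ext s
  rw [universallyInjective_eq_diagonal]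
  exact (diagonal_bcMap_iff (P := @Surjective) _ f g).symm

end Groth.Agent.Lib.Helper24.FibreLocus
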