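import Groth.Agent.S1386
import Groth.Agent.S0414
import Groth.Agent.S5880
import Groth.Agent.Lib.Helper24.FibreLocus
import Groth.Agent.Lib.Helper24.ConsLocusSingle

/-!
# Constructibility of the loci where the morphism of fibres is flat / a monomorphism /
an isomorphism / an open immersion (EGA IV 9.6.1) (helper24)

Uses generic flatness (S0414) and the fibrewise flatness criterion (S1386).
-/

set_option autoImplicit false

universe u

open CategoryTheory CategoryTheory.Limits AlgebraicGeometry Topology TopologicalSpace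

namespace Groth.Agent.Lib.Helper24.ConsMorIso

open Groth.Agent.Lib.Helper8.ConstrTop Groth.Agent.Lib.Helper24.ConsLocus
open Groth.Agent.Lib.Helper24.Lim8 Groth.Agent.Lib.Helper24.FibreLocus

variable {X Y S : Scheme.{u}} (f : X ⟶ Y) (g : Y ⟶ S)

/-- stalk flatness from flatness over an open of the target -/
lemma flat_stalkMap_of_flat_restrict {X S : Scheme.{u}} (p : X ⟶ S) (U : S.Opens)
    (hp : Flat (p ∣_ U)) (x : X) (hx : p x ∈ U) : (p.stalkMap x).hom.Flat := by
  have h1 := (Flat.iff_flat_stalkMap (p ∣_ U)).mp hp ⟨x, hx⟩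
  have : (RingHom.toMorphismProperty RingHom.Flat).RespectsIso :=
    RingHom.toMorphismProperty_respectsIso_iff.mp RingHom.Flat.respectsIso
  exact ((RingHom.toMorphismProperty RingHom.Flat).arrow_mk_iso_iff
    (morphismRestrictStalkMap p U ⟨x, hx⟩)).mp h1

lemma flat_stalkMap_fiberMap [LocallyOfFinitePresentation (f ≫ g)] [LocallyOfFiniteType g]
    (s : S) (z : (f ≫ g).fiber s)
    (h2 : ∀ x : X, (f ≫ g) x = s → (g.stalkMap (f x)).hom.Flat)
    (H : ∀ x : X, (f ≫ g) x = s → (f.stalkMap x).hom.Flat) :
    ((MoreMor.fiberMap f g s).stalkMap z).hom.Flat := by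
  have hx : (f ≫ g) ((f ≫ g).fiberι s z) = s := by
    have : (f ≫ g).fiberι s z ∈ Set.range ((f ≫ g).fiberι s) := ⟨z, rfl⟩
    rw [Scheme.Hom.range_fiberι] at this
    exact this
  generalize hx' : (f ≫ g).fiberι s z = x at hx
  subst hx
  have hz : z = (f ≫ g).asFiber x := by
    apply ((f ≫ g).fiberι ((f ≫ g) x)).isEmbedding.injective
    rw [hx', Scheme.Hom.fiberι_asFiber]
  subst hz
  exact (((Groth.Agent.S1386.result f g).1 x).mpr ⟨h2 x rfl, H x rfl⟩).2

lemma flat_fiberMap_iff [LocallyOfFinitePresentation (f ≫ g)] [LocallyOfFiniteType g] (s : S)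
    (h1 : ∀ x : X, (f ≫ g) x = s → ((f ≫ g).stalkMap x).hom.Flat)
    (h2 : ∀ x : X, (f ≫ g) x = s → (g.stalkMap (f x)).hom.Flat) :
    Flat (MoreMor.fiberMap f g s) ↔ ∀ x : X, (f ≫ g) x = s → (f.stalkMap x).hom.Flat := by
  constructor
  · intro H x hx
    subst hx
    exact (((Groth.Agent.S1386.result f g).1 x).mp
      ⟨h1 x rfl, (Flat.iff_flat_stalkMap _).mp H _⟩).2
  · intro H
    rw [Flat.iff_flat_stalkMap]
    intro z
    exact flat_stalkMap_fiberMap f g s z h2 H

/-- In an irreducible space: if `E` agrees with a constructible set on a nonempty open, the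
dichotomy holds for `E`. -/
lemma dich_of_agree {Z : Type*} [TopologicalSpace Z] [IrreducibleSpace Z] {E C U : Set Z}
    (hC : IsConstructible C) (hU : IsOpen U) (hUne : U.Nonempty)
    (h : ∀ s ∈ U, s ∈ E ↔ s ∈ C) :
    (interior E).Nonempty ∨ (interior Eᶜ).Nonempty := by
  rcases interior_nonempty_or_of_isConstructible hC with hc | hc
  · left
    obtain ⟨z, hz1, hz2⟩ := nonempty_preirreducible_inter isOpen_interior hU hc hUne
    refine ⟨z, mem_interior.mpr ⟨interior C ∩ U, ?_, isOpen_interior.inter hU, hz1, hz2⟩⟩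
    intro s hs
    exact (h s hs.2).mpr (interior_subset hs.1)
  · right
    obtain ⟨z, hz1, hz2⟩ := nonempty_preirreducible_inter isOpen_interior hU hc hUne
    refine ⟨z, mem_interior.mpr ⟨interior Cᶜ ∩ U, ?_, isOpen_interior.inter hU, hz1, hz2⟩⟩
    intro s hs hsE
    exact interior_subset hs.1 ((h s hs.2).mp hsE)

theorem dich_flat [IsIntegral S] [IsNoetherian S] [LocallyOfFiniteType g] [QuasiCompact g]
    [LocallyOfFiniteType (f ≫ g)] [QuasiCompact (f ≫ g)] :
    (interior {s | Flat (MoreMor.fiberMap f g s)}).Nonempty ∨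
      (interior {s | Flat (MoreMor.fiberMap f g s)}ᶜ).Nonempty := by
  have : IsLocallyNoetherian X := LocallyOfFiniteType.isLocallyNoetherian (f ≫ g)
  have : CompactSpace X := QuasiCompact.compactSpace_of_compactSpace (f ≫ g)
  have : IsNoetherian X := ⟨⟩
  obtain ⟨U₁, hU₁d, hU₁f, -⟩ := Groth.Agent.S0414.result (f ≫ g)
  obtain ⟨U₂, hU₂d, hU₂f, -⟩ := Groth.Agent.S0414.result g
  let G : Set X := {x | (g.stalkMap (f x)).hom.Flat ∧ (f.stalkMap x).hom.Flat}
  have hG : IsOpen G := (Groth.Agent.S1386.result f g).2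
  let C : Set S := ((f ≫ g) '' Gᶜ)ᶜ
  have hC : IsConstructible C :=
    ((f ≫ g).isConstructible_image (isConstructible_of_isClosed hG.isClosed_compl)).compl
  have hUne : ((U₁ : Set S) ∩ U₂).Nonempty :=
    nonempty_preirreducible_inter U₁.isOpen U₂.isOpen hU₁d.nonempty hU₂d.nonempty
  refine dich_of_agree hC (U₁.isOpen.inter U₂.isOpen) hUne fun s hs ↦ ?_
  have h1 : ∀ x : X, (f ≫ g) x = s → ((f ≫ g).stalkMap x).hom.Flat := fun x hx ↦
    flat_stalkMap_of_flat_restrict (f ≫ g) U₁ hU₁f x (hx ▸ hs.1)
  have h2 : ∀ x : X, (f ≫ g) x = s → (g.stalkMap (f x)).hom.Flat := fun x hx ↦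
    flat_stalkMap_of_flat_restrict g U₂ hU₂f (f x) (by
      have : g (f x) = s := hx
      rw [this]; exact hs.2)
  change Flat (MoreMor.fiberMap f g s) ↔ _
  rw [flat_fiberMap_iff f g s h1 h2]
  constructor
  · rintro H ⟨x, hxG, hx⟩
    exact hxG ⟨h2 x hx, H x hx⟩
  · intro H x hx
    by_contra hfx
    exact H ⟨x, fun hG' ↦ hfx hG'.2, hx⟩

lemma fiberMap_eq (s : S) : MoreMor.fiberMap f g s = fibreMap f g s := rfl

lemma fiberMap_iff_bcMap {P : MorphismProperty Scheme.{u}} [P.RespectsIso] (s : S) :
    P (MoreMor.fiberMap f g s) ↔ P (bcMap (S.fromSpecResidueField s) f g) :=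
  fibreMap_iff f g s

/-- The fibre map of the diagonal is the diagonal of the fibre map. -/
lemma fiberMap_diagonal_iff {P : MorphismProperty Scheme.{u}} [P.RespectsIso] (s : S) :
    P (MoreMor.fiberMap (pullback.diagonal f) (pullback.fst f f ≫ f ≫ g) s) ↔
      P (pullback.diagonal (MoreMor.fiberMap f g s)) := by
  refine (fiberMap_iff_bcMap (P := P) _ _ s).trans ((diagonal_bcMap_iff _ f g).trans ?_)
  exact (fiberMap_iff_bcMap (P := P.diagonal) f g s).symm

/-- The dichotomy for a subset of an irreducible space. -/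
def Dich {Z : Type*} [TopologicalSpace Z] (E : Set Z) : Prop :=
  (interior E).Nonempty ∨ (interior Eᶜ).Nonempty

lemma Dich.inter {Z : Type*} [TopologicalSpace Z] [IrreducibleSpace Z] {E F : Set Z}
    (hE : Dich E) (hF : Dich F) : Dich (E ∩ F) := by
  rcases hE with hE | hE
  · rcases hF with hF | hF
    · left
      rw [interior_inter]
      exact nonempty_preirreducible_inter isOpen_interior isOpen_interior hE hF
    · right
      exact hF.mono (interior_mono (Set.compl_subset_compl.mpr Set.inter_subset_right))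
  · right
    exact hE.mono (interior_mono (Set.compl_subset_compl.mpr Set.inter_subset_left))

section

variable [IsIntegral S] [IsNoetherian S] [LocallyOfFiniteType g] [QuasiCompact g]
    [LocallyOfFiniteType (f ≫ g)] [QuasiCompact (f ≫ g)]

include g in
lemma props_of_comp : LocallyOfFinitePresentation f ∧ QuasiCompact f ∧ IsNoetherian Y ∧
    IsNoetherian X := by
  obtain ⟨h1, h2⟩ := lft_qc_of_comp f g
  have : IsLocallyNoetherian Y := LocallyOfFiniteType.isLocallyNoetherian g
  have : CompactSpace Y := QuasiCompact.compactSpace_of_compactSpace g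
  have : IsLocallyNoetherian X := LocallyOfFiniteType.isLocallyNoetherian (f ≫ g)
  have : CompactSpace X := QuasiCompact.compactSpace_of_compactSpace (f ≫ g)
  exact ⟨inferInstance, h2, ⟨⟩, ⟨⟩⟩

lemma dich_surjective : Dich {s | Surjective (MoreMor.fiberMap f g s)} := by
  obtain ⟨h1, h2, h3, h4⟩ := props_of_comp f g
  have : {s | Surjective (MoreMor.fiberMap f g s)} = (g '' (Set.range f)ᶜ)ᶜ := by
    rw [← setOf_surjective_bcMap]
    ext s
    exact fiberMap_iff_bcMap (P := @Surjective) f g s
  rw [this]
  have hr : IsConstructible (Set.range f) := by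
    rw [← Set.image_univ]
    exact f.isConstructible_image IsConstructible.univ
  exact interior_nonempty_or_of_isConstructible (g.isConstructible_image hr.compl).compl

lemma quasiCompact_fiberMap (s : S) : QuasiCompact (MoreMor.fiberMap f g s) := by
  obtain ⟨h1, h2, h3, h4⟩ := props_of_comp f g
  exact MorphismProperty.of_isPullback (isPullback_fiberMap f g s) h2

lemma lfp_fiberMap (s : S) : LocallyOfFinitePresentation (MoreMor.fiberMap f g s) := by
  obtain ⟨h1, h2, h3, h4⟩ := props_of_comp f g
  exact MorphismProperty.of_isPullback (isPullback_fiberMap f g s) h1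

/-- For families of monomorphisms, the isomorphism locus satisfies the dichotomy. -/
lemma dich_isIso_of_mono (hmono : ∀ s, Mono (MoreMor.fiberMap f g s)) :
    Dich {s | IsIso (MoreMor.fiberMap f g s)} := by
  have : {s | IsIso (MoreMor.fiberMap f g s)} =
      {s | Flat (MoreMor.fiberMap f g s)} ∩ {s | Surjective (MoreMor.fiberMap f g s)} := by
    ext s
    constructor
    · intro (h : IsIso _)
      exact ⟨(inferInstance : Flat (MoreMor.fiberMap f g s)),
        (inferInstance : Surjective (MoreMor.fiberMap f g s))⟩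
    · rintro ⟨h1 : Flat _, h2 : Surjective _⟩
      have := hmono s
      have := quasiCompact_fiberMap f g s
      exact Flat.isIso_of_surjective_of_mono _
  rw [this]
  exact Dich.inter (dich_flat f g) (dich_surjective f g)

lemma dich_mono : Dich {s | Mono (MoreMor.fiberMap f g s)} := by
  obtain ⟨h1, h2, h3, h4⟩ := props_of_comp f g
  have i1 : LocallyOfFiniteType (pullback.fst f f) := inferInstance
  have i2 : QuasiCompact (pullback.fst f f) := inferInstance
  have i3 : LocallyOfFiniteType (pullback.diagonal f ≫ pullback.fst f f ≫ f ≫ g) := by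
    rw [pullback.diagonal_fst_assoc]; infer_instance
  have i4 : QuasiCompact (pullback.diagonal f ≫ pullback.fst f f ≫ f ≫ g) := by
    rw [pullback.diagonal_fst_assoc]; infer_instance
  have key := dich_isIso_of_mono (pullback.diagonal f) (pullback.fst f f ≫ f ≫ g) (fun s ↦
    MorphismProperty.of_isPullback (P := MorphismProperty.monomorphisms Scheme.{u})
      (isPullback_fiberMap (pullback.diagonal f) (pullback.fst f f ≫ f ≫ g) s)
      (inferInstanceAs (Mono (pullback.diagonal f))))
  have : {s | Mono (MoreMor.fiberMap f g s)} =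
      {s | IsIso (MoreMor.fiberMap (pullback.diagonal f) (pullback.fst f f ≫ f ≫ g) s)} := by
    ext s
    exact ((fiberMap_diagonal_iff (P := MorphismProperty.isomorphisms Scheme.{u}) f g s).trans
      (pullback.isIso_diagonal_iff _)).symm
  rw [this]
  exact key

lemma dich_isIso : Dich {s | IsIso (MoreMor.fiberMap f g s)} := by
  have : {s | IsIso (MoreMor.fiberMap f g s)} =
      ({s | Flat (MoreMor.fiberMap f g s)} ∩ {s | Surjective (MoreMor.fiberMap f g s)}) ∩
        {s | Mono (MoreMor.fiberMap f g s)} := by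
    ext s
    constructor
    · intro (h : IsIso _)
      exact ⟨⟨(inferInstance : Flat (MoreMor.fiberMap f g s)),
        (inferInstance : Surjective (MoreMor.fiberMap f g s))⟩,
        (inferInstance : Mono (MoreMor.fiberMap f g s))⟩
    · rintro ⟨⟨h1 : Flat _, h2 : Surjective _⟩, h3 : Mono _⟩
      have := quasiCompact_fiberMap f g s
      exact Flat.isIso_of_surjective_of_mono _
  rw [this]
  exact Dich.inter (Dich.inter (dich_flat f g) (dich_surjective f g)) (dich_mono f g)

lemma dich_isOpenImmersion : Dich {s | IsOpenImmersion (MoreMor.fiberMap f g s)} := by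
  have : {s | IsOpenImmersion (MoreMor.fiberMap f g s)} =
      {s | Flat (MoreMor.fiberMap f g s)} ∩ {s | Mono (MoreMor.fiberMap f g s)} := by
    ext s
    constructor
    · intro (h : IsOpenImmersion _)
      exact ⟨(inferInstance : Flat (MoreMor.fiberMap f g s)),
        (inferInstance : Mono (MoreMor.fiberMap f g s))⟩
    · rintro ⟨h1 : Flat _, h3 : Mono _⟩
      have := lfp_fiberMap f g s
      exact IsOpenImmersion.of_flat_of_mono _
  rw [this]
  exact Dich.inter (dich_flat f g) (dich_mono f g)

end


section FieldStable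

lemma isFieldStableMor_of_descends (P : MorphismProperty Scheme.{u}) [P.IsStableUnderBaseChange]
    [P.DescendsAlong (@Surjective ⊓ @Flat ⊓ @QuasiCompact)] :
    ConsProp.IsFieldStableMor (fun _ _ _ f _ => P f) := by
  intro X X' Y Y' T T' f g f' g' eX eY h _ _ _ _ _ _ _ _ hY hX
  have hh : (@Surjective ⊓ @Flat ⊓ @QuasiCompact : MorphismProperty Scheme.{u}) h := by
    refine ⟨⟨?_, inferInstance⟩, ?_⟩
    · constructor
      intro t
      obtain ⟨t'⟩ := (inferInstance : Nonempty T')
      exact ⟨t', Subsingleton.elim _ _⟩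
    · exact ⟨fun U _ _ ↦ (Set.toFinite _).isCompact⟩
  have heY : (@Surjective ⊓ @Flat ⊓ @QuasiCompact : MorphismProperty Scheme.{u}) eY :=
    MorphismProperty.of_isPullback hY.flip hh
  exact (MorphismProperty.iff_of_isPullback hX.flip heY).symm

theorem isConsMor_isIso : ConsProp.IsConsMor.{u} (fun _ _ _ f _ => IsIso f) :=
  ⟨isFieldStableMor_of_descends (MorphismProperty.isomorphisms Scheme.{u}),
    fun _ _ _ f g _ _ _ _ _ _ ↦ dich_isIso f g⟩

theorem isConsMor_isOpenImmersion : ConsProp.IsConsMor.{u} (fun _ _ _ f _ => IsOpenImmersion f) :=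
  ⟨isFieldStableMor_of_descends @IsOpenImmersion,
    fun _ _ _ f g _ _ _ _ _ _ ↦ dich_isOpenImmersion f g⟩

theorem isConsMor_mono : ConsProp.IsConsMor.{u} (fun _ _ _ f _ => Mono f) := by
  have : (MorphismProperty.monomorphisms Scheme.{u}).DescendsAlong
      (@Surjective ⊓ @Flat ⊓ @QuasiCompact) := by
    rw [← MorphismProperty.diagonal_isomorphisms]
    infer_instance
  exact ⟨isFieldStableMor_of_descends (MorphismProperty.monomorphisms Scheme.{u}),
    fun _ _ _ f g _ _ _ _ _ _ ↦ dich_mono f g⟩

end FieldStable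

end Groth.Agent.Lib.Helper24.ConsMorIso
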