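import Groth.Agent.Lib.Helper24.NowhereDenseFibre
import Groth.Agent.Lib.Helper21.RedSubscheme
import Groth.Agent.Lib.Helper21.ConstrDim

/-!
# Closure commutes with fibres near the generic point (helper24)

EGA IV 9.5.1/9.5.2-type statements, for a morphism of finite type `u : X ⟶ S`, `S` irreducible.

* `IsMaxInOf u C x`: `x ∈ C` is maximal (for specialization) among the points of `C` in its fibre.
* `exists_open_forall_maximal_not_mem_of_isClosed`: closed `T`, `C`; if no point of `T` over the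
  generic point is maximal in `C`, the same holds over an open neighbourhood of the generic point.
* `exists_open_forall_mem_closure_fibre`: `X` noetherian, `Z` constructible: for `s` near the generic
  point, `closure Z ∩ X_s ⊆ closure (Z ∩ X_s)`.
-/

set_option linter.style.haveILetI false
universe u

open CategoryTheory CategoryTheory.Limits AlgebraicGeometry TopologicalSpace Topology

namespace Groth.Agent.Lib.Helper24.FibreClosure

open Groth.Agent.Lib.Helper24.NowhereDenseFibre Groth.Agent.Lib.Helper73.SchemeDim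
  Groth.Agent.Lib.Helper21.FieldDim

section top

variable {X : Type*} [TopologicalSpace X]

/-- In a noetherian quasi-sober space, a point `ξ` maximal in the closed set `C` has an open
neighbourhood `N` with `C ∩ N ⊆ closure {ξ}`. -/
theorem exists_open_inter_subset_closure_singleton [NoetherianSpace X] [QuasiSober X] [T0Space X]
    {C : Set X} (hC : IsClosed C) {ξ : X} (hξ : ξ ∈ C) (hmax : ∀ t ∈ C, t ⤳ ξ → t = ξ) :
    ∃ N : Set X, IsOpen N ∧ ξ ∈ N ∧ C ∩ N ⊆ closure {ξ} := by
  obtain ⟨𝒮, hfin, hcl, hirr, hC𝒮⟩ := NoetherianSpace.exists_finite_set_isClosed_irreducible hC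
  refine ⟨(⋃₀ {t ∈ 𝒮 | ξ ∉ t})ᶜ, ?_, ?_, ?_⟩
  · refine IsClosed.isOpen_compl (self := ?_)
    rw [Set.sUnion_eq_biUnion]
    exact (hfin.subset (Set.sep_subset _ _)).isClosed_biUnion fun t ht => hcl t ht.1
  · rintro ⟨t, ⟨-, ht⟩, hξt⟩
    exact ht hξt
  · rintro x ⟨hxC, hxN⟩
    rw [hC𝒮] at hxC
    obtain ⟨t, ht, hxt⟩ := hxC
    have hξt : ξ ∈ t := by
      by_contra hcon
      exact hxN ⟨t, ⟨ht, hcon⟩, hxt⟩
    obtain ⟨γ, hγ⟩ := QuasiSober.sober (hirr t ht) (hcl t ht)
    have hγC : γ ∈ C := by rw [hC𝒮]; exact ⟨t, ht, hγ.mem⟩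
    have : γ = ξ := hmax γ hγC (hγ.specializes hξt)
    rw [← this, hγ.def]
    exact hxt

/-- In a noetherian quasi-sober space: for constructible `Z`, no point maximal in `closure Z` lies in
`closure (closure Z \ Z)`. -/
theorem not_mem_closure_diff_of_maximal [NoetherianSpace X] [QuasiSober X] [T0Space X]
    {Z : Set X} (hZ : IsConstructible Z) {ξ : X} (hξ : ξ ∈ closure Z)
    (hmax : ∀ t ∈ closure Z, t ⤳ ξ → t = ξ) : ξ ∉ closure (closure Z \ Z) := by
  intro hξD
  obtain ⟨N, hN, hξN, hCN⟩ := exists_open_inter_subset_closure_singleton isClosed_closure hξ hmax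
  obtain ⟨U, hU, hξU, h | h⟩ := exists_open_inter_closure_subset_or hZ ξ
  · obtain ⟨d, ⟨hdU, hdN⟩, hdC, hdZ⟩ := mem_closure_iff.mp hξD (U ∩ N) (hU.inter hN) ⟨hξU, hξN⟩
    exact hdZ (h ⟨hCN ⟨hdC, hdN⟩, hdU⟩)
  · obtain ⟨z, ⟨hzU, hzN⟩, hzZ⟩ := mem_closure_iff.mp hξ (U ∩ N) (hU.inter hN) ⟨hξU, hξN⟩
    exact h ⟨hCN ⟨subset_closure hzZ, hzN⟩, hzU⟩ hzZ

end top

variable {X S : Scheme.{u}} (u : X ⟶ S)

/-- `x ∈ C` is maximal among the points of `C` in its fibre. -/
def IsMaxInOf (C : Set X) (x : X) : Prop := x ∈ C ∧ ∀ t ∈ C, t ⤳ x → u t = u x → t = x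

section sub

variable {C : Set X} (hC : IsClosed C)

/-- the reduced induced subscheme on a closed subset. -/
noncomputable abbrev sub : Scheme.{u} :=
  (Scheme.IdealSheafData.vanishingIdeal ⟨C, hC⟩).subscheme

/-- the closed immersion of the reduced induced subscheme. -/
noncomputable abbrev subι : sub hC ⟶ X :=
  (Scheme.IdealSheafData.vanishingIdeal ⟨C, hC⟩).subschemeι

theorem range_subι : Set.range (subι hC) = C :=
  Groth.Agent.Lib.Helper21.RedSubscheme.range_subschemeι_vanishingIdeal ⟨C, hC⟩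

theorem subι_mem (w : sub hC) : subι hC w ∈ C := by
  have := Set.mem_range_self (f := subι hC) w
  rwa [range_subι] at this

theorem subι_specializes_iff (w w' : sub hC) : subι hC w ⤳ subι hC w' ↔ w ⤳ w' :=
  (subι hC).isEmbedding.toIsInducing.specializes_iff

theorem isMaxInFibre_iff (w : sub hC) :
    IsMaxInFibre (subι hC ≫ u) w ↔ IsMaxInOf u C (subι hC w) := by
  constructor
  · intro h
    refine ⟨subι_mem hC w, fun t ht hsp hu => ?_⟩
    obtain ⟨w', rfl⟩ : t ∈ Set.range (subι hC) := by rw [range_subι]; exact ht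
    rw [h w' ((subι_specializes_iff hC w' w).mp hsp) hu]
  · intro h t ht hu
    exact (subι hC).isEmbedding.injective
      (h.2 _ (subι_mem hC t) ((subι_specializes_iff hC t w).mpr ht) hu)

include hC in
/-- every point of the closed set `C` is a specialization, within its fibre, of a point maximal in
`C` in this fibre. -/
theorem exists_isMaxInOf_specializes {x : X} (hx : x ∈ C) :
    ∃ x' : X, IsMaxInOf u C x' ∧ x' ⤳ x ∧ u x' = u x := by
  obtain ⟨w, rfl⟩ : x ∈ Set.range (subι hC) := by rw [range_subι]; exact hx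
  obtain ⟨w', hsp, hfw', hmax⟩ := exists_maximal_in_fibre (subι hC ≫ u) w
  exact ⟨subι hC w', (isMaxInFibre_iff u hC w').mp hmax, (subι_specializes_iff hC w' w).mpr hsp, hfw'⟩

variable [LocallyOfFiniteType u] [QuasiCompact u] [IrreducibleSpace ↑S]

include hC in
/-- closed-subset version of `exists_open_forall_maximal_not_mem`. -/
theorem exists_open_forall_maximal_not_mem_of_isClosed {T : Set X} (hT : IsClosed T)
    (h : ∀ ξ : X, u ξ = genericPoint ↑S → IsMaxInOf u C ξ → ξ ∉ T) :
    ∃ V : S.Opens, genericPoint ↑S ∈ V ∧ ∀ x : X, u x ∈ V → IsMaxInOf u C x → x ∉ T := by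
  obtain ⟨V, hηV, hV⟩ := exists_open_forall_maximal_not_mem (subι hC ≫ u)
    (Z := subι hC ⁻¹' T) (hT.preimage (subι hC).continuous)
    (fun w hw hmax => h _ hw ((isMaxInFibre_iff u hC w).mp hmax))
  refine ⟨V, hηV, fun x hx hmax => ?_⟩
  obtain ⟨w, rfl⟩ : x ∈ Set.range (subι hC) := by rw [range_subι]; exact hmax.1
  exact hV w hx ((isMaxInFibre_iff u hC w).mpr hmax)

end sub

variable [LocallyOfFiniteType u] [QuasiCompact u] [IrreducibleSpace ↑S]

omit [LocallyOfFiniteType u] [QuasiCompact u] in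
/-- a point over the generic point maximal in its fibre of `C` is maximal in `C`. -/
theorem eq_of_isMaxInOf_generic {C : Set X} {ξ : X} (hξ : u ξ = genericPoint ↑S)
    (hmax : IsMaxInOf u C ξ) : ∀ t ∈ C, t ⤳ ξ → t = ξ := by
  intro t ht hsp
  refine hmax.2 t ht hsp ?_
  have h1 : u t ⤳ u ξ := hsp.map u.continuous
  have h2 : u ξ ⤳ u t := by
    rw [hξ]; exact (genericPoint_spec S).specializes (Set.mem_univ _)
  exact (h1.antisymm h2).eq

/-- **EGA IV 9.5.2-type.** `X` noetherian, `Z` constructible: closure commutes with fibres near the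
generic point. -/
theorem exists_open_forall_mem_closure_fibre [NoetherianSpace ↑X] {Z : Set X}
    (hZ : IsConstructible Z) :
    ∃ V : S.Opens, genericPoint ↑S ∈ V ∧
      ∀ x ∈ closure Z, u x ∈ V → x ∈ closure (Z ∩ u ⁻¹' {u x}) := by
  obtain ⟨V, hηV, hV⟩ := exists_open_forall_maximal_not_mem_of_isClosed u
    (C := closure Z) isClosed_closure (T := closure (closure Z \ Z)) isClosed_closure
    (fun ξ hξ hmax => not_mem_closure_diff_of_maximal hZ hmax.1
      (eq_of_isMaxInOf_generic u hξ hmax))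
  refine ⟨V, hηV, fun x hx hxV => ?_⟩
  obtain ⟨x', hmax, hsp, hux'⟩ := exists_isMaxInOf_specializes u isClosed_closure hx
  have hx'T := hV x' (by rw [hux']; exact hxV) hmax
  have hx'Z : x' ∈ Z := by
    by_contra hcon
    exact hx'T (subset_closure ⟨hmax.1, hcon⟩)
  exact hsp.mem_closed isClosed_closure (subset_closure ⟨hx'Z, hux'⟩)

end Groth.Agent.Lib.Helper24.FibreClosure
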