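import Groth.Agent.Lib.Helper24.ConsMorIso
import Groth.Agent.Lib.Helper24.FibreClosure
import Groth.Agent.S0081
import Groth.Agent.S0083

/-!
# Constructibility of the locus where the morphism of fibres is separated (EGA IV 9.6.1) (helper24)

* `dich_isClosed_fibre`: for `R ⊆ Y` constructible, the set of `s` with `R_s` closed in `Y_s` satisfies
  the dichotomy (EGA IV 9.5.4).
* `dich_isClosedImmersion_of_isImmersion`, `dich_isSeparated`, `isConsMor_isSeparated`.
-/

set_option autoImplicit false

universe u

open CategoryTheory CategoryTheory.Limits AlgebraicGeometry Topology TopologicalSpace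

namespace Groth.Agent.Lib.Helper24.ConsMorSep

open Groth.Agent.Lib.Helper8.ConstrTop Groth.Agent.Lib.Helper24.ConsLocus
open Groth.Agent.Lib.Helper24.Lim8 Groth.Agent.Lib.Helper24.FibreLocus
open Groth.Agent.Lib.Helper24.ConsMorIso Groth.Agent.Lib.Helper24.FibreClosure

variable {X Y S : Scheme.{u}} (f : X ⟶ Y) (g : Y ⟶ S)

lemma range_fiberMap (s : S) :
    Set.range (MoreMor.fiberMap f g s) = (g.fiberι s) ⁻¹' Set.range f := by
  have := Scheme.image_preimage_eq_of_isPullback (isPullback_fiberMap f g s) Set.univ
  rw [Set.preimage_univ, Set.image_univ, Set.image_univ] at this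
  exact this

/-- closedness in the fibre, in terms of points of `Y`. -/
lemma isClosed_fibre_iff (s : S) (R : Set Y) :
    IsClosed ((g.fiberι s) ⁻¹' R) ↔ ∀ y ∈ closure (R ∩ g ⁻¹' {s}), g y = s → y ∈ R := by
  have hind := (g.fiberι s).isEmbedding.toIsInducing
  have himg : (g.fiberι s) '' ((g.fiberι s) ⁻¹' R) = R ∩ g ⁻¹' {s} := by
    rw [Set.image_preimage_eq_inter_range, Scheme.Hom.range_fiberι]
  constructor
  · intro h y hy hys
    obtain ⟨y', rfl⟩ : y ∈ Set.range (g.fiberι s) := by rw [Scheme.Hom.range_fiberι]; exact hys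
    have : y' ∈ closure ((g.fiberι s) ⁻¹' R) := by
      rw [hind.closure_eq_preimage_closure_image, himg]
      exact hy
    rw [h.closure_eq] at this
    exact this
  · intro h
    rw [← closure_subset_iff_isClosed]
    intro y' hy'
    rw [hind.closure_eq_preimage_closure_image, himg] at hy'
    refine h _ hy' ?_
    have : (g.fiberι s) y' ∈ Set.range (g.fiberι s) := ⟨y', rfl⟩
    rw [Scheme.Hom.range_fiberι] at this
    exact this

section

variable [IsIntegral S] [IsNoetherian S] [LocallyOfFiniteType g] [QuasiCompact g]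

/-- **EGA IV 9.5.4 (closed case), dichotomy form.** -/
lemma dich_isClosed_fibre {R : Set Y} (hR : IsConstructible R) :
    Dich {s : S | IsClosed ((g.fiberι s) ⁻¹' R)} := by
  have : IsLocallyNoetherian Y := LocallyOfFiniteType.isLocallyNoetherian g
  have : CompactSpace Y := QuasiCompact.compactSpace_of_compactSpace g
  have : IsNoetherian Y := ⟨⟩
  obtain ⟨V, hηV, hV⟩ := exists_open_forall_mem_closure_fibre g hR
  have hC : IsConstructible ((g '' (closure R \ R))ᶜ) :=
    (g.isConstructible_image ((isConstructible_of_isClosed isClosed_closure).sdiff hR)).compl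
  refine dich_of_agree hC V.2 ⟨_, hηV⟩ fun s hs => ?_
  change IsClosed ((g.fiberι s) ⁻¹' R) ↔ _
  rw [isClosed_fibre_iff]
  constructor
  · rintro h ⟨y, ⟨hy1, hy2⟩, hys⟩
    have := hV y hy1 (by rw [hys]; exact hs)
    rw [hys] at this
    exact hy2 (h y this hys)
  · intro h y hy hys
    by_contra hyR
    exact h ⟨y, ⟨closure_mono Set.inter_subset_left hy, hyR⟩, hys⟩

variable [LocallyOfFiniteType (f ≫ g)] [QuasiCompact (f ≫ g)]

lemma dich_isClosedImmersion_of_isImmersion [IsImmersion f] :
    Dich {s | IsClosedImmersion (MoreMor.fiberMap f g s)} := by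
  obtain ⟨h1, h2, h3, h4⟩ := props_of_comp f g
  have hr : IsConstructible (Set.range f) := by
    rw [← Set.image_univ]
    exact f.isConstructible_image IsConstructible.univ
  have : {s | IsClosedImmersion (MoreMor.fiberMap f g s)} =
      {s : S | IsClosed ((g.fiberι s) ⁻¹' Set.range f)} := by
    ext s
    have himm : IsImmersion (MoreMor.fiberMap f g s) :=
      MorphismProperty.of_isPullback (isPullback_fiberMap f g s) (inferInstanceAs (IsImmersion f))
    change IsClosedImmersion (MoreMor.fiberMap f g s) ↔ IsClosed _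
    rw [IsClosedImmersion.iff_isPreimmersion, range_fiberMap]
    exact ⟨fun h => h.2, fun h => ⟨inferInstance, h⟩⟩
  rw [this]
  exact dich_isClosed_fibre g hr

lemma dich_isSeparated : Dich {s | IsSeparated (MoreMor.fiberMap f g s)} := by
  obtain ⟨h1, h2, h3, h4⟩ := props_of_comp f g
  have i1 : LocallyOfFiniteType (pullback.fst f f) := inferInstance
  have i2 : QuasiCompact (pullback.fst f f) := inferInstance
  have i3 : LocallyOfFiniteType (pullback.diagonal f ≫ pullback.fst f f ≫ f ≫ g) := by
    rw [pullback.diagonal_fst_assoc]; infer_instance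
  have i4 : QuasiCompact (pullback.diagonal f ≫ pullback.fst f f ≫ f ≫ g) := by
    rw [pullback.diagonal_fst_assoc]; infer_instance
  have key := dich_isClosedImmersion_of_isImmersion (pullback.diagonal f) (pullback.fst f f ≫ f ≫ g)
  have : {s | IsSeparated (MoreMor.fiberMap f g s)} =
      {s | IsClosedImmersion (MoreMor.fiberMap (pullback.diagonal f) (pullback.fst f f ≫ f ≫ g) s)} := by
    ext s
    exact ((fiberMap_diagonal_iff (P := @IsClosedImmersion) f g s).trans
      (isSeparated_iff _).symm).symm
  rw [this]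
  exact key

end

theorem isConsMor_isSeparated : ConsProp.IsConsMor.{u} (fun _ _ _ f _ => IsSeparated f) := by
  haveI := Groth.Agent.S0081.result.{u}
  exact ⟨isFieldStableMor_of_descends @IsSeparated,
    fun _ _ _ f g _ _ _ _ _ _ ↦ dich_isSeparated f g⟩

end Groth.Agent.Lib.Helper24.ConsMorSep
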