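import Groth.Agent.Lib.Helper24.ConsLocusSet
import Groth.Agent.Lib.Helper24.ConsMorDom

/-!
# Constructibility of loci defined by topological properties of constructible sets in the fibres
(EGA IV 9.5.3, 9.5.4) (helper24)

For `u : X ⟶ S` of finite presentation and `Z`, `Z'` locally constructible in `X`, the sets of `s ∈ S`
such that `Z_s` is dense in `Z'_s` / closed / open / locally closed in `X_s` are locally constructible.
-/

set_option autoImplicit false

universe u

open CategoryTheory CategoryTheory.Limits AlgebraicGeometry Topology TopologicalSpace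

namespace Groth.Agent.Lib.Helper24.ConsSetLoci

open Groth.Agent.Lib.Helper8.ConstrTop Groth.Agent.Lib.Helper24.ConsLocus
open Groth.Agent.Lib.Helper24.ConsMorIso Groth.Agent.Lib.Helper24.FibreClosure
open Groth.Agent.Lib.Helper24.ConsMorSep Groth.Agent.Lib.Helper24.ConsMorDom

/-- `A'` is contained in the closure of `A`. -/
def QDense : ∀ (F : Type u) [TopologicalSpace F], Set F → Set F → Prop :=
  fun _ _ A A' => A' ⊆ closure A

/-- `A` is closed. -/
def QClosed : ∀ (F : Type u) [TopologicalSpace F], Set F → Set F → Prop :=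
  fun _ _ A _ => IsClosed A

/-- `A` is open. -/
def QOpen : ∀ (F : Type u) [TopologicalSpace F], Set F → Set F → Prop :=
  fun _ _ A _ => IsOpen A

/-- `A` is locally closed. -/
def QLC : ∀ (F : Type u) [TopologicalSpace F], Set F → Set F → Prop :=
  fun _ _ A _ => IsLocallyClosed A

lemma inv_dense : IsOpenSurjInvariant.{u} QDense := by
  intro F F' _ _ p hc ho hs A A'
  change A' ⊆ closure A ↔ p ⁻¹' A' ⊆ closure (p ⁻¹' A)
  rw [← ho.preimage_closure_eq_closure_preimage hc, hs.preimage_subset_preimage_iff]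

lemma inv_closed : IsOpenSurjInvariant.{u} QClosed := by
  intro F F' _ _ p hc ho hs A A'
  exact ((ho.isQuotientMap hc hs).isClosed_preimage).symm

lemma inv_open : IsOpenSurjInvariant.{u} QOpen := by
  intro F F' _ _ p hc ho hs A A'
  exact ((ho.isQuotientMap hc hs).isOpen_preimage).symm

lemma isLocallyClosed_iff_isOpen_coborder {F : Type*} [TopologicalSpace F] (A : Set F) :
    IsLocallyClosed A ↔ IsOpen (coborder A) :=
  (isLocallyClosed_tfae A).out 0 1

lemma inv_lc : IsOpenSurjInvariant.{u} QLC := by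
  intro F F' _ _ p hc ho hs A A'
  change IsLocallyClosed A ↔ IsLocallyClosed (p ⁻¹' A)
  rw [isLocallyClosed_iff_isOpen_coborder, isLocallyClosed_iff_isOpen_coborder,
    coborder_preimage ho hc, (ho.isQuotientMap hc hs).isOpen_preimage]

variable {X S : Scheme.{u}} (u : X ⟶ S)

/-- density in the fibre in terms of points of `X`. -/
lemma subset_closure_fibre_iff (s : S) (Z Z' : Set X) :
    (u.fiberι s) ⁻¹' Z' ⊆ closure ((u.fiberι s) ⁻¹' Z) ↔
      Z' ∩ u ⁻¹' {s} ⊆ closure (Z ∩ u ⁻¹' {s}) := by
  have hind := (u.fiberι s).isEmbedding.toIsInducing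
  have himg : (u.fiberι s) '' ((u.fiberι s) ⁻¹' Z) = Z ∩ u ⁻¹' {s} := by
    rw [Set.image_preimage_eq_inter_range, Scheme.Hom.range_fiberι]
  rw [hind.closure_eq_preimage_closure_image, himg]
  constructor
  · rintro h y ⟨hy1, hy2⟩
    obtain ⟨y', rfl⟩ : y ∈ Set.range (u.fiberι s) := by rw [Scheme.Hom.range_fiberι]; exact hy2
    exact h hy1
  · intro h y' hy'
    refine h ⟨hy', ?_⟩
    have : (u.fiberι s) y' ∈ Set.range (u.fiberι s) := ⟨y', rfl⟩
    rw [Scheme.Hom.range_fiberι] at this
    exact this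

lemma setLocus_dense_eq (Z Z' : Set X) :
    setLocus QDense u Z Z' = {s : S | Z' ∩ u ⁻¹' {s} ⊆ closure (Z ∩ u ⁻¹' {s})} := by
  ext s
  exact subset_closure_fibre_iff u s Z Z'

/-- transfer a dichotomy along agreement on a nonempty open. -/
lemma Dich.congr {T : Type*} [TopologicalSpace T] [IrreducibleSpace T] {E E' V : Set T}
    (hV : IsOpen V) (hVne : V.Nonempty) (h : ∀ s ∈ V, s ∈ E ↔ s ∈ E') (hE' : Dich E') :
    Dich E := by
  rcases hE' with hc | hc
  · left
    obtain ⟨z, hz1, hz2⟩ := nonempty_preirreducible_inter isOpen_interior hV hc hVne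
    refine ⟨z, mem_interior.mpr ⟨interior E' ∩ V, ?_, isOpen_interior.inter hV, hz1, hz2⟩⟩
    intro s hs
    exact (h s hs.2).mpr (interior_subset hs.1)
  · right
    obtain ⟨z, hz1, hz2⟩ := nonempty_preirreducible_inter isOpen_interior hV hc hVne
    refine ⟨z, mem_interior.mpr ⟨interior E'ᶜ ∩ V, ?_, isOpen_interior.inter hV, hz1, hz2⟩⟩
    intro s hs hsE
    exact interior_subset hs.1 ((h s hs.2).mp hsE)

section dich

variable [IsIntegral S] [IsNoetherian S] [LocallyOfFiniteType u] [QuasiCompact u]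
  [IsNoetherian X] {Z Z' : Set X} (hZ : IsConstructible Z) (hZ' : IsConstructible Z')

include hZ hZ' in
lemma dich_dense : Dich (setLocus QDense u Z Z') := by
  rw [setLocus_dense_eq]
  exact dich_subset_closure_fibre u hZ hZ'

include hZ in
lemma dich_closed : Dich (setLocus QClosed u Z Z') :=
  dich_isClosed_fibre u hZ

include hZ in
lemma dich_open : Dich (setLocus QOpen u Z Z') := by
  have : setLocus QOpen u Z Z' = {s : S | IsClosed ((u.fiberι s) ⁻¹' Zᶜ)} := by
    ext s
    change IsOpen _ ↔ IsClosed _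
    rw [Set.preimage_compl, isClosed_compl_iff]
  rw [this]
  exact dich_isClosed_fibre u hZ.compl

include hZ in
lemma dich_lc : Dich (setLocus QLC u Z Z') := by
  obtain ⟨V, hηV, hV⟩ := exists_open_forall_mem_closure_fibre u hZ
  have hD : IsConstructible (closure Z \ Z) :=
    (isConstructible_of_isClosed isClosed_closure).sdiff hZ
  refine Dich.congr V.2 ⟨_, hηV⟩ (fun s hs => ?_) (dich_isClosed_fibre u hD)
  change IsLocallyClosed ((u.fiberι s) ⁻¹' Z) ↔ IsClosed ((u.fiberι s) ⁻¹' (closure Z \ Z))
  have hind := (u.fiberι s).isEmbedding.toIsInducing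
  have himg : (u.fiberι s) '' ((u.fiberι s) ⁻¹' Z) = Z ∩ u ⁻¹' {s} := by
    rw [Set.image_preimage_eq_inter_range, Scheme.Hom.range_fiberι]
  have hcl : closure ((u.fiberι s) ⁻¹' Z) = (u.fiberι s) ⁻¹' closure Z := by
    rw [hind.closure_eq_preimage_closure_image, himg]
    ext y'
    have hy's : u ((u.fiberι s) y') = s := by
      have : (u.fiberι s) y' ∈ Set.range (u.fiberι s) := ⟨y', rfl⟩
      rw [Scheme.Hom.range_fiberι] at this
      exact this
    constructor
    · intro h
      exact closure_mono Set.inter_subset_left h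
    · intro h
      have := hV _ h (by rw [hy's]; exact hs)
      rw [hy's] at this
      exact this
  rw [isLocallyClosed_iff_isOpen_coborder, coborder, isOpen_compl_iff, hcl, Set.preimage_diff]

end dich

variable [LocallyOfFinitePresentation u] [QuasiCompact u] [QuasiSeparated u] {Z Z' : Set X}
  (hZ : IsLocallyConstructible Z) (hZ' : IsLocallyConstructible Z')

include hZ hZ' in
/-- **EGA IV 9.5.3.** -/
theorem isLocallyConstructible_setOf_dense :
    IsLocallyConstructible {s : S | Z' ∩ u ⁻¹' {s} ⊆ closure (Z ∩ u ⁻¹' {s})} := by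
  rw [← setLocus_dense_eq]
  exact isLocallyConstructible_setLocus inv_dense
    (fun S _ _ X u _ _ _ Z Z' hZ hZ' => dich_dense u hZ hZ') u hZ hZ'

include hZ in
/-- **EGA IV 9.5.4, closed case.** -/
theorem isLocallyConstructible_setOf_isClosed :
    IsLocallyConstructible {s : S | IsClosed ((u.fiberι s) ⁻¹' Z)} :=
  isLocallyConstructible_setLocus (Z' := Z) inv_closed
    (fun S _ _ X u _ _ _ Z Z' hZ _ => dich_closed u hZ) u hZ hZ

include hZ in
/-- **EGA IV 9.5.4, open case.** -/
theorem isLocallyConstructible_setOf_isOpen :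
    IsLocallyConstructible {s : S | IsOpen ((u.fiberι s) ⁻¹' Z)} :=
  isLocallyConstructible_setLocus (Z' := Z) inv_open
    (fun S _ _ X u _ _ _ Z Z' hZ _ => dich_open u hZ) u hZ hZ

include hZ in
/-- **EGA IV 9.5.4, locally closed case.** -/
theorem isLocallyConstructible_setOf_isLocallyClosed :
    IsLocallyConstructible {s : S | IsLocallyClosed ((u.fiberι s) ⁻¹' Z)} :=
  isLocallyConstructible_setLocus (Z' := Z) inv_lc
    (fun S _ _ X u _ _ _ Z Z' hZ _ => dich_lc u hZ) u hZ hZ

end Groth.Agent.Lib.Helper24.ConsSetLoci
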