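import Mathlib

/-!
# Affine charts of fibres (helper24)

For `f : X ⟶ Y`, affine opens `W ⊆ f⁻¹ V` and a point `y ∈ V`, the scheme
`Spec (Γ(X, W)) ×_{Spec Γ(Y, V)} Spec κ(y)` is an open subscheme of the fibre `f.fiber y`, with image
the trace of `W` on the fibre.
-/

set_option autoImplicit false

universe u

open CategoryTheory CategoryTheory.Limits AlgebraicGeometry

namespace Groth.Agent.Lib.Helper24.FibreChart

variable {X Y : Scheme.{u}} (f : X ⟶ Y) {V : Y.Opens} (hV : IsAffineOpen V) {W : X.Opens}
  (hW : IsAffineOpen W) (e : W ≤ f ⁻¹ᵁ V) (y : Y) (hy : y ∈ V)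

include hV in
lemma SpecMap_evaluation_fromSpec :
    Spec.map (Y.evaluation V y hy) ≫ hV.fromSpec = Y.fromSpecResidueField y := by
  rw [← Scheme.germ_residue, Spec.map_comp, Category.assoc]
  change Spec.map (Y.residue y) ≫ hV.fromSpecStalk hy = _
  rw [hV.fromSpecStalk_eq_fromSpecStalk hy]
  rfl

/-- The chart of the fibre. -/
noncomputable def chart :
    pullback (Spec.map (f.appLE V W e)) (Spec.map (Y.evaluation V y hy)) ⟶ f.fiber y :=
  pullback.lift (pullback.fst _ _ ≫ hW.fromSpec) (pullback.snd _ _) (by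
    rw [Category.assoc, ← IsAffineOpen.SpecMap_appLE_fromSpec f hV hW e, pullback.condition_assoc,
      SpecMap_evaluation_fromSpec hV y hy])

@[reassoc (attr := simp)]
lemma chart_fiberι :
    chart f hV hW e y hy ≫ f.fiberι y = pullback.fst _ _ ≫ hW.fromSpec :=
  pullback.lift_fst _ _ _

@[reassoc (attr := simp)]
lemma chart_fiberToSpecResidueField :
    chart f hV hW e y hy ≫ f.fiberToSpecResidueField y = pullback.snd _ _ :=
  pullback.lift_snd _ _ _

lemma isPullback_chart :
    IsPullback (chart f hV hW e y hy) (pullback.fst _ _) (f.fiberι y) hW.fromSpec := by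
  have hbot : IsPullback (f.fiberι y) (f.fiberToSpecResidueField y) f
      (Y.fromSpecResidueField y) := IsPullback.of_hasPullback f (Y.fromSpecResidueField y)
  have hbig : IsPullback (pullback.fst (Spec.map (f.appLE V W e)) (Spec.map (Y.evaluation V y hy)))
      (pullback.snd _ _) (hW.fromSpec ≫ f) (Y.fromSpecResidueField y) := by
    have h1 := IsPullback.of_hasPullback (Spec.map (f.appLE V W e))
      (Spec.map (Y.evaluation V y hy))
    have h2 : IsPullback (pullback.fst (Spec.map (f.appLE V W e)) (Spec.map (Y.evaluation V y hy)))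
        (pullback.snd _ _) (Spec.map (f.appLE V W e) ≫ hV.fromSpec)
        (Spec.map (Y.evaluation V y hy) ≫ hV.fromSpec) := by
      refine ⟨⟨by rw [pullback.condition_assoc]⟩, ⟨PullbackCone.IsLimit.mk _
        (fun s ↦ pullback.lift s.fst s.snd ?_) (fun s ↦ pullback.lift_fst _ _ _)
        (fun s ↦ pullback.lift_snd _ _ _) (fun s m h₁ h₂ ↦ ?_)⟩⟩
      · rw [← cancel_mono hV.fromSpec, Category.assoc, Category.assoc]
        exact s.condition
      · apply pullback.hom_ext
        · rw [h₁, pullback.lift_fst]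
        · rw [h₂, pullback.lift_snd]
    rwa [IsAffineOpen.SpecMap_appLE_fromSpec f hV hW e, SpecMap_evaluation_fromSpec hV y hy]
      at h2
  refine (IsPullback.of_bot ?_ (chart_fiberι f hV hW e y hy).symm hbot).flip
  rw [chart_fiberToSpecResidueField]
  exact hbig

instance : IsOpenImmersion (chart f hV hW e y hy) :=
  MorphismProperty.of_isPullback (isPullback_chart f hV hW e y hy).flip
    (inferInstance : IsOpenImmersion hW.fromSpec)

lemma range_chart :
    Set.range (chart f hV hW e y hy) = (f.fiberι y) ⁻¹' (W : Set X) := by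
  have h := isPullback_chart f hV hW e y hy
  have hsurj : Function.Surjective h.isoPullback.hom := h.isoPullback.hom.homeomorph.surjective
  rw [← hW.range_fromSpec, ← Scheme.Pullback.range_fst, ← h.isoPullback_hom_fst,
    Scheme.Hom.comp_base, TopCat.coe_comp, Set.range_comp, hsurj.range_eq, Set.image_univ]

open TensorProduct in
include hV hW in
/-- The chart in spectrum form, with the residue field on the left. -/
lemma exists_specChart :
    letI := (f.appLE V W e).hom.toAlgebra
    letI := (Y.evaluation V y hy).hom.toAlgebra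
    ∃ j : Spec (.of ((Y.residueField y) ⊗[Γ(Y, V)] Γ(X, W))) ⟶ f.fiber y,
      IsOpenImmersion j ∧ Set.range j = (f.fiberι y) ⁻¹' (W : Set X) ∧
        j ≫ f.fiberToSpecResidueField y =
          Spec.map (CommRingCat.ofHom (algebraMap (Y.residueField y)
            ((Y.residueField y) ⊗[Γ(Y, V)] Γ(X, W)))) := by
  letI := (f.appLE V W e).hom.toAlgebra
  letI := (Y.evaluation V y hy).hom.toAlgebra
  let i₁ : Spec (.of ((Y.residueField y) ⊗[Γ(Y, V)] Γ(X, W))) ≅
      pullback (Spec.map (Y.evaluation V y hy)) (Spec.map (f.appLE V W e)) :=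
    (pullbackSpecIso Γ(Y, V) (Y.residueField y) Γ(X, W)).symm
  let j := i₁.hom ≫ (pullbackSymmetry _ _).hom ≫ chart f hV hW e y hy
  refine ⟨j, inferInstance, ?_, ?_⟩
  · have hsurj : Function.Surjective (i₁.hom ≫ (pullbackSymmetry (Spec.map (Y.evaluation V y hy))
        (Spec.map (f.appLE V W e))).hom) :=
      (i₁ ≪≫ pullbackSymmetry _ _).hom.homeomorph.surjective
    rw [← range_chart f hV hW e y hy]
    change Set.range ((i₁.hom ≫ (pullbackSymmetry _ _).hom) ≫ chart f hV hW e y hy) = _
    rw [Scheme.Hom.comp_base, TopCat.coe_comp, Set.range_comp, hsurj.range_eq, Set.image_univ]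
  · change (i₁.hom ≫ (pullbackSymmetry _ _).hom ≫ chart f hV hW e y hy) ≫ _ = _
    rw [Category.assoc, Category.assoc, chart_fiberToSpecResidueField, pullbackSymmetry_hom_comp_snd]
    exact pullbackSpecIso_inv_fst Γ(Y, V) (Y.residueField y) Γ(X, W)

include hV in
lemma exists_evaluation_div (x : Y.residueField y) :
    ∃ s t : Γ(Y, V), Y.evaluation V y hy t ≠ 0 ∧
      x * Y.evaluation V y hy t = Y.evaluation V y hy s := by
  obtain ⟨g, rfl⟩ := Y.residue_surjective y x
  letI := Y.presheaf.algebra_section_stalk ⟨y, hy⟩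
  haveI := hV.isLocalization_stalk ⟨y, hy⟩
  obtain ⟨s, t, rfl⟩ := IsLocalization.exists_mk'_eq
    (hV.primeIdealOf ⟨y, hy⟩).asIdeal.primeCompl g
  refine ⟨s, t, ?_, ?_⟩
  · have hu : IsUnit (algebraMap Γ(Y, V) (Y.presheaf.stalk y) t) :=
      IsLocalization.map_units (Y.presheaf.stalk y) t
    have : IsUnit (Y.residue y (algebraMap Γ(Y, V) (Y.presheaf.stalk y) t)) :=
      hu.map (Y.residue y).hom
    exact this.ne_zero
  · have h := IsLocalization.mk'_spec (Y.presheaf.stalk y) s t
    have := congrArg (Y.residue y) h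
    rw [map_mul] at this
    exact this

include hV in
lemma isNilpotent_of_evaluation_genericPoint_eq_zero [IrreducibleSpace Y]
    (hη : genericPoint Y ∈ V) (a : Γ(Y, V)) (h : Y.evaluation V (genericPoint Y) hη a = 0) :
    IsNilpotent a := by
  rw [Scheme.isNilpotent_iff_basicOpen_eq_bot_of_isCompact hV.isCompact]
  rw [Scheme.evaluation_eq_zero_iff_notMem_basicOpen] at h
  by_contra hne
  apply h
  change genericPoint Y ∈ (Y.basicOpen a : Set Y)
  rw [(genericPoint_spec Y).mem_open_set_iff (Y.basicOpen a).isOpen]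
  obtain ⟨x, hx⟩ : (Y.basicOpen a : Set Y).Nonempty := by
    rw [Set.nonempty_iff_ne_empty]
    intro h0
    exact hne (TopologicalSpace.Opens.ext h0)
  exact ⟨x, Set.mem_univ x, hx⟩

end Groth.Agent.Lib.Helper24.FibreChart
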