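import Groth.Agent.Lib.Helper24.FibreChart

/-!
# Affine charts of fibres, with the projection to the total space (helper24)
-/

set_option autoImplicit false

universe u

open CategoryTheory CategoryTheory.Limits AlgebraicGeometry

namespace Groth.Agent.Lib.Helper24.FibreChart

variable {X Y : Scheme.{u}} (f : X ⟶ Y) {V : Y.Opens} (hV : IsAffineOpen V) {W : X.Opens}
  (hW : IsAffineOpen W) (e : W ≤ f ⁻¹ᵁ V) (y : Y) (hy : y ∈ V)

open TensorProduct in
include hV hW in
/-- The chart in spectrum form, with the residue field on the left, and with both projections. -/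
lemma exists_specChart' :
    letI := (f.appLE V W e).hom.toAlgebra
    letI := (Y.evaluation V y hy).hom.toAlgebra
    ∃ j : Spec (.of ((Y.residueField y) ⊗[Γ(Y, V)] Γ(X, W))) ⟶ f.fiber y,
      IsOpenImmersion j ∧ Set.range j = (f.fiberι y) ⁻¹' (W : Set X) ∧
        j ≫ f.fiberToSpecResidueField y =
          Spec.map (CommRingCat.ofHom (algebraMap (Y.residueField y)
            ((Y.residueField y) ⊗[Γ(Y, V)] Γ(X, W)))) ∧
        j ≫ f.fiberι y =
          Spec.map (CommRingCat.ofHom (R := Γ(X, W))
            (S := (Y.residueField y) ⊗[Γ(Y, V)] Γ(X, W))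
            (Algebra.TensorProduct.includeRight (R := Γ(Y, V)) (A := Y.residueField y)
              (B := Γ(X, W))).toRingHom) ≫ hW.fromSpec := by
  letI := (f.appLE V W e).hom.toAlgebra
  letI := (Y.evaluation V y hy).hom.toAlgebra
  let i₁ : Spec (.of ((Y.residueField y) ⊗[Γ(Y, V)] Γ(X, W))) ≅
      pullback (Spec.map (Y.evaluation V y hy)) (Spec.map (f.appLE V W e)) :=
    (pullbackSpecIso Γ(Y, V) (Y.residueField y) Γ(X, W)).symm
  let j := i₁.hom ≫ (pullbackSymmetry _ _).hom ≫ chart f hV hW e y hy
  refine ⟨j, inferInstance, ?_, ?_, ?_⟩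
  · have hsurj : Function.Surjective (i₁.hom ≫ (pullbackSymmetry (Spec.map (Y.evaluation V y hy))
        (Spec.map (f.appLE V W e))).hom) :=
      (i₁ ≪≫ pullbackSymmetry _ _).hom.homeomorph.surjective
    rw [← range_chart f hV hW e y hy]
    change Set.range ((i₁.hom ≫ (pullbackSymmetry _ _).hom) ≫ chart f hV hW e y hy) = _
    rw [Scheme.Hom.comp_base, TopCat.coe_comp, Set.range_comp, hsurj.range_eq, Set.image_univ]
  · change (i₁.hom ≫ (pullbackSymmetry _ _).hom ≫ chart f hV hW e y hy) ≫ _ = _
    rw [Category.assoc, Category.assoc, chart_fiberToSpecResidueField, pullbackSymmetry_hom_comp_snd]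
    exact pullbackSpecIso_inv_fst Γ(Y, V) (Y.residueField y) Γ(X, W)
  · change (i₁.hom ≫ (pullbackSymmetry _ _).hom ≫ chart f hV hW e y hy) ≫ _ = _
    rw [Category.assoc, Category.assoc, chart_fiberι, pullbackSymmetry_hom_comp_fst_assoc]
    exact pullbackSpecIso_inv_snd_assoc Γ(Y, V) (Y.residueField y) Γ(X, W) _

end Groth.Agent.Lib.Helper24.FibreChart
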