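import Mathlib
import Groth.Agent.Lib.Helper24.DirColim

/-!
# Field points of properties descending along limits, thickenings and closed/open decompositions
(the Zorn argument for Stacks-style `exists_field_point`)
-/

set_option autoImplicit false
universe u
open CategoryTheory AlgebraicGeometry Limits

namespace Groth.Agent.Lib.Helper24.FieldPoint

open Groth.Agent.Lib.Helper24.DirColim

/-- A surjective ring map with nil kernel induces a surjective closed immersion. -/
lemma surj_closedImm {R R' : CommRingCat.{u}} (φ : R ⟶ R') (hs : Function.Surjective φ.hom)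
    (hk : RingHom.ker φ.hom ≤ nilradical R) :
    IsClosedImmersion (Spec.map φ) ∧ Surjective (Spec.map φ) := by
  refine ⟨IsClosedImmersion.spec_of_surjective φ hs, ⟨?_⟩⟩
  intro p
  have hr := range_comap_of_surjective _ φ.hom hs
  have : p ∈ Set.range (PrimeSpectrum.comap φ.hom) := by
    rw [hr]
    intro x hx
    haveI : (PrimeSpectrum.asIdeal p).IsPrime := PrimeSpectrum.isPrime p
    exact nilradical_le_prime (PrimeSpectrum.asIdeal p) (hk hx)
  exact this

section chain

variable {A : Type u} [CommRing A]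

/-- The chain of quotients. -/
noncomputable def chainDiagram (𝒞 : Set (Ideal A)) : 𝒞 ⥤ CommRingCat.{u} where
  obj I := CommRingCat.of (A ⧸ I.1)
  map {S T} h := CommRingCat.ofHom (Ideal.Quotient.factor (show S.1 ≤ T.1 from leOfHom h))
  map_id S := by
    ext x
    rfl
  map_comp f g := by
    ext x
    rfl

noncomputable def chainCocone (𝒞 : Set (Ideal A)) : Cocone (chainDiagram 𝒞) where
  pt := CommRingCat.of (A ⧸ sSup 𝒞)
  ι :=
    { app S := CommRingCat.ofHom (Ideal.Quotient.factor (le_sSup S.2))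
      naturality S T h := by
        ext x
        obtain ⟨x, rfl⟩ := Ideal.Quotient.mk_surjective x
        rfl }

lemma chain_isDirected (𝒞 : Set (Ideal A)) (hch : IsChain (· ≤ ·) 𝒞) : IsDirected 𝒞 (· ≤ ·) := by
  refine ⟨fun S T => ?_⟩
  rcases hch.total S.2 T.2 with h | h
  · exact ⟨T, h, le_rfl⟩
  · exact ⟨S, le_rfl, h⟩

noncomputable def isColimitChainCocone (𝒞 : Set (Ideal A)) (hch : IsChain (· ≤ ·) 𝒞)
    (hne : 𝒞.Nonempty) :
    IsColimit (chainCocone 𝒞) := by
  haveI := chain_isDirected 𝒞 hch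
  haveI : Nonempty 𝒞 := hne.to_subtype
  refine isColimitCommRingCat _ _ ?_ ?_
  · intro (x : A ⧸ sSup 𝒞)
    obtain ⟨x, rfl⟩ := Ideal.Quotient.mk_surjective x
    obtain ⟨I₀, hI₀⟩ := hne
    exact ⟨⟨I₀, hI₀⟩, (Ideal.Quotient.mk _ x : A ⧸ I₀), rfl⟩
  · intro S (y : A ⧸ S.1) hy
    obtain ⟨y, rfl⟩ := Ideal.Quotient.mk_surjective y
    have hyK : y ∈ sSup 𝒞 := by
      have : (Ideal.Quotient.mk (sSup 𝒞) y) = 0 := hy
      exact Ideal.Quotient.eq_zero_iff_mem.mp this
    obtain ⟨K, hK, hyK'⟩ := (Submodule.mem_sSup_of_directed hne hch.directedOn).mp hyK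
    rcases hch.total S.2 hK with h | h
    · refine ⟨⟨K, hK⟩, homOfLE h, ?_⟩
      change Ideal.Quotient.mk K y = 0
      exact Ideal.Quotient.eq_zero_iff_mem.mpr hyK'
    · refine ⟨S, 𝟙 _, ?_⟩
      change Ideal.Quotient.mk S.1 y = 0
      exact Ideal.Quotient.eq_zero_iff_mem.mpr (h hyK')

end chain

section minprime

variable {B : Type u} [CommRing B] (𝔭 : Ideal B) [𝔭.IsPrime]

/-- elements outside `𝔭`, ordered by divisibility -/
structure Idx where
  val : B
  prop : val ∈ 𝔭.primeCompl

instance : Preorder (Idx 𝔭) where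
  le f g := f.val ∣ g.val
  le_refl f := dvd_refl _
  le_trans _ _ _ := dvd_trans

instance : IsDirected (Idx 𝔭) (· ≤ ·) :=
  ⟨fun f g => ⟨⟨f.val * g.val, 𝔭.primeCompl.mul_mem f.prop g.prop⟩,
    dvd_mul_right f.val g.val, dvd_mul_left g.val f.val⟩⟩

instance : Nonempty (Idx 𝔭) := ⟨⟨1, 𝔭.primeCompl.one_mem⟩⟩

noncomputable def awayMap {f g : B} (h : f ∣ g) : Localization.Away f →+* Localization.Away g :=
  IsLocalization.Away.lift f (g := algebraMap B (Localization.Away g))
    (IsLocalization.Away.isUnit_of_dvd g h)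

lemma awayMap_comp {f g : B} (h : f ∣ g) :
    (awayMap h).comp (algebraMap B (Localization.Away f)) = algebraMap B (Localization.Away g) :=
  IsLocalization.Away.lift_comp _ _

lemma awayMap_algebraMap {f g : B} (h : f ∣ g) (x : B) :
    awayMap h (algebraMap B (Localization.Away f) x) = algebraMap B (Localization.Away g) x :=
  IsLocalization.Away.lift_eq _ _ _

lemma away_hom_ext {f : B} {R : Type*} [CommRing R] (φ ψ : Localization.Away f →+* R)
    (h : φ.comp (algebraMap B _) = ψ.comp (algebraMap B _)) : φ = ψ :=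
  IsLocalization.ringHom_ext (Submonoid.powers f) h

noncomputable def awayDiagram : Idx 𝔭 ⥤ CommRingCat.{u} where
  obj f := CommRingCat.of (Localization.Away f.val)
  map {f g} h := CommRingCat.ofHom (awayMap (show f.val ∣ g.val from leOfHom h))
  map_id f := by
    ext1
    apply away_hom_ext
    rw [CommRingCat.hom_ofHom, awayMap_comp]
    rfl
  map_comp {f g k} h₁ h₂ := by
    ext1
    apply away_hom_ext
    rw [CommRingCat.hom_ofHom, awayMap_comp, CommRingCat.hom_comp, CommRingCat.hom_ofHom,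
      CommRingCat.hom_ofHom, RingHom.comp_assoc, awayMap_comp, awayMap_comp]

noncomputable def toAtPrime (f : Idx 𝔭) : Localization.Away f.val →+* Localization.AtPrime 𝔭 :=
  IsLocalization.Away.lift f.val (g := algebraMap B (Localization.AtPrime 𝔭))
    (IsLocalization.map_units (Localization.AtPrime 𝔭) (⟨f.val, f.prop⟩ : 𝔭.primeCompl))

lemma toAtPrime_comp (f : Idx 𝔭) :
    (toAtPrime 𝔭 f).comp (algebraMap B (Localization.Away f.val)) =
      algebraMap B (Localization.AtPrime 𝔭) :=
  IsLocalization.Away.lift_comp _ _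

lemma toAtPrime_algebraMap (f : Idx 𝔭) (x : B) :
    toAtPrime 𝔭 f (algebraMap B (Localization.Away f.val) x) =
      algebraMap B (Localization.AtPrime 𝔭) x :=
  IsLocalization.Away.lift_eq _ _ _

noncomputable def awayCocone : Cocone (awayDiagram 𝔭) where
  pt := CommRingCat.of (Localization.AtPrime 𝔭)
  ι :=
    { app f := CommRingCat.ofHom (toAtPrime 𝔭 f)
      naturality f g h := by
        ext1
        apply away_hom_ext
        simp only [awayDiagram, Functor.const_obj_obj, Functor.const_obj_map, Category.comp_id,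
          CommRingCat.hom_comp, CommRingCat.hom_ofHom, RingHom.comp_assoc, awayMap_comp,
          toAtPrime_comp] }

noncomputable def isColimitAwayCocone : IsColimit (awayCocone 𝔭) := by
  refine isColimitCommRingCat _ _ ?_ ?_
  · intro (x : Localization.AtPrime 𝔭)
    obtain ⟨b, s, rfl⟩ := IsLocalization.exists_mk'_eq 𝔭.primeCompl x
    refine ⟨⟨s.1, s.2⟩, (IsLocalization.mk' (Localization.Away s.1) b
      (⟨s.1, Submonoid.mem_powers s.1⟩ : Submonoid.powers s.1) : Localization.Away s.1), ?_⟩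
    change toAtPrime 𝔭 ⟨s.1, s.2⟩ _ = _
    rw [IsLocalization.eq_mk'_iff_mul_eq, ← toAtPrime_algebraMap 𝔭 ⟨s.1, s.2⟩ s.1, ← map_mul,
      IsLocalization.mk'_spec, toAtPrime_algebraMap]
  · intro f (y : Localization.Away f.val) hy
    replace hy : toAtPrime 𝔭 f y = 0 := hy
    obtain ⟨n, b, hb⟩ := IsLocalization.Away.surj f.val y
    have h0 : algebraMap B (Localization.AtPrime 𝔭) b = 0 := by
      rw [← toAtPrime_algebraMap 𝔭 f, ← hb, map_mul, hy, zero_mul]
    obtain ⟨t, ht⟩ := (IsLocalization.map_eq_zero_iff 𝔭.primeCompl _ b).mp h0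
    let k : Idx 𝔭 := ⟨f.val * t.1, 𝔭.primeCompl.mul_mem f.prop t.2⟩
    have hfk : f ≤ k := dvd_mul_right f.val t.1
    refine ⟨k, homOfLE hfk, ?_⟩
    change awayMap (show f.val ∣ k.val from hfk) y = 0
    have hb0 : algebraMap B (Localization.Away k.val) b = 0 := by
      rw [IsLocalization.map_eq_zero_iff (Submonoid.powers k.val)]
      refine ⟨⟨k.val, Submonoid.mem_powers _⟩, ?_⟩
      change f.val * t.1 * b = 0
      rw [mul_assoc, ht, mul_zero]
    have h1 : awayMap (show f.val ∣ k.val from hfk) y *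
        algebraMap B (Localization.Away k.val) f.val ^ n = 0 := by
      rw [← awayMap_algebraMap hfk, ← map_pow, ← map_mul, hb, awayMap_algebraMap, hb0]
    have hu : IsUnit (algebraMap B (Localization.Away k.val) f.val ^ n) :=
      (IsLocalization.Away.isUnit_of_dvd k.val hfk).pow n
    exact (hu.mul_left_eq_zero).mp h1

end minprime

section main
variable {T : Scheme.{u}} (P : ∀ ⦃T' : Scheme.{u}⦄, (T' ⟶ T) → Prop)

def H1 : Prop := ∀ ⦃T' T'' : Scheme.{u}⦄ (a : T' ⟶ T) (t : T'' ⟶ T') [IsClosedImmersion t] [Surjective t]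
      [CompactSpace T'] [QuasiSeparatedSpace T'] [CompactSpace T''] [QuasiSeparatedSpace T''], P (t ≫ a) ↔ P a

def H2 : Prop := ∀ ⦃I : Type u⦄ [SmallCategory I] [IsCofiltered I] (D : I ⥤ Over T) (c : Limits.Cone D) (_ : Limits.IsLimit c),
      (∀ (i j : I) (m : i ⟶ j), IsAffineHom (D.map m).left) →
      (∀ i, CompactSpace (D.obj i).left ∧ QuasiSeparatedSpace (D.obj i).left) →
      (∀ i, P (D.obj i).hom) → P c.pt.hom

def H3 : Prop := ∀ ⦃T' Z V : Scheme.{u}⦄ (a : T' ⟶ T) [CompactSpace T'] [QuasiSeparatedSpace T'] (i : Z ⟶ T') [IsClosedImmersion i]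
      (j : V ⟶ T') [IsOpenImmersion j] [CompactSpace V], Set.range j = (Set.range i)ᶜ → P a → P (j ≫ a) ∨ P (i ≫ a)

variable {P}

lemma P_of_isColimit (h2 : H2 P)
    {J : Type u} [SmallCategory J] [IsFiltered J] (F : J ⥤ CommRingCat.{u}) (t : Cocone F)
    (ht : IsColimit t) (b : ∀ j, Spec (F.obj j) ⟶ T)
    (hb : ∀ (j k : J) (φ : j ⟶ k), Spec.map (F.map φ) ≫ b j = b k) (a : Spec t.pt ⟶ T)
    (ha : ∀ j, Spec.map (t.ι.app j) ≫ b j = a) (hP : ∀ j, P (b j)) : P a := by
  let D' : Jᵒᵖ ⥤ Over T :=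
    { obj := fun j => Over.mk (b j.unop)
      map := fun {j k} φ => Over.homMk (Spec.map (F.map φ.unop)) (hb _ _ φ.unop)
      map_id := fun j => by
        ext
        simp
      map_comp := fun φ ψ => by
        ext
        simp }
  let c : Cone D' :=
    { pt := Over.mk a
      π :=
        { app := fun j => Over.homMk (Spec.map (t.ι.app j.unop)) (ha _)
          naturality := fun j k φ => by
            ext
            simp [D', ← Spec.map_comp] } }
  have hc : IsLimit c := by
    haveI : IsConnected Jᵒᵖ := IsCofiltered.isConnected _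
    refine isLimitOfReflects (Over.forget T) ?_
    exact (isLimitOfPreserves Scheme.Spec ht.op :)
  have := h2 D' c hc ?_ ?_ ?_
  · exact this
  · intro i j m
    dsimp [D']
    infer_instance
  · intro i
    dsimp [D']
    exact ⟨inferInstance, inferInstance⟩
  · intro i
    exact hP _

/-- transport along a surjective ring map with nil kernel -/
lemma P_comp_iff (h1 : H1 P) {R R' : CommRingCat.{u}} (φ : R ⟶ R') (hs : Function.Surjective φ.hom)
    (hk : RingHom.ker φ.hom ≤ nilradical R) (a : Spec R ⟶ T) : P (Spec.map φ ≫ a) ↔ P a := by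
  haveI := (surj_closedImm φ hs hk).1
  haveI := (surj_closedImm φ hs hk).2
  exact h1 a (Spec.map φ)

variable {A : Type u} [CommRing A] (a : Spec (CommRingCat.of A) ⟶ T)

/-- structure map of a quotient -/
noncomputable def qmap (I : Ideal A) : Spec (CommRingCat.of (A ⧸ I)) ⟶ T :=
  Spec.map (CommRingCat.ofHom (Ideal.Quotient.mk I)) ≫ a

lemma qmap_factor {I J : Ideal A} (h : I ≤ J) :
    Spec.map (CommRingCat.ofHom (Ideal.Quotient.factor h)) ≫ qmap a I = qmap a J := by
  rw [qmap, qmap, ← Spec.map_comp_assoc]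
  rfl

lemma exists_maximal (h1 : H1 P) (h2 : H2 P) [Nontrivial A] (ha : P a) :
    ∃ I : Ideal A, I ≠ ⊤ ∧ P (qmap a I) ∧ ∀ J, I ≤ J → J ≠ ⊤ → P (qmap a J) → J ≤ I := by
  let PP : Set (Ideal A) := {I | I ≠ ⊤ ∧ P (qmap a I)}
  have hbot : (⊥ : Ideal A) ∈ PP := by
    refine ⟨bot_ne_top, ?_⟩
    refine (P_comp_iff h1 (CommRingCat.ofHom (Ideal.Quotient.mk (⊥ : Ideal A)))
      Ideal.Quotient.mk_surjective ?_ a).mpr ha
    intro x hx
    have : x ∈ (⊥ : Ideal A) := by
      simpa [RingHom.mem_ker, Ideal.Quotient.eq_zero_iff_mem] using hx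
    rw [Ideal.mem_bot] at this
    rw [this]
    exact zero_mem _
  have H : ∀ c ⊆ PP, IsChain (· ≤ ·) c → ∀ y ∈ c, ∃ ub ∈ PP, ∀ z ∈ c, z ≤ ub := ?_
  · obtain ⟨m, -, hm⟩ := zorn_le_nonempty₀ PP H ⊥ hbot
    exact ⟨m, hm.prop.1, hm.prop.2, fun J hJ hJt hJP => hm.le_of_ge ⟨hJt, hJP⟩ hJ⟩
  · intro c hc hch y hy
    have hne : c.Nonempty := ⟨y, hy⟩
    refine ⟨sSup c, ⟨?_, ?_⟩, fun z hz => le_sSup hz⟩
    · intro htop
      have h1 : (1 : A) ∈ sSup c := by
        rw [htop]
        exact Submodule.mem_top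
      obtain ⟨K, hK, h1K⟩ := (Submodule.mem_sSup_of_directed hne hch.directedOn).mp h1
      exact (hc hK).1 ((Ideal.eq_top_iff_one K).mpr h1K)
    · haveI := chain_isDirected c hch
      haveI : Nonempty c := hne.to_subtype
      refine P_of_isColimit h2 (chainDiagram c) (chainCocone c) (isColimitChainCocone c hch hne)
        (fun S => qmap a S.1) ?_ (qmap a (sSup c)) ?_ ?_
      · intro j k φ
        exact qmap_factor a _
      · intro j
        exact qmap_factor a _
      · intro j
        exact (hc j.2).2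


/-- transport along a bijective ring map -/
lemma P_comp_iff_of_bijective (h1 : H1 P) {R R' : CommRingCat.{u}} (φ : R ⟶ R')
    (hs : Function.Bijective φ.hom) (a : Spec R ⟶ T) : P (Spec.map φ ≫ a) ↔ P a := by
  refine P_comp_iff h1 φ hs.2 ?_ a
  intro x hx
  have : x = 0 := hs.1 (by rw [map_zero]; exact hx)
  rw [this]
  exact zero_mem _

lemma isRadical_of_maximal (h1 : H1 P) {I : Ideal A} (hI : I ≠ ⊤)
    (hPI : P (qmap a I)) (hmax : ∀ J, I ≤ J → J ≠ ⊤ → P (qmap a J) → J ≤ I) : I.IsRadical := by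
  refine hmax I.radical Ideal.le_radical (fun h => hI (Ideal.radical_eq_top.mp h)) ?_
  rw [← qmap_factor a (Ideal.le_radical (I := I))]
  refine (P_comp_iff h1 _ (Ideal.Quotient.factor_surjective Ideal.le_radical) ?_ _).mpr hPI
  intro x hx
  obtain ⟨y, rfl⟩ := Ideal.Quotient.mk_surjective x
  have hy : y ∈ I.radical := by
    have : Ideal.Quotient.mk I.radical y = 0 := hx
    exact Ideal.Quotient.eq_zero_iff_mem.mp this
  obtain ⟨n, hn⟩ := hy
  rw [mem_nilradical]
  refine ⟨n, ?_⟩
  change (Ideal.Quotient.mk I y) ^ n = 0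
  rw [← map_pow]
  exact Ideal.Quotient.eq_zero_iff_mem.mpr hn

lemma P_away_of_maximal (h1 : H1 P) (h3 : H3 P) {I : Ideal A} (_hI : I ≠ ⊤)
    (hPI : P (qmap a I)) (hmax : ∀ J, I ≤ J → J ≠ ⊤ → P (qmap a J) → J ≤ I)
    (g : A ⧸ I) (hg : g ≠ 0) :
    P (Spec.map (CommRingCat.ofHom (algebraMap (A ⧸ I) (Localization.Away g))) ≫ qmap a I) := by
  obtain ⟨f, rfl⟩ := Ideal.Quotient.mk_surjective g
  have hfI : f ∉ I := fun h => hg (Ideal.Quotient.eq_zero_iff_mem.mpr h)
  set fb : A ⧸ I := Ideal.Quotient.mk I f with hfb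
  let J : Ideal A := Ideal.span {f}
  let J' : Ideal (A ⧸ I) := J.map (Ideal.Quotient.mk I)
  have hJ' : J' = Ideal.span {fb} := by
    simp only [J', J, Ideal.map_span, Set.image_singleton, hfb]
  let i : Spec (CommRingCat.of ((A ⧸ I) ⧸ J')) ⟶ Spec (CommRingCat.of (A ⧸ I)) :=
    Spec.map (CommRingCat.ofHom (Ideal.Quotient.mk J'))
  let j : Spec (CommRingCat.of (Localization.Away fb)) ⟶ Spec (CommRingCat.of (A ⧸ I)) :=
    Spec.map (CommRingCat.ofHom (algebraMap (A ⧸ I) (Localization.Away fb)))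
  haveI : IsClosedImmersion i :=
    IsClosedImmersion.spec_of_surjective _ Ideal.Quotient.mk_surjective
  have hrange : Set.range j = (Set.range i)ᶜ := by
    have h1 : (Set.range j : Set (PrimeSpectrum (A ⧸ I))) =
        (PrimeSpectrum.basicOpen fb : Set (PrimeSpectrum (A ⧸ I))) :=
      PrimeSpectrum.localization_away_comap_range (Localization.Away fb) fb
    have h2 : (Set.range i : Set (PrimeSpectrum (A ⧸ I))) =
        PrimeSpectrum.zeroLocus (J' : Set (A ⧸ I)) := by
      have := range_comap_of_surjective _ (Ideal.Quotient.mk J') Ideal.Quotient.mk_surjective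
      rw [Ideal.mk_ker] at this
      exact this
    have h3 : (PrimeSpectrum.basicOpen fb : Set (PrimeSpectrum (A ⧸ I))) =
        (PrimeSpectrum.zeroLocus (J' : Set (A ⧸ I)))ᶜ := by
      rw [hJ', PrimeSpectrum.zeroLocus_span, PrimeSpectrum.basicOpen_eq_zeroLocus_compl]
    exact h1.trans (h3.trans (congrArg _ h2.symm))
  rcases h3 (qmap a I) i j hrange hPI with h | h
  · exact h
  · -- the closed case
    let K : Ideal A := I ⊔ J
    let e := DoubleQuot.quotQuotEquivQuotSup I J
    have hPK : P (qmap a K) := by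
      have : Spec.map (CommRingCat.ofHom (e : _ →+* _)) ≫ i ≫ qmap a I = qmap a K := by
        dsimp only [i]
        rw [qmap, qmap, ← Spec.map_comp_assoc, ← Spec.map_comp_assoc]
        rfl
      rw [← this]
      exact (P_comp_iff_of_bijective h1 _ e.bijective _).mpr h
    by_cases hK : K = ⊤
    · -- fb is a unit
      have hu : IsUnit fb := by
        have h1K : (1 : A) ∈ I ⊔ J := by
          change (1 : A) ∈ K
          rw [hK]; exact Submodule.mem_top
        obtain ⟨x, hx, y, hy, hxy⟩ := Submodule.mem_sup.mp h1K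
        obtain ⟨c, rfl⟩ := Ideal.mem_span_singleton'.mp hy
        refine IsUnit.of_mul_eq_one (Ideal.Quotient.mk I c) ?_
        rw [hfb, ← map_mul, ← map_one (Ideal.Quotient.mk I), ← hxy, map_add,
          Ideal.Quotient.eq_zero_iff_mem.mpr hx, zero_add, mul_comm]
      have hbij : Function.Bijective (algebraMap (A ⧸ I) (Localization.Away fb)) := by
        refine (IsLocalization.atUnits (A ⧸ I) (Submonoid.powers fb)
          (S := Localization.Away fb) ?_).bijective
        rintro _ ⟨n, rfl⟩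
        exact hu.pow n
      exact (P_comp_iff_of_bijective h1 _ hbij _).mpr hPI
    · exact absurd (hmax K le_sup_left hK hPK
        (Ideal.mem_sup_right (Ideal.mem_span_singleton_self f))) hfI


lemma exists_field_of_reduced (h2 : H2 P) {B : Type u} [CommRing B] [IsReduced B] [Nontrivial B]
    (b : Spec (CommRingCat.of B) ⟶ T)
    (hP : ∀ g : B, g ≠ 0 →
      P (Spec.map (CommRingCat.ofHom (algebraMap B (Localization.Away g))) ≫ b)) :
    ∃ (K : Type u) (_ : Field K) (t : Spec (CommRingCat.of K) ⟶ T), P t := by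
  obtain ⟨𝔭, hp⟩ := Ideal.nonempty_minimalPrimes (bot_ne_top : (⊥ : Ideal B) ≠ ⊤)
  haveI : 𝔭.IsPrime := hp.1.1
  have hsub : Subsingleton (PrimeSpectrum (Localization.AtPrime 𝔭)) :=
    IsLocalization.subsingleton_primeSpectrum_of_mem_minimalPrimes 𝔭 hp _
  have hK : IsField (Localization.AtPrime 𝔭) :=
    PrimeSpectrum.subsingleton_iff_isField_of_isReduced.mp hsub
  have hPK : P (Spec.map (CommRingCat.ofHom (algebraMap B (Localization.AtPrime 𝔭))) ≫ b) := by
    refine P_of_isColimit h2 (awayDiagram 𝔭) (awayCocone 𝔭) (isColimitAwayCocone 𝔭)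
      (fun f => Spec.map (CommRingCat.ofHom (algebraMap B (Localization.Away f.val))) ≫ b)
      ?_ _ ?_ ?_
    · intro j k φ
      have : CommRingCat.ofHom (algebraMap B (Localization.Away j.val)) ≫ (awayDiagram 𝔭).map φ =
          CommRingCat.ofHom (algebraMap B (Localization.Away k.val)) := by
        ext1
        exact awayMap_comp (show j.val ∣ k.val from leOfHom φ)
      exact (Spec.map_comp_assoc (CommRingCat.ofHom (algebraMap B (Localization.Away j.val)))
        ((awayDiagram 𝔭).map φ) b).symm.trans (congrArg (fun x => Spec.map x ≫ b) this)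
    · intro j
      have : CommRingCat.ofHom (algebraMap B (Localization.Away j.val)) ≫ (awayCocone 𝔭).ι.app j =
          CommRingCat.ofHom (algebraMap B (Localization.AtPrime 𝔭)) := by
        ext1
        exact toAtPrime_comp 𝔭 j
      exact (Spec.map_comp_assoc (CommRingCat.ofHom (algebraMap B (Localization.Away j.val)))
        ((awayCocone 𝔭).ι.app j) b).symm.trans (congrArg (fun x => Spec.map x ≫ b) this)
    · intro j
      refine hP _ ?_
      intro h0
      exact j.prop (h0 ▸ 𝔭.zero_mem)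
  exact ⟨Localization.AtPrime 𝔭, hK.toField, _, hPK⟩

/-- The affine case. -/
lemma exists_field_affine (h1 : H1 P) (h2 : H2 P) (h3 : H3 P) [Nontrivial A] (ha : P a) :
    ∃ (K : Type u) (_ : Field K) (t : Spec (CommRingCat.of K) ⟶ T), P t := by
  obtain ⟨I, hI, hPI, hmax⟩ := exists_maximal a h1 h2 ha
  have hrad := isRadical_of_maximal a h1 hI hPI hmax
  haveI : IsReduced (A ⧸ I) := (Ideal.isRadical_iff_quotient_reduced I).mp hrad
  haveI : Nontrivial (A ⧸ I) := Ideal.Quotient.nontrivial_iff.mpr hI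
  exact exists_field_of_reduced h2 (qmap a I) (P_away_of_maximal a h1 h3 hI hPI hmax)


omit a in
lemma exists_affine (h3 : H3 P) : ∀ (n : ℕ) (T' : Scheme.{u}) (a : T' ⟶ T) [CompactSpace T']
    [QuasiSeparatedSpace T'] [Nonempty T'] (𝒰 : Fin n → T'.Opens), (∀ i, IsAffineOpen (𝒰 i)) →
    (⨆ i, 𝒰 i = ⊤) → P a → ∃ (W : Scheme.{u}) (w : W ⟶ T), IsAffine W ∧ Nonempty W ∧ P w := by
  intro n
  induction n with
  | zero =>
    intro T' a _ _ hne 𝒰 _ hcov _
    exfalso
    obtain ⟨x⟩ := hne
    have hx : x ∈ (⊤ : T'.Opens) := trivial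
    rw [← hcov, TopologicalSpace.Opens.mem_iSup] at hx
    obtain ⟨i, -⟩ := hx
    exact Fin.elim0 i
  | succ n ih =>
    intro T' a _ _ hne 𝒰 h𝒰 hcov hPa
    by_cases hbot : 𝒰 0 = ⊥
    · refine ih T' a (fun k => 𝒰 k.succ) (fun k => h𝒰 _) ?_ hPa
      refine top_unique ?_
      intro x _
      have hx : x ∈ (⊤ : T'.Opens) := trivial
      rw [← hcov, TopologicalSpace.Opens.mem_iSup] at hx
      obtain ⟨i, hi⟩ := hx
      rw [TopologicalSpace.Opens.mem_iSup]
      rcases Fin.eq_zero_or_eq_succ i with rfl | ⟨k, rfl⟩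
      · rw [hbot] at hi
        exact absurd hi (by simp)
      · exact ⟨k, hi⟩
    by_cases htop : 𝒰 0 = ⊤
    · refine ⟨T', a, ?_, hne, hPa⟩
      have h0 := h𝒰 0
      rw [htop] at h0
      haveI : IsAffine ((⊤ : T'.Opens) : Scheme.{u}) := h0
      exact IsAffine.of_isIso (Scheme.topIso T').inv
    · -- the general case
      set U := 𝒰 0 with hU
      haveI : IsAffine (U : Scheme.{u}) := h𝒰 0
      let Zc : TopologicalSpace.Closeds T' := ⟨(U : Set T')ᶜ, U.isOpen.isClosed_compl⟩
      let I := Scheme.IdealSheafData.vanishingIdeal Zc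
      have hri : Set.range I.subschemeι = (U : Set T')ᶜ := by
        rw [Scheme.IdealSheafData.range_subschemeι]
        simp [I, Zc]
      have hrange : Set.range U.ι = (Set.range I.subschemeι)ᶜ := by
        rw [hri, compl_compl]
        exact Scheme.Opens.range_ι U
      rcases h3 a I.subschemeι U.ι hrange hPa with h | h
      · refine ⟨U, U.ι ≫ a, inferInstance, ?_, h⟩
        by_contra hemp
        rw [not_nonempty_iff] at hemp
        apply hbot
        ext x
        simp only [TopologicalSpace.Opens.coe_bot, Set.mem_empty_iff_false, iff_false]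
        intro hx
        exact hemp.false ⟨x, hx⟩
      · haveI : CompactSpace I.subscheme :=
          QuasiCompact.compactSpace_of_compactSpace I.subschemeι
        haveI : QuasiSeparatedSpace I.subscheme :=
          quasiSeparatedSpace_of_quasiSeparated I.subschemeι
        haveI : Nonempty I.subscheme := by
          by_contra hemp
          rw [not_nonempty_iff] at hemp
          apply htop
          refine top_unique ?_
          intro x _
          by_contra hx
          have : x ∈ Set.range I.subschemeι := by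
            rw [hri]; exact hx
          obtain ⟨z, -⟩ := this
          exact hemp.false z
        refine ih I.subscheme (I.subschemeι ≫ a) (fun k => I.subschemeι ⁻¹ᵁ 𝒰 k.succ)
          (fun k => (h𝒰 k.succ).preimage I.subschemeι) ?_ h
        refine top_unique ?_
        intro z _
        have hx : I.subschemeι z ∈ (⊤ : T'.Opens) := trivial
        rw [← hcov, TopologicalSpace.Opens.mem_iSup] at hx
        obtain ⟨i, hi⟩ := hx
        rw [TopologicalSpace.Opens.mem_iSup]
        rcases Fin.eq_zero_or_eq_succ i with rfl | ⟨k, rfl⟩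
        · exfalso
          have : I.subschemeι z ∈ Set.range I.subschemeι := ⟨z, rfl⟩
          rw [hri] at this
          exact this hi
        · exact ⟨k, hi⟩

end main

open CategoryTheory AlgebraicGeometry in
theorem result' (T : Scheme.{u}) [CompactSpace T] [QuasiSeparatedSpace T]
    [Nonempty T] (P : ∀ ⦃T' : Scheme.{u}⦄, (T' ⟶ T) → Prop)
    (h1 : H1 P) (h2 : H2 P) (h3 : H3 P)
    (hT : P (𝟙 T)) :
    ∃ (K : Type u) (_ : Field K) (t : Spec (CommRingCat.of K) ⟶ T), P t := by
  obtain ⟨s, hs, hcov⟩ := (isCompact_iff_finite_and_eq_biUnion_affineOpens (U := (⊤ : T.Opens))).mp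
    (by simpa using (isCompact_univ : IsCompact (Set.univ : Set T)))
  obtain ⟨n, ⟨e⟩⟩ := hs.exists_equiv_fin
  have hcov' : ⨆ k, ((e.symm k).1 : T.Opens) = ⊤ := by
    rw [hcov]
    apply le_antisymm
    · refine iSup_le fun k => ?_
      exact le_iSup₂ (f := fun (i : T.affineOpens) (_ : i ∈ s) => (i : T.Opens)) (e.symm k).1 (e.symm k).2
    · refine iSup₂_le fun i hi => ?_
      have : ((e.symm (e ⟨i, hi⟩)).1 : T.Opens) = i := by rw [Equiv.symm_apply_apply]
      rw [← this]
      exact le_iSup (fun k => ((e.symm k).1 : T.Opens)) (e ⟨i, hi⟩)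
  obtain ⟨W, w, hW, hWne, hPw⟩ := exists_affine h3 n T (𝟙 T) (fun k => ((e.symm k).1 : T.Opens))
    (fun k => (e.symm k).1.2) hcov' hT
  let a : Spec (CommRingCat.of Γ(W, ⊤)) ⟶ T := W.isoSpec.inv ≫ w
  have hPa : P a := (h1 w W.isoSpec.inv).mpr hPw
  haveI : Nontrivial Γ(W, ⊤) := by
    obtain ⟨x⟩ := hWne
    have : Nonempty (PrimeSpectrum Γ(W, ⊤)) := ⟨W.isoSpec.hom x⟩
    exact (PrimeSpectrum.nonempty_iff_nontrivial).mp this
  exact exists_field_affine a h1 h2 h3 hPa
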