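import Groth.Agent.Lib.Helper54.FlatStage5
import Groth.Agent.Lib.Helper25.ColimSys

/-!
# Flatness descends through directed colimits of rings (helper24)

EGA IV 11.2.6 in the absolute form: if `R = colim R_i`, `S₀` is a finitely presented algebra over
a stage and `R ⊗ S₀` is flat over `R`, then `R_i ⊗ S₀` is flat over `R_i` for some `i`.
The local input is helper54's Noetherian approximation of flatness at a prime
(`FlatStage5.exists_stage_flat`, `flat_of_stage_flat`) and openness of the flat locus in the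
Noetherian case (`FlatOpenB.isOpen_flatLocus`).
-/

set_option autoImplicit false
set_option maxHeartbeats 800000

universe u

open TensorProduct Function

namespace Groth.Agent.Lib.Helper24.FlatColim

open Groth.Agent.Lib.Helper54
open Groth.Agent.Lib.Helper54.FlatStage4

attribute [local instance] Algebra.TensorProduct.rightAlgebra

section LocalGlobal

variable {A : Type u} [CommRing A] (B : Type*) [CommRing B] [Algebra A B]
variable {N : Type*} [AddCommGroup N] [Module A N] [Module B N] [IsScalarTower A B N]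

/-- Flatness over the base can be checked after localizing at the primes of an algebra acting
on the module. -/
theorem flat_of_forall_localized
    (h : ∀ q : PrimeSpectrum B, Module.Flat A (LocalizedModule q.asIdeal.primeCompl N)) :
    Module.Flat A N := by
  rw [Module.Flat.iff_lTensor_injective']
  intro J
  rw [injective_iff_map_eq_zero]
  intro z hz
  by_contra hz0
  let I : Ideal B := LinearMap.ker (LinearMap.toSpanSingleton B (N ⊗[A] J) z)
  have hI : I ≠ ⊤ := by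
    intro hI
    have h1 : (1 : B) ∈ I := by rw [hI]; trivial
    have h2 : (1 : B) • z = 0 := by simpa [I] using h1
    rw [one_smul] at h2
    exact hz0 h2
  obtain ⟨m, hm, hIm⟩ := Ideal.exists_le_maximal I hI
  have := h ⟨m, hm.isPrime⟩
  obtain ⟨w, hw, hwz⟩ := FlatOpenA.forall_ker_of_flat_localized B m.primeCompl
    (LocalizedModule.mkLinearMap m.primeCompl N) J z hz
  exact hw (hIm (by simpa [I] using hwz))

end LocalGlobal

section FiniteStage

variable {R₀ : Type u} [CommRing R₀] (S₀ : Type u) [CommRing S₀] [Algebra R₀ S₀]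
variable {R : Type u} [CommRing R] [Algebra R₀ R]

lemma SM_comp_ringHom {T T' T'' : Type u} [CommRing T] [Algebra R₀ T] [CommRing T'] [Algebra R₀ T']
    [CommRing T''] [Algebra R₀ T''] (φ : T →ₐ[R₀] T') (ψ : T' →ₐ[R₀] T'') :
    (SM S₀ ψ).toRingHom.comp (SM S₀ φ).toRingHom = (SM S₀ (ψ.comp φ)).toRingHom := by
  exact RingHom.ext fun w ↦ SM_comp S₀ φ ψ w

/-- An element of `S₀ ⊗ T` dying in `S₀ ⊗ R` already dies in `S₀ ⊗ T'` for a larger finitely
generated subalgebra `T'`. -/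
theorem exists_fg_SM_eq_zero (T : Subalgebra R₀ R) (hT : T.FG) (w : S₀ ⊗[R₀] T)
    (h : SM S₀ T.val w = 0) :
    ∃ (T' : Subalgebra R₀ R) (hTT' : T ≤ T'), T'.FG ∧ SM S₀ (Subalgebra.inclusion hTT') w = 0 := by
  have h1 : LinearMap.rTensor S₀ T.val.toLinearMap (TensorProduct.comm R₀ S₀ T w) =
      LinearMap.rTensor S₀ T.val.toLinearMap 0 := by
    rw [LinearMap.rTensor_comm, map_zero,
      ← Groth.Agent.Lib.Helper25.map_id_apply_eq_lTensor (k := R₀) S₀ T.val w, h, map_zero]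
  obtain ⟨T', hTT', hT', h2⟩ := TensorProduct.Algebra.eq_of_fg_of_subtype_eq hT h1
  refine ⟨T', hTT', hT', ?_⟩
  rw [LinearMap.rTensor_comm, map_zero] at h2
  rw [Groth.Agent.Lib.Helper25.map_id_apply_eq_lTensor (k := R₀) S₀]
  exact (LinearEquiv.map_eq_zero_iff _).1 h2

lemma SM_SM_apply {T T' T'' : Type u} [CommRing T] [Algebra R₀ T] [CommRing T'] [Algebra R₀ T']
    [CommRing T''] [Algebra R₀ T''] (φ : T →ₐ[R₀] T') (ψ : T' →ₐ[R₀] T'') (χ : T →ₐ[R₀] T'')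
    (h : ψ.comp φ = χ) (w : S₀ ⊗[R₀] T) : SM S₀ ψ (SM S₀ φ w) = SM S₀ χ w := by
  rw [SM_comp, h]

/-- `SM` as a plain ring homomorphism. -/
noncomputable def SMr {T T' : Type u} [CommRing T] [Algebra R₀ T] [CommRing T'] [Algebra R₀ T']
    (φ : T →ₐ[R₀] T') : S₀ ⊗[R₀] T →+* S₀ ⊗[R₀] T' := (SM S₀ φ).toRingHom

lemma SMr_apply {T T' : Type u} [CommRing T] [Algebra R₀ T] [CommRing T'] [Algebra R₀ T']
    (φ : T →ₐ[R₀] T') (w : S₀ ⊗[R₀] T) : SMr S₀ φ w = SM S₀ φ w := rfl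

lemma SMr_SMr_apply {T T' T'' : Type u} [CommRing T] [Algebra R₀ T] [CommRing T']
    [Algebra R₀ T'] [CommRing T''] [Algebra R₀ T''] (φ : T →ₐ[R₀] T') (ψ : T' →ₐ[R₀] T'')
    (χ : T →ₐ[R₀] T'') (h : ψ.comp φ = χ) (w : S₀ ⊗[R₀] T) :
    SMr S₀ ψ (SMr S₀ φ w) = SMr S₀ χ w :=
  SM_SM_apply S₀ φ ψ χ h w

lemma map_SMr_map {T T' T'' : Type u} [CommRing T] [Algebra R₀ T] [CommRing T'] [Algebra R₀ T']
    [CommRing T''] [Algebra R₀ T''] (φ : T →ₐ[R₀] T') (ψ : T' →ₐ[R₀] T'') (χ : T →ₐ[R₀] T'')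
    (h : ψ.comp φ = χ) (J : Ideal (S₀ ⊗[R₀] T)) :
    Ideal.map (SMr S₀ ψ) (Ideal.map (SMr S₀ φ) J) = Ideal.map (SMr S₀ χ) J := by
  rw [Ideal.map_map]
  congr 1
  exact RingHom.ext fun w ↦ SMr_SMr_apply S₀ φ ψ χ h w

lemma mem_map_SMr_of_mem {T T' T'' : Type u} [CommRing T] [Algebra R₀ T] [CommRing T']
    [Algebra R₀ T'] [CommRing T''] [Algebra R₀ T''] (φ : T →ₐ[R₀] T') (ψ : T' →ₐ[R₀] T'')
    (χ : T →ₐ[R₀] T'') (h : ψ.comp φ = χ) (J : Ideal (S₀ ⊗[R₀] T)) {y : S₀ ⊗[R₀] T'}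
    (hy : y ∈ Ideal.map (SMr S₀ φ) J) : SMr S₀ ψ y ∈ Ideal.map (SMr S₀ χ) J := by
  rw [← map_SMr_map S₀ φ ψ χ h]
  exact Ideal.mem_map_of_mem _ hy

/-- The predicate used in the induction below. -/
private def StageLift (T : Subalgebra R₀ R) (J : Ideal (S₀ ⊗[R₀] T)) (x : S₀ ⊗[R₀] R) : Prop :=
  ∃ (T' : Subalgebra R₀ R) (hTT' : T ≤ T'), T'.FG ∧
    ∃ y ∈ Ideal.map (SMr S₀ (Subalgebra.inclusion hTT')) J, SMr S₀ T'.val y = x

private lemma stageLift_of_mem (T : Subalgebra R₀ R) (hT : T.FG) (J : Ideal (S₀ ⊗[R₀] T))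
    (j : S₀ ⊗[R₀] T) (hj : j ∈ J) : StageLift S₀ T J (SMr S₀ T.val j) := by
  have hle : T ≤ T := le_rfl
  refine ⟨T, hle, hT, SMr S₀ (Subalgebra.inclusion hle) j,
    Ideal.mem_map_of_mem (SMr S₀ (Subalgebra.inclusion hle)) hj, ?_⟩
  exact SMr_SMr_apply S₀ (Subalgebra.inclusion hle) T.val T.val rfl j

private lemma stageLift_zero (T : Subalgebra R₀ R) (hT : T.FG) (J : Ideal (S₀ ⊗[R₀] T)) :
    StageLift S₀ T J 0 :=
  ⟨T, le_rfl, hT, 0, Ideal.zero_mem _, map_zero _⟩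

private lemma stageLift_add (T : Subalgebra R₀ R) (J : Ideal (S₀ ⊗[R₀] T)) {x y : S₀ ⊗[R₀] R}
    (hx : StageLift S₀ T J x) (hy : StageLift S₀ T J y) : StageLift S₀ T J (x + y) := by
  obtain ⟨T₁, h₁, hfg₁, y₁, hy₁, rfl⟩ := hx
  obtain ⟨T₂, h₂, hfg₂, y₂, hy₂, rfl⟩ := hy
  refine ⟨T₁ ⊔ T₂, h₁.trans le_sup_left, hfg₁.sup hfg₂,
    SMr S₀ (Subalgebra.inclusion le_sup_left) y₁ + SMr S₀ (Subalgebra.inclusion le_sup_right) y₂,
    Ideal.add_mem _ ?_ ?_, ?_⟩
  · exact mem_map_SMr_of_mem S₀ (Subalgebra.inclusion h₁) (Subalgebra.inclusion le_sup_left) _ rfl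
      J hy₁
  · exact mem_map_SMr_of_mem S₀ (Subalgebra.inclusion h₂) (Subalgebra.inclusion le_sup_right) _ rfl
      J hy₂
  · rw [map_add, SMr_SMr_apply S₀ _ _ T₁.val rfl, SMr_SMr_apply S₀ _ _ T₂.val rfl]

private lemma stageLift_smul (T : Subalgebra R₀ R) (J : Ideal (S₀ ⊗[R₀] T)) (a : S₀ ⊗[R₀] R)
    {x : S₀ ⊗[R₀] R} (hx : StageLift S₀ T J x) : StageLift S₀ T J (a • x) := by
  obtain ⟨T₁, h₁, hfg₁, y₁, hy₁, rfl⟩ := hx
  obtain ⟨T₂, hfg₂, a₂, rfl⟩ := exists_fg_mem_range S₀ a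
  refine ⟨T₁ ⊔ T₂, h₁.trans le_sup_left, hfg₁.sup hfg₂,
    SMr S₀ (Subalgebra.inclusion le_sup_right) a₂ * SMr S₀ (Subalgebra.inclusion le_sup_left) y₁,
    Ideal.mul_mem_left _ _ ?_, ?_⟩
  · exact mem_map_SMr_of_mem S₀ (Subalgebra.inclusion h₁) (Subalgebra.inclusion le_sup_left) _ rfl
      J hy₁
  · rw [map_mul, SMr_SMr_apply S₀ _ _ T₁.val rfl, SMr_SMr_apply S₀ _ _ T₂.val rfl, smul_eq_mul]
    rfl

/-- If an ideal of `S₀ ⊗ T` generates the unit ideal of `S₀ ⊗ R`, it already does so in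
`S₀ ⊗ T'` for a larger finitely generated subalgebra `T'`. -/
theorem exists_fg_map_eq_top (T : Subalgebra R₀ R) (hT : T.FG) (J : Ideal (S₀ ⊗[R₀] T))
    (h : Ideal.map (SMr S₀ T.val) J = ⊤) :
    ∃ (T' : Subalgebra R₀ R) (hTT' : T ≤ T'), T'.FG ∧
      Ideal.map (SMr S₀ (Subalgebra.inclusion hTT')) J = ⊤ := by
  have key : ∀ x ∈ Ideal.map (SMr S₀ T.val) J, StageLift S₀ T J x := by
    intro x hx
    refine Submodule.span_induction (p := fun x _ ↦ StageLift S₀ T J x) ?_ ?_ ?_ ?_ hx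
    · rintro _ ⟨j, hj, rfl⟩
      exact stageLift_of_mem S₀ T hT J j hj
    · exact stageLift_zero S₀ T hT J
    · intro x y _ _ hx hy
      exact stageLift_add S₀ T J hx hy
    · intro a x _ hx
      exact stageLift_smul S₀ T J a hx
  obtain ⟨T₁, h₁, hfg₁, y, hy, hy1⟩ := key 1 (by rw [h]; trivial)
  obtain ⟨T₂, h₂, hfg₂, h0⟩ := exists_fg_SM_eq_zero S₀ T₁ hfg₁ (y - 1) (by
    rw [map_sub, map_one]
    rw [SMr_apply] at hy1
    rw [hy1, sub_self])
  refine ⟨T₂, h₁.trans h₂, hfg₂, ?_⟩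
  rw [Ideal.eq_top_iff_one]
  rw [map_sub, map_one, sub_eq_zero] at h0
  rw [← h0]
  exact mem_map_SMr_of_mem S₀ (Subalgebra.inclusion h₁) (Subalgebra.inclusion h₂) _ rfl J hy

end FiniteStage

section Main

variable (R₀ S₀ M₀ : Type u) [CommRing R₀] [CommRing S₀] [Algebra R₀ S₀]
  [AddCommGroup M₀] [Module R₀ M₀] [Module S₀ M₀] [IsScalarTower R₀ S₀ M₀]

/-- The locus of primes of `S₀ ⊗ T` at which the base change of `M₀` is flat over `T`. -/
def flatLocus (T : Type u) [CommRing T] [Algebra R₀ T] : Set (PrimeSpectrum (S₀ ⊗[R₀] T)) :=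
  {q | Module.Flat T (LocalizedModule q.asIdeal.primeCompl ((S₀ ⊗[R₀] T) ⊗[S₀] M₀))}

/-- Monotonicity of the flat locus along an algebra map. -/
lemma comap_mem_flatLocus {T T' : Type u} [CommRing T] [Algebra R₀ T] [CommRing T'] [Algebra R₀ T']
    (φ : T →ₐ[R₀] T') (q' : PrimeSpectrum (S₀ ⊗[R₀] T'))
    (h : PrimeSpectrum.comap (SMr S₀ φ) q' ∈ flatLocus R₀ S₀ M₀ T) :
    q' ∈ flatLocus R₀ S₀ M₀ T' := by
  letI : Algebra T T' := φ.toRingHom.toAlgebra
  haveI : IsScalarTower R₀ T T' := IsScalarTower.of_algebraMap_eq fun x ↦ (φ.commutes x).symm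
  exact FlatStage5.flat_of_stage_flat R₀ S₀ M₀ T' T φ (fun _ ↦ rfl) q'.asIdeal h

variable [IsNoetherianRing R₀] [Algebra.FiniteType R₀ S₀] [Module.Finite S₀ M₀]

lemma isOpen_flatLocus_of_fg {R : Type u} [CommRing R] [Algebra R₀ R] (T : Subalgebra R₀ R)
    (hT : T.FG) : IsOpen (flatLocus R₀ S₀ M₀ T) := by
  haveI : Algebra.FiniteType R₀ T := (Subalgebra.fg_iff_finiteType T).1 hT
  haveI : IsNoetherianRing T := Algebra.FiniteType.isNoetherianRing R₀ T
  haveI : Algebra.FiniteType T (S₀ ⊗[R₀] T) := FlatOpenB.finiteType_right R₀ S₀ T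
  exact FlatOpenB.isOpen_flatLocus T (S₀ ⊗[R₀] T) ((S₀ ⊗[R₀] T) ⊗[S₀] M₀)

variable (R : Type u) [CommRing R] [Algebra R₀ R]

/-- **Noetherian approximation of flatness** (global form): if the base change of `M₀` to `R`
is flat over `R`, the base change to some finitely generated subalgebra `T` of `R` is flat over
`T`. -/
theorem exists_fg_flat [Module.Flat R ((S₀ ⊗[R₀] R) ⊗[S₀] M₀)] :
    ∃ T : Subalgebra R₀ R, T.FG ∧ Module.Flat T ((S₀ ⊗[R₀] T) ⊗[S₀] M₀) := by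
  classical
  -- every prime of `S₀ ⊗ R` is in the flat locus
  have hall : ∀ q : PrimeSpectrum (S₀ ⊗[R₀] R), q ∈ flatLocus R₀ S₀ M₀ R := fun q ↦ by
    show Module.Flat R (LocalizedModule q.asIdeal.primeCompl ((S₀ ⊗[R₀] R) ⊗[S₀] M₀))
    exact FlatOpenA.flat_of_isLocalizedModule (A := R) (N := (S₀ ⊗[R₀] R) ⊗[S₀] M₀)
      (N' := LocalizedModule q.asIdeal.primeCompl ((S₀ ⊗[R₀] R) ⊗[S₀] M₀)) (S₀ ⊗[R₀] R)
      q.asIdeal.primeCompl
      (LocalizedModule.mkLinearMap q.asIdeal.primeCompl ((S₀ ⊗[R₀] R) ⊗[S₀] M₀))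
  -- the directed family of opens
  let V : {T : Subalgebra R₀ R // T.FG} → Set (PrimeSpectrum (S₀ ⊗[R₀] R)) := fun T ↦
    PrimeSpectrum.comap (SMr S₀ T.1.val) ⁻¹' flatLocus R₀ S₀ M₀ T.1
  have hVo : ∀ T, IsOpen (V T) := fun T ↦
    (isOpen_flatLocus_of_fg R₀ S₀ M₀ T.1 T.2).preimage (PrimeSpectrum.continuous_comap _)
  have hVmono : ∀ (T T' : {T : Subalgebra R₀ R // T.FG}) (h : T.1 ≤ T'.1), V T ⊆ V T' := by
    intro T T' h q hq
    refine comap_mem_flatLocus R₀ S₀ M₀ (Subalgebra.inclusion h) _ ?_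
    have : PrimeSpectrum.comap (SMr S₀ (Subalgebra.inclusion h))
        (PrimeSpectrum.comap (SMr S₀ T'.1.val) q) = PrimeSpectrum.comap (SMr S₀ T.1.val) q := by
      rw [← PrimeSpectrum.comap_comp_apply]
      congr 1
      exact RingHom.ext fun w ↦ SMr_SMr_apply S₀ _ _ _ rfl w
    rw [this]
    exact hq
  have hVcover : (Set.univ : Set (PrimeSpectrum (S₀ ⊗[R₀] R))) ⊆ ⋃ T, V T := by
    intro q _
    obtain ⟨T, hT, hflat⟩ := FlatStage5.exists_stage_flat R₀ S₀ M₀ R q.asIdeal (hall q)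
    exact Set.mem_iUnion.2 ⟨⟨T, hT⟩, hflat⟩
  have hVdir : Directed (· ⊆ ·) V := fun T T' ↦
    ⟨⟨T.1 ⊔ T'.1, T.2.sup T'.2⟩, hVmono _ _ le_sup_left, hVmono _ _ le_sup_right⟩
  haveI : Nonempty {T : Subalgebra R₀ R // T.FG} := ⟨⟨⊥, Subalgebra.fg_bot⟩⟩
  obtain ⟨T, hT⟩ := isCompact_univ.elim_directed_cover V hVo hVcover hVdir
  -- the closed complement of the flat locus at stage `T`
  let J : Ideal (S₀ ⊗[R₀] T.1) := PrimeSpectrum.vanishingIdeal (flatLocus R₀ S₀ M₀ T.1)ᶜ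
  have hJ : PrimeSpectrum.zeroLocus (J : Set (S₀ ⊗[R₀] T.1)) = (flatLocus R₀ S₀ M₀ T.1)ᶜ := by
    rw [PrimeSpectrum.zeroLocus_vanishingIdeal_eq_closure]
    exact (isOpen_flatLocus_of_fg R₀ S₀ M₀ T.1 T.2).isClosed_compl.closure_eq
  have hJtop : Ideal.map (SMr S₀ T.1.val) J = ⊤ := by
    rw [← PrimeSpectrum.zeroLocus_empty_iff_eq_top, Ideal.map, PrimeSpectrum.zeroLocus_span,
      ← PrimeSpectrum.preimage_comap_zeroLocus, hJ, Set.preimage_compl,
      Set.compl_empty_iff, Set.eq_univ_iff_forall]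
    intro q
    exact hT (Set.mem_univ q)
  obtain ⟨T', hTT', hT'fg, hT'top⟩ := exists_fg_map_eq_top S₀ T.1 T.2 J hJtop
  refine ⟨T', hT'fg, flat_of_forall_localized (A := T') (N := (S₀ ⊗[R₀] T') ⊗[S₀] M₀)
    (S₀ ⊗[R₀] T') fun q' ↦ ?_⟩
  refine comap_mem_flatLocus R₀ S₀ M₀ (Subalgebra.inclusion hTT') q' ?_
  by_contra hcon
  have h1 : PrimeSpectrum.comap (SMr S₀ (Subalgebra.inclusion hTT')) q' ∈
      PrimeSpectrum.zeroLocus (J : Set (S₀ ⊗[R₀] T.1)) := by rw [hJ]; exact hcon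
  have h2 : q' ∈ PrimeSpectrum.zeroLocus
      ((Ideal.map (SMr S₀ (Subalgebra.inclusion hTT')) J : Ideal _) : Set (S₀ ⊗[R₀] T')) := by
    rw [Ideal.map, PrimeSpectrum.zeroLocus_span, ← PrimeSpectrum.preimage_comap_zeroLocus]
    exact h1
  rw [hT'top] at h2
  simp at h2

end Main

section Colim

open Groth.Agent.Lib.Helper25

variable {k : Type u} [CommRing k] {ι : Type u} {R' : ι → Type u} [∀ i, CommRing (R' i)]
  [∀ i, Algebra k (R' i)] {R : Type u} [CommRing R] [Algebra k R] {ρ : ∀ i, R' i →ₐ[k] R}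
  {Φ : ∀ i j, Set (R' i →ₐ[k] R' j)}

/-- A map from a finitely presented algebra (over a ring mapping to the base of a colimit system)
to the colimit factors through a stage. -/
theorem exists_algHom_of_finitePresentation (h : IsColimSys k R' R ρ Φ) (k₀ : Type u) [CommRing k₀]
    [Algebra k₀ k] [∀ i, Algebra k₀ (R' i)] [∀ i, IsScalarTower k₀ k (R' i)] [Algebra k₀ R]
    [IsScalarTower k₀ k R] (T : Type u) [CommRing T] [Algebra k₀ T]
    [Algebra.FinitePresentation k₀ T] (τ : T →ₐ[k₀] R) :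
    ∃ (j : ι) (ψ : T →ₐ[k₀] R' j), ∀ t, ρ j (ψ t) = τ t := by
  classical
  obtain ⟨n, f, hf, s, hs⟩ := Algebra.FinitePresentation.out (R := k₀) (A := T)
  obtain ⟨i⟩ := h.nonempty
  obtain ⟨j, -, x, -, hx⟩ := h.exists_lift_family i (fun l : Fin n ↦ τ (f (MvPolynomial.X l)))
  let F : MvPolynomial (Fin n) k₀ →ₐ[k₀] R' j := MvPolynomial.aeval x
  have hF : ((ρ j).restrictScalars k₀).comp F = τ.comp f := by
    apply MvPolynomial.algHom_ext
    intro l
    simp only [AlgHom.comp_apply, F, MvPolynomial.aeval_X]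
    exact hx l
  have hker : ∀ g ∈ s.image F, ρ j g = 0 := by
    intro g hg
    obtain ⟨p, hp, rfl⟩ := Finset.mem_image.1 hg
    have h1 : ρ j (F p) = τ (f p) := congrArg (fun ψ ↦ ψ p) hF
    rw [h1]
    have h2 : p ∈ RingHom.ker f.toRingHom := by rw [← hs]; exact Ideal.subset_span hp
    have h3 : f p = 0 := h2
    rw [h3, map_zero]
  obtain ⟨j', φ', hφ', hkill⟩ := h.exists_kill (s.image F) hker
  let F' : MvPolynomial (Fin n) k₀ →ₐ[k₀] R' j' := (φ'.restrictScalars k₀).comp F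
  have hle : RingHom.ker f.toRingHom ≤ RingHom.ker F'.toRingHom := by
    rw [← hs, Ideal.span_le]
    intro p hp
    exact hkill _ (Finset.mem_image_of_mem F hp)
  refine ⟨j', AlgHom.liftOfSurjective f hf F' hle, fun t ↦ ?_⟩
  obtain ⟨p, rfl⟩ := hf t
  rw [AlgHom.liftOfSurjective_apply]
  have h1 : ρ j' (F' p) = ρ j (F p) := h.compat_apply hφ' (F p)
  rw [h1]
  exact congrArg (fun ψ ↦ ψ p) hF

/-- **Flatness descends through colimit systems** (Noetherian data form): `k₀` Noetherian mapping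
to the base `k` of the system, `S₀` of finite type over `k₀` and `M₀` a finite `S₀`-module. -/
theorem exists_stage_flat_of_noetherian (h : IsColimSys k R' R ρ Φ) (k₀ : Type u) [CommRing k₀]
    [IsNoetherianRing k₀] [Algebra k₀ k] [∀ i, Algebra k₀ (R' i)] [∀ i, IsScalarTower k₀ k (R' i)]
    [Algebra k₀ R] [IsScalarTower k₀ k R] (S₀ M₀ : Type u) [CommRing S₀] [Algebra k₀ S₀]
    [Algebra.FiniteType k₀ S₀] [AddCommGroup M₀] [Module k₀ M₀] [Module S₀ M₀]
    [IsScalarTower k₀ S₀ M₀] [Module.Finite S₀ M₀] [Module.Flat R (R ⊗[k₀] M₀)] :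
    ∃ i, Module.Flat (R' i) (R' i ⊗[k₀] M₀) := by
  haveI : Module.Flat R ((S₀ ⊗[k₀] R) ⊗[S₀] M₀) :=
    Module.Flat.of_linearEquiv (Algebra.IsPushout.cancelBaseChange k₀ R S₀ (S₀ ⊗[k₀] R) M₀)
  obtain ⟨T, hT, hflat⟩ := exists_fg_flat k₀ S₀ M₀ R
  haveI : Module.Flat T (T ⊗[k₀] M₀) :=
    Module.Flat.of_linearEquiv (Algebra.IsPushout.cancelBaseChange k₀ T S₀ (S₀ ⊗[k₀] T) M₀).symm
  haveI : Algebra.FiniteType k₀ T := (Subalgebra.fg_iff_finiteType T).1 hT
  haveI : Algebra.FinitePresentation k₀ T := Algebra.FinitePresentation.of_finiteType.mp ‹_›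
  obtain ⟨j, ψ, -⟩ := exists_algHom_of_finitePresentation h k₀ T T.val
  letI : Algebra T (R' j) := ψ.toRingHom.toAlgebra
  haveI : IsScalarTower k₀ T (R' j) := IsScalarTower.of_algebraMap_eq fun x ↦ (ψ.commutes x).symm
  exact ⟨j, Module.Flat.of_linearEquiv
    (AlgebraTensorModule.cancelBaseChange k₀ T (R' j) (R' j) M₀).symm⟩

/-- Transport of flatness of a base change along a model over a subring. -/
lemma flat_tensor_iff_of_model (k₀ : Type u) [CommRing k₀] [Algebra k₀ k] (M₀ : Type u)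
    [AddCommGroup M₀] [Module k₀ M₀] (M : Type u) [AddCommGroup M] [Module k M]
    (e : k ⊗[k₀] M₀ ≃ₗ[k] M) (T : Type u) [CommRing T] [Algebra k T] [Algebra k₀ T]
    [IsScalarTower k₀ k T] : Module.Flat T (T ⊗[k] M) ↔ Module.Flat T (T ⊗[k₀] M₀) := by
  let e₁ : T ⊗[k] (k ⊗[k₀] M₀) ≃ₗ[T] T ⊗[k] M :=
    TensorProduct.AlgebraTensorModule.congr (LinearEquiv.refl T T) e
  let e₂ : T ⊗[k] (k ⊗[k₀] M₀) ≃ₗ[T] T ⊗[k₀] M₀ :=
    AlgebraTensorModule.cancelBaseChange k₀ k T T M₀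
  exact ⟨fun _ ↦ Module.Flat.of_linearEquiv (e₂.symm.trans e₁),
    fun _ ↦ Module.Flat.of_linearEquiv (e₁.symm.trans e₂)⟩

/-- **Flatness descends through colimit systems**: module form, for a module admitting a finite
model over a finite type algebra over a Noetherian ring mapping to the base of the system. -/
theorem exists_stage_flat_of_model (h : IsColimSys k R' R ρ Φ) (k₀ : Type u) [CommRing k₀]
    [IsNoetherianRing k₀] [Algebra k₀ k] (S₀ M₀ : Type u) [CommRing S₀] [Algebra k₀ S₀]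
    [Algebra.FiniteType k₀ S₀] [AddCommGroup M₀] [Module k₀ M₀] [Module S₀ M₀]
    [IsScalarTower k₀ S₀ M₀] [Module.Finite S₀ M₀] (M : Type u) [AddCommGroup M] [Module k M]
    (e : k ⊗[k₀] M₀ ≃ₗ[k] M) (hflat : Module.Flat R (R ⊗[k] M)) :
    ∃ i, Module.Flat (R' i) (R' i ⊗[k] M) := by
  letI : ∀ i, Algebra k₀ (R' i) := fun i ↦ Algebra.compHom (R' i) (algebraMap k₀ k)
  haveI : ∀ i, IsScalarTower k₀ k (R' i) := fun i ↦ IsScalarTower.of_algebraMap_eq fun _ ↦ rfl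
  letI : Algebra k₀ R := Algebra.compHom R (algebraMap k₀ k)
  haveI : IsScalarTower k₀ k R := IsScalarTower.of_algebraMap_eq fun _ ↦ rfl
  haveI : Module.Flat R (R ⊗[k₀] M₀) := (flat_tensor_iff_of_model k₀ M₀ M e R).mp hflat
  obtain ⟨i, hi⟩ := exists_stage_flat_of_noetherian h k₀ S₀ M₀
  exact ⟨i, (flat_tensor_iff_of_model k₀ M₀ M e (R' i)).mpr hi⟩

/-- **Flatness descends through colimit systems**: algebra form. -/
theorem exists_stage_flat (h : IsColimSys k R' R ρ Φ) (C : Type u) [CommRing C] [Algebra k C]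
    [Algebra.FinitePresentation k C] (hflat : Module.Flat R (R ⊗[k] C)) :
    ∃ i, Module.Flat (R' i) (R' i ⊗[k] C) := by
  let P := Algebra.Presentation.ofFinitePresentation k C
  haveI : Algebra.FiniteType ℤ P.Core := inferInstance
  haveI : IsNoetherianRing P.Core := Algebra.FiniteType.isNoetherianRing ℤ P.Core
  haveI : Algebra.FinitePresentation P.Core (P.ModelOfHasCoeffs P.Core) := inferInstance
  haveI : Algebra.FiniteType P.Core (P.ModelOfHasCoeffs P.Core) := inferInstance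
  exact exists_stage_flat_of_model h P.Core (P.ModelOfHasCoeffs P.Core)
    (P.ModelOfHasCoeffs P.Core) C (P.tensorModelOfHasCoeffsEquiv P.Core).toLinearEquiv hflat

end Colim

end Groth.Agent.Lib.Helper24.FlatColim
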