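import Groth.Agent.Lib.Helper24.GenericNonReduced
import Groth.Agent.Lib.Helper62.GenRed2
import Groth.Agent.S1543

/-!
# Geometrically reduced generic fibres spread out (ring level) (helper24)
-/

set_option autoImplicit false

universe u

open TensorProduct

namespace Groth.Agent.Lib.Helper24.GenericGeomReduced

open Groth.Agent.Lib.Helper8.GenFree Groth.Agent.Lib.Helper24.GenericInj

section Right

attribute [local instance] Algebra.TensorProduct.rightAlgebra

/-- Smooth points of the generic fibre are smooth points of the family. -/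
lemma isSmoothAt_comap {A B K : Type u} [CommRing A] [CommRing B] [Algebra A B] [Field K]
    [Algebra A K] [IsFractionRing A K] (P : Ideal (K ⊗[A] B)) [P.IsPrime]
    (h : Algebra.IsSmoothAt K P) :
    Algebra.IsSmoothAt A (P.comap (algebraMap B (K ⊗[A] B))) := by
  let M := nonZeroDivisors A
  haveI : IsLocalization (Algebra.algebraMapSubmonoid B M) (K ⊗[A] B) :=
    IsLocalization.tensorRight (R := A) (S := B) K M
  haveI : IsLocalization.AtPrime (Localization.AtPrime P) (P.comap (algebraMap B (K ⊗[A] B))) :=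
    IsLocalization.isLocalization_isLocalization_atPrime_isLocalization
      (Algebra.algebraMapSubmonoid B M) (Localization.AtPrime P) P
  let e : Localization.AtPrime (P.comap (algebraMap B (K ⊗[A] B))) ≃ₐ[B] Localization.AtPrime P :=
    IsLocalization.algEquiv (P.comap (algebraMap B (K ⊗[A] B))).primeCompl _ _
  haveI : Algebra.FormallySmooth A K := Algebra.FormallySmooth.of_isLocalization M
  haveI : Algebra.FormallySmooth K (Localization.AtPrime P) := h
  haveI : Algebra.FormallySmooth A (Localization.AtPrime P) := Algebra.FormallySmooth.comp A K _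
  exact Algebra.FormallySmooth.of_equiv (e.symm.restrictScalars A)

/-- A geometrically reduced algebra of finite type over a field has a nonzerodivisor `g` with
`D(g)` inside the smooth locus. -/
lemma exists_nonZeroDivisor_basicOpen_subset_smoothLocus (k R : Type u) [Field k] [CommRing R]
    [Algebra k R] [Algebra.FiniteType k R] [Algebra.IsGeometricallyReduced k R] :
    ∃ g : R, (∀ x : R, g * x = 0 → x = 0) ∧
      (PrimeSpectrum.basicOpen g : Set (PrimeSpectrum R)) ⊆ Algebra.smoothLocus k R := by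
  classical
  haveI : Algebra.FinitePresentation k R := Algebra.FinitePresentation.of_finiteType.mp inferInstance
  haveI : IsNoetherianRing R := Algebra.FiniteType.isNoetherianRing k R
  haveI : IsReduced R := Algebra.isReduced_of_isGeometricallyReduced (k := k)
  have hfin : (minimalPrimes R).Finite := minimalPrimes.finite_of_isNoetherianRing R
  have hmin : ∀ Q (hQ : Q ∈ minimalPrimes R),
      (⟨Q, Ideal.IsMinimalPrime.isPrime hQ⟩ : PrimeSpectrum R) ∈ Algebra.smoothLocus k R := by
    intro Q hQ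
    haveI : Q.IsPrime := Ideal.IsMinimalPrime.isPrime hQ
    haveI : Algebra.IsGeometricallyReduced k (Localization.AtPrime Q) :=
      Groth.Agent.S1543.geomReduced_localization k R Q (Localization.AtPrime Q)
    exact Groth.Agent.Lib.Helper62.GenRed.isSmoothAt_of_mem_minimalPrimes_of_geomReduced k R Q hQ
  have hopen : IsOpen (Algebra.smoothLocus k R) := Algebra.isOpen_smoothLocus
  set J : Ideal R := PrimeSpectrum.vanishingIdeal (Algebra.smoothLocus k R)ᶜ with hJ
  have hZ : PrimeSpectrum.zeroLocus (J : Set R) = (Algebra.smoothLocus k R)ᶜ := by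
    rw [hJ, PrimeSpectrum.zeroLocus_vanishingIdeal_eq_closure, hopen.isClosed_compl.closure_eq]
  have hnot : ¬ ((J : Set R) ⊆ ⋃ Q ∈ (hfin.toFinset : Set (Ideal R)), ((id Q : Ideal R) : Set R)) := by
    intro hsub
    obtain ⟨Q, hQ, hJQ⟩ := (Ideal.subset_union_prime (f := id) ⊥ ⊥ (fun Q hQ _ _ ↦
      Ideal.IsMinimalPrime.isPrime (hfin.mem_toFinset.mp hQ))).mp hsub
    have hQ' := hfin.mem_toFinset.mp hQ
    have h1 : (⟨Q, Ideal.IsMinimalPrime.isPrime hQ'⟩ : PrimeSpectrum R) ∈
        PrimeSpectrum.zeroLocus (J : Set R) := hJQ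
    rw [hZ] at h1
    exact h1 (hmin Q hQ')
  rw [Set.not_subset] at hnot
  obtain ⟨g, hgJ, hg⟩ := hnot
  have hgQ : ∀ Q ∈ minimalPrimes R, g ∉ Q := by
    intro Q hQ hgQ
    apply hg
    simp only [Finset.mem_coe, Set.Finite.mem_toFinset, id_eq, Set.mem_iUnion, SetLike.mem_coe,
      exists_prop]
    exact ⟨Q, hQ, hgQ⟩
  refine ⟨g, fun x hx ↦ ?_, fun P hP ↦ ?_⟩
  · have hxn : x ∈ nilradical R := by
      rw [nilradical, ← Ideal.sInf_minimalPrimes, Ideal.mem_sInf]
      intro Q hQ
      haveI : Q.IsPrime := Ideal.IsMinimalPrime.isPrime hQ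
      have : g * x ∈ Q := by rw [hx]; exact Q.zero_mem
      exact (Ideal.IsPrime.mem_or_mem inferInstance this).resolve_left (hgQ Q hQ)
    exact (mem_nilradical.mp hxn).eq_zero
  · by_contra hPs
    have h1 : P ∈ PrimeSpectrum.zeroLocus (J : Set R) := by rw [hZ]; exact hPs
    exact hP (h1 hgJ)

/-- First half: spread out a smooth dense basic open of the generic fibre. -/
lemma exists_smooth_away {A B K : Type u} [CommRing A] [IsDomain A] [CommRing B]
    [Algebra A B] [Algebra.FinitePresentation A B] [Field K] [Algebra A K] [IsFractionRing A K]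
    [Algebra.IsGeometricallyReduced K (K ⊗[A] B)] :
    ∃ (a : A) (g : B), a ≠ 0 ∧ (∀ x : K ⊗[A] B, ((1 : K) ⊗ₜ[A] g) * x = 0 → x = 0) ∧
      Algebra.Smooth A (Localization.Away (algebraMap A B a * g)) := by
  classical
  let M := nonZeroDivisors A
  haveI : IsLocalization (Algebra.algebraMapSubmonoid B M) (K ⊗[A] B) :=
    IsLocalization.tensorRight (R := A) (S := B) K M
  obtain ⟨g₀, hg₀nzd, hg₀sm⟩ := exists_nonZeroDivisor_basicOpen_subset_smoothLocus K (K ⊗[A] B)
  obtain ⟨⟨g, s⟩, hgs⟩ := IsLocalizedModule.surj M (TensorProduct.mk A K B 1) g₀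
  have hgs' : (s : A) • g₀ = (1 : K) ⊗ₜ[A] g := hgs
  have hne : ∀ c : A, c ≠ 0 → algebraMap A K c ≠ 0 := fun c hc ↦
    (map_ne_zero_iff _ (IsFractionRing.injective A K)).mpr hc
  have hsK : algebraMap A K (s : A) ≠ 0 := hne _ (nonZeroDivisors.ne_zero s.2)
  have hgnzd : ∀ x : K ⊗[A] B, ((1 : K) ⊗ₜ[A] g) * x = 0 → x = 0 := by
    intro x hx
    rw [← hgs', smul_mul_assoc, ← algebraMap_smul K (s : A), smul_eq_zero] at hx
    exact hg₀nzd x (hx.resolve_left hsK)
  have hgsm : ∀ P : PrimeSpectrum (K ⊗[A] B), (1 : K) ⊗ₜ[A] g ∉ P.asIdeal →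
      P ∈ Algebra.smoothLocus K (K ⊗[A] B) := by
    intro P hP
    apply hg₀sm
    intro hg₀P
    apply hP
    rw [← hgs']
    exact Submodule.smul_of_tower_mem _ _ hg₀P
  have hopen : IsOpen (Algebra.smoothLocus A B) := Algebra.isOpen_smoothLocus
  set I : Ideal B := PrimeSpectrum.vanishingIdeal (Algebra.smoothLocus A B)ᶜ with hI
  have hZ : PrimeSpectrum.zeroLocus (I : Set B) = (Algebra.smoothLocus A B)ᶜ := by
    rw [hI, PrimeSpectrum.zeroLocus_vanishingIdeal_eq_closure, hopen.isClosed_compl.closure_eq]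
  have hrad : (1 : K) ⊗ₜ[A] g ∈ (I.map (algebraMap B (K ⊗[A] B))).radical := by
    rw [Ideal.radical_eq_sInf, Ideal.mem_sInf]
    rintro P ⟨hIP, hPprime⟩
    by_contra hgP
    have h1 := hgsm ⟨P, hPprime⟩ hgP
    have h2 := isSmoothAt_comap P h1
    have h3 : (⟨P.comap (algebraMap B (K ⊗[A] B)), inferInstance⟩ : PrimeSpectrum B) ∈
        PrimeSpectrum.zeroLocus (I : Set B) := by
      intro x hx
      exact hIP (Ideal.mem_map_of_mem _ hx)
    rw [hZ] at h3
    exact h3 h2
  obtain ⟨n, hn⟩ := hrad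
  rw [IsLocalization.mem_map_algebraMap_iff (Algebra.algebraMapSubmonoid B M)] at hn
  obtain ⟨⟨i, m⟩, him⟩ := hn
  have h0 : algebraMap B (K ⊗[A] B) (g ^ n * m - i) = 0 := by
    rw [map_sub, map_mul, map_pow, sub_eq_zero, ← him]
    rfl
  obtain ⟨m', hm'⟩ := (IsLocalization.map_eq_zero_iff (Algebra.algebraMapSubmonoid B M)
    (K ⊗[A] B) _).mp h0
  obtain ⟨a₁, ha₁, ham⟩ := m.2
  obtain ⟨a₂, ha₂, ham'⟩ := m'.2
  have ha₁0 : a₁ ≠ 0 := nonZeroDivisors.ne_zero ha₁
  have ha₂0 : a₂ ≠ 0 := nonZeroDivisors.ne_zero ha₂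
  have haI : algebraMap A B (a₁ * a₂) * g ^ n ∈ I := by
    have h1 : algebraMap A B (a₁ * a₂) * g ^ n = (m' : B) * (i : B) := by
      rw [mul_sub, sub_eq_zero] at hm'
      rw [← hm', map_mul, ham, ham']
      ring
    rw [h1]
    exact Ideal.mul_mem_left _ _ i.2
  refine ⟨a₁ * a₂, g, mul_ne_zero ha₁0 ha₂0, hgnzd, ?_⟩
  rw [← Algebra.basicOpen_subset_smoothLocus_iff_smooth]
  intro q hq
  by_contra hqs
  have h1 : q ∈ PrimeSpectrum.zeroLocus (I : Set B) := by rw [hZ]; exact hqs
  have h2 : algebraMap A B (a₁ * a₂) * g ^ n ∈ q.asIdeal := h1 haI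
  apply hq
  rcases q.isPrime.mem_or_mem h2 with h | h
  · exact Ideal.mul_mem_right _ _ h
  · exact Ideal.mul_mem_left _ _ (q.isPrime.mem_of_pow_mem n h)

end Right

/-- `k ⊗ (g * ·)` is multiplication by `1 ⊗ g`. -/
lemma lTensor_mulLeft_apply {A B : Type u} [CommRing A] [CommRing B] [Algebra A B] (k : Type u)
    [CommRing k] [Algebra A k] (g : B) (x : k ⊗[A] B) :
    (LinearMap.mulLeft A g).lTensor k x = ((1 : k) ⊗ₜ[A] g) * x := by
  induction x using TensorProduct.induction_on with
  | zero => simp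
  | tmul c b => simp [Algebra.TensorProduct.tmul_mul_tmul]
  | add x y hx hy => rw [map_add, hx, hy, mul_add]

/-- **Geometrically reduced generic fibre, finitely presented domain case.** -/
theorem isReduced_tensor_of_geomReduced_fp {A B K : Type u} [CommRing A] [IsDomain A] [CommRing B]
    [Algebra A B] [Algebra.FinitePresentation A B] [Field K] [Algebra A K] [IsFractionRing A K]
    [Algebra.IsGeometricallyReduced K (K ⊗[A] B)] :
    ∃ a : A, a ≠ 0 ∧ ∀ (k : Type u) [Field k] [Algebra A k], algebraMap A k a ≠ 0 →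
      IsReduced (k ⊗[A] B) := by
  classical
  obtain ⟨a, g, ha, hgnzd, hsm⟩ := exists_smooth_away (A := A) (B := B) (K := K)
  let M := nonZeroDivisors A
  set g' : B := algebraMap A B a * g with hg'
  let J : Ideal B := Ideal.span {g'}
  let φ : B →ₗ[A] B := LinearMap.mulLeft A g'
  let π : B →ₗ[A] (B ⧸ J) := J.mkQ.restrictScalars A
  have hπ : Function.Surjective π := J.mkQ_surjective
  have hex : Function.Exact φ π := by
    intro y
    change J.mkQ y = 0 ↔ y ∈ Set.range φ
    rw [Submodule.mkQ_apply, Submodule.Quotient.mk_eq_zero]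
    constructor
    · intro hy
      obtain ⟨r, rfl⟩ := Ideal.mem_span_singleton'.mp hy
      exact ⟨r, mul_comm _ _⟩
    · rintro ⟨r, rfl⟩
      exact Ideal.mem_span_singleton'.mpr ⟨r, mul_comm _ _⟩
  have hne : ∀ c : A, c ≠ 0 → algebraMap A K c ≠ 0 := fun c hc ↦
    (map_ne_zero_iff _ (IsFractionRing.injective A K)).mpr hc
  have hφ : ∀ x, φ x = 0 → ∃ c : A, c ≠ 0 ∧ c • x = 0 := by
    intro x hx
    have hx' : g' * x = 0 := hx
    have h1 : ((1 : K) ⊗ₜ[A] g) * ((1 : K) ⊗ₜ[A] x) = 0 := by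
      have h2 : a • (((1 : K) ⊗ₜ[A] g) * ((1 : K) ⊗ₜ[A] x)) = 0 := by
        rw [Algebra.TensorProduct.tmul_mul_tmul, ← TensorProduct.tmul_smul, one_mul,
          Algebra.smul_def, ← mul_assoc, ← hg', hx', TensorProduct.tmul_zero]
      rw [← algebraMap_smul K a, smul_eq_zero] at h2
      exact h2.resolve_left (hne a ha)
    have h3 := hgnzd _ h1
    obtain ⟨c, hc⟩ := (IsLocalizedModule.eq_zero_iff M (TensorProduct.mk A K B 1)).mp h3
    exact ⟨c, nonZeroDivisors.ne_zero c.2, hc⟩
  obtain ⟨f₁, hf₁, hs₁⟩ := gf_of_finiteType (R := A) B B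
  obtain ⟨f₂, hf₂, hs₂⟩ := gf_of_finiteType (R := A) B (B ⧸ J)
  refine ⟨f₁ * f₂ * a, mul_ne_zero (mul_ne_zero hf₁ hf₂) ha, fun k _ _ hk ↦ ?_⟩
  set a' := f₁ * f₂ * a with ha'
  have ha'0 : a' ≠ 0 := mul_ne_zero (mul_ne_zero hf₁ hf₂) ha
  haveI := free_away_of_dvd (a := a') ⟨f₂ * a, by rw [ha']; ring⟩ hs₁
  haveI := free_away_of_dvd (a := a') ⟨f₁ * a, by rw [ha']; ring⟩ hs₂
  have hinj := lTensor_injective_of_free φ π hπ hex hφ a' ha'0 k hk.isUnit
  have hnzd : ∀ x : k ⊗[A] B, ((1 : k) ⊗ₜ[A] g') * x = 0 → x = 0 := by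
    intro x hx
    apply hinj
    rw [map_zero, lTensor_mulLeft_apply, hx]
  haveI : Algebra.Smooth A (Localization.Away g') := hsm
  haveI : Algebra.Smooth k (k ⊗[A] Localization.Away g') := inferInstance
  let e := IsLocalization.Away.tensorProductEquivTMulRight A k g' (Localization.Away g')
  haveI : Algebra.Smooth k (Localization.Away ((1 : k) ⊗ₜ[A] g')) := Algebra.Smooth.of_equiv e
  haveI : IsReduced (Localization.Away ((1 : k) ⊗ₜ[A] g')) :=
    Groth.Agent.Lib.Helper62.GenRed.isReduced_of_smooth k _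
  refine isReduced_of_injective (algebraMap (k ⊗[A] B) (Localization.Away ((1 : k) ⊗ₜ[A] g'))) ?_
  apply IsLocalization.injective _ (M := Submonoid.powers ((1 : k) ⊗ₜ[A] g'))
  apply Submonoid.powers_le.mpr
  rw [mem_nonZeroDivisors_iff_right]
  intro x hx
  exact hnzd x (by rw [mul_comm]; exact hx)

/-- In a ring with a Noetherian localization, every ideal agrees with a finitely generated
subideal up to `S`-torsion. -/
lemma exists_fg_le_of_isLocalization {P R : Type*} [CommRing P] [CommRing R] [Algebra P R]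
    (S : Submonoid P) [IsLocalization S R] [IsNoetherianRing R] (I : Ideal P) :
    ∃ I₀ : Ideal P, I₀ ≤ I ∧ I₀.FG ∧ ∀ p ∈ I, ∃ m ∈ S, m * p ∈ I₀ := by
  classical
  have hfg : (I.map (algebraMap P R)).FG := IsNoetherian.noetherian _
  rw [Ideal.map, Ideal.span] at hfg
  obtain ⟨s', hs'sub, hs'eq⟩ := (Submodule.fg_span_iff_fg_span_finset_subset _).mp hfg
  have hch : ∀ x ∈ s', ∃ p ∈ I, algebraMap P R p = x := fun x hx ↦ hs'sub hx
  choose! c hcI hcx using hch
  refine ⟨Ideal.span (s'.image c : Finset P), Ideal.span_le.mpr ?_, ⟨s'.image c, rfl⟩,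
    fun p hp ↦ ?_⟩
  · intro x hx
    rw [Finset.coe_image] at hx
    obtain ⟨y, hy, rfl⟩ := hx
    exact hcI y hy
  · have h1 : algebraMap P R p ∈ Ideal.map (algebraMap P R) (Ideal.span (s'.image c : Finset P)) := by
      have h2 : algebraMap P R p ∈ Submodule.span R ((algebraMap P R) '' (I : Set P)) :=
        Submodule.subset_span ⟨p, hp, rfl⟩
      rw [hs'eq] at h2
      have h4 : Ideal.span (s' : Set R) ≤ Ideal.map (algebraMap P R)
          (Ideal.span (s'.image c : Finset P)) := by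
        rw [Ideal.span_le]
        intro x hx
        have : x = algebraMap P R (c x) := (hcx x hx).symm
        rw [this]
        exact Ideal.mem_map_of_mem _ (Ideal.subset_span (Finset.mem_coe.mpr
          (Finset.mem_image_of_mem c hx)))
      exact h4 h2
    rw [IsLocalization.mem_map_algebraMap_iff S] at h1
    obtain ⟨⟨i, m⟩, him⟩ := h1
    have h0 : algebraMap P R (p * m - i) = 0 := by
      rw [map_sub, map_mul, sub_eq_zero, ← him]
    obtain ⟨m', hm'⟩ := (IsLocalization.map_eq_zero_iff S R _).mp h0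
    refine ⟨m' * m, mul_mem m'.2 m.2, ?_⟩
    have h3 : (m' : P) * m * p = m' * i := by
      rw [mul_sub, sub_eq_zero] at hm'
      rw [← hm']
      ring
    rw [h3]
    exact Ideal.mul_mem_left _ _ i.2

section Right2

attribute [local instance] Algebra.TensorProduct.rightAlgebra

/-- A finite type algebra over a domain is a quotient of a finitely presented one by a torsion
ideal. -/
lemma exists_fp_surjective (A B : Type u) [CommRing A] [IsDomain A] [CommRing B] [Algebra A B]
    [Algebra.FiniteType A B] :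
    ∃ (B₀ : Type u) (_ : CommRing B₀) (_ : Algebra A B₀) (_ : Algebra.FinitePresentation A B₀)
      (φ : B₀ →ₐ[A] B), Function.Surjective φ ∧ ∀ x, φ x = 0 → ∃ c : A, c ≠ 0 ∧ c • x = 0 := by
  obtain ⟨n, f, hf⟩ := Algebra.FiniteType.iff_quotient_mvPolynomial''.mp
    (inferInstance : Algebra.FiniteType A B)
  let P := MvPolynomial (Fin n) A
  let K := FractionRing A
  let M := nonZeroDivisors A
  haveI : IsLocalization (Algebra.algebraMapSubmonoid P M) (K ⊗[A] P) :=
    IsLocalization.tensorRight (R := A) (S := P) K M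
  haveI : IsNoetherianRing (K ⊗[A] P) := Algebra.FiniteType.isNoetherianRing K (K ⊗[A] P)
  obtain ⟨I₀, hle, hfg, htor⟩ := exists_fg_le_of_isLocalization
    (Algebra.algebraMapSubmonoid P M) (R := K ⊗[A] P) (RingHom.ker f.toRingHom)
  haveI : Algebra.FinitePresentation A (P ⧸ I₀) := Algebra.FinitePresentation.quotient hfg
  refine ⟨P ⧸ I₀, inferInstance, inferInstance, inferInstance,
    Ideal.Quotient.liftₐ I₀ f (fun p hp ↦ hle hp), ?_, ?_⟩
  · intro b
    obtain ⟨p, rfl⟩ := hf b
    exact ⟨Ideal.Quotient.mk I₀ p, by simp⟩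
  · intro x hx
    obtain ⟨p, rfl⟩ := Ideal.Quotient.mk_surjective x
    have hp : p ∈ RingHom.ker f.toRingHom := by
      simpa using hx
    obtain ⟨m, ⟨c, hc, rfl⟩, hm⟩ := htor p hp
    refine ⟨c, nonZeroDivisors.ne_zero hc, ?_⟩
    rw [Algebra.smul_def]
    change Ideal.Quotient.mk I₀ (algebraMap A P c) * Ideal.Quotient.mk I₀ p = 0
    rw [← map_mul]
    exact Ideal.Quotient.eq_zero_iff_mem.mpr hm

end Right2

lemma map_id_eq_lTensor {A B₀ B : Type u} [CommRing A] [CommRing B₀] [Algebra A B₀] [CommRing B]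
    [Algebra A B] (k : Type u) [CommRing k] [Algebra A k] (φ : B₀ →ₐ[A] B) (z : k ⊗[A] B₀) :
    Algebra.TensorProduct.map (AlgHom.id k k) φ z = φ.toLinearMap.lTensor k z := by
  induction z using TensorProduct.induction_on with
  | zero => simp
  | tmul c b => simp
  | add x y hx hy => rw [map_add, map_add, hx, hy]

/-- **Geometrically reduced generic fibre, domain case.** -/
theorem isReduced_tensor_of_geomReduced {A B K : Type u} [CommRing A] [IsDomain A] [CommRing B]
    [Algebra A B] [Algebra.FiniteType A B] [Field K] [Algebra A K] [IsFractionRing A K]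
    [Algebra.IsGeometricallyReduced K (K ⊗[A] B)] :
    ∃ a : A, a ≠ 0 ∧ ∀ (k : Type u) [Field k] [Algebra A k], algebraMap A k a ≠ 0 →
      IsReduced (k ⊗[A] B) := by
  obtain ⟨B₀, _, _, _, φ, hφs, hφt⟩ := exists_fp_surjective A B
  obtain ⟨f₁, hf₁, hs₁⟩ := gf_of_finiteType (R := A) B₀ B₀
  have hbij : ∀ (k : Type u) [Field k] [Algebra A k], algebraMap A k f₁ ≠ 0 →
      Function.Injective (φ.toLinearMap.lTensor k) := by
    intro k _ _ hk
    haveI := free_away_of_dvd (a := f₁) (dvd_refl _) hs₁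
    haveI : Subsingleton (Localization.Away f₁ ⊗[A] PUnit.{u + 1}) := by
      refine ⟨fun x y ↦ ?_⟩
      have h0 : ∀ z : Localization.Away f₁ ⊗[A] PUnit.{u + 1}, z = 0 := by
        intro z
        induction z using TensorProduct.induction_on with
        | zero => rfl
        | tmul c b => rw [Subsingleton.elim b 0, TensorProduct.tmul_zero]
        | add x y hx hy => rw [hx, hy, add_zero]
      rw [h0 x, h0 y]
    haveI : Module.Free (Localization.Away f₁) (Localization.Away f₁ ⊗[A] PUnit.{u + 1}) :=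
      Module.Free.of_subsingleton _ _
    exact lTensor_injective_of_free φ.toLinearMap (0 : B →ₗ[A] PUnit.{u + 1})
      (fun _ ↦ ⟨0, Subsingleton.elim _ _⟩)
      (fun y ↦ ⟨fun _ ↦ hφs y, fun _ ↦ Subsingleton.elim _ _⟩) hφt f₁ hf₁ k hk.isUnit
  have hne : ∀ c : A, c ≠ 0 → algebraMap A K c ≠ 0 := fun c hc ↦
    (map_ne_zero_iff _ (IsFractionRing.injective A K)).mpr hc
  haveI : Algebra.IsGeometricallyReduced K (K ⊗[A] B₀) :=
    Algebra.IsGeometricallyReduced.of_injective (Algebra.TensorProduct.map (AlgHom.id K K) φ)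
      (fun x y hxy ↦ hbij K (hne _ hf₁) (by rwa [map_id_eq_lTensor, map_id_eq_lTensor] at hxy))
  obtain ⟨a₀, ha₀, h₀⟩ := isReduced_tensor_of_geomReduced_fp (A := A) (B := B₀) (K := K)
  refine ⟨f₁ * a₀, mul_ne_zero hf₁ ha₀, fun k _ _ hk ↦ ?_⟩
  have hk1 : algebraMap A k f₁ ≠ 0 := fun h ↦ hk (by rw [map_mul, h, zero_mul])
  have hk2 : algebraMap A k a₀ ≠ 0 := fun h ↦ hk (by rw [map_mul, h, mul_zero])
  haveI := h₀ k hk2
  have hinj := hbij k hk1
  constructor
  intro x hx
  obtain ⟨y, rfl⟩ := LinearMap.lTensor_surjective k (g := φ.toLinearMap) hφs x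
  obtain ⟨n, hn⟩ := hx
  have hy : y ^ n = 0 := by
    apply hinj
    rw [map_zero, ← map_id_eq_lTensor, map_pow, map_id_eq_lTensor, hn]
  rw [(IsNilpotent.eq_zero ⟨n, hy⟩ : y = 0), map_zero]

/-- Geometric reducedness of a fibre ring from reducedness over all fields. -/
lemma isGeometricallyReduced_tensor_of_forall {A B : Type u} [CommRing A] [CommRing B]
    [Algebra A B] (k : Type u) [Field k] [Algebra A k]
    (h : IsReduced (AlgebraicClosure k ⊗[A] B)) :
    Algebra.IsGeometricallyReduced k (k ⊗[A] B) := by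
  rw [Algebra.isGeometricallyReduced_field_iff]
  let e : AlgebraicClosure k ⊗[k] (k ⊗[A] B) ≃ₐ[AlgebraicClosure k] AlgebraicClosure k ⊗[A] B :=
    Algebra.TensorProduct.cancelBaseChange A k (AlgebraicClosure k) (AlgebraicClosure k) B
  exact isReduced_of_injective e.toRingHom e.injective

/-- **General version**: `Spec A` irreducible with generic residue field `K`. -/
theorem exists_isGeometricallyReduced_of_irreducible {A B K : Type u} [CommRing A] [CommRing B]
    [Algebra A B] [Algebra.FiniteType A B] [Field K] [Algebra A K]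
    (hK : ∀ x : K, ∃ s t : A, algebraMap A K t ≠ 0 ∧ x * algebraMap A K t = algebraMap A K s)
    (hnil : ∀ a : A, algebraMap A K a = 0 → IsNilpotent a)
    [Algebra.IsGeometricallyReduced K (K ⊗[A] B)] :
    ∃ a : A, algebraMap A K a ≠ 0 ∧ ∀ (k : Type u) [Field k] [Algebra A k],
      algebraMap A k a ≠ 0 → Algebra.IsGeometricallyReduced k (k ⊗[A] B) := by
  let p : Ideal A := RingHom.ker (algebraMap A K)
  haveI : p.IsPrime := RingHom.ker_isPrime _
  let A₀ := A ⧸ p
  letI : Algebra A₀ K := (RingHom.kerLift (algebraMap A K)).toAlgebra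
  haveI : IsScalarTower A A₀ K := IsScalarTower.of_algebraMap_eq' (by
    ext x
    rfl)
  have hinj : Function.Injective (algebraMap A₀ K) := RingHom.kerLift_injective _
  haveI : FaithfulSMul A₀ K := (faithfulSMul_iff_algebraMap_injective A₀ K).mpr hinj
  haveI : IsFractionRing A₀ K := by
    refine IsFractionRing.of_field (R := A₀) (K := K) fun z ↦ ?_
    obtain ⟨s, t, ht, hst⟩ := hK z
    refine ⟨Ideal.Quotient.mk p s, Ideal.Quotient.mk p t, ?_⟩
    change z = algebraMap A K s / algebraMap A K t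
    rw [eq_div_iff ht, hst]
  let e : K ⊗[A₀] (A₀ ⊗[A] B) ≃ₐ[K] K ⊗[A] B := Algebra.TensorProduct.cancelBaseChange A A₀ K K B
  haveI : Algebra.IsGeometricallyReduced K (K ⊗[A₀] (A₀ ⊗[A] B)) :=
    Algebra.IsGeometricallyReduced.of_injective e.toAlgHom e.injective
  obtain ⟨a₀, ha₀, hk₀⟩ := isReduced_tensor_of_geomReduced (A := A₀) (B := A₀ ⊗[A] B) (K := K)
  obtain ⟨a, rfl⟩ := Ideal.Quotient.mk_surjective a₀
  refine ⟨a, ?_, fun k _ _ hka ↦ ?_⟩
  · change algebraMap A₀ K (Ideal.Quotient.mk p a) ≠ 0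
    exact (map_ne_zero_iff _ hinj).mpr ha₀
  · apply isGeometricallyReduced_tensor_of_forall
    have hker : ∀ a' ∈ p, algebraMap A (AlgebraicClosure k) a' = 0 := fun a' ha' ↦ by
      have := (hnil a' ha').map (algebraMap A (AlgebraicClosure k))
      exact this.eq_zero
    letI : Algebra A₀ (AlgebraicClosure k) :=
      (Ideal.Quotient.lift p (algebraMap A (AlgebraicClosure k)) hker).toAlgebra
    haveI : IsScalarTower A A₀ (AlgebraicClosure k) := IsScalarTower.of_algebraMap_eq' (by
      ext x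
      rfl)
    have hka' : algebraMap A₀ (AlgebraicClosure k) (Ideal.Quotient.mk p a) ≠ 0 := by
      change algebraMap A (AlgebraicClosure k) a ≠ 0
      rw [IsScalarTower.algebraMap_apply A k (AlgebraicClosure k)]
      exact (map_ne_zero_iff _ (algebraMap k (AlgebraicClosure k)).injective).mpr hka
    have h2 := hk₀ (AlgebraicClosure k) hka'
    let e' : AlgebraicClosure k ⊗[A₀] (A₀ ⊗[A] B) ≃ₐ[AlgebraicClosure k]
        AlgebraicClosure k ⊗[A] B :=
      Algebra.TensorProduct.cancelBaseChange A A₀ (AlgebraicClosure k) (AlgebraicClosure k) B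
    exact isReduced_of_injective e'.symm.toRingHom e'.symm.injective

end Groth.Agent.Lib.Helper24.GenericGeomReduced
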