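import Mathlib
import Groth.Agent.Lib.Helper29.GenericFree.Main

/-!
# Generic injectivity after tensoring (helper24)

Over a domain `A`, if `φ : M → N` has torsion kernel, `M` is generically free and the cokernel of
`φ` is generically free, then after inverting one nonzero element `a`, `k ⊗ φ` is injective for
every `A`-algebra `k` in which `a` is invertible.  Also nontriviality of `k ⊗ M`.
-/

set_option autoImplicit false

universe u

open TensorProduct

namespace Groth.Agent.Lib.Helper24.GenericInj

open Groth.Agent.Lib.Helper29.GenericFree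

variable {A : Type u} [CommRing A]

/-- Freeness of `A_a ⊗ M` from an `f`-basis with `f ∣ a`. -/
lemma free_tensor_of_isFBasis {M : Type u} [AddCommGroup M] [Module A M] {f a : A} (hfa : f ∣ a)
    {s : Set M} (hs : IsFBasis f s) :
    Module.Free (Localization.Away a) (Localization.Away a ⊗[A] M) := by
  have := (hs.of_dvd hfa).free
  exact Module.Free.of_equiv (LocalizedModule.equivTensorProduct (Submonoid.powers a) M)

section

variable {M N Q : Type u} [AddCommGroup M] [Module A M] [AddCommGroup N] [Module A N]
  [AddCommGroup Q] [Module A Q]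

/-- The canonical retraction `k ⊗ (A_a ⊗ M) → k ⊗ M` when `a` is invertible in `k`. -/
noncomputable def retract (a : A) (k : Type u) [CommRing k] [Algebra A k]
    (hk : IsUnit (algebraMap A k a)) (M : Type u) [AddCommGroup M] [Module A M] :
    k ⊗[A] (Localization.Away a ⊗[A] M) →ₗ[A] k ⊗[A] M :=
  ((Algebra.TensorProduct.productMap (AlgHom.id A k)
      (IsLocalization.Away.liftAlgHom (S := Localization.Away a) (f := Algebra.ofId A k) a
        hk)).toLinearMap.rTensor M) ∘ₗ
    (TensorProduct.assoc A k (Localization.Away a) M).symm.toLinearMap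

lemma retract_comp (a : A) (k : Type u) [CommRing k] [Algebra A k]
    (hk : IsUnit (algebraMap A k a)) (x : k ⊗[A] M) :
    retract a k hk M ((TensorProduct.mk A (Localization.Away a) M 1).lTensor k x) = x := by
  induction x using TensorProduct.induction_on with
  | zero => simp
  | tmul c m =>
    simp [retract]
  | add x y hx hy => rw [map_add, map_add, hx, hy]

lemma lTensor_mk_injective (a : A) (k : Type u) [CommRing k] [Algebra A k]
    (hk : IsUnit (algebraMap A k a)) :
    Function.Injective ((TensorProduct.mk A (Localization.Away a) M 1).lTensor k) :=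
  Function.LeftInverse.injective (g := retract a k hk M) (retract_comp a k hk)

end

section main

variable [IsDomain A] {M N Q : Type u} [AddCommGroup M] [Module A M] [AddCommGroup N] [Module A N]
  [AddCommGroup Q] [Module A Q]

/-- `A_a ⊗ M` is torsion-free over `A` when free over `A_a`. -/
lemma smul_eq_zero_tensor (a : A) (ha : a ≠ 0)
    [Module.Free (Localization.Away a) (Localization.Away a ⊗[A] M)] (c : A) (hc : c ≠ 0)
    (x : Localization.Away a ⊗[A] M) (hx : c • x = 0) : x = 0 := by
  have hle : Submonoid.powers a ≤ nonZeroDivisors A :=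
    Submonoid.powers_le.mpr (mem_nonZeroDivisors_of_ne_zero ha)
  haveI : IsDomain (Localization.Away a) := IsLocalization.isDomain_localization hle
  have hinj : Function.Injective (algebraMap A (Localization.Away a)) :=
    IsLocalization.injective _ hle
  have hc' : algebraMap A (Localization.Away a) c ≠ 0 := by
    intro h0
    exact hc (hinj (by rw [h0, map_zero]))
  rw [← algebraMap_smul (Localization.Away a) c x] at hx
  exact (smul_eq_zero.mp hx).resolve_left hc'

/-- **Generic injectivity.** -/
theorem lTensor_injective_of_free (φ : M →ₗ[A] N) (π : N →ₗ[A] Q) (hπ : Function.Surjective π)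
    (hex : Function.Exact φ π) (hφ : ∀ m, φ m = 0 → ∃ c : A, c ≠ 0 ∧ c • m = 0)
    (a : A) (ha : a ≠ 0) [Module.Free (Localization.Away a) (Localization.Away a ⊗[A] M)]
    [Module.Free (Localization.Away a) (Localization.Away a ⊗[A] Q)]
    (k : Type u) [CommRing k] [Algebra A k] (hk : IsUnit (algebraMap A k a)) :
    Function.Injective (φ.lTensor k) := by
  let S := Submonoid.powers a
  let Aa := Localization.Away a
  have hφ' : Function.Injective (φ.lTensor Aa) := by
    rw [injective_iff_map_eq_zero]
    intro x hx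
    obtain ⟨⟨m, s⟩, hms⟩ := IsLocalizedModule.surj S (TensorProduct.mk A Aa M 1) x
    have h2 : (s : A) • x = (1 : Aa) ⊗ₜ[A] m := hms
    have h1 : (1 : Aa) ⊗ₜ[A] φ m = 0 := by
      have : φ.lTensor Aa ((s : A) • x) = 0 := by rw [map_smul, hx, smul_zero]
      rw [h2] at this
      simpa using this
    obtain ⟨t, ht⟩ := (IsLocalizedModule.eq_zero_iff S (TensorProduct.mk A Aa N 1)).mp h1
    have ht' : (t : A) • φ m = 0 := ht
    obtain ⟨c, hc0, hc⟩ := hφ ((t : A) • m) (by rw [map_smul]; exact ht')
    have hs0 : (s : A) ≠ 0 := by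
      obtain ⟨n, hn⟩ := s.2
      rw [← hn]; exact pow_ne_zero n ha
    have ht0 : (t : A) ≠ 0 := by
      obtain ⟨n, hn⟩ := t.2
      rw [← hn]; exact pow_ne_zero n ha
    refine smul_eq_zero_tensor a ha (c * t * s) (mul_ne_zero (mul_ne_zero hc0 ht0) hs0) x ?_
    rw [mul_smul, h2, mul_smul, ← TensorProduct.tmul_smul, ← TensorProduct.tmul_smul, hc,
      TensorProduct.tmul_zero]
  have hπ' : Function.Surjective (π.lTensor Aa) := LinearMap.lTensor_surjective Aa hπ
  have hex' : Function.Exact (φ.lTensor Aa) (π.lTensor Aa) := Module.Flat.lTensor_exact Aa hex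
  haveI : Module.Flat A (Aa ⊗[A] Q) := Module.Flat.trans A Aa (Aa ⊗[A] Q)
  have hinj := LinearMap.lTensor_injective_of_exact_of_flat (π.lTensor Aa) hπ' (φ.lTensor Aa) hφ'
    hex' k
  have hsq : ((φ.lTensor Aa).lTensor k) ∘ₗ ((TensorProduct.mk A Aa M 1).lTensor k) =
      ((TensorProduct.mk A Aa N 1).lTensor k) ∘ₗ (φ.lTensor k) := by
    have h0 : (φ.lTensor Aa) ∘ₗ (TensorProduct.mk A Aa M 1) = (TensorProduct.mk A Aa N 1) ∘ₗ φ := by
      ext m
      simp
    rw [← LinearMap.lTensor_comp, ← LinearMap.lTensor_comp, h0]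
  intro x y hxy
  apply lTensor_mk_injective a k hk
  apply hinj
  have hx := LinearMap.congr_fun hsq x
  have hy := LinearMap.congr_fun hsq y
  simp only [LinearMap.comp_apply] at hx hy
  rw [hx, hy, hxy]

/-- **Generic nontriviality.** -/
theorem nontrivial_tensor_of_free (a : A) (ha : a ≠ 0)
    [Module.Free (Localization.Away a) (Localization.Away a ⊗[A] M)] (m : M)
    (hm : ∀ c : A, c ≠ 0 → c • m ≠ 0) (k : Type u) [CommRing k] [Nontrivial k] [Algebra A k]
    (hk : IsUnit (algebraMap A k a)) : Nontrivial (k ⊗[A] M) := by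
  let S := Submonoid.powers a
  let Aa := Localization.Away a
  have h1 : (1 : Aa) ⊗ₜ[A] m ≠ 0 := by
    intro h0
    obtain ⟨s, hs⟩ := (IsLocalizedModule.eq_zero_iff S (TensorProduct.mk A Aa M 1)).mp h0
    obtain ⟨n, hn⟩ := s.2
    exact hm (s : A) (by rw [← hn]; exact pow_ne_zero n ha) hs
  haveI : Nontrivial (Aa ⊗[A] M) := ⟨⟨_, 0, h1⟩⟩
  letI : Algebra Aa k := (IsLocalization.Away.lift a hk).toAlgebra
  haveI : IsScalarTower A Aa k := IsScalarTower.of_algebraMap_eq' (by
    ext x
    simp [RingHom.algebraMap_toAlgebra])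
  haveI : Nontrivial (k ⊗[Aa] (Aa ⊗[A] M)) :=
    (Module.FaithfullyFlat.nontrivial_tensorProduct_iff_left Aa k (N := Aa ⊗[A] M)).mpr
      inferInstance
  exact (TensorProduct.AlgebraTensorModule.cancelBaseChange A Aa k k M).symm.toEquiv.nontrivial

end main

end Groth.Agent.Lib.Helper24.GenericInj
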