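import Groth.Agent.Lib.Helper24.GenericInj
import Groth.Agent.Lib.Helper8.GenFree2

/-!
# Non-reduced generic fibres spread out (ring level) (helper24)
-/

set_option autoImplicit false

universe u

open TensorProduct

namespace Groth.Agent.Lib.Helper24.GenericInj

open Groth.Agent.Lib.Helper8.GenFree

/-- Freeness over `A_a` from helper8's generic freeness witness `f ∣ a`. -/
lemma free_away_of_dvd {A : Type u} [CommRing A] {M : Type u} [AddCommGroup M] [Module A M]
    {f a : A} (hfa : f ∣ a)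
    (hf : ∀ (R' : Type u) [CommRing R'] [Algebra A R'] [Module.Flat A R'],
      IsUnit (algebraMap A R' f) → Module.Free R' (R' ⊗[A] M)) :
    Module.Free (Localization.Away a) (Localization.Away a ⊗[A] M) := by
  refine hf (Localization.Away a) ?_
  have hu : IsUnit (algebraMap A (Localization.Away a) a) :=
    IsLocalization.Away.algebraMap_isUnit a
  exact isUnit_of_dvd_unit (map_dvd (algebraMap A (Localization.Away a)) hfa) hu

/-- Core: over a domain `A`, if `b ∈ B` is not `A`-torsion and `a₁ b ^ n = 0` with `a₁ ≠ 0`, then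
after inverting some `a ≠ 0`, `1 ⊗ b` is a nonzero nilpotent of every fibre ring `k ⊗ B`. -/
theorem not_isReduced_tensor_of_nilpotent {A B : Type u} [CommRing A] [IsDomain A] [CommRing B]
    [Algebra A B] [Algebra.FiniteType A B] (b : B) (n : ℕ) (hb : ∀ c : A, c ≠ 0 → c • b ≠ 0)
    (a₁ : A) (ha₁ : a₁ ≠ 0) (hn : a₁ • b ^ n = 0) :
    ∃ a : A, a ≠ 0 ∧ ∀ (k : Type u) [Field k] [Algebra A k], algebraMap A k a ≠ 0 →
      ¬ IsReduced (k ⊗[A] B) := by
  classical
  let I : Ideal B := LinearMap.ker (LinearMap.toSpanSingleton B B b)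
  let J : Ideal B := Ideal.span {b}
  let φB : (B ⧸ I) →ₗ[B] B := I.liftQ (LinearMap.toSpanSingleton B B b) le_rfl
  let φ : (B ⧸ I) →ₗ[A] B := φB.restrictScalars A
  let π : B →ₗ[A] (B ⧸ J) := J.mkQ.restrictScalars A
  have hφmk : ∀ r : B, φ (Submodule.Quotient.mk r) = r * b := fun r ↦ by
    change I.liftQ (LinearMap.toSpanSingleton B B b) le_rfl (Submodule.Quotient.mk r) = r * b
    rw [Submodule.liftQ_apply, LinearMap.toSpanSingleton_apply, smul_eq_mul]
  have hφinj : Function.Injective φ := by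
    have : LinearMap.ker φB = ⊥ := Submodule.ker_liftQ_eq_bot _ _ _ le_rfl
    exact (LinearMap.ker_eq_bot.mp this : Function.Injective φB)
  have hπ : Function.Surjective π := J.mkQ_surjective
  have hex : Function.Exact φ π := by
    intro y
    change J.mkQ y = 0 ↔ y ∈ Set.range φ
    rw [Submodule.mkQ_apply, Submodule.Quotient.mk_eq_zero]
    constructor
    · intro hy
      obtain ⟨r, rfl⟩ := Ideal.mem_span_singleton'.mp hy
      exact ⟨Submodule.Quotient.mk r, hφmk r⟩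
    · rintro ⟨m, rfl⟩
      obtain ⟨r, rfl⟩ := Submodule.Quotient.mk_surjective I m
      rw [hφmk]
      exact Ideal.mem_span_singleton'.mpr ⟨r, rfl⟩
  obtain ⟨f₁, hf₁, hs₁⟩ := gf_of_finiteType (R := A) B (B ⧸ I)
  obtain ⟨f₂, hf₂, hs₂⟩ := gf_of_finiteType (R := A) B (B ⧸ J)
  refine ⟨f₁ * f₂ * a₁, mul_ne_zero (mul_ne_zero hf₁ hf₂) ha₁, fun k _ _ hk ↦ ?_⟩
  set a := f₁ * f₂ * a₁ with ha
  have ha0 : a ≠ 0 := mul_ne_zero (mul_ne_zero hf₁ hf₂) ha₁
  haveI := free_away_of_dvd (a := a) ⟨f₂ * a₁, by rw [ha]; ring⟩ hs₁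
  haveI := free_away_of_dvd (a := a) ⟨f₁ * a₁, by rw [ha]; ring⟩ hs₂
  have hku : IsUnit (algebraMap A k a) := hk.isUnit
  have hinj := lTensor_injective_of_free φ π hπ hex
    (fun m hm ↦ ⟨1, one_ne_zero, by rw [one_smul]; exact hφinj (by rw [hm, map_zero])⟩) a ha0 k hku
  have hm1 : ∀ c : A, c ≠ 0 → c • (Submodule.Quotient.mk 1 : B ⧸ I) ≠ 0 := by
    intro c hc h0
    have h1 : φ (c • (Submodule.Quotient.mk 1 : B ⧸ I)) = 0 := by rw [h0, map_zero]
    rw [map_smul, hφmk, one_mul] at h1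
    exact hb c hc h1
  haveI hnt := nontrivial_tensor_of_free a ha0 (Submodule.Quotient.mk 1 : B ⧸ I) hm1 k hku
  have he : ((1 : k) ⊗ₜ[A] (Submodule.Quotient.mk 1 : B ⧸ I)) ≠ 0 := by
    have h1 : (1 : k ⊗[A] (B ⧸ I)) ≠ 0 := one_ne_zero
    rwa [Algebra.TensorProduct.one_def] at h1
  have hx : (1 : k) ⊗ₜ[A] b ≠ 0 := by
    intro h0
    apply he
    apply hinj
    rw [map_zero, LinearMap.lTensor_tmul, hφmk, one_mul, h0]
  have ha₁k : algebraMap A k a₁ ≠ 0 := by
    intro h0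
    apply hk
    rw [ha, map_mul, h0, mul_zero]
  intro hred
  have hnil : IsNilpotent ((1 : k) ⊗ₜ[A] b : k ⊗[A] B) := by
    refine ⟨n, ?_⟩
    rw [Algebra.TensorProduct.tmul_pow, one_pow]
    have h1 : a₁ • ((1 : k) ⊗ₜ[A] (b ^ n)) = 0 := by
      rw [← TensorProduct.tmul_smul, hn, TensorProduct.tmul_zero]
    rw [← algebraMap_smul k a₁, smul_eq_zero] at h1
    exact h1.resolve_left ha₁k
  exact hx hnil.eq_zero

/-- Domain version with the fraction field. -/
theorem exists_not_isReduced_of_fractionRing {A B K : Type u} [CommRing A] [IsDomain A]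
    [CommRing B] [Algebra A B] [Algebra.FiniteType A B] [Field K] [Algebra A K]
    [IsFractionRing A K] (h : ¬ IsReduced (K ⊗[A] B)) :
    ∃ a : A, a ≠ 0 ∧ ∀ (k : Type u) [Field k] [Algebra A k], algebraMap A k a ≠ 0 →
      ¬ IsReduced (k ⊗[A] B) := by
  obtain ⟨x, hxnil, hx0⟩ : ∃ x : K ⊗[A] B, IsNilpotent x ∧ x ≠ 0 := by
    by_contra hcon
    push_neg at hcon
    exact h ⟨fun x hx ↦ hcon x hx⟩
  let S := nonZeroDivisors A
  obtain ⟨⟨b, s⟩, hbs⟩ := IsLocalizedModule.surj S (TensorProduct.mk A K B 1) x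
  have hbs' : (s : A) • x = (1 : K) ⊗ₜ[A] b := hbs
  have hne : ∀ c : A, c ≠ 0 → algebraMap A K c ≠ 0 := fun c hc ↦
    (map_ne_zero_iff _ (IsFractionRing.injective A K)).mpr hc
  have hs0 : (s : A) ≠ 0 := nonZeroDivisors.ne_zero s.2
  have hy0 : (1 : K) ⊗ₜ[A] b ≠ 0 := by
    rw [← hbs', ← algebraMap_smul K (s : A) x]
    exact smul_ne_zero (hne _ hs0) hx0
  obtain ⟨n, hn⟩ := hxnil
  have hyn : ((1 : K) ⊗ₜ[A] b : K ⊗[A] B) ^ n = 0 := by
    rw [← hbs', smul_pow, hn, smul_zero]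
  rw [Algebra.TensorProduct.tmul_pow, one_pow] at hyn
  obtain ⟨a₁, ha₁⟩ := (IsLocalizedModule.eq_zero_iff S (TensorProduct.mk A K B 1)).mp hyn
  have ha₁' : (a₁ : A) • b ^ n = 0 := ha₁
  refine not_isReduced_tensor_of_nilpotent b n (fun c hc h0 ↦ hy0 ?_) (a₁ : A)
    (nonZeroDivisors.ne_zero a₁.2) ha₁'
  have h1 : c • ((1 : K) ⊗ₜ[A] b) = 0 := by
    rw [← TensorProduct.tmul_smul, h0, TensorProduct.tmul_zero]
  rw [← algebraMap_smul K c, smul_eq_zero] at h1
  exact h1.resolve_left (hne c hc)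

/-- General version: `Spec A` irreducible with generic residue field `K`. -/
theorem exists_not_isReduced_of_irreducible {A B K : Type u} [CommRing A] [CommRing B]
    [Algebra A B] [Algebra.FiniteType A B] [Field K] [Algebra A K]
    (hK : ∀ x : K, ∃ s t : A, algebraMap A K t ≠ 0 ∧ x * algebraMap A K t = algebraMap A K s)
    (hnil : ∀ a : A, algebraMap A K a = 0 → IsNilpotent a) (h : ¬ IsReduced (K ⊗[A] B)) :
    ∃ a : A, algebraMap A K a ≠ 0 ∧ ∀ (k : Type u) [Field k] [Algebra A k],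
      algebraMap A k a ≠ 0 → ¬ IsReduced (k ⊗[A] B) := by
  let p : Ideal A := RingHom.ker (algebraMap A K)
  haveI : p.IsPrime := RingHom.ker_isPrime _
  let A₀ := A ⧸ p
  letI : Algebra A₀ K := (RingHom.kerLift (algebraMap A K)).toAlgebra
  haveI : IsScalarTower A A₀ K := IsScalarTower.of_algebraMap_eq' (by
    ext x
    rfl)
  have hinj : Function.Injective (algebraMap A₀ K) := RingHom.kerLift_injective _
  haveI : FaithfulSMul A₀ K := (faithfulSMul_iff_algebraMap_injective A₀ K).mpr hinj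
  haveI : IsFractionRing A₀ K := by
    refine IsFractionRing.of_field (R := A₀) (K := K) fun z ↦ ?_
    obtain ⟨s, t, ht, hst⟩ := hK z
    refine ⟨Ideal.Quotient.mk p s, Ideal.Quotient.mk p t, ?_⟩
    change z = algebraMap A K s / algebraMap A K t
    rw [eq_div_iff ht, hst]
  let e : K ⊗[A₀] (A₀ ⊗[A] B) ≃ₐ[K] K ⊗[A] B := Algebra.TensorProduct.cancelBaseChange A A₀ K K B
  have h' : ¬ IsReduced (K ⊗[A₀] (A₀ ⊗[A] B)) := fun hred ↦
    h (isReduced_of_injective e.symm.toRingHom e.symm.injective)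
  obtain ⟨a₀, ha₀, hk₀⟩ := exists_not_isReduced_of_fractionRing (A := A₀) (B := A₀ ⊗[A] B) h'
  obtain ⟨a, rfl⟩ := Ideal.Quotient.mk_surjective a₀
  refine ⟨a, ?_, fun k _ _ hka ↦ ?_⟩
  · change algebraMap A₀ K (Ideal.Quotient.mk p a) ≠ 0
    exact (map_ne_zero_iff _ hinj).mpr ha₀
  · have hker : ∀ a' ∈ p, algebraMap A k a' = 0 := fun a' ha' ↦ by
      have := (hnil a' ha').map (algebraMap A k)
      exact this.eq_zero
    letI : Algebra A₀ k := (Ideal.Quotient.lift p (algebraMap A k) hker).toAlgebra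
    haveI : IsScalarTower A A₀ k := IsScalarTower.of_algebraMap_eq' (by
      ext x
      rfl)
    have hka' : algebraMap A₀ k (Ideal.Quotient.mk p a) ≠ 0 := hka
    have h2 := hk₀ k hka'
    let e' : k ⊗[A₀] (A₀ ⊗[A] B) ≃ₐ[k] k ⊗[A] B :=
      Algebra.TensorProduct.cancelBaseChange A A₀ k k B
    exact fun hred ↦ h2 (isReduced_of_injective e'.toRingHom e'.injective)

end Groth.Agent.Lib.Helper24.GenericInj
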