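import Groth.Agent.Lib.Helper24.GenericGeomReduced
import Groth.Agent.S2536

/-!
# Non geometrically reduced generic fibres spread out (ring level) (helper24)
-/

set_option autoImplicit false
set_option linter.style.haveILetI false

universe u

open TensorProduct

namespace Groth.Agent.Lib.Helper24.GenericNotGeomReduced

open Groth.Agent.Lib.Helper8.GenFree Groth.Agent.Lib.Helper24.GenericInj

/-- **Generic surjectivity on field points**: a finite type injective extension of domains
`A ⊆ A'` and `a' ≠ 0`: every field point of `Spec A` outside some `V(a)` lifts to a field point of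
`D(a') ⊆ Spec A'`. -/
theorem exists_field_over {A A' : Type u} [CommRing A] [IsDomain A] [CommRing A'] [IsDomain A']
    [Algebra A A'] [Algebra.FiniteType A A'] (hinj : Function.Injective (algebraMap A A'))
    (a' : A') (ha' : a' ≠ 0) :
    ∃ a : A, a ≠ 0 ∧ ∀ (k : Type u) [Field k] [Algebra A k], algebraMap A k a ≠ 0 →
      ∃ (k' : Type u) (_ : Field k') (φ : k →+* k') (ψ : A' →+* k'),
        φ.comp (algebraMap A k) = ψ.comp (algebraMap A A') ∧ ψ a' ≠ 0 := by
  let M := Localization.Away a'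
  haveI : Algebra.FiniteType A' M := IsLocalization.finiteType_of_monoid_fg (Submonoid.powers a') M
  haveI : Algebra.FiniteType A M :=
    Algebra.FiniteType.trans (S := A') (inferInstance : Algebra.FiniteType A A') inferInstance
  obtain ⟨f, hf, hs⟩ := gf_of_finiteType (R := A) M M
  refine ⟨f, hf, fun k _ _ hk ↦ ?_⟩
  haveI := free_away_of_dvd (a := f) (dvd_refl _) hs
  have hM : Function.Injective (algebraMap A' M) :=
    IsLocalization.injective M (M := Submonoid.powers a')
      (Submonoid.powers_le.mpr (mem_nonZeroDivisors_of_ne_zero ha'))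
  have hm : ∀ c : A, c ≠ 0 → c • (1 : M) ≠ 0 := by
    intro c hc h0
    rw [Algebra.smul_def, mul_one, IsScalarTower.algebraMap_apply A A' M] at h0
    have h1 := hM (h0.trans (map_zero _).symm)
    exact hc (hinj (h1.trans (map_zero _).symm))
  haveI : Nontrivial (k ⊗[A] M) := nontrivial_tensor_of_free f hf (1 : M) hm k hk.isUnit
  obtain ⟨𝔪, h𝔪⟩ := Ideal.exists_maximal (k ⊗[A] M)
  letI : Field ((k ⊗[A] M) ⧸ 𝔪) := Ideal.Quotient.field 𝔪
  let φ : k →+* (k ⊗[A] M) ⧸ 𝔪 :=
    (Ideal.Quotient.mk 𝔪).comp (Algebra.TensorProduct.includeLeftRingHom)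
  let ψ : A' →+* (k ⊗[A] M) ⧸ 𝔪 :=
    (Ideal.Quotient.mk 𝔪).comp ((Algebra.TensorProduct.includeRight (R := A) (A := k)
      (B := M)).toRingHom.comp (algebraMap A' M))
  refine ⟨(k ⊗[A] M) ⧸ 𝔪, inferInstance, φ, ψ, ?_, ?_⟩
  · ext c
    simp only [φ, ψ, RingHom.comp_apply, Algebra.TensorProduct.includeLeftRingHom_apply,
      AlgHom.toRingHom_eq_coe, RingHom.coe_coe, Algebra.TensorProduct.includeRight_apply]
    congr 1
    rw [← IsScalarTower.algebraMap_apply A A' M, Algebra.algebraMap_eq_smul_one c,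
      Algebra.algebraMap_eq_smul_one (A := M) c, TensorProduct.smul_tmul]
  · have hu : IsUnit (algebraMap A' M a') := IsLocalization.Away.algebraMap_isUnit a'
    have hu' : IsUnit (ψ a') := by
      change IsUnit (((Ideal.Quotient.mk 𝔪).comp ((Algebra.TensorProduct.includeRight (R := A)
        (A := k) (B := M)).toRingHom)) (algebraMap A' M a'))
      exact hu.map _
    exact hu'.ne_zero

/-- A nonzero nilpotent of `L ⊗ B` is defined over a finitely generated subalgebra of `L`. -/
theorem exists_subalgebra_not_isReduced {A B L : Type u} [CommRing A] [IsDomain A] [CommRing B]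
    [Algebra A B] [Algebra.FiniteType A B] [Field L] [Algebra A L]
    (h : ¬ IsReduced (L ⊗[A] B)) :
    ∃ (A' : Subalgebra A L), A'.FG ∧ ∃ a' : A', a' ≠ 0 ∧
      ∀ (k' : Type u) [Field k'] [Algebra A' k'], algebraMap A' k' a' ≠ 0 →
        ¬ IsReduced (k' ⊗[A'] (A' ⊗[A] B)) := by
  classical
  obtain ⟨x, hxnil, hx0⟩ : ∃ x : L ⊗[A] B, IsNilpotent x ∧ x ≠ 0 := by
    by_contra hcon
    push_neg at hcon
    exact h ⟨fun x hx ↦ hcon x hx⟩
  obtain ⟨S, hS⟩ := TensorProduct.exists_finset x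
  let cs : Finset L := S.image Prod.fst
  let A' : Subalgebra A L := Algebra.adjoin A (cs : Set L)
  have hmem : ∀ i ∈ S, i.1 ∈ A' := fun i hi ↦
    Algebra.subset_adjoin (Finset.mem_coe.mpr (Finset.mem_image_of_mem Prod.fst hi))
  refine ⟨A', Subalgebra.fg_adjoin_finset cs, ?_⟩
  let x' : A' ⊗[A] B := ∑ i ∈ S.attach, (⟨i.1.1, hmem i.1 i.2⟩ : A') ⊗ₜ[A] i.1.2
  have hinj : Function.Injective (algebraMap A' L) := Subtype.val_injective
  letI : Algebra (FractionRing A') L := (IsFractionRing.lift (K := FractionRing A') hinj).toAlgebra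
  haveI : IsScalarTower A' (FractionRing A') L := IsScalarTower.of_algebraMap_eq
    (fun y ↦ (IsFractionRing.lift_algebraMap hinj y).symm)
  letI i1 : CommRing (FractionRing A' ⊗[A'] (A' ⊗[A] B)) := inferInstance
  letI i2 : Algebra (FractionRing A') (FractionRing A' ⊗[A'] (A' ⊗[A] B)) := inferInstance
  let e₁ : L ⊗[FractionRing A'] (FractionRing A' ⊗[A'] (A' ⊗[A] B)) ≃ₐ[L] L ⊗[A'] (A' ⊗[A] B) :=
    Algebra.TensorProduct.cancelBaseChange A' (FractionRing A') L L (A' ⊗[A] B)
  let e₂ : L ⊗[A'] (A' ⊗[A] B) ≃ₐ[L] L ⊗[A] B :=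
    Algebra.TensorProduct.cancelBaseChange A A' L L B
  let ι : FractionRing A' ⊗[A'] (A' ⊗[A] B) →ₐ[FractionRing A'] L ⊗[FractionRing A'] (FractionRing A' ⊗[A'] (A' ⊗[A] B)) :=
    Algebra.TensorProduct.includeRight
  haveI : Module.Free (FractionRing A') (FractionRing A' ⊗[A'] (A' ⊗[A] B)) :=
    Module.Free.of_divisionRing _ _
  haveI : Module.Flat (FractionRing A') (FractionRing A' ⊗[A'] (A' ⊗[A] B)) :=
    Module.Flat.of_free
  have hι : Function.Injective ι :=
    Algebra.TensorProduct.includeRight_injective (algebraMap (FractionRing A') L).injective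
  let Θ : FractionRing A' ⊗[A'] (A' ⊗[A] B) →+* L ⊗[A] B :=
    (e₂.toRingHom.comp e₁.toRingHom).comp ι.toRingHom
  have hΘinj : Function.Injective Θ := (e₂.injective.comp e₁.injective).comp hι
  have hΘ : Θ ((1 : FractionRing A') ⊗ₜ[A'] x') = x := by
    change e₂ (e₁ (ι ((1 : FractionRing A') ⊗ₜ[A'] x'))) = x
    simp only [ι, Algebra.TensorProduct.includeRight_apply, x', TensorProduct.tmul_sum, map_sum]
    rw [hS, ← Finset.sum_attach S]
    refine Finset.sum_congr rfl fun i _ ↦ ?_
    simp only [e₁, e₂, Algebra.TensorProduct.cancelBaseChange_tmul, one_smul]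
    congr 1
    exact mul_one _
  have hnr : ¬ IsReduced (FractionRing A' ⊗[A'] (A' ⊗[A] B)) := by
    intro hred
    obtain ⟨n, hn⟩ := hxnil
    have h1 : IsNilpotent ((1 : FractionRing A') ⊗ₜ[A'] x' : FractionRing A' ⊗[A'] (A' ⊗[A] B)) := by
      refine ⟨n, hΘinj ?_⟩
      rw [map_pow, hΘ, hn, map_zero]
    have h2 := h1.eq_zero
    apply hx0
    rw [← hΘ, h2, map_zero]
  haveI : Algebra.FiniteType A' (A' ⊗[A] B) := inferInstance
  obtain ⟨a', ha', hk'⟩ := exists_not_isReduced_of_fractionRing (A := A') (B := A' ⊗[A] B)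
    (K := FractionRing A') hnr
  exact ⟨a', ha', hk'⟩

open Groth.Agent.Lib.Helper24.GenericGeomReduced in
/-- **Non geometrically reduced generic fibre, domain case.** -/
theorem not_isGeometricallyReduced_domain {A B K : Type u} [CommRing A] [IsDomain A] [CommRing B]
    [Algebra A B] [Algebra.FiniteType A B] [Field K] [Algebra A K] [IsFractionRing A K]
    (h : ¬ Algebra.IsGeometricallyReduced K (K ⊗[A] B)) :
    ∃ a : A, a ≠ 0 ∧ ∀ (k : Type u) [Field k] [Algebra A k], algebraMap A k a ≠ 0 →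
      ¬ Algebra.IsGeometricallyReduced k (k ⊗[A] B) := by
  have hL : ¬ IsReduced (AlgebraicClosure K ⊗[A] B) := fun hred ↦
    h (isGeometricallyReduced_tensor_of_forall K hred)
  obtain ⟨A', hA'fg, a', ha', hk'⟩ :=
    exists_subalgebra_not_isReduced (A := A) (B := B) (L := AlgebraicClosure K) hL
  haveI : Algebra.FiniteType A A' := (Subalgebra.fg_iff_finiteType A').mp hA'fg
  have hinjAL : Function.Injective (algebraMap A (AlgebraicClosure K)) := by
    rw [IsScalarTower.algebraMap_eq A K (AlgebraicClosure K)]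
    exact (algebraMap K (AlgebraicClosure K)).injective.comp (IsFractionRing.injective A K)
  have hinj : Function.Injective (algebraMap A A') := by
    intro x y hxy
    apply hinjAL
    exact congrArg Subtype.val hxy
  obtain ⟨a, ha, hfield⟩ := exists_field_over hinj a' ha'
  refine ⟨a, ha, fun k _ _ hk hgr ↦ ?_⟩
  obtain ⟨k', _, φ, ψ, hφψ, hψ⟩ := hfield k hk
  letI : Algebra k k' := φ.toAlgebra
  letI : Algebra A' k' := ψ.toAlgebra
  letI : Algebra A k' := (φ.comp (algebraMap A k)).toAlgebra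
  haveI : IsScalarTower A k k' := IsScalarTower.of_algebraMap_eq' rfl
  haveI : IsScalarTower A A' k' := IsScalarTower.of_algebraMap_eq' hφψ
  have h1 : ¬ IsReduced (k' ⊗[A'] (A' ⊗[A] B)) := hk' k' hψ
  apply h1
  haveI := hgr
  have h2 : IsReduced (k' ⊗[k] (k ⊗[A] B)) :=
    Groth.Agent.S2536.isReduced_tensorProduct_field k (k ⊗[A] B) k'
  let e₁ : k' ⊗[k] (k ⊗[A] B) ≃ₐ[k'] k' ⊗[A] B :=
    Algebra.TensorProduct.cancelBaseChange A k k' k' B
  let e₂ : k' ⊗[A'] (A' ⊗[A] B) ≃ₐ[k'] k' ⊗[A] B :=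
    Algebra.TensorProduct.cancelBaseChange A A' k' k' B
  exact isReduced_of_injective (e₁.symm.toRingHom.comp e₂.toRingHom)
    (e₁.symm.injective.comp e₂.injective)

/-- **General version**: `Spec A` irreducible with generic residue field `K`. -/
theorem exists_not_isGeometricallyReduced_of_irreducible {A B K : Type u} [CommRing A]
    [CommRing B] [Algebra A B] [Algebra.FiniteType A B] [Field K] [Algebra A K]
    (hK : ∀ x : K, ∃ s t : A, algebraMap A K t ≠ 0 ∧ x * algebraMap A K t = algebraMap A K s)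
    (hnil : ∀ a : A, algebraMap A K a = 0 → IsNilpotent a)
    (h : ¬ Algebra.IsGeometricallyReduced K (K ⊗[A] B)) :
    ∃ a : A, algebraMap A K a ≠ 0 ∧ ∀ (k : Type u) [Field k] [Algebra A k],
      algebraMap A k a ≠ 0 → ¬ Algebra.IsGeometricallyReduced k (k ⊗[A] B) := by
  let p : Ideal A := RingHom.ker (algebraMap A K)
  haveI : p.IsPrime := RingHom.ker_isPrime _
  let A₀ := A ⧸ p
  letI : Algebra A₀ K := (RingHom.kerLift (algebraMap A K)).toAlgebra
  haveI : IsScalarTower A A₀ K := IsScalarTower.of_algebraMap_eq' (by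
    ext x
    rfl)
  have hinj : Function.Injective (algebraMap A₀ K) := RingHom.kerLift_injective _
  haveI : FaithfulSMul A₀ K := (faithfulSMul_iff_algebraMap_injective A₀ K).mpr hinj
  haveI : IsFractionRing A₀ K := by
    refine IsFractionRing.of_field (R := A₀) (K := K) fun z ↦ ?_
    obtain ⟨s, t, ht, hst⟩ := hK z
    refine ⟨Ideal.Quotient.mk p s, Ideal.Quotient.mk p t, ?_⟩
    change z = algebraMap A K s / algebraMap A K t
    rw [eq_div_iff ht, hst]
  let e : K ⊗[A₀] (A₀ ⊗[A] B) ≃ₐ[K] K ⊗[A] B := Algebra.TensorProduct.cancelBaseChange A A₀ K K B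
  have h' : ¬ Algebra.IsGeometricallyReduced K (K ⊗[A₀] (A₀ ⊗[A] B)) := fun hred ↦ by
    haveI := hred
    let f : K ⊗[A] B →ₐ[K] K ⊗[A₀] (A₀ ⊗[A] B) := e.symm.toAlgHom
    have hf : Function.Injective f := e.symm.injective
    exact h (Algebra.IsGeometricallyReduced.of_injective (B := K ⊗[A₀] (A₀ ⊗[A] B)) f hf)
  obtain ⟨a₀, ha₀, hk₀⟩ := not_isGeometricallyReduced_domain (A := A₀) (B := A₀ ⊗[A] B) h'
  obtain ⟨a, rfl⟩ := Ideal.Quotient.mk_surjective a₀
  refine ⟨a, ?_, fun k _ _ hka ↦ ?_⟩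
  · change algebraMap A₀ K (Ideal.Quotient.mk p a) ≠ 0
    exact (map_ne_zero_iff _ hinj).mpr ha₀
  · have hker : ∀ a' ∈ p, algebraMap A k a' = 0 := fun a' ha' ↦ by
      have := (hnil a' ha').map (algebraMap A k)
      exact this.eq_zero
    letI : Algebra A₀ k := (Ideal.Quotient.lift p (algebraMap A k) hker).toAlgebra
    haveI : IsScalarTower A A₀ k := IsScalarTower.of_algebraMap_eq' (by
      ext x
      rfl)
    have hka' : algebraMap A₀ k (Ideal.Quotient.mk p a) ≠ 0 := hka
    have h2 := hk₀ k hka'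
    let e' : k ⊗[A₀] (A₀ ⊗[A] B) ≃ₐ[k] k ⊗[A] B :=
      Algebra.TensorProduct.cancelBaseChange A A₀ k k B
    intro hred
    haveI := hred
    let f : k ⊗[A₀] (A₀ ⊗[A] B) →ₐ[k] k ⊗[A] B := e'.toAlgHom
    have hf : Function.Injective f := e'.injective
    exact h2 (Algebra.IsGeometricallyReduced.of_injective (B := k ⊗[A] B) f hf)

end Groth.Agent.Lib.Helper24.GenericNotGeomReduced
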