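import Groth.Agent.Lib.Helper24.GenericNonReduced

/-!
# Scheme-theoretic density in fibres spreads out (ring level) (helper24)
-/

set_option autoImplicit false

universe u

open TensorProduct

namespace Groth.Agent.Lib.Helper24.GenericSchDense

open Groth.Agent.Lib.Helper8.GenFree Groth.Agent.Lib.Helper24.GenericInj

/-- No nonzero element of `k ⊗ B` is killed by powers of all elements of `I`. -/
def NoTorsionAlong {A B : Type u} [CommRing A] [CommRing B] [Algebra A B] (I : Ideal B)
    (k : Type u) [CommRing k] [Algebra A k] : Prop :=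
  ∀ s : k ⊗[A] B, (∀ b ∈ I, ∃ n : ℕ, ((1 : k) ⊗ₜ[A] b) ^ n * s = 0) → s = 0

lemma eq_zero_of_pow_mul_eq_zero {R : Type*} [CommRing R] (T : Finset R)
    (hAnn : ∀ s : R, (∀ t ∈ T, t * s = 0) → s = 0) (s : R)
    (hs : ∀ t ∈ T, ∃ n : ℕ, t ^ n * s = 0) : s = 0 := by
  let J : Ideal R := Ideal.span (T : Set R)
  have key : ∀ n : ℕ, ∀ s : R, (∀ x ∈ J ^ n, x * s = 0) → s = 0 := by
    intro n
    induction n with
    | zero =>
      intro s h
      have h1 : (1 : R) ∈ J ^ 0 := by
        rw [pow_zero, Ideal.one_eq_top]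
        exact Submodule.mem_top
      have := h 1 h1
      rwa [one_mul] at this
    | succ n ih =>
      intro s h
      apply ih
      intro y hy
      apply hAnn
      intro t ht
      rw [← mul_assoc]
      apply h
      rw [pow_succ']
      exact Ideal.mul_mem_mul (Ideal.subset_span ht) hy
  let K' : Ideal R := (Ideal.span {s}).annihilator
  have hJK : J ≤ K'.radical := by
    rw [Ideal.span_le]
    intro t ht
    obtain ⟨n, hn⟩ := hs t ht
    refine ⟨n, ?_⟩
    rw [Submodule.mem_annihilator_span_singleton]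
    exact hn
  obtain ⟨n, hn⟩ := Ideal.exists_pow_le_of_le_radical_of_fg hJK ⟨T, rfl⟩
  refine key n s fun x hx ↦ ?_
  have := hn hx
  rwa [Submodule.mem_annihilator_span_singleton] at this

lemma piRightHom_lTensor_pi_mulLeft {A B : Type u} [CommRing A] [CommRing B] [Algebra A B]
    (k : Type u) [CommRing k] [Algebra A k] (T : Finset B) (s : k ⊗[A] B) (t : T) :
    TensorProduct.piRightHom A A k (fun _ : T ↦ B)
      (((LinearMap.pi (fun t : T ↦ LinearMap.mulLeft B (t : B)) : B →ₗ[B] (T → B)).restrictScalars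
        A).lTensor k s) t = ((1 : k) ⊗ₜ[A] (t : B)) * s := by
  induction s using TensorProduct.induction_on with
  | zero => simp
  | tmul c b =>
    simp [Algebra.TensorProduct.tmul_mul_tmul]
  | add x y hx hy =>
    rw [map_add, map_add, Pi.add_apply, hx, hy, mul_add]

/-- **Domain case.** -/
theorem noTorsionAlong_of_fractionRing {A B K : Type u} [CommRing A] [IsDomain A] [CommRing B]
    [Algebra A B] [Algebra.FiniteType A B] [Field K] [Algebra A K] [IsFractionRing A K]
    (I : Ideal B) (h : NoTorsionAlong (A := A) I K) :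
    ∃ a : A, a ≠ 0 ∧ ∀ (k : Type u) [Field k] [Algebra A k], algebraMap A k a ≠ 0 →
      NoTorsionAlong (A := A) I k := by
  classical
  let inc : B →+* K ⊗[A] B :=
    (Algebra.TensorProduct.includeRight (R := A) (A := K) (B := B)).toRingHom
  haveI : IsNoetherianRing (K ⊗[A] B) := Algebra.FiniteType.isNoetherianRing K _
  have hfg : (I.map inc).FG := IsNoetherian.noetherian _
  rw [Ideal.map, Ideal.span] at hfg
  obtain ⟨T', hT'sub, hT'eq⟩ := (Submodule.fg_span_iff_fg_span_finset_subset _).mp hfg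
  have hch : ∀ x ∈ T', ∃ b ∈ I, inc b = x := fun x hx ↦ hT'sub hx
  choose! c hcI hcx using hch
  let T : Finset B := T'.image c
  have hTI : ∀ t ∈ T, t ∈ I := by
    intro t ht
    obtain ⟨x, hx, rfl⟩ := Finset.mem_image.mp ht
    exact hcI x hx
  have hspan : ∀ b ∈ I, inc b ∈ Ideal.span (inc '' (T : Set B)) := by
    intro b hb
    have h1 : inc b ∈ Submodule.span (K ⊗[A] B) (inc '' (I : Set B)) :=
      Submodule.subset_span ⟨b, hb, rfl⟩
    rw [hT'eq] at h1
    have h2 : Ideal.span (T' : Set (K ⊗[A] B)) ≤ Ideal.span (inc '' (T : Set B)) := by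
      rw [Ideal.span_le]
      intro x hx
      refine Ideal.subset_span ⟨c x, Finset.mem_coe.mpr (Finset.mem_image_of_mem c hx), hcx x hx⟩
    exact h2 h1
  let ψB : B →ₗ[B] (T → B) := LinearMap.pi (fun t : T ↦ LinearMap.mulLeft B (t : B))
  let ψ : B →ₗ[A] (T → B) := ψB.restrictScalars A
  let π : (T → B) →ₗ[A] ((T → B) ⧸ LinearMap.range ψB) :=
    (LinearMap.range ψB).mkQ.restrictScalars A
  have hπ : Function.Surjective π := Submodule.mkQ_surjective _
  have hex : Function.Exact ψ π := by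
    intro y
    change (LinearMap.range ψB).mkQ y = 0 ↔ y ∈ Set.range ψ
    rw [Submodule.mkQ_apply, Submodule.Quotient.mk_eq_zero]
    rfl
  have hψ : ∀ x, ψ x = 0 → ∃ c : A, c ≠ 0 ∧ c • x = 0 := by
    intro x hx
    have hx' : ∀ t (ht : t ∈ T), t * x = 0 := fun t ht ↦ congrFun hx ⟨t, ht⟩
    have h0 : (1 : K) ⊗ₜ[A] x = 0 := by
      apply h
      intro b hb
      refine ⟨1, ?_⟩
      rw [pow_one]
      have h3 : inc b ∈ (Ideal.span {inc x}).annihilator := by
        refine (Ideal.span_le.mpr ?_) (hspan b hb)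
        rintro _ ⟨t, ht, rfl⟩
        rw [SetLike.mem_coe, Submodule.mem_annihilator_span_singleton, smul_eq_mul, ← map_mul,
          hx' t ht, map_zero]
      rw [Submodule.mem_annihilator_span_singleton] at h3
      exact h3
    obtain ⟨c, hc⟩ := (IsLocalizedModule.eq_zero_iff (nonZeroDivisors A)
      (TensorProduct.mk A K B 1)).mp h0
    exact ⟨c, nonZeroDivisors.ne_zero c.2, hc⟩
  obtain ⟨f₁, hf₁, hs₁⟩ := gf_of_finiteType (R := A) B B
  obtain ⟨f₂, hf₂, hs₂⟩ := gf_of_finiteType (R := A) B ((T → B) ⧸ LinearMap.range ψB)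
  refine ⟨f₁ * f₂, mul_ne_zero hf₁ hf₂, fun k _ _ hk ↦ ?_⟩
  haveI := free_away_of_dvd (a := f₁ * f₂) (Dvd.intro _ rfl) hs₁
  haveI := free_away_of_dvd (a := f₁ * f₂) (Dvd.intro_left _ rfl) hs₂
  have hinj := lTensor_injective_of_free ψ π hπ hex hψ (f₁ * f₂) (mul_ne_zero hf₁ hf₂) k hk.isUnit
  intro s hs
  let Tk : Finset (k ⊗[A] B) := T.image (fun t ↦ (1 : k) ⊗ₜ[A] t)
  refine eq_zero_of_pow_mul_eq_zero Tk ?_ s ?_
  · intro s' hs'
    apply hinj
    rw [map_zero]
    apply (TensorProduct.piRight A A k (fun _ : T ↦ B)).injective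
    rw [map_zero]
    ext t
    rw [TensorProduct.piRight_apply, piRightHom_lTensor_pi_mulLeft]
    exact hs' _ (Finset.mem_image_of_mem _ t.2)
  · intro t ht
    obtain ⟨b, hb, rfl⟩ := Finset.mem_image.mp ht
    exact hs b (hTI b hb)

/-- Transfer of the condition along `A → A₀`. -/
lemma noTorsionAlong_cancel_iff {A A₀ B : Type u} [CommRing A] [CommRing A₀] [Algebra A A₀]
    [CommRing B] [Algebra A B] (I : Ideal B) (k : Type u) [CommRing k] [Algebra A k]
    [Algebra A₀ k] [IsScalarTower A A₀ k] :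
    NoTorsionAlong (A := A₀) (I.map (Algebra.TensorProduct.includeRight (R := A) (A := A₀)
      (B := B)).toRingHom) k ↔ NoTorsionAlong (A := A) I k := by
  let e : k ⊗[A₀] (A₀ ⊗[A] B) ≃ₐ[k] k ⊗[A] B := Algebra.TensorProduct.cancelBaseChange A A₀ k k B
  have he : ∀ b : B, e ((1 : k) ⊗ₜ[A₀] ((1 : A₀) ⊗ₜ[A] b)) = (1 : k) ⊗ₜ[A] b := fun b ↦ by
    simp [e]
  constructor
  · intro h s hs
    have h0 : e.symm s = 0 := by
      apply h
      let incB₀ : (A₀ ⊗[A] B) →+* k ⊗[A₀] (A₀ ⊗[A] B) :=
        (Algebra.TensorProduct.includeRight (R := A₀) (A := k) (B := A₀ ⊗[A] B)).toRingHom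
      have hle : I.map (Algebra.TensorProduct.includeRight (R := A) (A := A₀) (B := B)).toRingHom ≤
          ((Ideal.span {e.symm s}).annihilator.radical).comap incB₀ := by
        rw [Ideal.map_le_iff_le_comap]
        intro b hb
        obtain ⟨n, hn⟩ := hs b hb
        refine ⟨n, ?_⟩
        rw [Submodule.mem_annihilator_span_singleton, smul_eq_mul]
        apply e.injective
        rw [map_mul, map_pow, map_zero, AlgEquiv.apply_symm_apply]
        change (e ((1 : k) ⊗ₜ[A₀] ((1 : A₀) ⊗ₜ[A] b))) ^ n * s = 0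
        rw [he, hn]
      intro b₀ hb₀
      obtain ⟨n, hn⟩ := hle hb₀
      rw [Submodule.mem_annihilator_span_singleton, smul_eq_mul] at hn
      exact ⟨n, hn⟩
    have := congrArg e h0
    rwa [AlgEquiv.apply_symm_apply, map_zero] at this
  · intro h s₀ hs₀
    have h0 : e s₀ = 0 := by
      apply h
      intro b hb
      obtain ⟨n, hn⟩ := hs₀ ((1 : A₀) ⊗ₜ[A] b) (Ideal.mem_map_of_mem _ hb)
      refine ⟨n, ?_⟩
      rw [← he, ← map_pow, ← map_mul, hn, map_zero]
    exact e.injective (h0.trans (map_zero e).symm)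

/-- **General version**: `Spec A` irreducible with generic residue field `K`. -/
theorem noTorsionAlong_of_irreducible {A B K : Type u} [CommRing A] [CommRing B]
    [Algebra A B] [Algebra.FiniteType A B] [Field K] [Algebra A K]
    (hK : ∀ x : K, ∃ s t : A, algebraMap A K t ≠ 0 ∧ x * algebraMap A K t = algebraMap A K s)
    (hnil : ∀ a : A, algebraMap A K a = 0 → IsNilpotent a) (I : Ideal B)
    (h : NoTorsionAlong (A := A) I K) :
    ∃ a : A, algebraMap A K a ≠ 0 ∧ ∀ (k : Type u) [Field k] [Algebra A k],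
      algebraMap A k a ≠ 0 → NoTorsionAlong (A := A) I k := by
  let p : Ideal A := RingHom.ker (algebraMap A K)
  haveI : p.IsPrime := RingHom.ker_isPrime _
  let A₀ := A ⧸ p
  letI : Algebra A₀ K := (RingHom.kerLift (algebraMap A K)).toAlgebra
  haveI : IsScalarTower A A₀ K := IsScalarTower.of_algebraMap_eq' (by
    ext x
    rfl)
  have hinj : Function.Injective (algebraMap A₀ K) := RingHom.kerLift_injective _
  haveI : FaithfulSMul A₀ K := (faithfulSMul_iff_algebraMap_injective A₀ K).mpr hinj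
  haveI : IsFractionRing A₀ K := by
    refine IsFractionRing.of_field (R := A₀) (K := K) fun z ↦ ?_
    obtain ⟨s, t, ht, hst⟩ := hK z
    refine ⟨Ideal.Quotient.mk p s, Ideal.Quotient.mk p t, ?_⟩
    change z = algebraMap A K s / algebraMap A K t
    rw [eq_div_iff ht, hst]
  have h' := (noTorsionAlong_cancel_iff (A := A) (A₀ := A₀) I K).mpr h
  obtain ⟨a₀, ha₀, hk₀⟩ := noTorsionAlong_of_fractionRing (A := A₀) (B := A₀ ⊗[A] B) (K := K) _ h'
  obtain ⟨a, rfl⟩ := Ideal.Quotient.mk_surjective a₀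
  refine ⟨a, ?_, fun k _ _ hka ↦ ?_⟩
  · change algebraMap A₀ K (Ideal.Quotient.mk p a) ≠ 0
    exact (map_ne_zero_iff _ hinj).mpr ha₀
  · have hker : ∀ a' ∈ p, algebraMap A k a' = 0 := fun a' ha' ↦ by
      have := (hnil a' ha').map (algebraMap A k)
      exact this.eq_zero
    letI : Algebra A₀ k := (Ideal.Quotient.lift p (algebraMap A k) hker).toAlgebra
    haveI : IsScalarTower A A₀ k := IsScalarTower.of_algebraMap_eq' (by
      ext x
      rfl)
    have hka' : algebraMap A₀ k (Ideal.Quotient.mk p a) ≠ 0 := hka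
    exact (noTorsionAlong_cancel_iff (A := A) (A₀ := A₀) I k).mp (hk₀ k hka')

end Groth.Agent.Lib.Helper24.GenericSchDense
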