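import Mathlib
import Groth.Agent.S2536

/-!
# Geometrically reduced morphisms: locality lemmas (helper24)
-/

set_option autoImplicit false

universe u

open AlgebraicGeometry CategoryTheory Limits TensorProduct

namespace Groth.Agent.Lib.Helper24.GeomRedScheme

/-- Precomposing a geometrically reduced morphism with an open immersion. -/
lemma geometricallyReduced_comp_of_isOpenImmersion {U F S : Scheme.{u}} (j : U ⟶ F) (g : F ⟶ S)
    [IsOpenImmersion j] [GeometricallyReduced g] : GeometricallyReduced (j ≫ g) := by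
  refine ⟨fun K _ y Z fst snd h ↦ ?_⟩
  have hZ' : IsReduced (pullback g y) :=
    GeometricallyReduced.geometrically_isReduced (f := g) y _ _ (.of_hasPullback _ _)
  let p : Z ⟶ pullback g y := pullback.lift (fst ≫ j) snd (by rw [Category.assoc, h.w])
  have htop : IsPullback fst p j (pullback.fst g y) := by
    refine IsPullback.of_bot ?_ (pullback.lift_fst _ _ _).symm (IsPullback.of_hasPullback g y)
    have hp : p ≫ pullback.snd g y = snd := pullback.lift_snd _ _ _
    rw [hp]
    exact h
  haveI : IsOpenImmersion p := MorphismProperty.of_isPullback htop inferInstance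
  exact isReduced_of_isOpenImmersion p

/-- Geometric reducedness can be checked on an open cover of the source. -/
lemma geometricallyReduced_of_openCover {F S : Scheme.{u}} (g : F ⟶ S) {ι : Type*}
    (U : ι → Scheme.{u}) (j : ∀ i, U i ⟶ F) [∀ i, IsOpenImmersion (j i)]
    (hcov : ∀ x : F, ∃ i, x ∈ Set.range (j i))
    (H : ∀ i, GeometricallyReduced (j i ≫ g)) : GeometricallyReduced g := by
  refine ⟨fun K _ y Z fst snd h ↦ ?_⟩
  let 𝒰 : F.OpenCover := Scheme.Cover.mkOfCovers ι U j (fun x ↦ by
    obtain ⟨i, z, hz⟩ := hcov x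
    exact ⟨i, z, hz⟩)
  let 𝒰' : Z.OpenCover := 𝒰.pullback₁ fst
  haveI : ∀ i, IsReduced (𝒰'.X i) := by
    intro i
    refine (H i).geometrically_isReduced y (pullback.snd fst (j i)) (pullback.fst fst (j i) ≫ snd) ?_
    exact (IsPullback.of_hasPullback fst (j i)).flip.paste_vert h
  exact IsReduced.of_openCover Z 𝒰'

/-- A morphism restricted to an open set all of whose fibres are geometrically reduced. -/
lemma geometricallyReduced_morphismRestrict_of_forall {X Y : Scheme.{u}} (f : X ⟶ Y) (V : Y.Opens)
    (H : ∀ y ∈ V, GeometricallyReduced (f.fiberToSpecResidueField y)) :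
    GeometricallyReduced (f ∣_ V) := by
  refine ⟨fun K _ y Z fst snd h ↦ ?_⟩
  have h' : IsPullback (fst ≫ (f ⁻¹ᵁ V).ι) snd f (y ≫ V.ι) :=
    h.paste_horiz (isPullback_morphismRestrict f V).flip
  obtain ⟨⟨y', φ⟩, hy'⟩ := (Scheme.SpecToEquivOfField K Y).symm.surjective (y ≫ V.ι)
  simp only [Scheme.SpecToEquivOfField, Equiv.coe_fn_symm_mk] at hy'
  have hy'V : y' ∈ V := by
    have h1 : (y ≫ V.ι) (IsLocalRing.closedPoint K) = y' := by
      rw [← hy']
      simp [Scheme.fromSpecResidueField_apply]
    rw [← h1]
    simp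
  rw [← hy'] at h'
  let p : Z ⟶ f.fiber y' :=
    pullback.lift (fst ≫ (f ⁻¹ᵁ V).ι) (snd ≫ Spec.map φ) (by simp [h'.w])
  refine (H y' hy'V).geometrically_isReduced (Spec.map φ) p snd ?_
  have hp1 : p ≫ pullback.fst f (Y.fromSpecResidueField y') = fst ≫ (f ⁻¹ᵁ V).ι :=
    pullback.lift_fst _ _ _
  have hp2 : p ≫ f.fiberToSpecResidueField y' = snd ≫ Spec.map φ := pullback.lift_snd _ _ _
  refine .flip (.of_bot (.flip ?_) hp2.symm
    (IsPullback.of_hasPullback f (Y.fromSpecResidueField y')).flip)
  rw [hp1]
  exact h'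

/-- `Spec A → Spec k` geometrically reduced implies `A` geometrically reduced over `k`. -/
theorem isGeometricallyReduced_of_specMap (k A : Type u) [Field k] [CommRing A] [Algebra k A]
    [GeometricallyReduced (Spec.map (CommRingCat.ofHom (algebraMap k A)))] :
    Algebra.IsGeometricallyReduced k A := by
  rw [Algebra.isGeometricallyReduced_field_iff]
  have h := (geometrically_iff_of_commRing_of_isClosedUnderIsomorphisms
    (P := (AlgebraicGeometry.IsReduced ·))).1
    (GeometricallyReduced.geometrically_isReduced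
      (f := Spec.map (CommRingCat.ofHom (algebraMap k A)))) (AlgebraicClosure k)
  have h2 : AlgebraicGeometry.IsReduced (Spec (CommRingCat.of (A ⊗[k] AlgebraicClosure k))) :=
    isReduced_of_isOpenImmersion (pullbackSpecIso k A (AlgebraicClosure k)).inv
  have h3 : _root_.IsReduced (A ⊗[k] AlgebraicClosure k) :=
    (affine_isReduced_iff (CommRingCat.of (A ⊗[k] AlgebraicClosure k))).1 h2
  exact isReduced_of_injective (Algebra.TensorProduct.comm k (AlgebraicClosure k) A).toAlgHom
    (Algebra.TensorProduct.comm k (AlgebraicClosure k) A).injective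

end Groth.Agent.Lib.Helper24.GeomRedScheme
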