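import Groth.Agent.Lib.Helper24.FibreChart
import Groth.Agent.Lib.Helper24.GenericGeomReduced
import Groth.Agent.Lib.Helper24.GeomRedScheme

/-!
# Geometrically reduced generic fibre spreads out (scheme level) (helper24)
-/

set_option autoImplicit false

universe u

open AlgebraicGeometry CategoryTheory Limits TensorProduct

namespace Groth.Agent.Lib.Helper24.GeomRedFibre

open Groth.Agent.Lib.Helper24.FibreChart Groth.Agent.Lib.Helper24.GenericGeomReduced
  Groth.Agent.Lib.Helper24.GeomRedScheme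

/-- Geometric reducedness of a fibre gives geometric reducedness of its chart rings. -/
lemma isGeometricallyReduced_tensor_of_fiber {X Y : Scheme.{u}} (f : X ⟶ Y) {V : Y.Opens}
    (hV : IsAffineOpen V) {W : X.Opens} (hW : IsAffineOpen W) (e : W ≤ f ⁻¹ᵁ V) (y : Y)
    (hy : y ∈ V) [GeometricallyReduced (f.fiberToSpecResidueField y)] :
    letI := (f.appLE V W e).hom.toAlgebra
    letI := (Y.evaluation V y hy).hom.toAlgebra
    Algebra.IsGeometricallyReduced (Y.residueField y) ((Y.residueField y) ⊗[Γ(Y, V)] Γ(X, W)) := by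
  letI := (f.appLE V W e).hom.toAlgebra
  letI := (Y.evaluation V y hy).hom.toAlgebra
  obtain ⟨j, hj, -, hjc⟩ := exists_specChart f hV hW e y hy
  haveI := geometricallyReduced_comp_of_isOpenImmersion j (f.fiberToSpecResidueField y)
  rw [hjc] at this
  exact isGeometricallyReduced_of_specMap (Y.residueField y) _

/-- Geometric reducedness of the chart rings gives a geometrically reduced chart. -/
lemma exists_chart_geometricallyReduced {X Y : Scheme.{u}} (f : X ⟶ Y) {V : Y.Opens}
    (hV : IsAffineOpen V) {W : X.Opens} (hW : IsAffineOpen W) (e : W ≤ f ⁻¹ᵁ V) (y : Y)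
    (hy : y ∈ V)
    (h : letI := (f.appLE V W e).hom.toAlgebra
      letI := (Y.evaluation V y hy).hom.toAlgebra
      Algebra.IsGeometricallyReduced (Y.residueField y)
        ((Y.residueField y) ⊗[Γ(Y, V)] Γ(X, W))) :
    ∃ (U : Scheme.{u}) (j : U ⟶ f.fiber y), IsOpenImmersion j ∧
      Set.range j = (f.fiberι y) ⁻¹' (W : Set X) ∧
      GeometricallyReduced (j ≫ f.fiberToSpecResidueField y) := by
  letI := (f.appLE V W e).hom.toAlgebra
  letI := (Y.evaluation V y hy).hom.toAlgebra
  obtain ⟨j, hj, hr, hjc⟩ := exists_specChart f hV hW e y hy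
  refine ⟨_, j, hj, hr, ?_⟩
  rw [hjc]
  haveI := h
  exact Groth.Agent.S2536.geometricallyReduced_Spec (Y.residueField y) _

/-- Chart-local form of the spreading out of geometric reducedness. -/
lemma exists_basicOpen_chart {X Y : Scheme.{u}} (f : X ⟶ Y) [IrreducibleSpace ↑Y]
    [LocallyOfFiniteType f] {V : Y.Opens} (hV : IsAffineOpen V) (hη : genericPoint Y ∈ V)
    {W : X.Opens} (hW : IsAffineOpen W) (e : W ≤ f ⁻¹ᵁ V)
    [GeometricallyReduced (f.fiberToSpecResidueField (genericPoint ↑Y))] :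
    ∃ a : Γ(Y, V), genericPoint Y ∈ Y.basicOpen a ∧ ∀ y ∈ Y.basicOpen a,
      ∃ (U : Scheme.{u}) (j : U ⟶ f.fiber y), IsOpenImmersion j ∧
        Set.range j = (f.fiberι y) ⁻¹' (W : Set X) ∧
        GeometricallyReduced (j ≫ f.fiberToSpecResidueField y) := by
  letI := (f.appLE V W e).hom.toAlgebra
  letI := (Y.evaluation V (genericPoint Y) hη).hom.toAlgebra
  haveI : Algebra.FiniteType Γ(Y, V) Γ(X, W) :=
    HasRingHomProperty.appLE (P := @LocallyOfFiniteType) f ‹_› ⟨V, hV⟩ ⟨W, hW⟩ e
  haveI := isGeometricallyReduced_tensor_of_fiber f hV hW e (genericPoint Y) hη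
  obtain ⟨a, haη, hak⟩ := exists_isGeometricallyReduced_of_irreducible (A := Γ(Y, V))
    (B := Γ(X, W)) (K := Y.residueField (genericPoint Y)) (exists_evaluation_div hV _ hη)
    (isNilpotent_of_evaluation_genericPoint_eq_zero hV hη)
  refine ⟨a, (Scheme.evaluation_ne_zero_iff_mem_basicOpen Y _ hη a).mp haη, fun y hy ↦ ?_⟩
  have hyV : y ∈ V := Y.basicOpen_le a hy
  letI := (Y.evaluation V y hyV).hom.toAlgebra
  exact exists_chart_geometricallyReduced f hV hW e y hyV
    (hak (Y.residueField y) ((Scheme.evaluation_ne_zero_iff_mem_basicOpen Y y hyV a).mpr hy))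

end Groth.Agent.Lib.Helper24.GeomRedFibre
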