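import Groth.Agent.S1331
import Groth.Agent.S9735
import Groth.Agent.Lib.Helper24.ConsGeomReduced

/-!
# The locus of geometrically reduced fibres is locally constructible (helper24)
-/

set_option autoImplicit false

universe u

open AlgebraicGeometry CategoryTheory Limits Topology

namespace Groth.Agent.Lib.Helper24.GeomRedLocus

open Groth.Agent.Lib.Helper24.ConsLocus Groth.Agent.Lib.Helper24.ConsGeomReduced
  Groth.Agent.Lib.Helper24.GeomRedScheme

lemma range_fiberMap {X Y S : Scheme.{u}} (f : X ⟶ Y) (g : Y ⟶ S) (s : S) :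
    Set.range (MoreMor.fiberMap f g s) = (g.fiberι s) ⁻¹' Set.range f := by
  have h := isPullback_fiberMap f g s
  have hsurj : Function.Surjective h.isoPullback.hom := h.isoPullback.hom.homeomorph.surjective
  rw [← Scheme.Pullback.range_snd, ← h.isoPullback_hom_snd,
    Scheme.Hom.comp_base, TopCat.coe_comp, Set.range_comp, hsurj.range_eq, Set.image_univ]

/-- Geometric reducedness of a fibre can be tested on an open cover of the source. -/
lemma geometricallyReduced_fiber_iff_of_openCover {X S : Scheme.{u}} (g : X ⟶ S) {ι : Type*}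
    (W : ι → X.Opens) (hW : ∀ x : X, ∃ i, x ∈ W i) (s : S) :
    GeometricallyReduced (g.fiberToSpecResidueField s) ↔
      ∀ i, GeometricallyReduced (((W i).ι ≫ g).fiberToSpecResidueField s) := by
  have hoi : ∀ i, IsOpenImmersion (MoreMor.fiberMap (W i).ι g s) := fun i ↦
    MorphismProperty.of_isPullback (P := @IsOpenImmersion) (isPullback_fiberMap (W i).ι g s)
      inferInstance
  constructor
  · intro h i
    haveI := hoi i
    rw [← fiberMap_fiberToSpecResidueField (W i).ι g s]
    exact geometricallyReduced_comp_of_isOpenImmersion _ _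
  · intro h
    refine geometricallyReduced_of_openCover (g.fiberToSpecResidueField s)
      (fun i ↦ ((W i).ι ≫ g).fiber s) (fun i ↦ MoreMor.fiberMap (W i).ι g s) (fun z ↦ ?_)
      (fun i ↦ ?_)
    · obtain ⟨i, hi⟩ := hW (g.fiberι s z)
      refine ⟨i, ?_⟩
      rw [range_fiberMap, Scheme.Opens.range_ι]
      exact hi
    · rw [fiberMap_fiberToSpecResidueField]
      exact h i

lemma genCons_theoryGR : theoryGR.{u}.GenCons := by
  intro S _ _ d
  by_cases hη : GeometricallyReduced (d.u.fiberToSpecResidueField (genericPoint S))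
  · left
    obtain ⟨V, hηV, hV⟩ := Groth.Agent.S0434.exists_open_forall_fibre d.u hη
    exact ⟨genericPoint S, mem_interior.mpr ⟨V, fun y hy ↦ hV y hy, V.isOpen, hηV⟩⟩
  · right
    obtain ⟨V, ⟨y, hy⟩, hV⟩ := Groth.Agent.S1331.result d.u hη
    exact ⟨y, mem_interior.mpr ⟨V, fun y hy ↦ hV y hy, V.isOpen, hy⟩⟩

/-- **EGA IV 9.7.7 (iii) for geometric reducedness.** -/
theorem isLocallyConstructible_geometricallyReduced {X Y : Scheme.{u}} (f : X ⟶ Y)
    [QuasiCompact f] [LocallyOfFinitePresentation f] :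
    IsLocallyConstructible {y : ↑Y | GeometricallyReduced (f.fiberToSpecResidueField y)} := by
  refine IsLocallyConstructible.of_isOpenCover (U := fun U : Y.affineOpens ↦ U.1)
    (iSup_affineOpens_eq_top Y) fun V ↦ ?_
  have e := Groth.Agent.S9735.result f V.1.ι (f ∣_ V.1) (f ⁻¹ᵁ V.1).ι
    (isPullback_morphismRestrict f V.1).flip
  change IsLocallyConstructible
    (V.1.ι ⁻¹' {y : ↑Y | GeometricallyReduced (f.fiberToSpecResidueField y)})
  rw [← e]
  have hqc : IsCompact (f ⁻¹ᵁ V.1 : Set X) :=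
    (quasiCompact_iff_forall_isAffineOpen.mp ‹QuasiCompact f›) V.1 V.2
  haveI : CompactSpace (f ⁻¹ᵁ V.1).toScheme := isCompact_iff_compactSpace.mp hqc
  obtain ⟨s, hsfin, hs⟩ := (isCompact_iff_finite_and_eq_biUnion_affineOpens
    (U := (⊤ : (f ⁻¹ᵁ V.1).toScheme.Opens))).mp isCompact_univ
  have hcov : ∀ x : (f ⁻¹ᵁ V.1).toScheme, ∃ W : s, x ∈ (W.1 : (f ⁻¹ᵁ V.1).toScheme.Opens) := by
    intro x
    have hx : x ∈ (⊤ : (f ⁻¹ᵁ V.1).toScheme.Opens) := trivial
    rw [hs] at hx
    simp only [TopologicalSpace.Opens.mem_iSup] at hx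
    obtain ⟨W, hWs, hxW⟩ := hx
    exact ⟨⟨W, hWs⟩, hxW⟩
  have hinter : {y' : ↑(V.1.toScheme) | GeometricallyReduced
      ((f ∣_ V.1).fiberToSpecResidueField y')} =
      ⋂ W : s, {y' | GeometricallyReduced
        (((W.1 : (f ⁻¹ᵁ V.1).toScheme.Opens).ι ≫ (f ∣_ V.1)).fiberToSpecResidueField y')} := by
    ext y'
    simp only [Set.mem_setOf_eq, Set.mem_iInter]
    exact geometricallyReduced_fiber_iff_of_openCover (f ∣_ V.1)
      (fun W : s ↦ (W.1 : (f ⁻¹ᵁ V.1).toScheme.Opens)) hcov y'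
  rw [hinter]
  haveI : Finite s := hsfin
  refine IsLocallyConstructible.iInter fun W ↦ ?_
  haveI : IsAffine V.1.toScheme := V.2
  haveI : IsAffine (W.1 : (f ⁻¹ᵁ V.1).toScheme.Opens).toScheme := W.1.2
  exact LocusTheory.isLocallyConstructible_locus (T := theoryGR) genCons_theoryGR
    (⟨_, (W.1 : (f ⁻¹ᵁ V.1).toScheme.Opens).ι ≫ (f ∣_ V.1), inferInstance, inferInstance,
      inferInstance⟩ : SingleDat V.1.toScheme)

end Groth.Agent.Lib.Helper24.GeomRedLocus
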