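import Groth.Agent.Lib.Helper24.Lim8HomUnique
import Groth.Agent.Lib.Helper61.BcTower

/-!
# Homomorphisms of finitely presented group schemes over a limit descend (helper24)
-/

set_option autoImplicit false

universe u

open CategoryTheory CategoryTheory.Limits MonoidalCategory CartesianMonoidalCategory MonObj GrpObj
  AlgebraicGeometry

namespace Groth.Agent.Lib.Helper24.GrpLimit

section cat

variable {C : Type*} [Category C] [CartesianMonoidalCategory C]

/-- A morphism of group objects compatible with multiplication is a homomorphism. -/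
lemma isMonHom_of_mul {X Y : C} [GrpObj X] [GrpObj Y] (a : X ⟶ Y)
    (h : μ[X] ≫ a = (a ⊗ₘ a) ≫ μ[Y]) : IsMonHom a where
  mul_hom := h
  one_hom := by
    have hmul : ∀ (p q : 𝟙_ C ⟶ X), (p * q) ≫ a = (p ≫ a) * (q ≫ a) := by
      intro p q
      rw [Hom.mul_def, Hom.mul_def, Category.assoc, h, ← Category.assoc]
      congr 1
      ext <;> simp
    have h1 : (η[X] : 𝟙_ C ⟶ X) = 1 := by
      rw [Hom.one_def]
      simp
    have h2 : (η[Y] : 𝟙_ C ⟶ Y) = 1 := by
      rw [Hom.one_def]
      simp
    rw [h1, h2]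
    have h3 := hmul 1 1
    rw [_root_.one_mul] at h3
    exact (mul_eq_left.mp h3.symm)

variable {D : Type*} [Category D] [CartesianMonoidalCategory D] (F : C ⥤ D) [F.Monoidal]

open scoped Obj in
lemma map_mul_eq_of_isMonHom_map {X Y : C} [GrpObj X] [GrpObj Y] (a : X ⟶ Y)
    (h : IsMonHom (F.map a)) : F.map (μ[X] ≫ a) = F.map ((a ⊗ₘ a) ≫ μ[Y]) := by
  have h1 := h.mul_hom
  rw [Functor.obj.μ_def, Functor.obj.μ_def, Category.assoc,
    Functor.LaxMonoidal.μ_natural_assoc, ← F.map_comp, ← F.map_comp] at h1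
  exact (cancel_epi (Functor.LaxMonoidal.μ F X X)).mp h1

open scoped Obj in
lemma isMonHom_map_of_map_mul_eq {X Y : C} [GrpObj X] [GrpObj Y] (a : X ⟶ Y)
    (h : F.map (μ[X] ≫ a) = F.map ((a ⊗ₘ a) ≫ μ[Y])) : IsMonHom (F.map a) := by
  apply isMonHom_of_mul
  rw [Functor.obj.μ_def, Functor.obj.μ_def, Category.assoc,
    Functor.LaxMonoidal.μ_natural_assoc, ← F.map_comp, ← F.map_comp, h]

end cat

section pc

variable {C : Type*} [Category C] [HasPullbacks C] {X Y Z : C} (f : X ⟶ Y) (g : Y ⟶ Z)
  (A : Over Z)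

set_option backward.isDefEq.respectTransparency false in
lemma pc_hom_fst_fst : ((Over.pullbackComp f g).hom.app A).left ≫ pullback.fst _ _ ≫
    pullback.fst _ _ = pullback.fst _ _ := by
  simp [Over.pullbackComp, conjugateIsoEquiv, conjugateEquiv, mateEquiv]
  erw [Category.id_comp, Category.id_comp]

set_option backward.isDefEq.respectTransparency false in
lemma pc_hom_snd : ((Over.pullbackComp f g).hom.app A).left ≫ pullback.snd _ _ =
    pullback.snd _ _ := by
  simp [Over.pullbackComp, conjugateIsoEquiv, conjugateEquiv, mateEquiv]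

set_option backward.isDefEq.respectTransparency false in
lemma pc_inv_fst : ((Over.pullbackComp f g).inv.app A).left ≫ pullback.fst _ _ =
    pullback.fst _ _ ≫ pullback.fst _ _ := by
  rw [← pc_hom_fst_fst f g A, ← Category.assoc, ← Over.comp_left, Iso.inv_hom_id_app]
  simp

set_option backward.isDefEq.respectTransparency false in
lemma pc_inv_snd : ((Over.pullbackComp f g).inv.app A).left ≫ pullback.snd _ _ =
    pullback.snd _ _ := by
  rw [← pc_hom_snd f g A, ← Category.assoc, ← Over.comp_left, Iso.inv_hom_id_app]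
  simp

end pc

section eqTo

variable {S S' : Scheme.{u}}

lemma eqToHom_bc_left_fst {g g' : S' ⟶ S} (h : g = g') (X : Over S) :
    (eqToHom (congrArg (fun φ => Red.bc φ X) h)).left ≫ pullback.fst X.hom g' =
      pullback.fst X.hom g := by
  subst h
  simp

lemma eqToHom_bc_left_snd {g g' : S' ⟶ S} (h : g = g') (X : Over S) :
    (eqToHom (congrArg (fun φ => Red.bc φ X) h)).left ≫ pullback.snd X.hom g' =
      pullback.snd X.hom g := by
  subst h
  simp

end eqTo

section lim

variable {I : Type u} [SmallCategory I] (D : I ⥤ Scheme.{u}) (c : Cone D)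

/-- The canonical identification `(X_i)_S ≅ X_S`. -/
noncomputable def θ {i j : I} (f : i ⟶ j) (X : Over (D.obj j)) :
    Red.bc (c.π.app i) (Red.bc (D.map f) X) ≅ Red.bc (c.π.app j) X :=
  ((Over.pullbackComp (c.π.app i) (D.map f)).app X).symm ≪≫
    eqToIso (congrArg (fun g => Red.bc g X) (c.w f))

variable {i j : I} (f : i ⟶ j) (X : Over (D.obj j))

lemma θ_hom_left_fst : (θ D c f X).hom.left ≫ pullback.fst X.hom (c.π.app j) =
    pullback.fst _ _ ≫ pullback.fst _ _ := by
  simp only [θ, Iso.trans_hom, Iso.symm_hom, Iso.app_inv, eqToIso.hom, Over.comp_left,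
    Category.assoc]
  rw [eqToHom_bc_left_fst (c.w f) X]
  exact pc_inv_fst _ _ _

lemma θ_hom_left_snd : (θ D c f X).hom.left ≫ pullback.snd X.hom (c.π.app j) =
    pullback.snd _ _ := by
  simp only [θ, Iso.trans_hom, Iso.symm_hom, Iso.app_inv, eqToIso.hom, Over.comp_left,
    Category.assoc]
  rw [eqToHom_bc_left_snd (c.w f) X]
  exact pc_inv_snd _ _ _

lemma θ_inv_left_fst_fst : (θ D c f X).inv.left ≫ pullback.fst _ _ ≫ pullback.fst _ _ =
    pullback.fst X.hom (c.π.app j) := by
  rw [← cancel_epi (θ D c f X).hom.left, ← Category.assoc, ← Over.comp_left, Iso.hom_inv_id,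
    Over.id_left, Category.id_comp, θ_hom_left_fst]

@[reassoc]
lemma θ_inv_left_snd : (θ D c f X).inv.left ≫ pullback.snd _ _ =
    pullback.snd X.hom (c.π.app j) := by
  rw [← cancel_epi (θ D c f X).hom.left, ← Category.assoc, ← Over.comp_left, Iso.hom_inv_id,
    Over.id_left, Category.id_comp, θ_hom_left_snd]

end lim

section descent

open Groth.Agent.Lib.Helper24.Lim8 Groth.Agent.Lib.Helper24.IndConsPair

variable {I : Type u} [SmallCategory I] [IsCofiltered I] (D : I ⥤ Scheme.{u}) (c : Cone D)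
  (hc : IsLimit c) [∀ {i j} (f : i ⟶ j), IsAffineHom (D.map f)]

include hc in
set_option backward.isDefEq.respectTransparency false in
/-- Uniqueness of descent of morphisms, `Over` form. -/
lemma exists_stage_map_eq (i : I) [CompactSpace (D.obj i)] {X Y : Over (D.obj i)}
    [QuasiCompact X.hom] [LocallyOfFiniteType Y.hom] (a b : X ⟶ Y)
    (h : (Over.pullback (c.π.app i)).map a = (Over.pullback (c.π.app i)).map b) :
    ∃ (i' : I) (g : i' ⟶ i),
      (Over.pullback (D.map g)).map a = (Over.pullback (D.map g)).map b := by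
  have h1 : pullback.fst X.hom (c.π.app i) ≫ a.left =
      pullback.fst X.hom (c.π.app i) ≫ b.left := by
    have := congrArg (fun m => m.left ≫ pullback.fst Y.hom (c.π.app i)) h
    simpa using this
  obtain ⟨i', g, hg⟩ := exists_stage_fst_comp_eq D c hc i X.hom Y.hom a.left b.left
    (Over.w a) (Over.w b) h1
  refine ⟨i', g, ?_⟩
  ext
  simp only [Over.pullback_map_left]
  apply pullback.hom_ext
  · simpa using hg
  · simp

include hc in
set_option backward.isDefEq.respectTransparency false in
/-- Existence of descent of morphisms, `Over` form. -/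
lemma exists_stage_hom (j : I) [CompactSpace (D.obj j)] [QuasiSeparatedSpace (D.obj j)]
    {X Y : Over (D.obj j)} [QuasiCompact X.hom] [QuasiSeparated X.hom]
    [LocallyOfFinitePresentation Y.hom]
    (u : Red.bc (c.π.app j) X ⟶ Red.bc (c.π.app j) Y) :
    ∃ (i : I) (f : i ⟶ j) (ui : Red.bc (D.map f) X ⟶ Red.bc (D.map f) Y),
      (θ D c f X).inv.left ≫ pullback.fst _ _ ≫ ui.left ≫ pullback.fst _ _ =
        u.left ≫ pullback.fst _ _ := by
  let g₀ : pullback (c.π.app j) X.hom ⟶ pullback (c.π.app j) Y.hom :=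
    (pullbackSymmetry _ _).hom ≫ u.left ≫ (pullbackSymmetry _ _).hom
  have hu : u.left ≫ pullback.snd Y.hom (c.π.app j) = pullback.snd X.hom (c.π.app j) := Over.w u
  have hg₀ : g₀ ≫ pullback.fst _ _ = pullback.fst _ _ := by
    simp [g₀, hu]
  obtain ⟨k, gk, hgk, hcomm⟩ := exists_hom_stage D c hc j X.hom Y.hom g₀ hg₀
  let ui : Red.bc (D.map k.hom) X ⟶ Red.bc (D.map k.hom) Y :=
    Over.homMk ((pullbackSymmetry _ _).hom ≫ gk ≫ (pullbackSymmetry _ _).hom) (by simp [hgk])
  refine ⟨k.left, k.hom, ui, ?_⟩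
  have hπs : ∀ {T : Scheme.{u}} (g : T ⟶ D.obj j), (pbCone D c j g).π.app k ≫
      pullback.snd (D.map k.hom) g = pullback.snd (c.π.app j) g := by
    intro T g
    simp [pbCone, pullback.map]
  have hπf : ∀ {T : Scheme.{u}} (g : T ⟶ D.obj j), (pbCone D c j g).π.app k ≫
      pullback.fst (D.map k.hom) g = pullback.fst (c.π.app j) g ≫ c.π.app k.left := by
    intro T g
    simp [pbCone, pullback.map]
  have h1 : g₀ ≫ pullback.snd _ _ =
      (pbCone D c j X.hom).π.app k ≫ gk ≫ pullback.snd _ _ := by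
    calc g₀ ≫ pullback.snd _ _ = g₀ ≫ (pbCone D c j Y.hom).π.app k ≫ pullback.snd _ _ := by
          rw [hπs]
      _ = (g₀ ≫ (pbCone D c j Y.hom).π.app k) ≫ pullback.snd _ _ := (Category.assoc _ _ _).symm
      _ = ((pbCone D c j X.hom).π.app k ≫ gk) ≫ pullback.snd _ _ := by rw [hcomm]
      _ = _ := Category.assoc _ _ _
  have hsym : (pullbackSymmetry (c.π.app j) X.hom).hom ≫
      (pullbackSymmetry X.hom (c.π.app j)).hom = 𝟙 _ := by
    apply pullback.hom_ext <;> simp
  have h2 : u.left ≫ pullback.fst Y.hom (c.π.app j) =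
      (pullbackSymmetry X.hom (c.π.app j)).hom ≫ (pbCone D c j X.hom).π.app k ≫ gk ≫
        pullback.snd _ _ := by
    rw [← cancel_epi (pullbackSymmetry (c.π.app j) X.hom).hom, reassoc_of% hsym, ← h1]
    simp [g₀]
  rw [h2]
  have h3 : (θ D c k.hom X).inv.left ≫ pullback.fst _ _ ≫ (pullbackSymmetry _ _).hom =
      (pullbackSymmetry X.hom (c.π.app j)).hom ≫ (pbCone D c j X.hom).π.app k := by
    apply pullback.hom_ext
    · have hc' : pullback.fst (Red.bc (D.map k.hom) X).hom (c.π.app k.left) ≫
          pullback.snd X.hom (D.map k.hom) = pullback.snd _ _ ≫ c.π.app k.left :=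
        pullback.condition
      rw [Category.assoc, Category.assoc, Category.assoc, hπf, pullbackSymmetry_hom_comp_fst,
        pullbackSymmetry_hom_comp_fst_assoc, hc', θ_inv_left_snd_assoc]
    · rw [Category.assoc, Category.assoc, Category.assoc, hπs, pullbackSymmetry_hom_comp_snd,
        pullbackSymmetry_hom_comp_snd, θ_inv_left_fst_fst]
  simp only [ui, Over.homMk_left, Category.assoc, pullbackSymmetry_hom_comp_fst]
  rw [reassoc_of% h3]

omit [IsCofiltered I] [∀ {i j} (f : i ⟶ j), IsAffineHom (D.map f)] in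
set_option backward.isDefEq.respectTransparency false in
/-- (★) implies that the pulled back `ui` is conjugate to `u`. -/
lemma map_eq_of_star {i j : I} (f : i ⟶ j) {X Y : Over (D.obj j)}
    (u : Red.bc (c.π.app j) X ⟶ Red.bc (c.π.app j) Y)
    (ui : Red.bc (D.map f) X ⟶ Red.bc (D.map f) Y)
    (h : (θ D c f X).inv.left ≫ pullback.fst _ _ ≫ ui.left ≫ pullback.fst _ _ =
      u.left ≫ pullback.fst _ _) :
    (Over.pullback (c.π.app i)).map ui = (θ D c f X).hom ≫ u ≫ (θ D c f Y).inv := by
  have key : (θ D c f X).inv ≫ (Over.pullback (c.π.app i)).map ui ≫ (θ D c f Y).hom = u := by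
    ext
    simp only [Over.comp_left]
    apply pullback.hom_ext
    · have h1 : ((Over.pullback (c.π.app i)).map ui).left ≫ pullback.fst _ _ =
          pullback.fst _ _ ≫ ui.left := by simp
      rw [Category.assoc, Category.assoc, θ_hom_left_fst, reassoc_of% h1]
      exact h
    · have h1 : ((Over.pullback (c.π.app i)).map ui).left ≫ pullback.snd _ _ =
          pullback.snd _ _ := by simp
      have hu : u.left ≫ pullback.snd Y.hom (c.π.app j) = pullback.snd X.hom (c.π.app j) :=
        Over.w u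
      rw [Category.assoc, Category.assoc, θ_hom_left_snd, h1, θ_inv_left_snd, hu]
  rw [← key]
  simp

section bcComp

open Groth.Agent.Lib.Helper61

variable {S S' S'' : Scheme.{u}} (f : S'' ⟶ S') (g : S' ⟶ S) (h : S'' ⟶ S) (hc' : f ≫ g = h)
  (X : Over S)

lemma bcCompHom_left_fst_fst : (bcCompHom f g h hc' X).left ≫ pullback.fst _ _ ≫
    pullback.fst _ _ = pullback.fst X.hom h := by
  simp only [bcCompHom, Over.comp_left, Category.assoc]
  rw [pc_hom_fst_fst, eqToHom_bc_left_fst hc'.symm X]

@[reassoc]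
lemma bcCompHom_left_snd : (bcCompHom f g h hc' X).left ≫ pullback.snd _ _ =
    pullback.snd X.hom h := by
  simp only [bcCompHom, Over.comp_left, Category.assoc]
  rw [pc_hom_snd, eqToHom_bc_left_snd hc'.symm X]

lemma bcCompInv_left_fst : (bcCompInv f g h hc' X).left ≫ pullback.fst X.hom h =
    pullback.fst _ _ ≫ pullback.fst _ _ := by
  simp only [bcCompInv, Over.comp_left, Category.assoc]
  rw [eqToHom_bc_left_fst hc' X, pc_inv_fst]

end bcComp

/-- The transport of `ui` to a later stage. -/
noncomputable def later {i i' j : I} (g : i' ⟶ i) (f : i ⟶ j) {X Y : Over (D.obj j)}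
    (ui : Red.bc (D.map f) X ⟶ Red.bc (D.map f) Y) :
    Red.bc (D.map (g ≫ f)) X ⟶ Red.bc (D.map (g ≫ f)) Y :=
  Groth.Agent.Lib.Helper61.bcCompHom (D.map g) (D.map f) (D.map (g ≫ f)) (D.map_comp g f).symm X ≫
    (Over.pullback (D.map g)).map ui ≫
    Groth.Agent.Lib.Helper61.bcCompInv (D.map g) (D.map f) (D.map (g ≫ f)) (D.map_comp g f).symm Y

omit [IsCofiltered I] [∀ {i j} (f : i ⟶ j), IsAffineHom (D.map f)] in
set_option backward.isDefEq.respectTransparency false in
lemma star_later {i i' j : I} (g : i' ⟶ i) (f : i ⟶ j) {X Y : Over (D.obj j)}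
    (u : Red.bc (c.π.app j) X ⟶ Red.bc (c.π.app j) Y)
    (ui : Red.bc (D.map f) X ⟶ Red.bc (D.map f) Y)
    (h : (θ D c f X).inv.left ≫ pullback.fst _ _ ≫ ui.left ≫ pullback.fst _ _ =
      u.left ≫ pullback.fst _ _) :
    (θ D c (g ≫ f) X).inv.left ≫ pullback.fst _ _ ≫ (later D g f ui).left ≫ pullback.fst _ _ =
      u.left ≫ pullback.fst _ _ := by
  have h1 : (later D g f ui).left ≫ pullback.fst Y.hom (D.map (g ≫ f)) =
      (Groth.Agent.Lib.Helper61.bcCompHom (D.map g) (D.map f) (D.map (g ≫ f))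
        (D.map_comp g f).symm X).left ≫ pullback.fst _ _ ≫ ui.left ≫ pullback.fst _ _ := by
    have h2 : ((Over.pullback (D.map g)).map ui).left ≫ pullback.fst _ _ =
        pullback.fst _ _ ≫ ui.left := by simp
    simp only [later, Over.comp_left, Category.assoc]
    rw [bcCompInv_left_fst, reassoc_of% h2]
  rw [h1, ← h]
  have h3 : (θ D c (g ≫ f) X).inv.left ≫ pullback.fst _ _ ≫
      (Groth.Agent.Lib.Helper61.bcCompHom (D.map g) (D.map f) (D.map (g ≫ f))
        (D.map_comp g f).symm X).left ≫ pullback.fst _ _ =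
      (θ D c f X).inv.left ≫ pullback.fst _ _ := by
    apply pullback.hom_ext
    · rw [Category.assoc, Category.assoc, Category.assoc, bcCompHom_left_fst_fst,
        θ_inv_left_fst_fst, Category.assoc, θ_inv_left_fst_fst]
    · have c1 : pullback.fst (Red.bc (D.map f) X).hom (D.map g) ≫ pullback.snd X.hom (D.map f) =
          pullback.snd _ _ ≫ D.map g := pullback.condition
      have c2 : pullback.fst (Red.bc (D.map (g ≫ f)) X).hom (c.π.app i') ≫
          pullback.snd X.hom (D.map (g ≫ f)) = pullback.snd _ _ ≫ c.π.app i' := pullback.condition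
      have c3 : pullback.fst (Red.bc (D.map f) X).hom (c.π.app i) ≫
          pullback.snd X.hom (D.map f) = pullback.snd _ _ ≫ c.π.app i := pullback.condition
      rw [Category.assoc, Category.assoc, Category.assoc, c1, bcCompHom_left_snd_assoc,
        reassoc_of% c2, θ_inv_left_snd_assoc, c.w g, Category.assoc, c3, θ_inv_left_snd_assoc]
  rw [reassoc_of% h3]

open Groth.Agent.Lib.Helper61 in
include hc in
set_option backward.isDefEq.respectTransparency false in
/-- Descent of homomorphisms of group schemes (existence). -/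
theorem hom_descends (j : I) [∀ i, CompactSpace (D.obj i)] [∀ i, QuasiSeparatedSpace (D.obj i)]
    (Gj Hj : Over (D.obj j)) [GrpObj Gj] [GrpObj Hj]
    [QuasiCompact Gj.hom] [QuasiSeparated Gj.hom] [LocallyOfFinitePresentation Hj.hom]
    (u : Red.bc (c.π.app j) Gj ⟶ Red.bc (c.π.app j) Hj) (hu : IsMonHom u) :
    ∃ (i : I) (f : i ⟶ j) (ui : Red.bc (D.map f) Gj ⟶ Red.bc (D.map f) Hj), IsMonHom ui ∧
      (Over.pullback (c.π.app i)).map ui = (θ D c f Gj).hom ≫ u ≫ (θ D c f Hj).inv := by
  obtain ⟨i, f, ui, hstar⟩ := exists_stage_hom D c hc j u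
  have E := map_eq_of_star D c f u ui hstar
  have hθG : IsMonHom (θ D c f Gj).hom := by
    have n1 := isMonHom_pullbackComp_inv (c.π.app i) (D.map f) Gj
    have n2 := isMonHom_eqToHom_bc (c.w f) Gj
    simp only [θ, Iso.trans_hom, Iso.symm_hom, Iso.app_inv, eqToIso.hom]
    infer_instance
  have hθH : IsMonHom (θ D c f Hj).inv := by
    have n1 := isMonHom_pullbackComp_hom (c.π.app i) (D.map f) Hj
    have n2 := isMonHom_eqToHom_bc (c.w f).symm Hj
    simp only [θ, Iso.trans_inv, Iso.symm_inv, Iso.app_hom, eqToIso.inv]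
    infer_instance
  have hmon : IsMonHom ((Over.pullback (c.π.app i)).map ui) := by
    rw [E]
    infer_instance
  have hm := map_mul_eq_of_isMonHom_map (Over.pullback (c.π.app i)) ui hmon
  haveI hq : QuasiCompact (Red.bc (D.map f) Gj).hom := by
    change QuasiCompact (pullback.snd Gj.hom (D.map f))
    infer_instance
  haveI : QuasiCompact (Red.bc (D.map f) Gj ⊗ Red.bc (D.map f) Gj).hom := by
    rw [Over.tensorObj_hom]
    infer_instance
  haveI : LocallyOfFiniteType (Red.bc (D.map f) Hj).hom := by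
    change LocallyOfFiniteType (pullback.snd Hj.hom (D.map f))
    infer_instance
  obtain ⟨i', g, hg⟩ := exists_stage_map_eq D c hc i _ _ hm
  have hmon' : IsMonHom ((Over.pullback (D.map g)).map ui) :=
    isMonHom_map_of_map_mul_eq _ ui hg
  refine ⟨i', g ≫ f, later D g f ui, ?_,
    map_eq_of_star D c (g ≫ f) u _ (star_later D c g f u ui hstar)⟩
  have n1 := isMonHom_bcCompHom (D.map g) (D.map f) (D.map (g ≫ f)) (D.map_comp g f).symm Gj
  have n2 := isMonHom_bcCompInv (D.map g) (D.map f) (D.map (g ≫ f)) (D.map_comp g f).symm Hj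
  unfold later
  infer_instance

end descent

end Groth.Agent.Lib.Helper24.GrpLimit
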