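import Groth.Agent.Lib.Helper24.GrpLimit
import Groth.Agent.Lib.Helper23.GrpImage

/-!
# Closed subgroup schemes over a limit descend to a stage (helper24)
-/

set_option autoImplicit false

universe u

open CategoryTheory CategoryTheory.Limits MonoidalCategory CartesianMonoidalCategory MonObj GrpObj
  AlgebraicGeometry

namespace Groth.Agent.Lib.Helper24.GrpLimit

section factors

variable {S S' S'' : Scheme.{u}}

/-- `φ` factors through `inc` after base change along `t`. -/
def Factors (t : S' ⟶ S) {T H G : Over S} (inc : H ⟶ G) (φ : T ⟶ G) : Prop :=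
  ∃ ψ : Red.bc t T ⟶ Red.bc t H, ψ ≫ (Over.pullback t).map inc = (Over.pullback t).map φ

lemma Factors.of_map_eq (s : S'' ⟶ S') (t : S' ⟶ S) {T H G : Over S} (inc : H ⟶ G) (φ : T ⟶ G)
    (ψ : Red.bc t T ⟶ Red.bc t H)
    (h : (Over.pullback s).map (ψ ≫ (Over.pullback t).map inc) =
      (Over.pullback s).map ((Over.pullback t).map φ)) :
    Factors (s ≫ t) inc φ := by
  refine ⟨(Over.pullbackComp s t).hom.app T ≫ (Over.pullback s).map ψ ≫
    (Over.pullbackComp s t).inv.app H, ?_⟩
  have n1 : (Over.pullbackComp s t).inv.app H ≫ (Over.pullback (s ≫ t)).map inc =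
      (Over.pullback s).map ((Over.pullback t).map inc) ≫ (Over.pullbackComp s t).inv.app G :=
    ((Over.pullbackComp s t).inv.naturality inc).symm
  have n2 : (Over.pullbackComp s t).hom.app T ≫ (Over.pullback s).map ((Over.pullback t).map φ) =
      (Over.pullback (s ≫ t)).map φ ≫ (Over.pullbackComp s t).hom.app G :=
    ((Over.pullbackComp s t).hom.naturality φ).symm
  calc _ = (Over.pullbackComp s t).hom.app T ≫ (Over.pullback s).map ψ ≫
        ((Over.pullbackComp s t).inv.app H ≫ (Over.pullback (s ≫ t)).map inc) := by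
        simp only [Category.assoc]
    _ = (Over.pullbackComp s t).hom.app T ≫ ((Over.pullback s).map ψ ≫
        (Over.pullback s).map ((Over.pullback t).map inc)) ≫ (Over.pullbackComp s t).inv.app G := by
        rw [n1]
        simp only [Category.assoc]
    _ = (Over.pullbackComp s t).hom.app T ≫ (Over.pullback s).map ((Over.pullback t).map φ) ≫
        (Over.pullbackComp s t).inv.app G := by
        rw [← Functor.map_comp, h]
    _ = _ := by
        rw [reassoc_of% n2]
        simp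

lemma Factors.comp (s : S'' ⟶ S') (t : S' ⟶ S) {T H G : Over S} (inc : H ⟶ G) (φ : T ⟶ G)
    (h : Factors t inc φ) : Factors (s ≫ t) inc φ := by
  obtain ⟨ψ, hψ⟩ := h
  exact Factors.of_map_eq s t inc φ ψ (by rw [hψ])

end factors

section descent2

variable {I : Type u} [SmallCategory I] [IsCofiltered I] (D : I ⥤ Scheme.{u}) (c : Cone D)
  (hc : IsLimit c) [∀ {i j} (f : i ⟶ j), IsAffineHom (D.map f)]

omit [IsCofiltered I] [∀ {i j} (f : i ⟶ j), IsAffineHom (D.map f)] in
lemma θ_naturality {i j : I} (f : i ⟶ j) {X Y : Over (D.obj j)} (m : X ⟶ Y) :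
    (θ D c f X).hom ≫ (Over.pullback (c.π.app j)).map m =
      (Over.pullback (c.π.app i)).map ((Over.pullback (D.map f)).map m) ≫ (θ D c f Y).hom := by
  have n1 : (Over.pullbackComp (c.π.app i) (D.map f)).inv.app X ≫
      (Over.pullback (c.π.app i ≫ D.map f)).map m =
      (Over.pullback (c.π.app i)).map ((Over.pullback (D.map f)).map m) ≫
        (Over.pullbackComp (c.π.app i) (D.map f)).inv.app Y :=
    ((Over.pullbackComp (c.π.app i) (D.map f)).inv.naturality m).symm
  have n2 := Groth.Agent.Lib.Helper61.eqToHom_bc_naturality (c.w f) m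
  simp only [θ, Iso.trans_hom, Iso.symm_hom, Iso.app_inv, eqToIso.hom, Category.assoc]
  rw [n2, reassoc_of% n1]

include hc in
set_option backward.isDefEq.respectTransparency false in
/-- Factorisations through a finitely presented subobject descend to a stage. -/
lemma Factors.exists_stage (i₀ : I) [CompactSpace (D.obj i₀)]
    [QuasiSeparatedSpace (D.obj i₀)] {T H G : Over (D.obj i₀)} [QuasiCompact T.hom]
    [QuasiSeparated T.hom] [LocallyOfFinitePresentation H.hom] [LocallyOfFiniteType G.hom]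
    (inc : H ⟶ G) (φ : T ⟶ G) (h : Factors (c.π.app i₀) inc φ) :
    ∃ (i : I) (a : i ⟶ i₀), Factors (D.map a) inc φ := by
  obtain ⟨ψl, hl⟩ := h
  obtain ⟨i, a, ψi, hstar⟩ := exists_stage_hom D c hc i₀ ψl
  have E := map_eq_of_star D c a ψl ψi hstar
  have hinc := θ_naturality D c a inc
  have hφ := θ_naturality D c a φ
  have claim : (Over.pullback (c.π.app i)).map (ψi ≫ (Over.pullback (D.map a)).map inc) =
      (Over.pullback (c.π.app i)).map ((Over.pullback (D.map a)).map φ) := by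
    have h1 : (θ D c a H).inv ≫ (Over.pullback (c.π.app i)).map ((Over.pullback (D.map a)).map inc) =
        (Over.pullback (c.π.app i₀)).map inc ≫ (θ D c a G).inv := by
      rw [Iso.inv_comp_eq, ← Category.assoc, hinc, Category.assoc, Iso.hom_inv_id, Category.comp_id]
    have h2 : (Over.pullback (c.π.app i)).map ((Over.pullback (D.map a)).map φ) =
        (θ D c a T).hom ≫ (Over.pullback (c.π.app i₀)).map φ ≫ (θ D c a G).inv := by
      rw [← Category.assoc, hφ, Category.assoc, Iso.hom_inv_id, Category.comp_id]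
    rw [Functor.map_comp, E, Category.assoc, Category.assoc, h1, reassoc_of% hl, h2]
  haveI : QuasiCompact (Red.bc (D.map a) T).hom := by
    change QuasiCompact (pullback.snd T.hom (D.map a))
    infer_instance
  haveI : LocallyOfFiniteType (Red.bc (D.map a) G).hom := by
    change LocallyOfFiniteType (pullback.snd G.hom (D.map a))
    infer_instance
  haveI : CompactSpace (D.obj i) := Groth.Agent.Lib.Helper24.Lim8.compactSpace_of_hom D a
  obtain ⟨i', g, hg⟩ := exists_stage_map_eq D c hc i _ _ claim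
  refine ⟨i', g ≫ a, ?_⟩
  rw [D.map_comp]
  exact Factors.of_map_eq (D.map g) (D.map a) inc φ ψi hg

include hc in
/-- Strong form: the stage can be chosen below any given stage. -/
lemma Factors.exists_stage_below (i₀ : I) [CompactSpace (D.obj i₀)]
    [QuasiSeparatedSpace (D.obj i₀)] {T H G : Over (D.obj i₀)} [QuasiCompact T.hom]
    [QuasiSeparated T.hom] [LocallyOfFinitePresentation H.hom] [LocallyOfFiniteType G.hom]
    (inc : H ⟶ G) (φ : T ⟶ G) (h : Factors (c.π.app i₀) inc φ) {i₁ : I} (a₁ : i₁ ⟶ i₀) :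
    ∃ (i : I) (g : i ⟶ i₁), Factors (D.map (g ≫ a₁)) inc φ := by
  obtain ⟨i', a, ha⟩ := Factors.exists_stage D c hc i₀ inc φ h
  obtain ⟨W, p, q, hpq⟩ := IsCofiltered.cospan a₁ a
  refine ⟨W, p, ?_⟩
  rw [hpq, D.map_comp]
  exact Factors.comp (D.map q) (D.map a) inc φ ha

end descent2

section subgroup

open Functor.LaxMonoidal Functor.Monoidal
open scoped Obj

variable {S S' : Scheme.{u}} (t : S' ⟶ S) {H₀ G₀ : Over S} [GrpObj G₀] (inc : H₀ ⟶ G₀)

/-- `(h, h') ↦ h h'` into `G₀`. -/
noncomputable def alpha : H₀ ⊗ H₀ ⟶ G₀ := (inc ⊗ₘ inc) ≫ μ[G₀]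
/-- `h ↦ h⁻¹` into `G₀`. -/
noncomputable def beta : H₀ ⟶ G₀ := inc ≫ ι[G₀]
/-- conjugation `(g, h) ↦ g h g⁻¹`. -/
noncomputable def delta : G₀ ⊗ H₀ ⟶ G₀ := fst G₀ H₀ * (snd G₀ H₀ ≫ inc) * (fst G₀ H₀)⁻¹

lemma factors_of_subgroup [GrpObj (Red.bc t H₀)] [IsMonHom ((Over.pullback t).map inc)] :
    Factors t inc (alpha inc) ∧ Factors t inc (beta inc) ∧ Factors t inc η[G₀] := by
  refine ⟨⟨(μIso (Over.pullback t) H₀ H₀).inv ≫ μ[Red.bc t H₀], ?_⟩,
    ⟨ι[Red.bc t H₀], ?_⟩, ⟨(εIso (Over.pullback t)).inv ≫ η[Red.bc t H₀], ?_⟩⟩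
  · rw [Category.assoc, IsMonHom.mul_hom, Functor.obj.μ_def, μ_natural_assoc, alpha,
      Functor.map_comp, ← μIso_hom, Iso.inv_hom_id_assoc]
  · rw [GrpObj.inv_hom, Functor.obj.ι_def, beta, Functor.map_comp]
  · rw [Category.assoc, IsMonHom.one_hom, Functor.obj.η_def, ← εIso_hom, Iso.inv_hom_id_assoc]

lemma exists_subgroup_of_factors [Mono ((Over.pullback t).map inc)]
    (hα : Factors t inc (alpha inc)) (hβ : Factors t inc (beta inc))
    (hγ : Factors t inc η[G₀]) :
    ∃ _ : GrpObj (Red.bc t H₀), IsMonHom ((Over.pullback t).map inc) := by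
  obtain ⟨ψα, hψα⟩ := hα
  obtain ⟨ψβ, hψβ⟩ := hβ
  obtain ⟨ψγ, hψγ⟩ := hγ
  have he : (ε (Over.pullback t) ≫ ψγ) ≫ (Over.pullback t).map inc = η[Red.bc t G₀] := by
    rw [Category.assoc, hψγ, Functor.obj.η_def]
  have hm : (Functor.LaxMonoidal.μ (Over.pullback t) H₀ H₀ ≫ ψα) ≫ (Over.pullback t).map inc =
      ((Over.pullback t).map inc ⊗ₘ (Over.pullback t).map inc) ≫ μ[Red.bc t G₀] := by
    rw [Category.assoc, hψα, Functor.obj.μ_def, μ_natural_assoc, alpha, Functor.map_comp]
  have hv : ψβ ≫ (Over.pullback t).map inc = (Over.pullback t).map inc ≫ ι[Red.bc t G₀] := by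
    rw [hψβ, Functor.obj.ι_def, beta, Functor.map_comp]
  exact ⟨Groth.Agent.Lib.Helper23.GrpImage.grpObjOfMono ((Over.pullback t).map inc) _ _ _ he hm hv,
    @IsMonHom.mk _ _ _ _ _ (_) _ _ he hm⟩

lemma factors_of_isNormalHom [GrpObj (Red.bc t H₀)]
    (h : AlgGrp.IsNormalHom ((Over.pullback t).map inc)) : Factors t inc (delta inc) := by
  obtain ⟨n', hn'⟩ := h (Red.bc t (G₀ ⊗ H₀)) ((Over.pullback t).map (fst G₀ H₀))
    ((Over.pullback t).map (snd G₀ H₀))
  refine ⟨n', ?_⟩
  rw [← hn', delta, Functor.map_mul, Functor.map_mul, Functor.map_inv', Functor.map_comp]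

lemma isNormalHom_of_factors [GrpObj (Red.bc t H₀)] (h : Factors t inc (delta inc)) :
    AlgGrp.IsNormalHom ((Over.pullback t).map inc) := by
  obtain ⟨ψ, hψ⟩ := h
  intro T g n
  refine ⟨lift g n ≫ Functor.LaxMonoidal.μ (Over.pullback t) G₀ H₀ ≫ ψ, ?_⟩
  rw [Category.assoc, Category.assoc, hψ, delta, Functor.map_mul, Functor.map_mul,
    Functor.map_inv', Functor.map_comp, MonObj.comp_mul, MonObj.comp_mul, MonObj.comp_mul,
    MonObj.comp_mul, GrpObj.comp_inv, GrpObj.comp_inv, μ_fst, μ_snd_assoc, lift_fst,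
    lift_snd_assoc]

end subgroup

section main

variable {I : Type u} [SmallCategory I] [IsCofiltered I] (D : I ⥤ Scheme.{u}) (c : Cone D)
  (hc : IsLimit c) [∀ {i j} (f : i ⟶ j), IsAffineHom (D.map f)]

include hc in
set_option backward.isDefEq.respectTransparency false in
theorem subgroup_descends (i₀ : I) [CompactSpace (D.obj i₀)] [QuasiSeparatedSpace (D.obj i₀)]
    (G₀ : Over (D.obj i₀)) [GrpObj G₀] [IsSeparated G₀.hom] [QuasiCompact G₀.hom]
    [LocallyOfFinitePresentation G₀.hom]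
    (H₀ : Over (D.obj i₀)) (inc : H₀ ⟶ G₀) [IsClosedImmersion inc.left]
    [LocallyOfFinitePresentation inc.left]
    (hH : ∃ _ : GrpObj (Red.bc (c.π.app i₀) H₀),
      IsMonHom ((Over.pullback (c.π.app i₀)).map inc)) :
    (∃ (i : I) (a : i ⟶ i₀) (_ : GrpObj (Red.bc (D.map a) H₀)),
        IsMonHom ((Over.pullback (D.map a)).map inc)) ∧
    ((∃ (_ : GrpObj (Red.bc (c.π.app i₀) H₀))
        (_ : IsMonHom ((Over.pullback (c.π.app i₀)).map inc)),
        AlgGrp.IsNormalHom ((Over.pullback (c.π.app i₀)).map inc)) →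
      ∃ (i : I) (a : i ⟶ i₀) (_ : GrpObj (Red.bc (D.map a) H₀))
        (_ : IsMonHom ((Over.pullback (D.map a)).map inc)),
        AlgGrp.IsNormalHom ((Over.pullback (D.map a)).map inc)) := by
  -- finiteness instances
  have hw : inc.left ≫ G₀.hom = H₀.hom := Over.w inc
  haveI : QuasiCompact H₀.hom := by rw [← hw]; infer_instance
  haveI : QuasiSeparated H₀.hom := by rw [← hw]; infer_instance
  haveI : LocallyOfFinitePresentation H₀.hom := by rw [← hw]; infer_instance
  haveI : LocallyOfFiniteType G₀.hom := inferInstance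
  haveI : QuasiCompact (H₀ ⊗ H₀).hom := by rw [Over.tensorObj_hom]; infer_instance
  haveI : QuasiSeparated (H₀ ⊗ H₀).hom := by rw [Over.tensorObj_hom]; infer_instance
  haveI : QuasiCompact (G₀ ⊗ H₀).hom := by rw [Over.tensorObj_hom]; infer_instance
  haveI : QuasiSeparated (G₀ ⊗ H₀).hom := by rw [Over.tensorObj_hom]; infer_instance
  haveI : QuasiCompact (𝟙_ (Over (D.obj i₀))).hom := by
    rw [Over.tensorUnit_hom]
    haveI : IsIso (𝟙 (D.obj i₀)) := inferInstance
    exact inferInstance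
  haveI : QuasiSeparated (𝟙_ (Over (D.obj i₀))).hom := by
    rw [Over.tensorUnit_hom]
    haveI : IsIso (𝟙 (D.obj i₀)) := inferInstance
    exact inferInstance
  haveI : Mono inc := by
    haveI : Mono ((Over.forget _).map inc) := by
      change Mono inc.left
      infer_instance
    exact (Over.forget _).mono_of_mono_map inferInstance
  have hmono : ∀ {i : I} (a : i ⟶ i₀), Mono ((Over.pullback (D.map a)).map inc) :=
    fun a => inferInstance
  -- the three factorizations at a common stage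
  have key : ∃ (i : I) (a : i ⟶ i₀), Factors (D.map a) inc (alpha inc) ∧
      Factors (D.map a) inc (beta inc) ∧ Factors (D.map a) inc η[G₀] := by
    obtain ⟨inst, hmon⟩ := hH
    obtain ⟨hα, hβ, hγ⟩ := factors_of_subgroup (c.π.app i₀) inc
    obtain ⟨i₁, a₁, h1⟩ := Factors.exists_stage D c hc i₀ inc (alpha inc) hα
    obtain ⟨i₂, g₂, h2⟩ := Factors.exists_stage_below D c hc i₀ inc (beta inc) hβ a₁
    obtain ⟨i₃, g₃, h3⟩ := Factors.exists_stage_below D c hc i₀ inc η[G₀] hγ (g₂ ≫ a₁)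
    refine ⟨i₃, g₃ ≫ g₂ ≫ a₁, ?_, ?_, h3⟩
    · rw [D.map_comp, D.map_comp, ← Category.assoc]
      exact Factors.comp _ _ inc _ h1
    · rw [D.map_comp]
      exact Factors.comp _ _ inc _ h2
  refine ⟨?_, ?_⟩
  · obtain ⟨i, a, hα, hβ, hγ⟩ := key
    haveI := hmono a
    obtain ⟨inst, hm⟩ := exists_subgroup_of_factors (D.map a) inc hα hβ hγ
    exact ⟨i, a, inst, hm⟩
  · rintro ⟨inst, hmon, hnorm⟩
    obtain ⟨i, a, hα, hβ, hγ⟩ := key
    have hδ := factors_of_isNormalHom (c.π.app i₀) inc hnorm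
    obtain ⟨i', g, h4⟩ := Factors.exists_stage_below D c hc i₀ inc (delta inc) hδ a
    have hα' : Factors (D.map (g ≫ a)) inc (alpha inc) := by
      rw [D.map_comp]; exact Factors.comp _ _ inc _ hα
    have hβ' : Factors (D.map (g ≫ a)) inc (beta inc) := by
      rw [D.map_comp]; exact Factors.comp _ _ inc _ hβ
    have hγ' : Factors (D.map (g ≫ a)) inc η[G₀] := by
      rw [D.map_comp]; exact Factors.comp _ _ inc _ hγ
    haveI := hmono (g ≫ a)
    obtain ⟨inst', hm'⟩ := exists_subgroup_of_factors (D.map (g ≫ a)) inc hα' hβ' hγ'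
    exact ⟨i', g ≫ a, inst', hm', isNormalHom_of_factors (D.map (g ≫ a)) inc h4⟩

end main

end Groth.Agent.Lib.Helper24.GrpLimit
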