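import Mathlib

/-!
# Raw group data in cartesian monoidal categories and monoidal functors (helper24)
-/

set_option autoImplicit false

open CategoryTheory MonoidalCategory CartesianMonoidalCategory MonObj GrpObj

namespace Groth.Agent.Lib.Helper24.GrpRaw

universe v₁ u₁ v₂ u₂ v₃ u₃

variable {C : Type u₁} [Category.{v₁} C] [CartesianMonoidalCategory C]

/-- Raw group data on an object: multiplication, unit, inverse, with no axioms. -/
structure Raw (X : C) where
  m : X ⊗ X ⟶ X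
  e : 𝟙_ C ⟶ X
  v : X ⟶ X

namespace Raw

variable {X : C} (r : Raw X)

/-- pointwise product -/
def star {T : C} (p q : T ⟶ X) : T ⟶ X := lift p q ≫ r.m
/-- pointwise unit -/
def unit (T : C) : T ⟶ X := toUnit T ≫ r.e

lemma comp_star {T T' : C} (t : T' ⟶ T) (p q : T ⟶ X) :
    t ≫ r.star p q = r.star (t ≫ p) (t ≫ q) := by
  simp [star, comp_lift_assoc]

lemma comp_unit {T T' : C} (t : T' ⟶ T) : t ≫ r.unit T = r.unit T' := by
  simp [unit]

lemma comp_m {T : C} (g : T ⟶ X ⊗ X) : g ≫ r.m = r.star (g ≫ fst _ _) (g ≫ snd _ _) := by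
  simp [star]

/-- universal associativity, two sides -/
def assocL : X ⊗ (X ⊗ X) ⟶ X :=
  r.star (r.star (fst _ _) (snd _ _ ≫ fst _ _)) (snd _ _ ≫ snd _ _)
def assocR : X ⊗ (X ⊗ X) ⟶ X :=
  r.star (fst _ _) (r.star (snd _ _ ≫ fst _ _) (snd _ _ ≫ snd _ _))
def oneL : X ⟶ X := r.star (r.unit X) (𝟙 X)
def invL : X ⟶ X := r.star r.v (𝟙 X)

/-- Pointwise left axioms. -/
structure LeftAxioms : Prop where
  assoc : ∀ {T : C} (p q s : T ⟶ X), r.star (r.star p q) s = r.star p (r.star q s)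
  one : ∀ {T : C} (p : T ⟶ X), r.star (r.unit T) p = p
  inv : ∀ {T : C} (p : T ⟶ X), r.star (p ≫ r.v) p = r.unit T

variable {r}

lemma LeftAxioms.mul_inv (h : r.LeftAxioms) {T : C} (p : T ⟶ X) :
    r.star p (p ≫ r.v) = r.unit T := by
  calc r.star p (p ≫ r.v) = r.star (r.unit T) (r.star p (p ≫ r.v)) := (h.one _).symm
    _ = r.star (r.star ((p ≫ r.v) ≫ r.v) (p ≫ r.v)) (r.star p (p ≫ r.v)) := by rw [h.inv]
    _ = r.star ((p ≫ r.v) ≫ r.v) (r.star (p ≫ r.v) (r.star p (p ≫ r.v))) := h.assoc _ _ _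
    _ = r.star ((p ≫ r.v) ≫ r.v) (r.star (r.star (p ≫ r.v) p) (p ≫ r.v)) := by rw [h.assoc]
    _ = r.star ((p ≫ r.v) ≫ r.v) (p ≫ r.v) := by rw [h.inv, h.one]
    _ = r.unit T := h.inv _

lemma LeftAxioms.mul_one (h : r.LeftAxioms) {T : C} (p : T ⟶ X) :
    r.star p (r.unit T) = p := by
  calc r.star p (r.unit T) = r.star p (r.star (p ≫ r.v) p) := by rw [h.inv]
    _ = r.star (r.star p (p ≫ r.v)) p := (h.assoc _ _ _).symm
    _ = p := by rw [h.mul_inv, h.one]

/-- Raw data satisfying the pointwise left axioms is a group object. -/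
@[reducible] def LeftAxioms.grpObj (h : r.LeftAxioms) : GrpObj X where
  one := r.e
  mul := r.m
  one_mul := by
    rw [r.comp_m, leftUnitor_hom]
    have : (r.e ▷ X) ≫ fst X X = r.unit (𝟙_ C ⊗ X) := by
      rw [whiskerRight_fst]
      exact congrArg (· ≫ r.e) (toUnit_unique _ _)
    rw [this, whiskerRight_snd, h.one]
  mul_one := by
    rw [r.comp_m, rightUnitor_hom]
    have : (X ◁ r.e) ≫ snd X X = r.unit (X ⊗ 𝟙_ C) := by
      rw [whiskerLeft_snd]
      exact congrArg (· ≫ r.e) (toUnit_unique _ _)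
    rw [this, whiskerLeft_fst, h.mul_one]
  mul_assoc := by
    rw [r.comp_m, whiskerRight_fst, whiskerRight_snd, r.comp_m (fst (X ⊗ X) X),
      r.comp_m (X ◁ r.m), whiskerLeft_fst, whiskerLeft_snd, r.comp_m (snd X (X ⊗ X)), r.comp_star,
      r.comp_star, h.assoc]
    simp
  inv := r.v
  left_inv := by
    have := h.inv (𝟙 X)
    rw [Category.id_comp] at this
    exact this
  right_inv := by
    have := h.mul_inv (𝟙 X)
    rw [Category.id_comp] at this
    exact this

end Raw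

section functor

open Functor.LaxMonoidal Functor.OplaxMonoidal Functor.Monoidal

variable {D : Type u₂} [Category.{v₂} D] [CartesianMonoidalCategory D] (F : C ⥤ D) [F.Monoidal]
  {X : C} (r : Raw X)

/-- image of raw data under a monoidal functor -/
def Raw.map : Raw (F.obj X) where
  m := Functor.LaxMonoidal.μ F X X ≫ F.map r.m
  e := ε F ≫ F.map r.e
  v := F.map r.v

lemma Raw.map_star {T : C} (p q : T ⟶ X) :
    F.map (r.star p q) = (r.map F).star (F.map p) (F.map q) := by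
  simp [Raw.star, Raw.map]

lemma Raw.map_unit (T : C) : F.map (r.unit T) = (r.map F).unit (F.obj T) := by
  simp [Raw.unit, Raw.map]

/-- universal triple of points -/
lemma exists_triple {T : D} (p q s : T ⟶ F.obj X) :
    ∃ t : T ⟶ F.obj (X ⊗ (X ⊗ X)), t ≫ F.map (fst _ _) = p ∧
      t ≫ F.map (snd _ _ ≫ fst _ _) = q ∧ t ≫ F.map (snd _ _ ≫ snd _ _) = s := by
  refine ⟨lift p (lift q s ≫ Functor.LaxMonoidal.μ F X X) ≫ Functor.LaxMonoidal.μ F X (X ⊗ X), ?_, ?_, ?_⟩
  · simp
  · simp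
  · simp

/-- (a): equations under `F.map` give the pointwise axioms for the mapped raw data. -/
lemma Raw.leftAxioms_map (h1 : F.map r.assocL = F.map r.assocR) (h2 : F.map r.oneL = 𝟙 _)
    (h3 : F.map r.invL = F.map (r.unit X)) : (r.map F).LeftAxioms where
  assoc := by
    intro T p q s
    obtain ⟨t, rfl, rfl, rfl⟩ := exists_triple F p q s
    rw [← Raw.comp_star, ← Raw.comp_star, ← Raw.comp_star, ← Raw.comp_star, ← Raw.map_star,
      ← Raw.map_star, ← Raw.map_star, ← Raw.map_star]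
    exact congrArg (t ≫ ·) h1
  one := by
    intro T p
    have e1 : (r.map F).unit T = p ≫ F.map (r.unit X) := by
      rw [Raw.map_unit, Raw.comp_unit]
    have e2 : p = p ≫ F.map (𝟙 X) := by simp
    have e3 : (r.map F).star ((r.map F).unit T) p =
        p ≫ (r.map F).star (F.map (r.unit X)) (F.map (𝟙 X)) := by
      rw [Raw.comp_star, ← e1, ← e2]
    rw [e3, ← Raw.map_star]
    change p ≫ F.map r.oneL = p
    rw [h2, Category.comp_id]
  inv := by
    intro T p
    have e2 : p = p ≫ F.map (𝟙 X) := by simp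
    have e3 : (r.map F).star (p ≫ (r.map F).v) p =
        p ≫ (r.map F).star (F.map r.v) (F.map (𝟙 X)) := by
      rw [Raw.comp_star, ← e2]
      rfl
    rw [e3, ← Raw.map_star]
    change p ≫ F.map r.invL = _
    rw [h3, Raw.map_unit, Raw.comp_unit]

/-- (b): if `F.obj X` is a group object compatible with the raw data, the equations hold
under `F.map`. -/
lemma Raw.map_eqs_of_grpObj [GrpObj (F.obj X)] (hm : Functor.LaxMonoidal.μ F X X ≫ F.map r.m = μ[F.obj X])
    (he : ε F ≫ F.map r.e = η[F.obj X]) (hv : F.map r.v = ι[F.obj X]) :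
    F.map r.assocL = F.map r.assocR ∧ F.map r.oneL = 𝟙 _ ∧ F.map r.invL = F.map (r.unit X) := by
  have hs : ∀ {T : D} (p q : T ⟶ F.obj X), (r.map F).star p q = p * q := by
    intro T p q
    rw [Hom.mul_def]
    simp only [Raw.star, Raw.map, hm]
  have hu : ∀ (T : D), (r.map F).unit T = 1 := by
    intro T
    rw [Hom.one_def]
    simp only [Raw.unit, Raw.map, he]
  refine ⟨?_, ?_, ?_⟩
  · simp only [Raw.assocL, Raw.assocR, Raw.map_star, hs]
    exact mul_assoc _ _ _
  · simp only [Raw.oneL, Raw.map_star, hs, Raw.map_unit, hu]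
    simp
  · simp only [Raw.invL, Raw.map_star, hs, Raw.map_unit, hu, hv]
    have : (ι[F.obj X] : F.obj X ⟶ F.obj X) = (𝟙 (F.obj X))⁻¹ := by
      rw [Hom.inv_def, Category.id_comp]
    rw [CategoryTheory.Functor.map_id, this, inv_mul_cancel]

end functor

section nat

open Functor.LaxMonoidal Functor.OplaxMonoidal Functor.Monoidal

variable {D : Type u₂} [Category.{v₂} D] [CartesianMonoidalCategory D]
  {E : Type u₃} [Category.{v₃} E] [CartesianMonoidalCategory E]
  (F₁ : C ⥤ D) (F₂ : D ⥤ E) (F₃ : C ⥤ E) [F₁.Monoidal] [F₂.Monoidal] [F₃.Monoidal]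

/-- a natural comparison between cartesian monoidal functors is monoidal -/
lemma monoidal_of_nat {X Y : C} (θXY : F₂.obj (F₁.obj (X ⊗ Y)) ⟶ F₃.obj (X ⊗ Y))
    (θX : F₂.obj (F₁.obj X) ⟶ F₃.obj X) (θY : F₂.obj (F₁.obj Y) ⟶ F₃.obj Y)
    (h1 : θXY ≫ F₃.map (fst X Y) = F₂.map (F₁.map (fst X Y)) ≫ θX)
    (h2 : θXY ≫ F₃.map (snd X Y) = F₂.map (F₁.map (snd X Y)) ≫ θY) :
    Functor.LaxMonoidal.μ F₂ _ _ ≫ F₂.map (Functor.LaxMonoidal.μ F₁ X Y) ≫ θXY =
      (θX ⊗ₘ θY) ≫ Functor.LaxMonoidal.μ F₃ X Y := by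
  rw [← cancel_mono (δ F₃ X Y)]
  apply CartesianMonoidalCategory.hom_ext
  · simp only [Category.assoc, δ_fst, h1, μ_δ, Category.comp_id, tensorHom_fst]
    rw [← Functor.map_comp_assoc, μ_fst, μ_fst_assoc]
  · simp only [Category.assoc, δ_snd, h2, μ_δ, Category.comp_id, tensorHom_snd]
    rw [← Functor.map_comp_assoc, μ_snd, μ_snd_assoc]

end nat

end Groth.Agent.Lib.Helper24.GrpRaw
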