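import Groth.Agent.Lib.Helper24.GrpLimit2
import Groth.Agent.Lib.Helper24.GrpRaw
import Groth.Agent.Lib.Helper24.Lim8FPMain

/-!
# Group schemes of finite presentation over a limit descend to a stage (helper24)
-/

set_option autoImplicit false

universe u

open CategoryTheory CategoryTheory.Limits MonoidalCategory CartesianMonoidalCategory MonObj GrpObj
  AlgebraicGeometry

namespace Groth.Agent.Lib.Helper24.GrpLimit

open Groth.Agent.Lib.Helper24.GrpRaw Groth.Agent.Lib.Helper24.Lim8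

section gen

variable {S S' S'' : Scheme.{u}}

lemma map_eq_comp (s : S'' ⟶ S') (t : S' ⟶ S) {X Y : Over S} (a b : X ⟶ Y)
    (h : (Over.pullback t).map a = (Over.pullback t).map b) :
    (Over.pullback (s ≫ t)).map a = (Over.pullback (s ≫ t)).map b := by
  rw [← cancel_mono ((Over.pullbackComp s t).hom.app Y)]
  rw [(Over.pullbackComp s t).hom.naturality a, (Over.pullbackComp s t).hom.naturality b]
  simp only [Functor.comp_map, h]

end gen

section descent3

variable {I : Type u} [SmallCategory I] [IsCofiltered I] (D : I ⥤ Scheme.{u}) (c : Cone D)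
  (hc : IsLimit c) [∀ {i j} (f : i ⟶ j), IsAffineHom (D.map f)]

include hc in
lemma exists_stage_map_eq_below (i : I) [∀ i, CompactSpace (D.obj i)] {X Y : Over (D.obj i)}
    [QuasiCompact X.hom] [LocallyOfFiniteType Y.hom] (a b : X ⟶ Y)
    (h : (Over.pullback (c.π.app i)).map a = (Over.pullback (c.π.app i)).map b)
    {i₁ : I} (g₁ : i₁ ⟶ i) :
    ∃ (i' : I) (g : i' ⟶ i₁),
      (Over.pullback (D.map (g ≫ g₁))).map a = (Over.pullback (D.map (g ≫ g₁))).map b := by
  obtain ⟨i', g', hg'⟩ := exists_stage_map_eq D c hc i a b h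
  obtain ⟨W, p, q, hpq⟩ := IsCofiltered.cospan g₁ g'
  refine ⟨W, p, ?_⟩
  rw [hpq, D.map_comp]
  exact map_eq_comp _ _ a b hg'

/-- existence of a descended morphism with the star relation at stage `f`. -/
def StarEx {i j : I} (f : i ⟶ j) {X Y : Over (D.obj j)}
    (u : Red.bc (c.π.app j) X ⟶ Red.bc (c.π.app j) Y) : Prop :=
  ∃ ui : Red.bc (D.map f) X ⟶ Red.bc (D.map f) Y,
    (Over.pullback (c.π.app i)).map ui = (θ D c f X).hom ≫ u ≫ (θ D c f Y).inv

/-- star relation, raw form -/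
def StarEx' {i j : I} (f : i ⟶ j) {X Y : Over (D.obj j)}
    (u : Red.bc (c.π.app j) X ⟶ Red.bc (c.π.app j) Y) : Prop :=
  ∃ ui : Red.bc (D.map f) X ⟶ Red.bc (D.map f) Y,
    (θ D c f X).inv.left ≫ pullback.fst _ _ ≫ ui.left ≫ pullback.fst _ _ =
      u.left ≫ pullback.fst _ _

omit [IsCofiltered I] [∀ {i j} (f : i ⟶ j), IsAffineHom (D.map f)] in
lemma StarEx'.later {i i' j : I} (g : i' ⟶ i) (f : i ⟶ j) {X Y : Over (D.obj j)}
    {u : Red.bc (c.π.app j) X ⟶ Red.bc (c.π.app j) Y} (h : StarEx' D c f u) :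
    StarEx' D c (g ≫ f) u := by
  obtain ⟨ui, hui⟩ := h
  exact ⟨GrpLimit.later D g f ui, star_later D c g f u ui hui⟩

omit [IsCofiltered I] [∀ {i j} (f : i ⟶ j), IsAffineHom (D.map f)] in
lemma StarEx'.later_eq {i i' j : I} (g : i' ⟶ i) (f : i ⟶ j) (f' : i' ⟶ j) (hf : g ≫ f = f')
    {X Y : Over (D.obj j)}
    {u : Red.bc (c.π.app j) X ⟶ Red.bc (c.π.app j) Y} (h : StarEx' D c f u) :
    StarEx' D c f' u := by
  subst hf
  exact h.later D c g f

omit [IsCofiltered I] [∀ {i j} (f : i ⟶ j), IsAffineHom (D.map f)] in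
lemma StarEx'.starEx {i j : I} (f : i ⟶ j) {X Y : Over (D.obj j)}
    {u : Red.bc (c.π.app j) X ⟶ Red.bc (c.π.app j) Y} (h : StarEx' D c f u) :
    StarEx D c f u := by
  obtain ⟨ui, hui⟩ := h
  exact ⟨ui, map_eq_of_star D c f u ui hui⟩

end descent3

section stepA

open Functor.LaxMonoidal Functor.OplaxMonoidal Functor.Monoidal
open scoped Obj

variable {I : Type u} [SmallCategory I] [IsCofiltered I] (D : I ⥤ Scheme.{u}) (c : Cone D)
  (hc : IsLimit c) [∀ {i j} (f : i ⟶ j), IsAffineHom (D.map f)]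

include hc in
set_option backward.isDefEq.respectTransparency false in
/-- Step A: raw data at a stage compatible with the group structure over the limit gives a
group structure at a later stage. -/
theorem stepA [∀ i, CompactSpace (D.obj i)] (G : Over c.pt) [GrpObj G] (i : I)
    (Gi : Over (D.obj i)) [LocallyOfFinitePresentation Gi.hom] [QuasiCompact Gi.hom]
    [QuasiSeparated Gi.hom] (r : Raw Gi) (φ : G ≅ Red.bc (c.π.app i) Gi)
    (hm : Functor.LaxMonoidal.μ (Over.pullback (c.π.app i)) Gi Gi ≫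
      (Over.pullback (c.π.app i)).map r.m = (φ.inv ⊗ₘ φ.inv) ≫ μ[G] ≫ φ.hom)
    (he : Functor.LaxMonoidal.ε (Over.pullback (c.π.app i)) ≫
      (Over.pullback (c.π.app i)).map r.e = η[G] ≫ φ.hom)
    (hv : (Over.pullback (c.π.app i)).map r.v = φ.inv ≫ ι[G] ≫ φ.hom) :
    ∃ (j : I) (Gj : Over (D.obj j)) (_ : GrpObj Gj) (e : G ≅ Red.bc (c.π.app j) Gj),
      IsMonHom e.hom ∧ LocallyOfFinitePresentation Gj.hom ∧ QuasiCompact Gj.hom ∧
        QuasiSeparated Gj.hom := by
  obtain ⟨h1, h2, h3⟩ := @Raw.map_eqs_of_grpObj _ _ _ _ _ _ (Over.pullback (c.π.app i)) _ _ r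
    (GrpObj.ofIso φ) hm he hv
  haveI : LocallyOfFiniteType Gi.hom := inferInstance
  haveI : QuasiCompact (Gi ⊗ Gi).hom := by rw [Over.tensorObj_hom]; infer_instance
  haveI : QuasiCompact (Gi ⊗ (Gi ⊗ Gi)).hom := by rw [Over.tensorObj_hom]; infer_instance
  rw [← (Over.pullback (c.π.app i)).map_id] at h2
  obtain ⟨i₁, g₁, E1⟩ := exists_stage_map_eq D c hc i _ _ h1
  obtain ⟨i₂, g₂, E2⟩ := exists_stage_map_eq_below D c hc i _ _ h2 g₁
  obtain ⟨i₃, g₃, E3⟩ := exists_stage_map_eq_below D c hc i _ _ h3 (g₂ ≫ g₁)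
  have E1' : (Over.pullback (D.map (g₃ ≫ g₂ ≫ g₁))).map r.assocL =
      (Over.pullback (D.map (g₃ ≫ g₂ ≫ g₁))).map r.assocR := by
    rw [← Category.assoc, D.map_comp]
    exact map_eq_comp _ _ _ _ E1
  have E2' : (Over.pullback (D.map (g₃ ≫ g₂ ≫ g₁))).map r.oneL =
      (Over.pullback (D.map (g₃ ≫ g₂ ≫ g₁))).map (𝟙 Gi) := by
    rw [D.map_comp]
    exact map_eq_comp _ _ _ _ E2
  generalize g₃ ≫ g₂ ≫ g₁ = g at E1' E2' E3
  have ax := Raw.leftAxioms_map (Over.pullback (D.map g)) r E1'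
    (E2'.trans ((Over.pullback (D.map g)).map_id _)) E3
  letI instGj : GrpObj (Red.bc (D.map g) Gi) := ax.grpObj
  have hμ : μ[Red.bc (D.map g) Gi] =
      Functor.LaxMonoidal.μ (Over.pullback (D.map g)) Gi Gi ≫ (Over.pullback (D.map g)).map r.m :=
    rfl
  refine ⟨i₃, Red.bc (D.map g) Gi, instGj, φ ≪≫ (θ D c g Gi).symm, ?_, ?_, ?_, ?_⟩
  · apply isMonHom_of_mul
    have nat := θ_naturality D c g r.m
    have mon := monoidal_of_nat (Over.pullback (D.map g)) (Over.pullback (c.π.app i₃))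
      (Over.pullback (c.π.app i)) (θ D c g (Gi ⊗ Gi)).hom (θ D c g Gi).hom (θ D c g Gi).hom
      (θ_naturality D c g (fst Gi Gi)) (θ_naturality D c g (snd Gi Gi))
    have key : μ[Red.bc (c.π.app i₃) (Red.bc (D.map g) Gi)] =
        ((θ D c g Gi).hom ⊗ₘ (θ D c g Gi).hom) ≫ ((φ.inv ⊗ₘ φ.inv) ≫ μ[G] ≫ φ.hom) ≫
          (θ D c g Gi).inv := by
      rw [Functor.obj.μ_def, hμ, Functor.map_comp, ← hm]
      have nat' : (Over.pullback (c.π.app i₃)).map ((Over.pullback (D.map g)).map r.m) =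
          (θ D c g (Gi ⊗ Gi)).hom ≫ (Over.pullback (c.π.app i)).map r.m ≫ (θ D c g Gi).inv := by
        rw [← Category.assoc, nat, Category.assoc, Iso.hom_inv_id, Category.comp_id]
      rw [nat', ← Category.assoc, ← Category.assoc, Category.assoc _ _ (θ D c g (Gi ⊗ Gi)).hom,
        mon]
      simp only [Category.assoc]
    rw [key]
    simp only [Iso.trans_hom, Iso.symm_hom, Category.assoc, tensorHom_comp_tensorHom_assoc,
      Iso.inv_hom_id, Category.comp_id, Iso.hom_inv_id, Iso.inv_hom_id_assoc, tensorHom_id,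
      id_whiskerRight, Category.id_comp]
  · change LocallyOfFinitePresentation (pullback.snd Gi.hom (D.map g))
    infer_instance
  · change QuasiCompact (pullback.snd Gi.hom (D.map g))
    infer_instance
  · change QuasiSeparated (pullback.snd Gi.hom (D.map g))
    infer_instance

end stepA

section stepB

open scoped Obj

variable {I : Type u} [SmallCategory I] [IsCofiltered I] (D : I ⥤ Scheme.{u}) (c : Cone D)
  (hc : IsLimit c) [∀ {i j} (f : i ⟶ j), IsAffineHom (D.map f)]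

include hc in
set_option backward.isDefEq.respectTransparency false in
/-- Group schemes of finite presentation over the limit descend to a stage. -/
theorem group_descends [∀ i, CompactSpace (D.obj i)] [∀ i, QuasiSeparatedSpace (D.obj i)]
    (G : Over c.pt) [GrpObj G] [LocallyOfFinitePresentation G.hom] [QuasiCompact G.hom]
    [QuasiSeparated G.hom] :
    ∃ (j : I) (Gj : Over (D.obj j)) (_ : GrpObj Gj) (e : G ≅ Red.bc (c.π.app j) Gj),
      IsMonHom e.hom ∧ LocallyOfFinitePresentation Gj.hom ∧ QuasiCompact Gj.hom ∧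
        QuasiSeparated Gj.hom := by
  obtain ⟨l, M, hM⟩ := Model.exists_isFP hc G.hom
  haveI := hM.lfp
  haveI := hM.compact
  haveI := hM.qs
  let G₁ : Over (D.obj l) := Over.mk M.fi
  haveI : LocallyOfFinitePresentation G₁.hom := hM.lfp
  haveI : QuasiCompact G₁.hom := (inferInstance : QuasiCompact M.fi)
  haveI : QuasiSeparated G₁.hom := (inferInstance : QuasiSeparated M.fi)
  let e₀ : G ≅ Red.bc (c.π.app l) G₁ := Over.isoMk M.sq.isoPullback (by simp [G₁])
  let um : Red.bc (c.π.app l) (G₁ ⊗ G₁) ⟶ Red.bc (c.π.app l) G₁ :=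
    Functor.OplaxMonoidal.δ (Over.pullback (c.π.app l)) G₁ G₁ ≫ (e₀.inv ⊗ₘ e₀.inv) ≫ μ[G] ≫ e₀.hom
  let ue : Red.bc (c.π.app l) (𝟙_ (Over (D.obj l))) ⟶ Red.bc (c.π.app l) G₁ :=
    Functor.OplaxMonoidal.η (Over.pullback (c.π.app l)) ≫ η[G] ≫ e₀.hom
  let uv : Red.bc (c.π.app l) G₁ ⟶ Red.bc (c.π.app l) G₁ := e₀.inv ≫ ι[G] ≫ e₀.hom
  haveI : QuasiCompact (G₁ ⊗ G₁).hom := by rw [Over.tensorObj_hom]; infer_instance
  haveI : QuasiSeparated (G₁ ⊗ G₁).hom := by rw [Over.tensorObj_hom]; infer_instance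
  haveI : QuasiCompact (𝟙_ (Over (D.obj l))).hom := by
    rw [Over.tensorUnit_hom]
    haveI : IsIso (𝟙 (D.obj l)) := inferInstance
    exact inferInstance
  haveI : QuasiSeparated (𝟙_ (Over (D.obj l))).hom := by
    rw [Over.tensorUnit_hom]
    haveI : IsIso (𝟙 (D.obj l)) := inferInstance
    exact inferInstance
  obtain ⟨i₁, a₁, m₁, hm₁⟩ := exists_stage_hom D c hc l um
  obtain ⟨i₂, a₂, e₂, he₂⟩ := exists_stage_hom D c hc l ue
  obtain ⟨i₃, a₃, v₃, hv₃⟩ := exists_stage_hom D c hc l uv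
  obtain ⟨W₁, p₁, q₁, h₁⟩ := IsCofiltered.cospan a₁ a₂
  obtain ⟨W, p₂, q₂, h₂⟩ := IsCofiltered.cospan (p₁ ≫ a₁) a₃
  have Sm : StarEx' D c (p₂ ≫ p₁ ≫ a₁) um :=
    StarEx'.later_eq D c (p₂ ≫ p₁) a₁ _ (Category.assoc _ _ _) ⟨m₁, hm₁⟩
  have Se : StarEx' D c (p₂ ≫ p₁ ≫ a₁) ue :=
    StarEx'.later_eq D c (p₂ ≫ q₁) a₂ _ (by rw [Category.assoc, ← h₁]) ⟨e₂, he₂⟩
  have Sv : StarEx' D c (p₂ ≫ p₁ ≫ a₁) uv :=
    StarEx'.later_eq D c q₂ a₃ _ h₂.symm ⟨v₃, hv₃⟩
  generalize p₂ ≫ p₁ ≫ a₁ = a at Sm Se Sv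
  obtain ⟨mi, Hm⟩ := Sm.starEx
  obtain ⟨ei, He⟩ := Se.starEx
  obtain ⟨vi, Hv⟩ := Sv.starEx
  haveI : LocallyOfFinitePresentation (Red.bc (D.map a) G₁).hom := by
    change LocallyOfFinitePresentation (pullback.snd G₁.hom (D.map a))
    infer_instance
  haveI : QuasiCompact (Red.bc (D.map a) G₁).hom := by
    change QuasiCompact (pullback.snd G₁.hom (D.map a))
    infer_instance
  haveI : QuasiSeparated (Red.bc (D.map a) G₁).hom := by
    change QuasiSeparated (pullback.snd G₁.hom (D.map a))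
    infer_instance
  refine stepA D c hc G W (Red.bc (D.map a) G₁)
    ⟨Functor.LaxMonoidal.μ (Over.pullback (D.map a)) G₁ G₁ ≫ mi,
      Functor.LaxMonoidal.ε (Over.pullback (D.map a)) ≫ ei, vi⟩
    (e₀ ≪≫ (θ D c a G₁).symm) ?_ ?_ ?_
  · have mon := monoidal_of_nat (Over.pullback (D.map a)) (Over.pullback (c.π.app W))
      (Over.pullback (c.π.app l)) (θ D c a (G₁ ⊗ G₁)).hom (θ D c a G₁).hom (θ D c a G₁).hom
      (θ_naturality D c a (fst G₁ G₁)) (θ_naturality D c a (snd G₁ G₁))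
    calc _ = (Functor.LaxMonoidal.μ (Over.pullback (c.π.app W)) _ _ ≫
          (Over.pullback (c.π.app W)).map
            (Functor.LaxMonoidal.μ (Over.pullback (D.map a)) G₁ G₁) ≫
          (θ D c a (G₁ ⊗ G₁)).hom) ≫ um ≫ (θ D c a G₁).inv := by
          rw [Functor.map_comp, Hm]
          simp only [Category.assoc]
      _ = _ := by
          rw [mon]
          simp only [um, Iso.trans_hom, Iso.trans_inv, Iso.symm_hom, Iso.symm_inv,
            Category.assoc, Functor.Monoidal.μ_δ_assoc, tensorHom_comp_tensorHom_assoc]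
  · have hunit : Functor.LaxMonoidal.ε (Over.pullback (c.π.app W)) ≫
        (Over.pullback (c.π.app W)).map (Functor.LaxMonoidal.ε (Over.pullback (D.map a))) ≫
        (θ D c a (𝟙_ (Over (D.obj l)))).hom ≫
        Functor.OplaxMonoidal.η (Over.pullback (c.π.app l)) = 𝟙 _ := toUnit_unique _ _
    calc _ = (Functor.LaxMonoidal.ε (Over.pullback (c.π.app W)) ≫
          (Over.pullback (c.π.app W)).map (Functor.LaxMonoidal.ε (Over.pullback (D.map a))) ≫
          (θ D c a (𝟙_ (Over (D.obj l)))).hom ≫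
          Functor.OplaxMonoidal.η (Over.pullback (c.π.app l))) ≫ η[G] ≫ e₀.hom ≫
            (θ D c a G₁).inv := by
          rw [Functor.map_comp, He]
          simp only [ue, Category.assoc]
      _ = _ := by
          rw [hunit, Category.id_comp]
          simp only [Iso.trans_hom, Iso.symm_hom, Category.assoc]
  · rw [Hv]
    simp only [uv, Iso.trans_hom, Iso.trans_inv, Iso.symm_hom, Iso.symm_inv, Category.assoc]

end stepB

end Groth.Agent.Lib.Helper24.GrpLimit
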