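import Groth.Agent.Lib.Helper24.GrpLimit3

/-!
# Normal / central monomorphic homomorphisms over a limit descend to a stage (helper24)
-/

set_option autoImplicit false

universe u

open CategoryTheory CategoryTheory.Limits MonoidalCategory CartesianMonoidalCategory MonObj GrpObj
  AlgebraicGeometry

namespace Groth.Agent.Lib.Helper24.GrpLimit

open Groth.Agent.Lib.Helper24.Lim8

section cat

open Functor.LaxMonoidal Functor.Monoidal
open scoped Obj

universe v₁ u₁ v₂ u₂

variable {C : Type u₁} [Category.{v₁} C] [CartesianMonoidalCategory C]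
  {D : Type u₂} [Category.{v₂} D] [CartesianMonoidalCategory D] (F : C ⥤ D) [F.Monoidal]

lemma central_iff {H G : C} [GrpObj G] (u : H ⟶ G) :
    (∀ (T : D) (g : T ⟶ F.obj G) (n : T ⟶ F.obj H),
      g * (n ≫ F.map u) = (n ≫ F.map u) * g) ↔
      F.map (fst G H * (snd G H ≫ u)) = F.map ((snd G H ≫ u) * fst G H) := by
  constructor
  · intro h
    have := h (F.obj (G ⊗ H)) (F.map (fst G H)) (F.map (snd G H))
    rw [Functor.map_mul, Functor.map_mul, Functor.map_comp]
    exact this
  · intro h T g n
    have := congrArg (fun m => (lift g n ≫ Functor.LaxMonoidal.μ F G H) ≫ m) h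
    simp only [Functor.map_mul, Functor.map_comp, MonObj.comp_mul, Category.assoc, μ_fst,
      μ_snd_assoc, lift_fst, lift_snd_assoc] at this
    exact this

end cat

section gen

variable {S S' S'' : Scheme.{u}}

set_option backward.isDefEq.respectTransparency false in
lemma mono_map_iff_bcMap (t : S' ⟶ S) {H G : Over S} (u : H ⟶ G) :
    Mono ((Over.pullback t).map u) ↔ Mono (bcMap t u.left G.hom) := by
  have hw : u.left ≫ G.hom = H.hom := Over.w u
  let σG := pullbackSymmetry G.hom t
  let σH : pullback H.hom t ≅ pullback t (u.left ≫ G.hom) :=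
    pullbackSymmetry _ _ ≪≫ pullback.congrHom rfl hw.symm
  have key : ((Over.pullback t).map u).left ≫ σG.hom = σH.hom ≫ bcMap t u.left G.hom := by
    apply pullback.hom_ext <;> simp [σG, σH]
  constructor
  · intro h
    haveI : Mono ((Over.pullback t).map u).left := inferInstance
    have e : bcMap t u.left G.hom = σH.inv ≫ ((Over.pullback t).map u).left ≫ σG.hom := by
      rw [key, Iso.inv_hom_id_assoc]
    rw [e]
    infer_instance
  · intro h
    haveI : Mono ((Over.pullback t).map u).left := by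
      have e : ((Over.pullback t).map u).left = σH.hom ≫ bcMap t u.left G.hom ≫ σG.inv := by
        rw [← Category.assoc, ← key, Category.assoc, Iso.hom_inv_id, Category.comp_id]
      rw [e]
      infer_instance
    exact Over.mono_of_mono_left _

lemma mono_map_comp (s : S'' ⟶ S') (t : S' ⟶ S) {X Y : Over S} (a : X ⟶ Y)
    (h : Mono ((Over.pullback t).map a)) : Mono ((Over.pullback (s ≫ t)).map a) := by
  have e : (Over.pullback (s ≫ t)).map a = (Over.pullbackComp s t).hom.app X ≫
      (Over.pullback s).map ((Over.pullback t).map a) ≫ (Over.pullbackComp s t).inv.app Y := by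
    have n := (Over.pullbackComp s t).hom.naturality a
    simp only [Functor.comp_map] at n
    rw [← Category.assoc, ← n, Category.assoc, Iso.hom_inv_id_app, Category.comp_id]
  rw [e]
  infer_instance

end gen

section main

open scoped Obj

variable {I : Type u} [SmallCategory I] [IsCofiltered I] (D : I ⥤ Scheme.{u}) (c : Cone D)
  (hc : IsLimit c) [∀ {i j} (f : i ⟶ j), IsAffineHom (D.map f)]

include hc in
lemma mono_descends (j : I) [CompactSpace (D.obj j)] {Hj Gj : Over (D.obj j)}
    [LocallyOfFiniteType Hj.hom] [QuasiCompact Hj.hom] [QuasiSeparated Hj.hom]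
    [QuasiSeparated Gj.hom] (uj : Hj ⟶ Gj)
    (h : Mono ((Over.pullback (c.π.app j)).map uj)) :
    ∃ (i : I) (f : i ⟶ j), Mono ((Over.pullback (D.map f)).map uj) := by
  have hw : uj.left ≫ Gj.hom = Hj.hom := Over.w uj
  haveI : CompactSpace Hj.left := QuasiCompact.compactSpace_of_compactSpace Hj.hom
  haveI : LocallyOfFiniteType (uj.left ≫ Gj.hom) := by rw [hw]; infer_instance
  haveI : QuasiCompact (uj.left ≫ Gj.hom) := by rw [hw]; infer_instance
  haveI : QuasiSeparated (uj.left ≫ Gj.hom) := by rw [hw]; infer_instance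
  haveI : LocallyOfFiniteType uj.left := locallyOfFiniteType_of_comp uj.left Gj.hom
  haveI : QuasiCompact uj.left := QuasiCompact.of_comp uj.left Gj.hom
  haveI : QuasiSeparated uj.left := QuasiSeparated.of_comp uj.left Gj.hom
  obtain ⟨i, f, hf⟩ := descends_monomorphisms D c hc j uj.left Gj.hom
    ((mono_map_iff_bcMap (c.π.app j) uj).mp h)
  exact ⟨i, f, (mono_map_iff_bcMap (D.map f) uj).mpr hf⟩

omit [IsCofiltered I] [∀ {i j} (f : i ⟶ j), IsAffineHom (D.map f)] in
lemma mono_ascends {i j : I} (f : i ⟶ j) {Hj Gj : Over (D.obj j)} (uj : Hj ⟶ Gj)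
    (h : Mono ((Over.pullback (D.map f)).map uj)) :
    Mono ((Over.pullback (c.π.app j)).map uj) := by
  have := mono_map_comp (c.π.app i) (D.map f) uj h
  rwa [c.w f] at this

include hc in
set_option backward.isDefEq.respectTransparency false in
theorem normal_central_descends [∀ i, CompactSpace (D.obj i)] [∀ i, QuasiSeparatedSpace (D.obj i)]
    (j : I) (Gj Hj : Over (D.obj j)) [GrpObj Gj] [GrpObj Hj]
    [LocallyOfFinitePresentation Gj.hom] [QuasiCompact Gj.hom] [QuasiSeparated Gj.hom]
    [LocallyOfFinitePresentation Hj.hom] [QuasiCompact Hj.hom] [QuasiSeparated Hj.hom]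
    (uj : Hj ⟶ Gj) :
    ((Mono ((Over.pullback (c.π.app j)).map uj) ∧
        AlgGrp.IsNormalHom ((Over.pullback (c.π.app j)).map uj)) ↔
      ∃ (i : I) (f : i ⟶ j), Mono ((Over.pullback (D.map f)).map uj) ∧
        AlgGrp.IsNormalHom ((Over.pullback (D.map f)).map uj)) ∧
    ((Mono ((Over.pullback (c.π.app j)).map uj) ∧
        (∀ (T : Over c.pt) (g : T ⟶ (Red.bc (c.π.app j) Gj)) (n : T ⟶ (Red.bc (c.π.app j) Hj)),
          g * (n ≫ ((Over.pullback (c.π.app j)).map uj)) =
            (n ≫ ((Over.pullback (c.π.app j)).map uj)) * g)) ↔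
      ∃ (i : I) (f : i ⟶ j), Mono ((Over.pullback (D.map f)).map uj) ∧
        (∀ (T : Over (D.obj i)) (g : T ⟶ (Red.bc (D.map f) Gj)) (n : T ⟶ (Red.bc (D.map f) Hj)),
          g * (n ≫ ((Over.pullback (D.map f)).map uj)) =
            (n ≫ ((Over.pullback (D.map f)).map uj)) * g)) := by
  haveI : LocallyOfFiniteType Gj.hom := inferInstance
  haveI : LocallyOfFiniteType Hj.hom := inferInstance
  haveI : QuasiCompact (Gj ⊗ Hj).hom := by rw [Over.tensorObj_hom]; infer_instance
  haveI : QuasiSeparated (Gj ⊗ Hj).hom := by rw [Over.tensorObj_hom]; infer_instance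
  refine ⟨⟨?_, ?_⟩, ⟨?_, ?_⟩⟩
  · rintro ⟨hmono, hnorm⟩
    obtain ⟨i₁, a₁, hm₁⟩ := mono_descends D c hc j uj hmono
    have hδ := factors_of_isNormalHom (c.π.app j) uj hnorm
    obtain ⟨i, g, h4⟩ := Factors.exists_stage_below D c hc j uj (delta uj) hδ a₁
    refine ⟨i, g ≫ a₁, ?_, isNormalHom_of_factors (D.map (g ≫ a₁)) uj h4⟩
    rw [D.map_comp]
    exact mono_map_comp _ _ uj hm₁
  · rintro ⟨i, f, hmono, hnorm⟩
    refine ⟨mono_ascends D c f uj hmono, ?_⟩
    have hδ := factors_of_isNormalHom (D.map f) uj hnorm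
    have h2 := Factors.comp (c.π.app i) (D.map f) uj _ hδ
    rw [c.w f] at h2
    exact isNormalHom_of_factors (c.π.app j) uj h2
  · rintro ⟨hmono, hcen⟩
    obtain ⟨i₁, a₁, hm₁⟩ := mono_descends D c hc j uj hmono
    have hE := (central_iff (Over.pullback (c.π.app j)) uj).mp hcen
    obtain ⟨i, g, h4⟩ := exists_stage_map_eq_below D c hc j _ _ hE a₁
    refine ⟨i, g ≫ a₁, ?_, (central_iff (Over.pullback (D.map (g ≫ a₁))) uj).mpr h4⟩
    rw [D.map_comp]
    exact mono_map_comp _ _ uj hm₁
  · rintro ⟨i, f, hmono, hcen⟩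
    refine ⟨mono_ascends D c f uj hmono, ?_⟩
    have hE := (central_iff (Over.pullback (D.map f)) uj).mp hcen
    have h2 := map_eq_comp (c.π.app i) (D.map f) _ _ hE
    rw [c.w f] at h2
    exact (central_iff (Over.pullback (c.π.app j)) uj).mpr h2

end main

end Groth.Agent.Lib.Helper24.GrpLimit
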