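import Groth.Agent.Lib.Helper24.Lim8DescendSmooth
import Groth.Agent.Lib.Helper24.FlatColim

/-!
# Flat morphisms descend through cofiltered limits (helper24)

EGA IV 11.2.6: if `f₀` is locally of finite presentation with quasi-compact source and its base
change to the limit is flat, then its base change to some stage is flat.
-/

set_option autoImplicit false

universe u

open CategoryTheory CategoryTheory.Limits AlgebraicGeometry TensorProduct

namespace Groth.Agent.Lib.Helper24.Lim8

lemma ringDescends_flat : RingDescends (fun {R S} [CommRing R] [CommRing S] f ↦ f.Flat) := by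
  intro k _ ι R' _ _ R _ _ ρ Φ h C _ _ _ hs
  rw [RingHom.flat_algebraMap_iff] at hs
  obtain ⟨i, hi⟩ := FlatColim.exists_stage_flat h C hs
  exact ⟨i, RingHom.flat_algebraMap_iff.mpr hi⟩

instance : MorphismProperty.RespectsRight @Flat @IsOpenImmersion where
  postcomp i hi f hf := MorphismProperty.comp_mem _ f i hf (by have := hi; infer_instance)

section general

variable {I : Type u} [SmallCategory I] [IsCofiltered I] (D : I ⥤ Scheme.{u}) (c : Cone D)
  (hc : IsLimit c) [∀ {i j} (f : i ⟶ j), IsAffineHom (D.map f)] (i₀ : I)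
  {X₀ Y₀ : Scheme.{u}} (f₀ : X₀ ⟶ Y₀) (g₀ : Y₀ ⟶ D.obj i₀)

include hc in
/-- Flatness descends (EGA IV 11.2.6). -/
theorem descends_flat [CompactSpace X₀] [LocallyOfFinitePresentation f₀] :
    Descends D c @Flat i₀ f₀ g₀ :=
  descends_of_hasRingHomProperty D c hc i₀ f₀ g₀ ringDescends_flat

end general

end Groth.Agent.Lib.Helper24.Lim8
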