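import Groth.Agent.Lib.Helper24.GrpLimit4
import Groth.Agent.Lib.Helper24.Lim8DescendFlat
import Groth.Agent.Lib.Helper24.LfpOfComp

/-!
# Torsors over a limit descend to a stage (helper24)
-/

set_option autoImplicit false

universe u

open CategoryTheory CategoryTheory.Limits MonoidalCategory CartesianMonoidalCategory MonObj GrpObj
  AlgebraicGeometry

namespace Groth.Agent.Lib.Helper24.GrpLimit

open Groth.Agent.Lib.Helper24.Lim8

section cat

open Functor.LaxMonoidal Functor.OplaxMonoidal Functor.Monoidal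

universe v₁ u₁ v₂ u₂

variable {C : Type u₁} [Category.{v₁} C] [CartesianMonoidalCategory C]
  {D : Type u₂} [Category.{v₂} D] [CartesianMonoidalCategory D] (F : C ⥤ D) [F.Monoidal]

lemma lift_act_eq {G X : C} (a : G ⊗ X ⟶ X) :
    lift (Functor.LaxMonoidal.μ F G X ≫ F.map a) (snd (F.obj G) (F.obj X)) =
      Functor.LaxMonoidal.μ F G X ≫ F.map (lift a (snd G X)) ≫ Functor.OplaxMonoidal.δ F X X := by
  apply CartesianMonoidalCategory.hom_ext
  · simp only [lift_fst, Category.assoc, δ_fst, ← Functor.map_comp]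
  · simp only [lift_snd, Category.assoc, δ_snd, ← Functor.map_comp, μ_snd]

lemma isIso_lift_act_iff {G X : C} (a : G ⊗ X ⟶ X) :
    IsIso (lift (Functor.LaxMonoidal.μ F G X ≫ F.map a) (snd (F.obj G) (F.obj X))) ↔
      IsIso (F.map (lift a (snd G X))) := by
  rw [lift_act_eq]
  have h1 : Functor.LaxMonoidal.μ F G X = (μIso F G X).hom := rfl
  have h2 : Functor.OplaxMonoidal.δ F X X = (μIso F X X).inv := rfl
  rw [h1, h2]
  constructor
  · intro h
    have e : F.map (lift a (snd G X)) = (μIso F G X).inv ≫ ((μIso F G X).hom ≫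
        F.map (lift a (snd G X)) ≫ (μIso F X X).inv) ≫ (μIso F X X).hom := by
      simp only [Category.assoc, Iso.inv_hom_id_assoc, Iso.inv_hom_id, Category.comp_id]
    rw [e]
    infer_instance
  · intro h
    infer_instance

end cat

section gen

variable {S S' S'' : Scheme.{u}}

set_option backward.isDefEq.respectTransparency false in
lemma isIso_map_iff_bcMap (t : S' ⟶ S) {H G : Over S} (u : H ⟶ G) :
    IsIso ((Over.pullback t).map u) ↔ IsIso (bcMap t u.left G.hom) := by
  have hw : u.left ≫ G.hom = H.hom := Over.w u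
  let σG := pullbackSymmetry G.hom t
  let σH : pullback H.hom t ≅ pullback t (u.left ≫ G.hom) :=
    pullbackSymmetry _ _ ≪≫ pullback.congrHom rfl hw.symm
  have key : ((Over.pullback t).map u).left ≫ σG.hom = σH.hom ≫ bcMap t u.left G.hom := by
    apply pullback.hom_ext <;> simp [σG, σH]
  constructor
  · intro h
    haveI : IsIso ((Over.pullback t).map u).left := inferInstance
    have e : bcMap t u.left G.hom = σH.inv ≫ ((Over.pullback t).map u).left ≫ σG.hom := by
      rw [key, Iso.inv_hom_id_assoc]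
    rw [e]
    infer_instance
  · intro h
    haveI : IsIso ((Over.forget _).map ((Over.pullback t).map u)) := by
      have e : ((Over.pullback t).map u).left = σH.hom ≫ bcMap t u.left G.hom ≫ σG.inv := by
        rw [← Category.assoc, ← key, Category.assoc, Iso.hom_inv_id, Category.comp_id]
      change IsIso ((Over.pullback t).map u).left
      rw [e]
      infer_instance
    exact isIso_of_reflects_iso _ (Over.forget _)

lemma isIso_map_comp (s : S'' ⟶ S') (t : S' ⟶ S) {X Y : Over S} (a : X ⟶ Y)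
    (h : IsIso ((Over.pullback t).map a)) : IsIso ((Over.pullback (s ≫ t)).map a) := by
  have e : (Over.pullback (s ≫ t)).map a = (Over.pullbackComp s t).hom.app X ≫
      (Over.pullback s).map ((Over.pullback t).map a) ≫ (Over.pullbackComp s t).inv.app Y := by
    have n := (Over.pullbackComp s t).hom.naturality a
    simp only [Functor.comp_map] at n
    rw [← Category.assoc, ← n, Category.assoc, Iso.hom_inv_id_app, Category.comp_id]
  rw [e]
  infer_instance

/-- `X` base-changed along `t` admits an fppf-local section. -/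
def Cov (t : S' ⟶ S) (X : Over S) : Prop :=
  ∃ (Z : Scheme.{u}) (v : Z ⟶ S') (w : Z ⟶ (Red.bc t X).left), w ≫ (Red.bc t X).hom = v ∧
    Flat v ∧ Surjective v ∧ LocallyOfFinitePresentation v ∧ QuasiCompact v ∧ QuasiSeparated v

lemma Cov.of_bc (s : S'' ⟶ S') (t : S' ⟶ S) (X : Over S) (h : Cov s (Red.bc t X)) :
    Cov (s ≫ t) X := by
  obtain ⟨Z, v, w, hw, h1, h2, h3, h4, h5⟩ := h
  refine ⟨Z, v, w ≫ ((Over.pullbackComp s t).inv.app X).left, ?_, h1, h2, h3, h4, h5⟩
  rw [Category.assoc, Over.w]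
  exact hw

set_option backward.isDefEq.respectTransparency false in
lemma Cov.bc (s : S'' ⟶ S') (t : S' ⟶ S) (X : Over S) (h : Cov t X) :
    Cov s (Red.bc t X) := by
  obtain ⟨Z, v, w, hw, h1, h2, h3, h4, h5⟩ := h
  refine ⟨pullback v s, pullback.snd v s,
    pullback.map v s (Red.bc t X).hom s w (𝟙 _) (𝟙 _) (by rw [hw, Category.comp_id])
      (by simp), ?_, inferInstance, inferInstance, inferInstance, inferInstance, inferInstance⟩
  change _ ≫ pullback.snd _ _ = _
  simp [pullback.map]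

lemma Cov.comp (s : S'' ⟶ S') (t : S' ⟶ S) (X : Over S) (h : Cov t X) : Cov (s ≫ t) X :=
  Cov.of_bc s t X (Cov.bc s t X h)

end gen

section gen2

variable {S S' S'' : Scheme.{u}}

set_option backward.isDefEq.respectTransparency false in
lemma prop_bcMap_id_iff (P : MorphismProperty Scheme.{u}) [P.RespectsIso] {B T X₀ : Scheme.{u}}
    (t : T ⟶ B) (f₀ : X₀ ⟶ B) : P (bcMap t f₀ (𝟙 _)) ↔ P (pullback.snd f₀ t) := by
  let α : pullback f₀ t ≅ pullback t (f₀ ≫ 𝟙 _) :=
    pullbackSymmetry _ _ ≪≫ pullback.congrHom rfl (Category.comp_id _).symm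
  have key : α.hom ≫ bcMap t f₀ (𝟙 _) ≫ pullback.fst t (𝟙 _) = pullback.snd f₀ t := by
    simp [α]
  rw [← key, P.cancel_left_of_respectsIso, P.cancel_right_of_respectsIso]

lemma prop_bc_comp (P : MorphismProperty Scheme.{u}) [P.IsStableUnderBaseChange] [P.RespectsIso]
    (s : S'' ⟶ S') (t : S' ⟶ S) (Z : Over S) (h : P (Red.bc t Z).hom) :
    P (Red.bc (s ≫ t) Z).hom := by
  have e : (Red.bc (s ≫ t) Z).hom = ((Over.pullbackComp s t).hom.app Z).left ≫
      (Red.bc s (Red.bc t Z)).hom := (Over.w ((Over.pullbackComp s t).hom.app Z)).symm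
  rw [e, P.cancel_left_of_respectsIso]
  exact P.pullback_snd _ _ h

end gen2

section main

variable {I : Type u} [SmallCategory I] [IsCofiltered I] (D : I ⥤ Scheme.{u}) (c : Cone D)
  (hc : IsLimit c) [∀ {i j} (f : i ⟶ j), IsAffineHom (D.map f)]

include hc in
lemma isIso_descends (j : I) [CompactSpace (D.obj j)] {A B : Over (D.obj j)}
    [LocallyOfFinitePresentation A.hom] [QuasiCompact A.hom]
    [LocallyOfFiniteType B.hom] [QuasiCompact B.hom] [QuasiSeparated B.hom] (Φ : A ⟶ B)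
    (h : IsIso ((Over.pullback (c.π.app j)).map Φ)) :
    ∃ (i : I) (f : i ⟶ j), IsIso ((Over.pullback (D.map f)).map Φ) := by
  have hw : Φ.left ≫ B.hom = A.hom := Over.w Φ
  haveI : CompactSpace B.left := QuasiCompact.compactSpace_of_compactSpace B.hom
  haveI : LocallyOfFinitePresentation (Φ.left ≫ B.hom) := by rw [hw]; infer_instance
  haveI : QuasiCompact (Φ.left ≫ B.hom) := by rw [hw]; infer_instance
  haveI : LocallyOfFinitePresentation Φ.left :=
    Groth.Agent.Lib.Helper24.locallyOfFinitePresentation_of_comp Φ.left B.hom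
  haveI : QuasiCompact Φ.left := QuasiCompact.of_comp Φ.left B.hom
  obtain ⟨i, f, hf⟩ := descends_isomorphisms D c hc j Φ.left B.hom
    ((isIso_map_iff_bcMap (c.π.app j) Φ).mp h)
  exact ⟨i, f, (isIso_map_iff_bcMap (D.map f) Φ).mpr hf⟩

include hc in
lemma exists_stage_flat_surj (k : I) [CompactSpace (D.obj k)] [QuasiSeparatedSpace (D.obj k)]
    (Zk : Over (D.obj k)) [LocallyOfFinitePresentation Zk.hom] [QuasiCompact Zk.hom]
    (hF : Flat (Red.bc (c.π.app k) Zk).hom) (hS : Surjective (Red.bc (c.π.app k) Zk).hom) :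
    ∃ (i : I) (a : i ⟶ k), Flat (Red.bc (D.map a) Zk).hom ∧
      Surjective (Red.bc (D.map a) Zk).hom := by
  haveI : CompactSpace Zk.left := QuasiCompact.compactSpace_of_compactSpace Zk.hom
  obtain ⟨i₁, a₁, h₁⟩ := descends_flat D c hc k Zk.hom (𝟙 _)
    ((prop_bcMap_id_iff @Flat _ _).mpr hF)
  obtain ⟨i₂, a₂, h₂⟩ := descends_surjective D c hc k (𝟙 _) Zk.hom
    ((prop_bcMap_id_iff @Surjective _ _).mpr hS)
  obtain ⟨W, g₁, g₂, hg⟩ := IsCofiltered.cospan a₁ a₂
  refine ⟨W, g₁ ≫ a₁, ?_, ?_⟩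
  · rw [D.map_comp]
    exact prop_bc_comp @Flat _ _ Zk ((prop_bcMap_id_iff @Flat _ _).mp h₁)
  · rw [hg, D.map_comp]
    exact prop_bc_comp @Surjective _ _ Zk ((prop_bcMap_id_iff @Surjective _ _).mp h₂)

end main

section main2

open scoped Obj

variable {I : Type u} [SmallCategory I] [IsCofiltered I] (D : I ⥤ Scheme.{u}) (c : Cone D)
  (hc : IsLimit c) [∀ {i j} (f : i ⟶ j), IsAffineHom (D.map f)]

include hc in
set_option backward.isDefEq.respectTransparency false in
lemma Cov.descends [∀ i, CompactSpace (D.obj i)] [∀ i, QuasiSeparatedSpace (D.obj i)] (j : I)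
    (Xj : Over (D.obj j)) [LocallyOfFinitePresentation Xj.hom] [QuasiCompact Xj.hom]
    [QuasiSeparated Xj.hom] (h : Cov (c.π.app j) Xj) :
    ∃ (i : I) (f : i ⟶ j), Cov (D.map f) Xj := by
  obtain ⟨Z, v, w, hw, hfl, hsurj, hfp, hqc, hqs⟩ := h
  obtain ⟨l, M, hM⟩ := Model.exists_isFP hc v
  haveI := hM.lfp
  haveI := hM.compact
  haveI := hM.qs
  let Zl : Over (D.obj l) := Over.mk M.fi
  haveI : LocallyOfFinitePresentation Zl.hom := hM.lfp
  haveI : QuasiCompact Zl.hom := (inferInstance : QuasiCompact M.fi)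
  haveI : QuasiSeparated Zl.hom := (inferInstance : QuasiSeparated M.fi)
  let e₀ : Over.mk v ≅ Red.bc (c.π.app l) Zl := Over.isoMk M.sq.isoPullback (by simp [Zl])
  obtain ⟨k, p, q, -⟩ : ∃ (k : I) (_ : k ⟶ l) (_ : k ⟶ j), True :=
    ⟨_, IsCofiltered.minToLeft l j, IsCofiltered.minToRight l j, trivial⟩
  let Zk : Over (D.obj k) := Red.bc (D.map p) Zl
  let Xk : Over (D.obj k) := Red.bc (D.map q) Xj
  haveI : LocallyOfFinitePresentation Zk.hom := by
    change LocallyOfFinitePresentation (pullback.snd Zl.hom (D.map p))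
    infer_instance
  haveI : QuasiCompact Zk.hom := by
    change QuasiCompact (pullback.snd Zl.hom (D.map p))
    infer_instance
  haveI : QuasiSeparated Zk.hom := by
    change QuasiSeparated (pullback.snd Zl.hom (D.map p))
    infer_instance
  haveI : LocallyOfFinitePresentation Xk.hom := by
    change LocallyOfFinitePresentation (pullback.snd Xj.hom (D.map q))
    infer_instance
  let φ : Over.mk v ≅ Red.bc (c.π.app k) Zk := e₀ ≪≫ (θ D c p Zl).symm
  have hφ : (Red.bc (c.π.app k) Zk).hom = φ.inv.left ≫ v := (Over.w φ.inv).symm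
  have hfl' : Flat (Red.bc (c.π.app k) Zk).hom := by rw [hφ]; infer_instance
  have hsurj' : Surjective (Red.bc (c.π.app k) Zk).hom := by rw [hφ]; infer_instance
  obtain ⟨i₁, a₁, h₁, h₁'⟩ := exists_stage_flat_surj D c hc k Zk hfl' hsurj'
  let wo : Over.mk v ⟶ Red.bc (c.π.app j) Xj := Over.homMk w hw
  let wo' : Red.bc (c.π.app k) Zk ⟶ Red.bc (c.π.app k) Xk := φ.inv ≫ wo ≫ (θ D c q Xj).inv
  obtain ⟨i₂, a₂, wi, -⟩ := exists_stage_hom D c hc k wo'
  obtain ⟨W, g₁, g₂, hg⟩ := IsCofiltered.cospan a₁ a₂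
  have hne : Nonempty (Red.bc (D.map (g₁ ≫ a₁)) Zk ⟶ Red.bc (D.map (g₁ ≫ a₁)) Xk) := by
    rw [hg]
    exact ⟨later D g₂ a₂ wi⟩
  obtain ⟨wW⟩ := hne
  have hA : Cov (D.map (g₁ ≫ a₁)) Xk := by
    refine ⟨(Red.bc (D.map (g₁ ≫ a₁)) Zk).left, (Red.bc (D.map (g₁ ≫ a₁)) Zk).hom, wW.left,
      Over.w wW, ?_, ?_, ?_, ?_, ?_⟩
    · rw [D.map_comp]
      exact prop_bc_comp @Flat _ _ Zk h₁
    · rw [D.map_comp]
      exact prop_bc_comp @Surjective _ _ Zk h₁'
    · change LocallyOfFinitePresentation (pullback.snd Zk.hom _)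
      infer_instance
    · change QuasiCompact (pullback.snd Zk.hom _)
      infer_instance
    · change QuasiSeparated (pullback.snd Zk.hom _)
      infer_instance
  have hB := Cov.of_bc (D.map (g₁ ≫ a₁)) (D.map q) Xj hA
  rw [← D.map_comp] at hB
  exact ⟨W, (g₁ ≫ a₁) ≫ q, hB⟩

include hc in
set_option backward.isDefEq.respectTransparency false in
theorem torsor_descends [∀ i, CompactSpace (D.obj i)] [∀ i, QuasiSeparatedSpace (D.obj i)]
    (j : I) (Gj Xj : Over (D.obj j)) [GrpObj Gj] (act : Gj ⊗ Xj ⟶ Xj)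
    [LocallyOfFinitePresentation Gj.hom] [QuasiCompact Gj.hom] [QuasiSeparated Gj.hom]
    [LocallyOfFinitePresentation Xj.hom] [QuasiCompact Xj.hom] [QuasiSeparated Xj.hom] :
    (IsIso (lift (Functor.LaxMonoidal.μ (Over.pullback (c.π.app j)) Gj Xj ≫
          (Over.pullback (c.π.app j)).map act)
          (snd (Red.bc (c.π.app j) Gj) (Red.bc (c.π.app j) Xj))) ∧
        Cov (c.π.app j) Xj) ↔
    ∃ (i : I) (f : i ⟶ j), (IsIso (lift (Functor.LaxMonoidal.μ (Over.pullback (D.map f)) Gj Xj ≫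
          (Over.pullback (D.map f)).map act)
          (snd (Red.bc (D.map f) Gj) (Red.bc (D.map f) Xj))) ∧
        Cov (D.map f) Xj) := by
  haveI : LocallyOfFiniteType Xj.hom := inferInstance
  haveI : LocallyOfFinitePresentation (Gj ⊗ Xj).hom := by
    rw [Over.tensorObj_hom]; infer_instance
  haveI : QuasiCompact (Gj ⊗ Xj).hom := by rw [Over.tensorObj_hom]; infer_instance
  haveI : LocallyOfFiniteType (Xj ⊗ Xj).hom := by rw [Over.tensorObj_hom]; infer_instance
  haveI : QuasiCompact (Xj ⊗ Xj).hom := by rw [Over.tensorObj_hom]; infer_instance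
  haveI : QuasiSeparated (Xj ⊗ Xj).hom := by rw [Over.tensorObj_hom]; infer_instance
  constructor
  · rintro ⟨hiso, hcov⟩
    rw [isIso_lift_act_iff] at hiso
    obtain ⟨i₁, a₁, h₁⟩ := isIso_descends D c hc j _ hiso
    obtain ⟨i₂, a₂, h₂⟩ := Cov.descends D c hc j Xj hcov
    obtain ⟨W, g₁, g₂, hg⟩ := IsCofiltered.cospan a₁ a₂
    refine ⟨W, g₁ ≫ a₁, ?_, ?_⟩
    · rw [isIso_lift_act_iff, D.map_comp]
      exact isIso_map_comp _ _ _ h₁
    · rw [hg, D.map_comp]
      exact Cov.comp _ _ Xj h₂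
  · rintro ⟨i, f, hiso, hcov⟩
    rw [isIso_lift_act_iff] at hiso
    refine ⟨?_, ?_⟩
    · rw [isIso_lift_act_iff]
      have := isIso_map_comp (c.π.app i) (D.map f) _ hiso
      rwa [c.w f] at this
    · have := Cov.comp (c.π.app i) (D.map f) Xj hcov
      rwa [c.w f] at this

end main2

end Groth.Agent.Lib.Helper24.GrpLimit
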