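import Groth.Agent.Lib.Helper24.Lim8FPMain
import Groth.Agent.Lib.Helper24.Lim8DescendFinite

/-!
# Descent of quasi-coherent ideal sheaves of finite type along cofiltered limits (helper24)
-/

set_option autoImplicit false

universe u

open CategoryTheory CategoryTheory.Limits AlgebraicGeometry

namespace Groth.Agent.Lib.Helper24.IdealFGDescend

open Groth.Agent.Lib.Helper24.Lim8

lemma ker_fg_of_finitePresentation_of_surjective {A B : Type*} [CommRing A] [CommRing B]
    (φ : A →+* B) (h : φ.FinitePresentation) (hs : Function.Surjective φ) :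
    (RingHom.ker φ).FG := by
  algebraize [φ]
  exact Algebra.FinitePresentation.ker_fG_of_surjective (Algebra.ofId A B) hs

/-- The closed subscheme of an ideal sheaf of finite type is locally of finite presentation. -/
lemma locallyOfFinitePresentation_subschemeι {X : Scheme.{u}} (J : X.IdealSheafData)
    (hJ : ∀ U : X.affineOpens, (J.ideal U).FG) : LocallyOfFinitePresentation J.subschemeι := by
  rw [HasRingHomProperty.iff_exists_appLE (P := @LocallyOfFinitePresentation)
    (RingHom.finitePresentation_stableUnderComposition.stableUnderCompositionWithLocalizationAway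
      RingHom.finitePresentation_holdsForLocalizationAway).left]
  intro x
  obtain ⟨_, ⟨U, hU, rfl⟩, hxU, -⟩ := X.isBasis_affineOpens.exists_subset_of_mem_open
    (Set.mem_univ (J.subschemeι x)) isOpen_univ
  have hV : IsAffineOpen (J.subschemeι ⁻¹ᵁ U) := hU.preimage J.subschemeι
  refine ⟨⟨U, hU⟩, ⟨_, hV⟩, hxU, le_rfl, ?_⟩
  rw [← Scheme.Hom.app_eq_appLE, J.subschemeι_app ⟨U, hU⟩, CommRingCat.hom_comp]
  refine RingHom.FinitePresentation.comp (RingHom.FinitePresentation.of_bijective
    (J.subschemeObjIso ⟨U, hU⟩).symm.commRingCatIsoToRingEquiv.bijective) ?_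
  refine RingHom.FinitePresentation.of_surjective _ Ideal.Quotient.mk_surjective ?_
  change (RingHom.ker (Ideal.Quotient.mk (J.ideal ⟨U, hU⟩))).FG
  rw [Ideal.mk_ker]
  exact hJ ⟨U, hU⟩

/-- The kernel of a closed immersion locally of finite presentation is of finite type. -/
lemma ker_ideal_fg {X Y : Scheme.{u}} (f : X ⟶ Y) [IsClosedImmersion f]
    [LocallyOfFinitePresentation f] (U : Y.affineOpens) : (f.ker.ideal U).FG := by
  rw [Scheme.Hom.ker_apply]
  have hsurj := f.app_surjective U.1 U.2
  have hfp : (f.app U.1).hom.FinitePresentation := by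
    rw [Scheme.Hom.app_eq_appLE]
    exact Scheme.Hom.finitePresentation_appLE f U.2 (U.2.preimage f) le_rfl
  exact ker_fg_of_finitePresentation_of_surjective _ hfp hsurj

variable {I : Type u} [SmallCategory I] [IsCofiltered I] (D : I ⥤ Scheme.{u}) (c : Cone D)
  (hc : IsLimit c) [∀ {i j} (f : i ⟶ j), IsAffineHom (D.map f)]
  [∀ i, CompactSpace (D.obj i)] [∀ i, QuasiSeparatedSpace (D.obj i)]

include hc in
theorem exists_idealSheaf_fg_descend (J : c.pt.IdealSheafData)
    (hJ : ∀ U : c.pt.affineOpens, (J.ideal U).FG) :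
    ∃ (i : I) (Ji : (D.obj i).IdealSheafData), (∀ U : (D.obj i).affineOpens, (Ji.ideal U).FG) ∧
      Ji.comap (c.π.app i) = J := by
  haveI := locallyOfFinitePresentation_subschemeι J hJ
  obtain ⟨l, M, hM⟩ := Model.exists_isFP hc J.subschemeι
  haveI := hM.lfp
  haveI := hM.compact
  haveI := hM.qs
  have hcl : IsClosedImmersion (bcMap (c.π.app l) M.fi (𝟙 (D.obj l))) := by
    have hY : IsPullback (c.π.app l) (𝟙 c.pt) (𝟙 (D.obj l)) (c.π.app l) :=
      IsPullback.id_vert _
    obtain ⟨eX, eY, h1, -⟩ := exists_iso_bcMap hY M.sq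
    have : bcMap (c.π.app l) M.fi (𝟙 (D.obj l)) = eX.inv ≫ J.subschemeι ≫ eY.hom := by
      rw [h1, Iso.inv_hom_id_assoc]
    rw [this]
    infer_instance
  obtain ⟨j, φ, hj⟩ := descends_isClosedImmersion D c hc l M.fi (𝟙 _) hcl
  haveI hfj : IsClosedImmersion (pullback.fst (D.map φ) M.fi) := by
    have hY : IsPullback (D.map φ) (𝟙 (D.obj j)) (𝟙 (D.obj l)) (D.map φ) :=
      IsPullback.id_vert _
    obtain ⟨eX, eY, h1, h2, -⟩ := exists_iso_bcMap hY
      (IsPullback.of_hasPullback (D.map φ) M.fi).flip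
    have e2 : eY.hom = inv (pullback.fst (D.map φ) (𝟙 (D.obj l))) := by
      rw [← cancel_mono (pullback.fst (D.map φ) (𝟙 (D.obj l))), h2, IsIso.inv_hom_id]
    have : pullback.fst (D.map φ) M.fi =
        eX.hom ≫ bcMap (D.map φ) M.fi (𝟙 (D.obj l)) ≫ eY.inv := by
      rw [← Category.assoc, ← h1, Category.assoc, Iso.hom_inv_id, Category.comp_id]
    rw [this]
    infer_instance
  refine ⟨j, (pullback.fst (D.map φ) M.fi).ker, fun U ↦ ker_ideal_fg _ U, ?_⟩
  have sq := (M.rebase φ).sq
  rw [← Scheme.IdealSheafData.ker_fst_of_isClosedImmersion (pullback.fst (D.map φ) M.fi)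
    (c.π.app j)]
  have e : J.subschemeι = sq.flip.isoPullback.hom ≫
      pullback.fst (c.π.app j) (pullback.fst (D.map φ) M.fi) := sq.flip.isoPullback_hom_fst.symm
  conv_rhs => rw [← J.ker_subschemeι, e]
  rw [Scheme.Hom.ker_comp_of_isIso]

end Groth.Agent.Lib.Helper24.IdealFGDescend
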