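import Groth.Agent.Lib.Helper24.Lim8
import Mathlib.CategoryTheory.Filtered.Connected

/-!
# Base change of a system of schemes over a base `B` along `f₀ : X₀ ⟶ B` (helper24)

For `F : J ⥤ Scheme`, `t : F ⟶ const B` and `f₀ : X₀ ⟶ B`:
* `obDiagram F t f₀ : J ⥤ Scheme`, `j ↦ F.obj j ×[B] X₀`;
* `obCone F t cF s hs f₀` with point `cF.pt ×[B] X₀`, limit when `cF` is (`isLimitObCone`);
* `exists_isIso_pullback_fst_of_qcqs`: if `f₀` is of finite presentation, all `F.obj j` are qcqs and
  the base change of `f₀` to the limit is an isomorphism, then so is the base change to some stage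
  (EGA IV 8.10.5 (i)).
-/

set_option autoImplicit false

universe u

open CategoryTheory CategoryTheory.Limits AlgebraicGeometry

namespace Groth.Agent.Lib.Helper24.Lim8

variable {J : Type u} [Category.{u} J] (F : J ⥤ Scheme.{u}) {B : Scheme.{u}}
  (t : F ⟶ (Functor.const J).obj B) (cF : Cone F)

set_option backward.isDefEq.respectTransparency false in
/-- The base change of the system `F` over `B` along `f₀ : X₀ ⟶ B`. -/
@[simps] noncomputable
def obDiagram {X₀ : Scheme.{u}} (f₀ : X₀ ⟶ B) : J ⥤ Scheme.{u} where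
  obj j := pullback (t.app j) f₀
  map {j k} φ := pullback.map (t.app j) f₀ (t.app k) f₀ (F.map φ) (𝟙 _) (𝟙 _)
    (by simpa using (t.naturality φ).symm) (by simp)
  map_id j := by
    apply pullback.hom_ext <;> simp [pullback.map]
  map_comp f g := by
    apply pullback.hom_ext <;> simp [pullback.map]

set_option backward.isDefEq.respectTransparency false in
/-- The projection from the base-changed system to the original one. -/
@[simps] noncomputable
def obDiagramι {X₀ : Scheme.{u}} (f₀ : X₀ ⟶ B) : obDiagram F t f₀ ⟶ F where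
  app j := pullback.fst _ _
  naturality j k f := by simp [pullback.map]

variable {F t} in
set_option backward.isDefEq.respectTransparency false in
/-- The cone over the base-changed system with point `cF.pt ×[B] X₀`. -/
@[simps] noncomputable
def obCone (s : cF.pt ⟶ B) (hs : ∀ j, cF.π.app j ≫ t.app j = s) {X₀ : Scheme.{u}}
    (f₀ : X₀ ⟶ B) : Cone (obDiagram F t f₀) where
  pt := pullback s f₀
  π :=
  { app j := pullback.map s f₀ (t.app j) f₀ (cF.π.app j) (𝟙 _) (𝟙 _)
      (by rw [Category.comp_id, hs]) (by simp)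
    naturality j k f := by
      apply pullback.hom_ext <;> simp [pullback.map] }

variable {F t} in
set_option backward.isDefEq.respectTransparency false in
lemma isPullback_obCone_π (s : cF.pt ⟶ B) (hs : ∀ j, cF.π.app j ≫ t.app j = s)
    {X₀ : Scheme.{u}} (f₀ : X₀ ⟶ B) (j : J) :
    IsPullback ((obCone cF s hs f₀).π.app j) (pullback.fst _ _) (pullback.fst _ _)
      (cF.π.app j) := by
  refine IsPullback.of_right ?_ (by simp [pullback.map])
    (IsPullback.of_hasPullback (t.app j) f₀).flip
  have h2 : (obCone cF s hs f₀).π.app j ≫ pullback.snd (t.app j) f₀ =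
      pullback.snd s f₀ := by
    simp [pullback.map]
  rw [hs j, h2]
  exact (IsPullback.of_hasPullback s f₀).flip

set_option backward.isDefEq.respectTransparency false in
lemma isPullback_obDiagram_map {X₀ : Scheme.{u}} (f₀ : X₀ ⟶ B) {j k : J} (φ : j ⟶ k) :
    IsPullback ((obDiagram F t f₀).map φ) (pullback.fst _ _) (pullback.fst _ _) (F.map φ) := by
  refine IsPullback.of_right ?_ (by simp [pullback.map])
    (IsPullback.of_hasPullback (t.app k) f₀).flip
  have h1 : F.map φ ≫ t.app k = t.app j := by simpa using t.naturality φ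
  have h2 : (obDiagram F t f₀).map φ ≫ pullback.snd (t.app k) f₀ =
      pullback.snd (t.app j) f₀ := by
    simp [pullback.map]
  rw [h1, h2]
  exact (IsPullback.of_hasPullback (t.app j) f₀).flip

variable {F t} in
set_option backward.isDefEq.respectTransparency false in
/-- The base change of a limit cone is a limit cone of the base-changed system. -/
noncomputable
def isLimitObCone [IsCofiltered J] (hcF : IsLimit cF) (s : cF.pt ⟶ B)
    (hs : ∀ j, cF.π.app j ≫ t.app j = s) {X₀ : Scheme.{u}} (f₀ : X₀ ⟶ B) :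
    IsLimit (obCone cF s hs f₀) :=
  have : IsConnected J := IsCofiltered.isConnected J
  isLimitOfIsPullbackOfIsConnected (obDiagramι F t f₀) _ _
    (by exact { hom := pullback.fst _ _ })
    (fun j ↦ isPullback_obCone_π cF s hs f₀ j) hcF

instance [∀ {i j} (f : i ⟶ j), IsAffineHom (F.map f)] {X₀ : Scheme.{u}} (f₀ : X₀ ⟶ B)
    {j k : J} (φ : j ⟶ k) : IsAffineHom ((obDiagram F t f₀).map φ) :=
  MorphismProperty.of_isPullback (isPullback_obDiagram_map F t f₀ φ).flip inferInstance

variable {F t cF} in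
set_option backward.isDefEq.respectTransparency false in
/-- EGA IV 8.10.5 (i) in the qcqs case over a base: if `f₀ : X₀ ⟶ B` is locally of finite
presentation and quasi-compact, the stages are qcqs and the base change of `f₀` to the limit is an
isomorphism, then so is its base change to some stage. -/
lemma exists_isIso_pullback_fst_of_qcqs [IsCofiltered J]
    [∀ {i j} (f : i ⟶ j), IsAffineHom (F.map f)]
    [∀ j, CompactSpace (F.obj j)] [∀ j, QuasiSeparatedSpace (F.obj j)]
    (hcF : IsLimit cF) (s : cF.pt ⟶ B) (hs : ∀ j, cF.π.app j ≫ t.app j = s)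
    {X₀ : Scheme.{u}} (f₀ : X₀ ⟶ B) [LocallyOfFinitePresentation f₀] [QuasiCompact f₀]
    [IsIso (pullback.fst s f₀)] : ∃ j, IsIso (pullback.fst (t.app j) f₀) := by
  set H := inv (pullback.fst s f₀) with hH
  set a := H ≫ pullback.snd s f₀ with ha_def
  have ha : a ≫ f₀ = s := by
    rw [ha_def, Category.assoc, ← pullback.condition, ← Category.assoc, hH, IsIso.inv_hom_id,
      Category.id_comp]
  obtain ⟨j, h₀, hh₀, hh₀'⟩ := Scheme.exists_π_app_comp_eq_of_locallyOfFinitePresentation F t f₀
    cF hcF a (by ext j : 2; simp [hs, ha])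
  -- the `X`-system
  have hcpt : ∀ j, CompactSpace ((obDiagram F t f₀).obj j) := fun j ↦
    QuasiCompact.compactSpace_of_compactSpace (pullback.fst (t.app j) f₀)
  have hab : (obCone cF s hs f₀).π.app j ≫ pullback.fst (t.app j) f₀ ≫ h₀ =
      (obCone cF s hs f₀).π.app j ≫ pullback.snd (t.app j) f₀ := by
    have e1 : (obCone cF s hs f₀).π.app j ≫ pullback.fst (t.app j) f₀ =
        pullback.fst s f₀ ≫ cF.π.app j := by simp [pullback.map]
    have e2 : (obCone cF s hs f₀).π.app j ≫ pullback.snd (t.app j) f₀ =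
        pullback.snd s f₀ := by simp [pullback.map]
    rw [← Category.assoc, e1, Category.assoc, hh₀, e2, ha_def, ← Category.assoc, hH,
      IsIso.hom_inv_id, Category.id_comp]
  obtain ⟨k, θ, hk⟩ := Scheme.exists_hom_comp_eq_comp_of_locallyOfFiniteType
    (obDiagram F t f₀) (obDiagramι F t f₀ ≫ t) f₀ (obCone cF s hs f₀)
    (isLimitObCone cF hcF s hs f₀) (i := j)
    (pullback.fst (t.app j) f₀ ≫ h₀) (pullback.snd (t.app j) f₀)
    (by simp [hh₀']) (by simp [pullback.condition]) hab
  refine ⟨k, ?_⟩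
  have hnat : F.map θ ≫ t.app j = t.app k := by simpa using t.naturality θ
  refine ⟨pullback.lift (𝟙 _) (F.map θ ≫ h₀) (by rw [Category.id_comp, Category.assoc, hh₀',
    hnat]), ?_, pullback.lift_fst _ _ _⟩
  apply pullback.hom_ext
  · rw [Category.assoc, pullback.lift_fst, Category.comp_id, Category.id_comp]
  · rw [Category.assoc, pullback.lift_snd, Category.id_comp]
    have e3 : (obDiagram F t f₀).map θ ≫ pullback.fst (t.app j) f₀ =
        pullback.fst (t.app k) f₀ ≫ F.map θ := by simp [pullback.map]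
    have e4 : (obDiagram F t f₀).map θ ≫ pullback.snd (t.app j) f₀ =
        pullback.snd (t.app k) f₀ := by simp [pullback.map]
    rw [← Category.assoc, ← e3, Category.assoc, hk, e4]

section iso_local

variable {T' T B' X₀ : Scheme.{u}}

set_option backward.isDefEq.respectTransparency false in
lemma isPullback_pullback_fst_comp (u : T' ⟶ T) (s : T ⟶ B') (f₀ : X₀ ⟶ B') :
    IsPullback (pullback.map (u ≫ s) f₀ s f₀ u (𝟙 _) (𝟙 _) (by simp) (by simp))
      (pullback.fst (u ≫ s) f₀) (pullback.fst s f₀) u := by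
  refine IsPullback.of_right ?_ (by simp [pullback.map]) (IsPullback.of_hasPullback s f₀).flip
  have h2 : pullback.map (u ≫ s) f₀ s f₀ u (𝟙 _) (𝟙 _) (by simp) (by simp) ≫
      pullback.snd s f₀ = pullback.snd (u ≫ s) f₀ := by simp [pullback.map]
  rw [h2]
  exact (IsPullback.of_hasPullback (u ≫ s) f₀).flip

lemma isIso_pullback_fst_comp (u : T' ⟶ T) (s : T ⟶ B') (f₀ : X₀ ⟶ B')
    [IsIso (pullback.fst s f₀)] : IsIso (pullback.fst (u ≫ s) f₀) :=
  (isPullback_pullback_fst_comp u s f₀).isIso_snd_of_isIso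

lemma isIso_pullback_fst_of_iSup_eq_top (s : T ⟶ B') (f₀ : X₀ ⟶ B') {ι : Type*}
    (U : ι → T.Opens) (hU : ⨆ a, U a = ⊤)
    (h : ∀ a, IsIso (pullback.fst ((U a).ι ≫ s) f₀)) : IsIso (pullback.fst s f₀) := by
  change MorphismProperty.isomorphisms Scheme _
  rw [IsZariskiLocalAtTarget.iff_of_iSup_eq_top (P := MorphismProperty.isomorphisms Scheme) U hU]
  intro a
  change IsIso _
  have h1 := (isPullback_morphismRestrict (pullback.fst s f₀) (U a)).flip
  have h2 := isPullback_pullback_fst_comp (U a).ι s f₀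
  let e := h1.isoIsPullback _ _ h2
  have he : pullback.fst s f₀ ∣_ U a = e.hom ≫ pullback.fst ((U a).ι ≫ s) f₀ := by
    simp [e]
  rw [he]
  have := h a
  infer_instance

end iso_local

variable {F t cF} in
set_option backward.isDefEq.respectTransparency false in
/-- EGA IV 8.10.5 (i) over a base, quasi-compact stages: if `f₀ : X₀ ⟶ B` is locally of finite
presentation and quasi-compact, the stages are quasi-compact and the base change of `f₀` to the
limit is an isomorphism, then so is its base change to some stage. -/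
lemma exists_isIso_pullback_fst [IsCofiltered J]
    [∀ {i j} (f : i ⟶ j), IsAffineHom (F.map f)] [∀ j, CompactSpace (F.obj j)]
    (hcF : IsLimit cF) (s : cF.pt ⟶ B) (hs : ∀ j, cF.π.app j ≫ t.app j = s)
    {X₀ : Scheme.{u}} (f₀ : X₀ ⟶ B) [LocallyOfFinitePresentation f₀] [QuasiCompact f₀]
    [IsIso (pullback.fst s f₀)] : ∃ j, IsIso (pullback.fst (t.app j) f₀) := by
  classical
  obtain ⟨j₀⟩ := IsCofiltered.nonempty (C := J)
  obtain ⟨𝒰, h𝒰, hcov⟩ := isCompact_and_isOpen_iff_finite_and_eq_biUnion_affineOpens.mp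
    ⟨(isCompact_univ : IsCompact (Set.univ : Set (F.obj j₀))), isOpen_univ⟩
  -- the affine case on each member of the cover
  have key : ∀ U : (F.obj j₀).affineOpens, ∃ j : Over j₀,
      IsIso (pullback.fst ((F.map j.hom ⁻¹ᵁ U.1).ι ≫ t.app j.left) f₀) := by
    intro U
    have haff (j : Over j₀) : IsAffine ((opensDiagram F j₀ U.1).obj j) := U.2.preimage (F.map _)
    have : IsIso (pullback.fst ((cF.π.app j₀ ⁻¹ᵁ U.1).ι ≫ s) f₀) :=
      isIso_pullback_fst_comp _ s f₀
    obtain ⟨j, hj⟩ := exists_isIso_pullback_fst_of_qcqs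
      (F := opensDiagram F j₀ U.1) (cF := opensCone F cF j₀ U.1)
      (t := opensDiagramι F j₀ U.1 ≫ (Over.forget j₀).whiskerLeft t)
      (isLimitOpensCone F cF hcF j₀ U.1) ((cF.π.app j₀ ⁻¹ᵁ U.1).ι ≫ s)
      (fun j ↦ by simp [opensCone, opensDiagramι, hs]) f₀
    exact ⟨j, hj⟩
  choose jU hjU using key
  obtain ⟨k, hk⟩ := IsCofiltered.inf_objs_exists (h𝒰.toFinset.image jU)
  refine ⟨k.left, ?_⟩
  refine isIso_pullback_fst_of_iSup_eq_top (t.app k.left) f₀
    (fun U : 𝒰 ↦ F.map k.hom ⁻¹ᵁ U.1.1) ?_ fun U ↦ ?_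
  · rw [← Scheme.Hom.preimage_iSup, eq_top_iff]
    rintro x -
    have hx : F.map k.hom x ∈ ⋃ i ∈ 𝒰, ((i : (F.obj j₀).Opens) : Set (F.obj j₀)) :=
      hcov ▸ Set.mem_univ _
    obtain ⟨V, hV, hxV⟩ := Set.mem_iUnion₂.mp hx
    exact TopologicalSpace.Opens.mem_iSup.mpr ⟨⟨V, hV⟩, hxV⟩
  · obtain ⟨θ⟩ : Nonempty (k ⟶ jU U.1) :=
      hk (Finset.mem_image.mpr ⟨U.1, h𝒰.mem_toFinset.mpr U.2, rfl⟩)
    have := hjU U.1
    have e : (opensDiagram F j₀ U.1.1).map θ ≫ (F.map (jU U.1).hom ⁻¹ᵁ U.1.1).ι ≫
        t.app (jU U.1).left = (F.map k.hom ⁻¹ᵁ U.1.1).ι ≫ t.app k.left := by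
      have hnat : F.map θ.left ≫ t.app (jU U.1).left = t.app k.left := by
        simpa using t.naturality θ.left
      have h3 := (opensDiagramι F j₀ U.1.1).naturality θ
      simp only [opensDiagramι, Functor.comp_map, Over.forget_map] at h3
      rw [← Category.assoc, h3, Category.assoc, hnat]
    rw [← e]
    exact isIso_pullback_fst_comp _ _ f₀

end Groth.Agent.Lib.Helper24.Lim8
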