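import Groth.Agent.Lib.Helper24.Lim8BC
import Groth.Agent.Lib.Helper24.Lim8Over
import Groth.Agent.Lib.Helper24.LfpOfComp

/-!
# Descent of isomorphisms along cofiltered limits (EGA IV 8.10.5 (i)) (helper24)
-/

set_option autoImplicit false

universe u

open CategoryTheory CategoryTheory.Limits AlgebraicGeometry

namespace Groth.Agent.Lib.Helper24.Lim8

variable {I : Type u} [Category.{u} I] (D : I ⥤ Scheme.{u}) (c : Cone D) (hc : IsLimit c)

set_option backward.isDefEq.respectTransparency false in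
/-- The projections of the base-changed system `Y_j = S_j ×[S_{i₀}] Y₀` to `Y₀`. -/
@[simps] noncomputable
def pbDiagramSnd (i₀ : I) {Y₀ : Scheme.{u}} (g₀ : Y₀ ⟶ D.obj i₀) :
    pbDiagram D i₀ g₀ ⟶ (Functor.const (Over i₀)).obj Y₀ where
  app j := pullback.snd _ _
  naturality j k θ := by simp [pbDiagram, pullback.map]

set_option backward.isDefEq.respectTransparency false in
lemma pbCone_π_app_snd (i₀ : I) {Y₀ : Scheme.{u}} (g₀ : Y₀ ⟶ D.obj i₀) (j : Over i₀) :
    (pbCone D c i₀ g₀).π.app j ≫ (pbDiagramSnd D i₀ g₀).app j =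
      pullback.snd (c.π.app i₀) g₀ := by
  simp [pbCone, pullback.map]

include hc in
/-- If the base change of `f₀ : X₀ ⟶ Y₀` to the limit is an isomorphism, so is its base change to
some stage (`Y₀` of finite type and quasi-separated over a quasi-compact stage, `X₀` of finite
presentation over it). -/
lemma exists_isIso_bcMap [IsCofiltered I] [∀ {i j} (f : i ⟶ j), IsAffineHom (D.map f)]
    (i₀ : I) [CompactSpace (D.obj i₀)] {X₀ Y₀ : Scheme.{u}} (f₀ : X₀ ⟶ Y₀) (g₀ : Y₀ ⟶ D.obj i₀)
    [LocallyOfFiniteType g₀] [QuasiCompact g₀] [QuasiSeparated g₀]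
    [LocallyOfFinitePresentation (f₀ ≫ g₀)] [QuasiCompact (f₀ ≫ g₀)]
    [IsIso (bcMap (c.π.app i₀) f₀ g₀)] :
    ∃ (j : I) (φ : j ⟶ i₀), IsIso (bcMap (D.map φ) f₀ g₀) := by
  have hqc : QuasiCompact f₀ := QuasiCompact.of_comp f₀ g₀
  have hlfp : LocallyOfFinitePresentation f₀ :=
    Groth.Agent.Lib.Helper24.locallyOfFinitePresentation_of_comp f₀ g₀
  have hcpt : ∀ j : Over i₀, CompactSpace ((pbDiagram D i₀ g₀).obj j) := fun j ↦ by
    have : CompactSpace (D.obj j.left) := compactSpace_of_hom D j.hom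
    have : QuasiCompact (pullback.fst (D.map j.hom) g₀) :=
      MorphismProperty.pullback_fst (P := @QuasiCompact) _ _ inferInstance
    change CompactSpace ↥(pullback (D.map j.hom) g₀)
    exact QuasiCompact.compactSpace_of_compactSpace (pullback.fst (D.map j.hom) g₀)
  have hpb := isPullback_bcMap (c.π.app i₀) f₀ g₀
  let s : (pbCone D c i₀ g₀).pt ⟶ Y₀ := pullback.snd (c.π.app i₀) g₀
  have : IsIso (pullback.fst s f₀) := by
    have h1 : IsIso (pullback.fst (pullback.snd (c.π.app i₀) g₀) f₀) := by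
      rw [← hpb.flip.isoPullback_inv_fst]; infer_instance
    exact h1
  obtain ⟨j, hj⟩ := exists_isIso_pullback_fst (F := pbDiagram D i₀ g₀)
    (t := pbDiagramSnd D i₀ g₀) (cF := pbCone D c i₀ g₀) (isLimitPbCone D c hc i₀ g₀)
    s (pbCone_π_app_snd D c i₀ g₀) f₀
  refine ⟨j.left, j.hom, ?_⟩
  have hpbj := isPullback_bcMap (D.map j.hom) f₀ g₀
  rw [← hpbj.flip.isoPullback_hom_fst]
  have : IsIso (pullback.fst (pullback.snd (D.map j.hom) g₀) f₀) := hj
  infer_instance

end Groth.Agent.Lib.Helper24.Lim8
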