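import Groth.Agent.Lib.Helper24.Lim8Over
import Groth.Agent.Lib.Helper24.Lim8IsoDescent
import Groth.Agent.Lib.Helper24.ResidueLimitScheme
import Groth.Agent.Lib.Helper24.DirColim

/-!
# Geometrically isomorphic schemes of finite type become isomorphic over a finite extension
(EGA IV 9.1.x / 8.10.5 application) (helper24)
-/

set_option autoImplicit false

universe u

open CategoryTheory CategoryTheory.Limits AlgebraicGeometry Opposite

namespace Groth.Agent.Lib.Helper24.IsoFiniteExt

open Groth.Agent.Lib.Helper24.Lim8 Groth.Agent.Lib.Helper24.DirColim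
open Groth.Agent.Lib.Helper24.ResidueLimit

section general

/-! ### Base change along `T ⟶ Spec A ⟶ B` in two steps -/

variable {B SA T X Y : Scheme.{u}} (kA : SA ⟶ B) (p : X ⟶ B) (q : Y ⟶ B)
  (τ : T ⟶ SA) (ρ : T ⟶ B) (hρ : τ ≫ kA = ρ)

/-- `X_T ⟶ X_A`. -/
noncomputable def qX : pullback p ρ ⟶ pullback kA p :=
  pullback.lift (pullback.snd p ρ ≫ τ) (pullback.fst p ρ)
    (by rw [Category.assoc, hρ, pullback.condition])

@[reassoc (attr := simp)]
lemma qX_fst : qX kA p τ ρ hρ ≫ pullback.fst kA p = pullback.snd p ρ ≫ τ :=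
  pullback.lift_fst _ _ _

@[reassoc (attr := simp)]
lemma qX_snd : qX kA p τ ρ hρ ≫ pullback.snd kA p = pullback.fst p ρ :=
  pullback.lift_snd _ _ _

lemma isPullback_qX :
    IsPullback (qX kA p τ ρ hρ) (pullback.snd p ρ) (pullback.fst kA p) τ := by
  refine IsPullback.of_right ?_ (qX_fst kA p τ ρ hρ) (IsPullback.of_hasPullback kA p).flip
  rw [qX_snd, hρ]
  exact IsPullback.of_hasPullback p ρ

variable (g : pullback kA p ⟶ Y) (hg : g ≫ q = pullback.fst kA p ≫ kA)

/-- The stage morphism `X_A ⟶ Y_A`. -/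
noncomputable def eA : pullback kA p ⟶ pullback kA q :=
  pullback.lift (pullback.fst kA p) g hg.symm

@[reassoc (attr := simp)]
lemma eA_fst : eA kA p q g hg ≫ pullback.fst kA q = pullback.fst kA p := pullback.lift_fst _ _ _

@[reassoc (attr := simp)]
lemma eA_snd : eA kA p q g hg ≫ pullback.snd kA q = g := pullback.lift_snd _ _ _

/-- The morphism `X_T ⟶ Y_T` induced by `g`. -/
noncomputable def eps : pullback p ρ ⟶ pullback q ρ :=
  pullback.lift (qX kA p τ ρ hρ ≫ g) (pullback.snd p ρ)
    (by rw [Category.assoc, hg, qX_fst_assoc, hρ])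

@[reassoc (attr := simp)]
lemma eps_fst : eps kA p q τ ρ hρ g hg ≫ pullback.fst q ρ = qX kA p τ ρ hρ ≫ g :=
  pullback.lift_fst _ _ _

@[reassoc (attr := simp)]
lemma eps_snd : eps kA p q τ ρ hρ g hg ≫ pullback.snd q ρ = pullback.snd p ρ :=
  pullback.lift_snd _ _ _

lemma eps_comp_qX :
    eps kA p q τ ρ hρ g hg ≫ qX kA q τ ρ hρ = qX kA p τ ρ hρ ≫ eA kA p q g hg := by
  apply pullback.hom_ext
  · rw [Category.assoc, qX_fst, eps_snd_assoc, Category.assoc, eA_fst, qX_fst]
  · rw [Category.assoc, qX_snd, eps_fst, Category.assoc, eA_snd]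

lemma isPullback_eps :
    IsPullback (qX kA p τ ρ hρ) (eps kA p q τ ρ hρ g hg) (eA kA p q g hg) (qX kA q τ ρ hρ) := by
  refine (IsPullback.of_right ?_ (eps_comp_qX kA p q τ ρ hρ g hg)
    (isPullback_qX kA q τ ρ hρ).flip).flip
  rw [eps_snd, eA_fst]
  exact (isPullback_qX kA p τ ρ hρ).flip

lemma isIso_eps_iff :
    IsIso (eps kA p q τ ρ hρ g hg) ↔ IsIso (bcMap τ (eA kA p q g hg) (pullback.fst kA q)) := by
  obtain ⟨eX, eY, h1, -⟩ := exists_iso_bcMap (isPullback_qX kA q τ ρ hρ)
    (isPullback_eps kA p q τ ρ hρ g hg)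
  constructor
  · intro h
    have : bcMap τ (eA kA p q g hg) (pullback.fst kA q) =
        eX.inv ≫ eps kA p q τ ρ hρ g hg ≫ eY.hom := by
      rw [h1, Iso.inv_hom_id_assoc]
    rw [this]
    infer_instance
  · intro h
    have : eps kA p q τ ρ hρ g hg =
        eX.hom ≫ bcMap τ (eA kA p q g hg) (pullback.fst kA q) ≫ eY.inv := by
      rw [← Category.assoc, ← h1, Category.assoc, Iso.hom_inv_id, Category.comp_id]
    rw [this]
    infer_instance

end general

section field

variable (k K : Type u) [Field k] [Field K] [Algebra k K]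

/-- The system `Spec A`, `A` a finitely generated `k`-subalgebra of `K`. -/
noncomputable def D : (FGSub k K)ᵒᵖ ⥤ Scheme.{u} := (fgSubDiagram k K).op ⋙ Scheme.Spec

/-- The cone with point `Spec K`. -/
noncomputable def c : Cone (D k K) := Scheme.Spec.mapCone (fgSubCocone k K).op

/-- `Spec K` is the limit. -/
noncomputable def hc : IsLimit (c k K) :=
  isLimitOfPreserves Scheme.Spec (isColimitFgSubCocone k K).op

instance {i j : (FGSub k K)ᵒᵖ} (h : i ⟶ j) : IsAffineHom ((D k K).map h) := by
  dsimp [D]; infer_instance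

instance (i : (FGSub k K)ᵒᵖ) : IsAffine ((D k K).obj i) := by
  dsimp [D]; infer_instance

/-- The structure maps to `Spec k`. -/
noncomputable def t : D k K ⟶ (Functor.const _).obj (Spec (CommRingCat.of k)) where
  app i := Spec.map (CommRingCat.ofHom (algebraMap k i.unop.1))
  naturality i j h := by
    change Spec.map ((fgSubDiagram k K).map h.unop) ≫ Spec.map _ = Spec.map _ ≫ 𝟙 _
    rw [Category.comp_id, ← Spec.map_comp]
    rfl

lemma π_t (i : (FGSub k K)ᵒᵖ) :
    (c k K).π.app i ≫ (t k K).app i = Spec.map (CommRingCat.ofHom (algebraMap k K)) := by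
  change Spec.map ((fgSubCocone k K).ι.app i.unop) ≫ Spec.map _ = _
  rw [← Spec.map_comp]
  rfl

end field

section main

variable {k : Type u} [Field k] {X Y : Scheme.{u}}
  (p : X ⟶ Spec (CommRingCat.of k)) (q : Y ⟶ Spec (CommRingCat.of k))
  [LocallyOfFiniteType p] [QuasiCompact p] [LocallyOfFiniteType q] [QuasiCompact q]
  (K : Type u) [Field K] [Algebra k K]

set_option backward.isDefEq.respectTransparency false in
theorem exists_iso_finite_ext
    (e : pullback p (Spec.map (CommRingCat.ofHom (algebraMap k K))) ≅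
      pullback q (Spec.map (CommRingCat.ofHom (algebraMap k K))))
    (he : e.hom ≫ pullback.snd q (Spec.map (CommRingCat.ofHom (algebraMap k K))) =
      pullback.snd p (Spec.map (CommRingCat.ofHom (algebraMap k K)))) :
    ∃ (k' : Type u) (_ : Field k') (_ : Algebra k k') (_ : Module.Finite k k')
      (e' : pullback p (Spec.map (CommRingCat.ofHom (algebraMap k k'))) ≅
        pullback q (Spec.map (CommRingCat.ofHom (algebraMap k k')))),
      e'.hom ≫ pullback.snd q (Spec.map (CommRingCat.ofHom (algebraMap k k'))) =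
        pullback.snd p (Spec.map (CommRingCat.ofHom (algebraMap k k'))) := by
  haveI : IsLocallyNoetherian X := LocallyOfFiniteType.isLocallyNoetherian p
  haveI : CompactSpace X := QuasiCompact.compactSpace_of_compactSpace p
  haveI : IsNoetherian X := ⟨⟩
  haveI : IsLocallyNoetherian Y := LocallyOfFiniteType.isLocallyNoetherian q
  haveI : CompactSpace Y := QuasiCompact.compactSpace_of_compactSpace q
  haveI : IsNoetherian Y := ⟨⟩
  haveI : LocallyOfFinitePresentation p := inferInstance
  haveI : LocallyOfFinitePresentation q := inferInstance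
  haveI : QuasiSeparated p := inferInstance
  haveI : QuasiSeparated q := inferInstance
  generalize hσ : Spec.map (CommRingCat.ofHom (algebraMap k K)) = σ at e he
  have hs : ∀ j, (c k K).π.app j ≫ (t k K).app j = σ := fun j ↦ (π_t k K j).trans hσ
  have hcpt : ∀ j, CompactSpace ((obDiagram (D k K) (t k K) p).obj j) := fun j ↦
    QuasiCompact.compactSpace_of_compactSpace (pullback.fst ((t k K).app j) p)
  have hqs : ∀ j, QuasiSeparatedSpace ((obDiagram (D k K) (t k K) p).obj j) := fun j ↦
    quasiSeparatedSpace_of_quasiSeparated (pullback.fst ((t k K).app j) p)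
  let a : pullback σ p ⟶ Y := (pullbackSymmetry σ p).hom ≫ e.hom ≫ pullback.fst q σ
  have ha : a ≫ q = pullback.fst σ p ≫ σ := by
    simp only [a, Category.assoc, pullback.condition]
    rw [reassoc_of% he]
    simp only [pullbackSymmetry_hom_comp_snd_assoc]
    exact pullback.condition
  obtain ⟨j, g, hg1, hg2⟩ := Scheme.exists_π_app_comp_eq_of_locallyOfFinitePresentation
    (obDiagram (D k K) (t k K) p) (obDiagramι (D k K) (t k K) p ≫ t k K) q
    (obCone (c k K) σ hs p) (isLimitObCone (c k K) (hc k K) σ hs p) a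
    (by ext j : 2; simp [pullback.map, hs, ha])
  have hg2' : g ≫ q = pullback.fst ((t k K).app j) p ≫ (t k K).app j := by
    simpa using hg2
  have hqX : qX ((t k K).app j) p ((c k K).π.app j) σ (hs j) =
      (pullbackSymmetry p σ).hom ≫ (obCone (c k K) σ hs p).π.app j := by
    apply pullback.hom_ext <;> simp [obCone, pullback.map]
  have heps : eps ((t k K).app j) p q ((c k K).π.app j) σ (hs j) g hg2' = e.hom := by
    apply pullback.hom_ext
    · have hsym : (pullbackSymmetry p σ).hom ≫ (pullbackSymmetry σ p).hom = 𝟙 _ := by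
        apply pullback.hom_ext <;> simp
      rw [eps_fst, hqX, Category.assoc, hg1]
      simp only [a]
      rw [reassoc_of% hsym]
    · rw [eps_snd, he]
  haveI : IsIso (eps ((t k K).app j) p q ((c k K).π.app j) σ (hs j) g hg2') := by
    rw [heps]; infer_instance
  haveI : IsIso (bcMap ((c k K).π.app j) (eA ((t k K).app j) p q g hg2')
      (pullback.fst ((t k K).app j) q)) :=
    (isIso_eps_iff ((t k K).app j) p q ((c k K).π.app j) σ (hs j) g hg2').mp inferInstance
  haveI : LocallyOfFinitePresentation (eA ((t k K).app j) p q g hg2' ≫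
      pullback.fst ((t k K).app j) q) := by
    rw [eA_fst]; infer_instance
  haveI : QuasiCompact (eA ((t k K).app j) p q g hg2' ≫ pullback.fst ((t k K).app j) q) := by
    rw [eA_fst]; infer_instance
  obtain ⟨j', φ, hiso⟩ := exists_isIso_bcMap (D k K) (c k K) (hc k K) j
    (eA ((t k K).app j) p q g hg2') (pullback.fst ((t k K).app j) q)
  -- a closed point of `Spec A'`
  obtain ⟨m, hm⟩ := Ideal.exists_maximal j'.unop.1
  letI := Ideal.Quotient.field m
  haveI : Algebra.FiniteType k j'.unop.1 := (Subalgebra.fg_iff_finiteType _).mp j'.unop.2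
  haveI : Algebra.FiniteType k (j'.unop.1 ⧸ m) :=
    Algebra.FiniteType.of_surjective (Ideal.Quotient.mkₐ k m) (Ideal.Quotient.mkₐ_surjective k m)
  have hfin : Module.Finite k (j'.unop.1 ⧸ m) := finite_of_finite_type_of_isJacobsonRing k _
  let τ' : Spec (CommRingCat.of (j'.unop.1 ⧸ m)) ⟶ (D k K).obj j' :=
    Spec.map (CommRingCat.ofHom (Ideal.Quotient.mk m))
  have hρ' : (τ' ≫ (D k K).map φ) ≫ (t k K).app j =
      Spec.map (CommRingCat.ofHom (algebraMap k (j'.unop.1 ⧸ m))) := by
    have h1 : (D k K).map φ ≫ (t k K).app j = (t k K).app j' := by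
      simpa using (t k K).naturality φ
    rw [Category.assoc, h1]
    change Spec.map _ ≫ Spec.map _ = _
    rw [← Spec.map_comp]
    rfl
  have hiso' : IsIso (bcMap (τ' ≫ (D k K).map φ) (eA ((t k K).app j) p q g hg2')
      (pullback.fst ((t k K).app j) q)) :=
    bcMap_comp_of_bcMap (P := MorphismProperty.isomorphisms Scheme.{u}) _ _ ((D k K).map φ) τ' hiso
  haveI : IsIso (eps ((t k K).app j) p q (τ' ≫ (D k K).map φ) _ hρ' g hg2') :=
    (isIso_eps_iff ((t k K).app j) p q (τ' ≫ (D k K).map φ) _ hρ' g hg2').mpr hiso'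
  exact ⟨j'.unop.1 ⧸ m, Ideal.Quotient.field m, inferInstance, hfin,
    asIso (eps ((t k K).app j) p q (τ' ≫ (D k K).map φ) _ hρ' g hg2'),
    eps_snd ((t k K).app j) p q (τ' ≫ (D k K).map φ) _ hρ' g hg2'⟩

end main

end Groth.Agent.Lib.Helper24.IsoFiniteExt
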