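import Groth.Agent.Lib.Helper24.Lim8

/-!
# Base change of a morphism along a cofiltered system (helper24)

Given `f₀ : X₀ ⟶ Y₀` and `g₀ : Y₀ ⟶ B`, and `t : T ⟶ B`, the base change of `f₀` along `t` is
`bcMap t f₀ g₀ : pullback t (f₀ ≫ g₀) ⟶ pullback t g₀`.

* `isPullback_bcMap`: the square over `f₀` is cartesian.
* `bcMap_arrowIso`: any pair of cartesian squares gives an arrow isomorphic to `bcMap`.
* `isPullback_pbCone_π_bcMap`: for a limit cone `c` over `D`, the squares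
  `X ⟶ X_j`, `Y ⟶ Y_j` are cartesian.
* `isOpenMap_bcMap_of_eventually`.
-/

set_option autoImplicit false

universe u

open CategoryTheory CategoryTheory.Limits AlgebraicGeometry

namespace Groth.Agent.Lib.Helper24.Lim8

section bc

variable {B T X₀ Y₀ : Scheme.{u}} (t : T ⟶ B) (f₀ : X₀ ⟶ Y₀) (g₀ : Y₀ ⟶ B)

/-- The base change of `f₀ : X₀ ⟶ Y₀` (over `B` via `g₀`) along `t : T ⟶ B`. -/
noncomputable def bcMap : pullback t (f₀ ≫ g₀) ⟶ pullback t g₀ :=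
  pullback.map t (f₀ ≫ g₀) t g₀ (𝟙 _) f₀ (𝟙 _) (by simp) (by simp)

set_option backward.isDefEq.respectTransparency false in
@[reassoc (attr := simp)]
lemma bcMap_fst : bcMap t f₀ g₀ ≫ pullback.fst t g₀ = pullback.fst t (f₀ ≫ g₀) := by
  simp [bcMap, pullback.map]

set_option backward.isDefEq.respectTransparency false in
@[reassoc (attr := simp)]
lemma bcMap_snd : bcMap t f₀ g₀ ≫ pullback.snd t g₀ = pullback.snd t (f₀ ≫ g₀) ≫ f₀ := by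
  simp [bcMap, pullback.map]

lemma isPullback_bcMap :
    IsPullback (pullback.snd t (f₀ ≫ g₀)) (bcMap t f₀ g₀) f₀ (pullback.snd t g₀) := by
  refine IsPullback.of_bot ?_ (bcMap_snd t f₀ g₀).symm
    (IsPullback.of_hasPullback t g₀).flip
  rw [bcMap_fst]
  exact (IsPullback.of_hasPullback t (f₀ ≫ g₀)).flip

variable {t f₀ g₀}

/-- Any base change of `f₀` along `t` expressed by cartesian squares is isomorphic (as an arrow)
to `bcMap t f₀ g₀`. -/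
lemma exists_iso_bcMap {X Y : Scheme.{u}} {f : X ⟶ Y} {g : Y ⟶ T} {qY : Y ⟶ Y₀} {qX : X ⟶ X₀}
    (hY : IsPullback qY g g₀ t) (hX : IsPullback qX f f₀ qY) :
    ∃ (eX : X ≅ pullback t (f₀ ≫ g₀)) (eY : Y ≅ pullback t g₀),
      f ≫ eY.hom = eX.hom ≫ bcMap t f₀ g₀ ∧ eY.hom ≫ pullback.fst t g₀ = g ∧
      eY.hom ≫ pullback.snd t g₀ = qY ∧ eX.hom ≫ pullback.snd t (f₀ ≫ g₀) = qX ∧
      eX.hom ≫ pullback.fst t (f₀ ≫ g₀) = f ≫ g := by
  have hXY := (hX.paste_vert hY).flip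
  refine ⟨hXY.isoPullback, hY.flip.isoPullback, ?_, hY.flip.isoPullback_hom_fst,
    hY.flip.isoPullback_hom_snd, hXY.isoPullback_hom_snd, hXY.isoPullback_hom_fst⟩
  apply pullback.hom_ext
  · rw [Category.assoc, Category.assoc, bcMap_fst, hY.flip.isoPullback_hom_fst,
      hXY.isoPullback_hom_fst]
  · rw [Category.assoc, Category.assoc, bcMap_snd, hY.flip.isoPullback_hom_snd,
      hXY.isoPullback_hom_snd_assoc, hX.w]

end bc

variable {I : Type u} [Category.{u} I] (D : I ⥤ Scheme.{u}) (c : Cone D) (hc : IsLimit c)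

set_option backward.isDefEq.respectTransparency false in
/-- The square `X ⟶ X_j`, `Y ⟶ Y_j` is cartesian. -/
lemma isPullback_pbCone_π_bcMap (i₀ : I) {X₀ Y₀ : Scheme.{u}} (f₀ : X₀ ⟶ Y₀)
    (g₀ : Y₀ ⟶ D.obj i₀) (j : Over i₀) :
    IsPullback ((pbCone D c i₀ (f₀ ≫ g₀)).π.app j) (bcMap (c.π.app i₀) f₀ g₀)
      (bcMap (D.map j.hom) f₀ g₀) ((pbCone D c i₀ g₀).π.app j) := by
  refine IsPullback.of_bot ?_ ?_ (isPullback_pbCone_π D c i₀ g₀ j)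
  · rw [bcMap_fst, bcMap_fst]
    exact isPullback_pbCone_π D c i₀ (f₀ ≫ g₀) j
  · apply pullback.hom_ext <;> simp [pullback.map]

set_option backward.isDefEq.respectTransparency false in
/-- The square `X_j ⟶ X_k`, `Y_j ⟶ Y_k` is cartesian. -/
lemma isPullback_pbDiagram_map_bcMap (i₀ : I) {X₀ Y₀ : Scheme.{u}} (f₀ : X₀ ⟶ Y₀)
    (g₀ : Y₀ ⟶ D.obj i₀) {j k : Over i₀} (θ : j ⟶ k) :
    IsPullback ((pbDiagram D i₀ (f₀ ≫ g₀)).map θ) (bcMap (D.map j.hom) f₀ g₀)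
      (bcMap (D.map k.hom) f₀ g₀) ((pbDiagram D i₀ g₀).map θ) := by
  refine IsPullback.of_bot ?_ ?_ (isPullback_pbDiagram_map D i₀ g₀ θ)
  · rw [bcMap_fst, bcMap_fst]
    exact isPullback_pbDiagram_map D i₀ (f₀ ≫ g₀) θ
  · apply pullback.hom_ext <;> simp [pullback.map]

set_option backward.isDefEq.respectTransparency false in
include hc in
/-- If the base changes of `f₀` to the stages over some `i` are open maps, so is the base change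
to the limit (EGA IV 8.10.?). -/
lemma isOpenMap_bcMap_of_eventually [IsCofiltered I] [∀ {i j} (f : i ⟶ j), IsAffineHom (D.map f)]
    (i₀ : I) {X₀ Y₀ : Scheme.{u}} (f₀ : X₀ ⟶ Y₀) (g₀ : Y₀ ⟶ D.obj i₀)
    (h : ∃ (i : I) (φ : i ⟶ i₀), ∀ (j : I) (ψ : j ⟶ i),
      IsOpenMap (bcMap (D.map (ψ ≫ φ)) f₀ g₀)) :
    IsOpenMap (bcMap (c.π.app i₀) f₀ g₀) := by
  obtain ⟨i, φ, h⟩ := h
  have H : ∀ {U : (pbCone D c i₀ (f₀ ≫ g₀)).pt.Opens} {x : (pbCone D c i₀ (f₀ ≫ g₀)).pt},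
      x ∈ U → ∃ U' ∈ { ((pbCone D c i₀ (f₀ ≫ g₀)).π.app j ⁻¹ᵁ V :
        (pbCone D c i₀ (f₀ ≫ g₀)).pt.Opens) |
        (j : Over i₀) (V : ((pbDiagram D i₀ (f₀ ≫ g₀)).obj j).Opens) (_ : IsAffineOpen V) },
        x ∈ U' ∧ U' ≤ U :=
    TopologicalSpace.Opens.isBasis_iff_nbhd.mp
      (isBasis_preimage_isAffineOpen (pbDiagram D i₀ (f₀ ≫ g₀)) (pbCone D c i₀ (f₀ ≫ g₀))
        (isLimitPbCone D c hc i₀ (f₀ ≫ g₀)))
  intro U hU
  rw [isOpen_iff_forall_mem_open]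
  rintro _ ⟨x, hxU, rfl⟩
  obtain ⟨_, ⟨j, V, -, rfl⟩, hxV, hVU⟩ := H (U := ⟨U, hU⟩) hxU
  -- find `k = Over.mk (ψ ≫ φ)` over `j`
  obtain ⟨l, a, b, -⟩ := IsCofilteredOrEmpty.cone_objs j.left i
  obtain ⟨m, e, he⟩ := IsCofilteredOrEmpty.cone_maps (a ≫ j.hom) (b ≫ φ)
  let k : Over i₀ := Over.mk ((e ≫ b) ≫ φ)
  let θ : k ⟶ j := Over.homMk (e ≫ a) (by simp [k, he])
  have hsq := isPullback_pbCone_π_bcMap D c i₀ f₀ g₀ k
  have hopen : IsOpenMap (bcMap (D.map k.hom) f₀ g₀) := h m (e ≫ b)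
  set V' : Set ((pbDiagram D i₀ (f₀ ≫ g₀)).obj k) :=
    (pbDiagram D i₀ (f₀ ≫ g₀)).map θ ⁻¹' (V : Set ((pbDiagram D i₀ (f₀ ≫ g₀)).obj j)) with hV'
  have hV'o : IsOpen V' := V.2.preimage ((pbDiagram D i₀ (f₀ ≫ g₀)).map θ).continuous
  have hpre : ((pbCone D c i₀ (f₀ ≫ g₀)).π.app j ⁻¹' (V : Set _)) =
      (pbCone D c i₀ (f₀ ≫ g₀)).π.app k ⁻¹' V' := by
    ext y
    rw [hV', Set.mem_preimage, Set.mem_preimage, Set.mem_preimage, ← Scheme.Hom.comp_apply,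
      (pbCone D c i₀ (f₀ ≫ g₀)).w θ]
    rfl
  have himg : bcMap (c.π.app i₀) f₀ g₀ '' ((pbCone D c i₀ (f₀ ≫ g₀)).π.app k ⁻¹' V') =
      (pbCone D c i₀ g₀).π.app k ⁻¹' (bcMap (D.map k.hom) f₀ g₀ '' V') :=
    Scheme.image_preimage_eq_of_isPullback hsq V'
  refine ⟨(pbCone D c i₀ g₀).π.app k ⁻¹' (bcMap (D.map k.hom) f₀ g₀ '' V'), ?_,
    (hopen V' hV'o).preimage ((pbCone D c i₀ g₀).π.app k).continuous, ?_⟩
  · rw [← himg, ← hpre]
    exact Set.image_mono hVU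
  · rw [← himg, ← hpre]
    exact ⟨x, hxV, rfl⟩

end Groth.Agent.Lib.Helper24.Lim8
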