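import Groth.Agent.Lib.Helper24.Lim8CoverDescent
import Groth.Agent.Lib.Helper24.Lim8DescendFlat

/-!
# fppf coverings descend through cofiltered limits (helper24)
-/

set_option autoImplicit false

universe u

open CategoryTheory CategoryTheory.Limits AlgebraicGeometry

namespace Groth.Agent.Lib.Helper24.Lim8

variable {I : Type u} [SmallCategory I] [IsCofiltered I] (D : I ⥤ Scheme.{u}) (c : Cone D)
  (hc : IsLimit c) [∀ {i j} (f : i ⟶ j), IsAffineHom (D.map f)] (i₀ : I)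
  [CompactSpace (D.obj i₀)] [QuasiSeparatedSpace (D.obj i₀)]

include hc i₀ in
/-- **fppf coverings of finite presentation descend.** -/
theorem exists_descend_fppf_cover {ι : Type*} (U : ι → Scheme.{u}) (u : ∀ a, U a ⟶ c.pt)
    [∀ a, Flat (u a)] [∀ a, LocallyOfFinitePresentation (u a)] [∀ a, QuasiCompact (u a)]
    [∀ a, QuasiSeparated (u a)] (hcov : ∀ x : c.pt, ∃ (a : ι) (y : U a), u a y = x) :
    ∃ (i : I) (n : ℕ) (a : Fin n → ι) (M : ∀ j, Model D c i (u (a j))),
      (∀ j, Flat (M j).fi ∧ LocallyOfFinitePresentation (M j).fi ∧ QuasiCompact (M j).fi ∧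
        QuasiSeparated (M j).fi) ∧ ∀ x : D.obj i, ∃ (j : Fin n) (y : (M j).Xi),
        (M j).fi y = x := by
  have hc' : IsLimit (c.whisker (Over.forget i₀)) :=
    (Functor.Initial.isLimitWhiskerEquiv (Over.forget i₀) c).symm hc
  have : ∀ {i j : Over i₀} (f : i ⟶ j), IsAffineHom ((Over.forget i₀ ⋙ D).map f) := fun f ↦
    inferInstanceAs (IsAffineHom (D.map f.left))
  have hopen : ∀ {X Y : Scheme.{u}} (f : X ⟶ Y),
      (@Flat ⊓ @LocallyOfFinitePresentation : MorphismProperty Scheme.{u}) f →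
      IsOpen (Set.range f) := fun f hf ↦ by
    have := hf.1
    have := hf.2
    exact f.isOpenMap.isOpen_range
  have hdesc : ∀ (l : Over i₀) {X₀ : Scheme.{u}} (f₀ : X₀ ⟶ D.obj l.left),
      LocallyOfFinitePresentation f₀ → CompactSpace X₀ → QuasiSeparatedSpace X₀ →
      Descends (Over.forget i₀ ⋙ D) (c.whisker (Over.forget i₀))
        (@Flat ⊓ @LocallyOfFinitePresentation) l f₀ (𝟙 _) := fun l X₀ f₀ h1 h2 h3 hP ↦ by
    obtain ⟨j, φ, hj⟩ := descends_flat (Over.forget i₀ ⋙ D) (c.whisker (Over.forget i₀)) hc' l f₀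
      (𝟙 _) hP.1
    exact ⟨j, φ, hj, bcMap_of_isStableUnderBaseChange (P := @LocallyOfFinitePresentation) _ f₀ _ h1⟩
  obtain ⟨i, n, a, M, hM, hsurj⟩ := exists_descend_cover_of_stage D c hc i₀
    (P := @Flat ⊓ @LocallyOfFinitePresentation) hopen hdesc U u
    (fun a ↦ ⟨inferInstance, inferInstance⟩) hcov
  exact ⟨i, n, a, M, fun j ↦ ⟨(hM j).1.1, (hM j).2⟩, hsurj⟩

end Groth.Agent.Lib.Helper24.Lim8
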