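import Groth.Agent.Lib.Helper24.Lim8

/-!
# Separatedness of a cofiltered limit descends to a stage (Stacks 086Q / 0CUV-type)
-/

universe u

open CategoryTheory Limits AlgebraicGeometry

namespace Groth.Agent.Lib.Helper24.Lim8

section LemmaK

variable {X' X S : Scheme.{u}}

set_option backward.isDefEq.respectTransparency false in
/-- Key topological lemma: for `u : X' ⟶ X` separated, the part of the closure of the diagonal of
`X'/S` lying over the diagonal of `X/S` is the diagonal of `X'/S`. -/
lemma preimage_range_diagonal_inter_closure (u : X' ⟶ X) [IsSeparated u] (t : X ⟶ S)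
    (t' : X' ⟶ S) (h : t' = u ≫ t) :
    (pullback.map t' t' t t u u (𝟙 S) (by simp [h]) (by simp [h])) ⁻¹'
        Set.range (pullback.diagonal t) ∩ closure (Set.range (pullback.diagonal t')) ⊆
      Set.range (pullback.diagonal t') := by
  subst h
  have hpb := pullback_map_diagonal_isPullback u u t
  set w := pullback.map u u (u ≫ t) (u ≫ t) (𝟙 X') (𝟙 X') t (Category.id_comp _).symm
    (Category.id_comp _).symm with hw
  set m := pullback.map (u ≫ t) (u ≫ t) t t u u (𝟙 S) (Category.comp_id _) (Category.comp_id _)
    with hm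
  -- `m ⁻¹ (range Δ_t) = range w`
  have h1 : m ⁻¹' Set.range (pullback.diagonal t) = Set.range w := by
    have e1 : w = hpb.isoPullback.hom ≫ pullback.snd _ _ := by simp
    have hsurj : Function.Surjective hpb.isoPullback.hom :=
      hpb.isoPullback.hom.homeomorph.surjective
    rw [e1, Scheme.Hom.comp_base, TopCat.coe_comp, Set.range_comp,
      hsurj.range_eq, Set.image_univ, Scheme.Pullback.range_snd]
  -- `Δ_{u ≫ t} = Δ_u ≫ w`
  have h2 : pullback.diagonal (u ≫ t) = pullback.diagonal u ≫ w := by
    apply pullback.hom_ext <;> simp [hw]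
  have hwemb : Topology.IsEmbedding w := by
    have : IsImmersion w := MorphismProperty.of_isPullback (P := @IsImmersion) hpb inferInstance
    exact w.isEmbedding
  have hclosed : IsClosed (Set.range (pullback.diagonal u)) :=
    (pullback.diagonal u).isClosedEmbedding.isClosed_range
  obtain ⟨C, hC, hCw⟩ := hwemb.isInducing.isClosed_iff.mp hclosed
  have h3 : Set.range (pullback.diagonal (u ≫ t)) = C ∩ Set.range w := by
    rw [h2, Scheme.Hom.comp_base, TopCat.coe_comp, Set.range_comp, ← hCw,
      Set.image_preimage_eq_inter_range]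
  rintro p ⟨hp1, hp2⟩
  change p ∈ m ⁻¹' _ at hp1
  rw [h1] at hp1
  rw [h3]
  refine ⟨?_, hp1⟩
  have : closure (Set.range (pullback.diagonal (u ≫ t))) ⊆ C := by
    rw [h3]
    exact closure_minimal Set.inter_subset_left hC
  exact this hp2

end LemmaK

section ProdSystem

variable {I : Type u} [Category.{u} I] (D : I ⥤ Scheme.{u}) {S : Scheme.{u}}
  (τ : ∀ j, D.obj j ⟶ S) (hτ : ∀ {j k : I} (f : j ⟶ k), D.map f ≫ τ k = τ j)

set_option backward.isDefEq.respectTransparency false in
/-- The system of self-products `Dᵢ ×_S Dᵢ`. -/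
noncomputable def prodDiagram : I ⥤ Scheme.{u} where
  obj j := pullback (τ j) (τ j)
  map {j k} f := pullback.map (τ j) (τ j) (τ k) (τ k) (D.map f) (D.map f) (𝟙 S)
    (by rw [Category.comp_id, hτ]) (by rw [Category.comp_id, hτ])
  map_id j := by apply pullback.hom_ext <;> simp
  map_comp f g := by apply pullback.hom_ext <;> simp

variable (c : Cone D) (s : c.pt ⟶ S) (hs : ∀ i, c.π.app i ≫ τ i = s)

set_option backward.isDefEq.respectTransparency false in
/-- The cone over the system of self-products with vertex `lim Dᵢ ×_S lim Dᵢ`. -/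
noncomputable def prodCone : Cone (prodDiagram D τ hτ) where
  pt := pullback s s
  π :=
    { app j := pullback.map s s (τ j) (τ j) (c.π.app j) (c.π.app j) (𝟙 S)
        (by rw [Category.comp_id, hs]) (by rw [Category.comp_id, hs])
      naturality j k f := by
        apply pullback.hom_ext <;> simp [prodDiagram] }

set_option backward.isDefEq.respectTransparency false in
/-- The self-product of the limit is the limit of the self-products. -/
noncomputable def isLimitProdCone (hc : IsLimit c) [Nonempty I] :
    IsLimit (prodCone D τ hτ c s hs) where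
  lift E := pullback.lift
    (hc.lift ⟨E.pt,
      { app j := E.π.app j ≫ pullback.fst (τ j) (τ j)
        naturality j k f := by
          have := E.π.naturality f
          simp only [Functor.const_obj_obj, Functor.const_obj_map, Category.id_comp] at this ⊢
          rw [this]
          simp [prodDiagram] }⟩)
    (hc.lift ⟨E.pt,
      { app j := E.π.app j ≫ pullback.snd (τ j) (τ j)
        naturality j k f := by
          have := E.π.naturality f
          simp only [Functor.const_obj_obj, Functor.const_obj_map, Category.id_comp] at this ⊢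
          rw [this]
          simp [prodDiagram] }⟩)
    (by
      obtain ⟨j⟩ := ‹Nonempty I›
      rw [← hs j, ← Category.assoc, ← Category.assoc, hc.fac, hc.fac]
      simp [pullback.condition])
  fac E j := by
    apply pullback.hom_ext
    · simp [prodCone]
    · simp [prodCone]
  uniq E m hm := by
    apply pullback.hom_ext
    · refine hc.hom_ext fun j ↦ ?_
      simp only [pullback.lift_fst, hc.fac]
      rw [← hm j]
      simp [prodCone]
    · refine hc.hom_ext fun j ↦ ?_
      simp only [pullback.lift_snd, hc.fac]
      rw [← hm j]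
      simp [prodCone]

include hτ hs in
set_option backward.isDefEq.respectTransparency false in
/-- If the limit of a cofiltered system of qcqs schemes over a quasi-separated base (affine
transition maps) is separated over the base, then so are the stages beyond some index. -/
theorem exists_isSeparated [IsCofiltered I] [∀ {i j} (f : i ⟶ j), IsAffineHom (D.map f)]
    [QuasiSeparatedSpace S] [∀ i, CompactSpace (D.obj i)] [∀ i, QuasiSeparatedSpace (D.obj i)]
    (hc : IsLimit c) [IsSeparated s] :
    ∃ i₁ : I, ∀ (i : I) (_ : i ⟶ i₁), IsSeparated (τ i) := by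
  classical
  have hI : Nonempty I := IsCofiltered.nonempty
  set P := prodDiagram D τ hτ with hP
  set cP := prodCone D τ hτ c s hs with hcP
  have hlim : IsLimit cP := isLimitProdCone D τ hτ c s hs hc
  have hPaff {j k : I} (f : j ⟶ k) : IsAffineHom (P.map f) :=
    MorphismProperty.pullbackMap (P := @IsAffineHom) (inferInstance : IsAffineHom (D.map f))
      (inferInstance : IsAffineHom (D.map f)) (hτ f).symm (hτ f).symm
  have hPc (j : I) : CompactSpace (P.obj j) :=
    QuasiCompact.compactSpace_of_compactSpace (pullback.fst (τ j) (τ j))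
  -- naturality of the diagonals
  have hΔ {j k : I} (f : j ⟶ k) :
      D.map f ≫ pullback.diagonal (τ k) = pullback.diagonal (τ j) ≫ P.map f := by
    apply pullback.hom_ext <;> simp [P, prodDiagram]
  have hΔc (j : I) : c.π.app j ≫ pullback.diagonal (τ j) = pullback.diagonal s ≫ cP.π.app j := by
    apply pullback.hom_ext <;> simp [cP, prodCone]
  -- the boundaries of the diagonals
  let B (j : I) : Set (P.obj j) :=
    closure (Set.range (pullback.diagonal (τ j))) \ Set.range (pullback.diagonal (τ j))
  have hBc (j : I) : IsClosed (B j) := by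
    have := (pullback.diagonal (τ j)).isLocallyClosed_range.isOpen_coborder
    rw [coborder] at this
    exact isOpen_compl_iff.mp this
  have hBcpt (j : I) : IsCompact (B j) := (hBc j).isCompact
  have hBmap {j k : I} (f : j ⟶ k) : Set.MapsTo (P.map f) (B j) (B k) := by
    rintro p ⟨hp1, hp2⟩
    refine ⟨?_, ?_⟩
    · have hcont : Continuous (P.map f) := (P.map f).continuous
      have h1 := image_closure_subset_closure_image hcont
        (s := Set.range (pullback.diagonal (τ j))) ⟨p, hp1, rfl⟩
      refine closure_mono ?_ h1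
      rintro _ ⟨_, ⟨x, rfl⟩, rfl⟩
      exact ⟨D.map f x, congr($(hΔ f) x)⟩
    · intro hmem
      apply hp2
      exact preimage_range_diagonal_inter_closure (D.map f) (τ k) (τ j) (hτ f).symm ⟨hmem, hp1⟩
  by_contra! hcon
  have hne (j : I) : (B j).Nonempty := by
    by_contra hemp
    rw [Set.not_nonempty_iff_eq_empty] at hemp
    have hcl : IsClosed (Set.range (pullback.diagonal (τ j))) := by
      have : closure (Set.range (pullback.diagonal (τ j))) ⊆
          Set.range (pullback.diagonal (τ j)) := Set.diff_eq_empty.mp hemp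
      exact closure_subset_iff_isClosed.mp this
    have hsep : IsSeparated (τ j) := ⟨IsClosedImmersion.of_isPreimmersion _ hcl⟩
    obtain ⟨i, f, hi⟩ := hcon j
    apply hi
    rw [← hτ f]
    infer_instance
  obtain ⟨p, hp⟩ := exists_mem_of_isClosed_of_nonempty P cP hlim B hBc hne hBcpt
    (fun f ↦ hBmap f)
  have hpΔ : p ∉ Set.range (pullback.diagonal s) := by
    rintro ⟨x, rfl⟩
    obtain ⟨j⟩ := hI
    apply (hp j).2
    exact ⟨c.π.app j x, congr($(hΔc j) x)⟩
  have hclΔ : IsClosed (Set.range (pullback.diagonal s)) :=
    (pullback.diagonal s).isClosedEmbedding.isClosed_range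
  obtain ⟨_, ⟨j, W, hW, rfl⟩, hpW, hWsub⟩ := TopologicalSpace.Opens.isBasis_iff_nbhd.mp
    (isBasis_preimage_isAffineOpen P cP hlim)
    (U := ⟨(Set.range (pullback.diagonal s))ᶜ, hclΔ.isOpen_compl⟩) hpΔ
  let V : (D.obj j).Opens := pullback.diagonal (τ j) ⁻¹ᵁ W
  have hVc : IsCompact (V : Set (D.obj j)) :=
    QuasiCompact.isCompact_preimage (f := pullback.diagonal (τ j)) _ W.2 hW.isCompact
  have hVempty : c.π.app j ⁻¹' (V : Set (D.obj j)) = ∅ := by
    rw [Set.eq_empty_iff_forall_notMem]
    intro x hx
    have h1 : pullback.diagonal s x ∈ cP.π.app j ⁻¹ᵁ W := by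
      change cP.π.app j (pullback.diagonal s x) ∈ W
      have e : pullback.diagonal (τ j) (c.π.app j x) = cP.π.app j (pullback.diagonal s x) :=
        congr($(hΔc j) x)
      rw [← e]
      exact hx
    exact hWsub h1 ⟨x, rfl⟩
  obtain ⟨k, f, hk⟩ := exists_preimage_eq_empty_of_isGood D c hc (V : Set (D.obj j))
    (IsGood.of_isCompact_isOpen hVc V.2) hVempty
  have hpk := (hp k).1
  have hmem : cP.π.app k p ∈ (P.map f ⁻¹ᵁ W : (P.obj k).Opens) := by
    change P.map f (cP.π.app k p) ∈ W
    have e : P.map f (cP.π.app k p) = cP.π.app j p := congr($(cP.w f) p)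
    rw [e]
    exact hpW
  obtain ⟨_, hq1, ⟨y, rfl⟩⟩ := mem_closure_iff.mp hpk _ (P.map f ⁻¹ᵁ W).2 hmem
  have hy : D.map f y ∈ (V : Set (D.obj j)) := by
    change pullback.diagonal (τ j) (D.map f y) ∈ W
    have e : pullback.diagonal (τ j) (D.map f y) = P.map f (pullback.diagonal (τ k) y) :=
      congr($(hΔ f) y)
    rw [e]
    exact hq1
  exact (hk ▸ (hy : y ∈ D.map f ⁻¹' (V : Set (D.obj j))) : y ∈ (∅ : Set (D.obj k)))

end ProdSystem

end Groth.Agent.Lib.Helper24.Lim8
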