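import Groth.Agent.Lib.Helper24.Lim8BC
import Groth.Agent.Lib.Helper24.Lim8IsoDescent
import Groth.Agent.Lib.Helper24.Lim8Sep
import Groth.Agent.Lib.Helper24.Lim8LC
import Mathlib.AlgebraicGeometry.Morphisms.IsIso
import Groth.Agent.S9200
import Mathlib.AlgebraicGeometry.Morphisms.UniversallyInjective
import Mathlib.AlgebraicGeometry.Morphisms.FormallyUnramified

/-!
# Descent of properties of morphisms along cofiltered limits (EGA IV 8.10.5) (helper24)

Framework: for `f₀ : X₀ ⟶ Y₀`, `g₀ : Y₀ ⟶ D.obj i₀`, the property `P` *descends* if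
`P (bcMap (c.π.app i₀) f₀ g₀)` implies `P (bcMap (D.map φ) f₀ g₀)` for some `φ : j ⟶ i₀`.

* `Descends.template`: the statement in "cartesian squares" form.
* `Descends.of_rebase`: one may replace `i₀` by any `k ⟶ i₀`.
* `descends_isAffineHom`, `descends_isSeparated`.
-/

set_option autoImplicit false

universe u

open CategoryTheory CategoryTheory.Limits AlgebraicGeometry

namespace Groth.Agent.Lib.Helper24.Lim8

variable {I : Type u} [Category.{u} I] (D : I ⥤ Scheme.{u}) (c : Cone D) (hc : IsLimit c)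

/-- The property `P` descends from the limit to a stage, for the base changes of `f₀`. -/
def Descends (P : MorphismProperty Scheme.{u}) (i₀ : I) {X₀ Y₀ : Scheme.{u}} (f₀ : X₀ ⟶ Y₀)
    (g₀ : Y₀ ⟶ D.obj i₀) : Prop :=
  P (bcMap (c.π.app i₀) f₀ g₀) → ∃ (j : I) (φ : j ⟶ i₀), P (bcMap (D.map φ) f₀ g₀)

variable {D c}

lemma Descends.template {P : MorphismProperty Scheme.{u}} [P.RespectsIso] {i₀ : I}
    {X₀ Y₀ : Scheme.{u}} {f₀ : X₀ ⟶ Y₀} {g₀ : Y₀ ⟶ D.obj i₀} (h : Descends D c P i₀ f₀ g₀)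
    {X Y : Scheme.{u}} {f : X ⟶ Y} {g : Y ⟶ c.pt} {qY : Y ⟶ Y₀} {qX : X ⟶ X₀}
    (hY : IsPullback qY g g₀ (c.π.app i₀)) (hX : IsPullback qX f f₀ qY) (hf : P f) :
    ∃ (j : I) (φ : j ⟶ i₀) (Xj Yj : Scheme.{u}) (fj : Xj ⟶ Yj) (gj : Yj ⟶ D.obj j) (pY : Yj ⟶ Y₀)
      (pX : Xj ⟶ X₀), IsPullback pY gj g₀ (D.map φ) ∧ IsPullback pX fj f₀ pY ∧ P fj := by
  obtain ⟨eX, eY, hcomm, -, -, -, -⟩ := exists_iso_bcMap hY hX
  have hP : P (bcMap (c.π.app i₀) f₀ g₀) := by
    have : bcMap (c.π.app i₀) f₀ g₀ = eX.inv ≫ f ≫ eY.hom := by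
      rw [hcomm, Iso.inv_hom_id_assoc]
    rw [this, P.cancel_left_of_respectsIso, P.cancel_right_of_respectsIso]
    exact hf
  obtain ⟨j, φ, hj⟩ := h hP
  exact ⟨j, φ, pullback (D.map φ) (f₀ ≫ g₀), pullback (D.map φ) g₀,
    bcMap (D.map φ) f₀ g₀, pullback.fst _ _, pullback.snd _ _, pullback.snd _ _,
    (IsPullback.of_hasPullback _ _).flip, isPullback_bcMap _ _ _, hj⟩

/-- `P` of a base change in cartesian-square form transfers to `bcMap`. -/
lemma bcMap_iff_of_isPullback {P : MorphismProperty Scheme.{u}} [P.RespectsIso]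
    {B T X₀ Y₀ : Scheme.{u}} {t : T ⟶ B} {f₀ : X₀ ⟶ Y₀} {g₀ : Y₀ ⟶ B}
    {X Y : Scheme.{u}} {f : X ⟶ Y} {g : Y ⟶ T} {qY : Y ⟶ Y₀} {qX : X ⟶ X₀}
    (hY : IsPullback qY g g₀ t) (hX : IsPullback qX f f₀ qY) :
    P (bcMap t f₀ g₀) ↔ P f := by
  obtain ⟨eX, eY, hcomm, -, -, -, -⟩ := exists_iso_bcMap hY hX
  have : bcMap t f₀ g₀ = eX.inv ≫ f ≫ eY.hom := by
    rw [hcomm, Iso.inv_hom_id_assoc]
  rw [this, P.cancel_left_of_respectsIso, P.cancel_right_of_respectsIso]

set_option backward.isDefEq.respectTransparency false in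
/-- Rebasing: to descend `P` one may first pass to any stage `k ⟶ i₀`. -/
lemma Descends.of_rebase {P : MorphismProperty Scheme.{u}} [P.RespectsIso] {i₀ : I}
    {X₀ Y₀ : Scheme.{u}} {f₀ : X₀ ⟶ Y₀} {g₀ : Y₀ ⟶ D.obj i₀} {k : I} (ψ : k ⟶ i₀)
    (h : Descends D c P k (bcMap (D.map ψ) f₀ g₀) (pullback.fst (D.map ψ) g₀)) :
    Descends D c P i₀ f₀ g₀ := by
  intro hP
  have h1 : P (bcMap (c.π.app k) (bcMap (D.map ψ) f₀ g₀) (pullback.fst (D.map ψ) g₀)) :=
    (bcMap_iff_of_isPullback (isPullback_pbCone_π D c i₀ g₀ (Over.mk ψ))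
      (isPullback_pbCone_π_bcMap D c i₀ f₀ g₀ (Over.mk ψ))).mpr hP
  obtain ⟨l, θ, hl⟩ := h h1
  refine ⟨l, θ ≫ ψ, ?_⟩
  let θ' : Over.mk (θ ≫ ψ) ⟶ Over.mk ψ := Over.homMk θ
  exact (bcMap_iff_of_isPullback (isPullback_pbDiagram_map D i₀ g₀ θ')
    (isPullback_pbDiagram_map_bcMap D i₀ f₀ g₀ θ')).mp hl

section fixedBase

set_option backward.isDefEq.respectTransparency false in
lemma isAffineHom_pullback_snd {X Y S : Scheme.{u}} (f : X ⟶ S) (g : Y ⟶ S) [IsAffineHom f] :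
    IsAffineHom (pullback.snd f g) :=
  MorphismProperty.pullback_snd (P := @IsAffineHom) f g inferInstance

variable (D c)
variable [IsCofiltered I] [∀ {i j} (f : i ⟶ j), IsAffineHom (D.map f)] (i₀ : I)
  {X₀ Y₀ : Scheme.{u}} (f₀ : X₀ ⟶ Y₀) (g₀ : Y₀ ⟶ D.obj i₀)

set_option backward.isDefEq.respectTransparency false in
instance isAffineHom_pbDiagram_snd (j : Over i₀) :
    IsAffineHom (pullback.snd (D.map j.hom) g₀) :=
  MorphismProperty.pullback_snd (P := @IsAffineHom) _ _ inferInstance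

lemma compactSpace_pbDiagram_obj [CompactSpace Y₀] (j : Over i₀) :
    CompactSpace ((pbDiagram D i₀ g₀).obj j) := by
  change CompactSpace ↥(pullback (D.map j.hom) g₀)
  exact QuasiCompact.compactSpace_of_compactSpace (pullback.snd (D.map j.hom) g₀)

lemma quasiSeparatedSpace_pbDiagram_obj [QuasiSeparatedSpace Y₀] (j : Over i₀) :
    QuasiSeparatedSpace ((pbDiagram D i₀ g₀).obj j) := by
  change QuasiSeparatedSpace ↥(pullback (D.map j.hom) g₀)
  exact quasiSeparatedSpace_of_quasiSeparated (pullback.snd (D.map j.hom) g₀)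

set_option backward.isDefEq.respectTransparency false in
/-- The structure maps `X_j ⟶ Y₀` of the system of base changes of `X₀`. -/
@[simps] noncomputable
def pbDiagramToBase : pbDiagram D i₀ (f₀ ≫ g₀) ⟶ (Functor.const (Over i₀)).obj Y₀ where
  app j := pullback.snd _ _ ≫ f₀
  naturality j k θ := by simp [pbDiagram, pullback.map]

set_option backward.isDefEq.respectTransparency false in
lemma pbDiagramToBase_app_eq (j : Over i₀) :
    (pbDiagramToBase D i₀ f₀ g₀).app j =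
      bcMap (D.map j.hom) f₀ g₀ ≫ pullback.snd (D.map j.hom) g₀ := by
  simp

set_option backward.isDefEq.respectTransparency false in
lemma pbCone_π_app_toBase (j : Over i₀) :
    (pbCone D c i₀ (f₀ ≫ g₀)).π.app j ≫ (pbDiagramToBase D i₀ f₀ g₀).app j =
      bcMap (c.π.app i₀) f₀ g₀ ≫ pullback.snd (c.π.app i₀) g₀ := by
  simp [pbCone, pullback.map]

include hc in
/-- Affineness descends (no finiteness hypotheses). -/
lemma descends_isAffineHom [CompactSpace X₀] [QuasiSeparatedSpace X₀] [CompactSpace Y₀]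
    [QuasiSeparatedSpace Y₀] : Descends D c @IsAffineHom i₀ f₀ g₀ := by
  intro hP
  have : IsAffineHom (c.π.app i₀) := isAffineHom_π_app D c hc i₀
  have : IsAffineHom (pullback.snd (c.π.app i₀) g₀) := isAffineHom_pullback_snd _ _
  have h1 (j : Over i₀) : CompactSpace ((pbDiagram D i₀ (f₀ ≫ g₀)).obj j) :=
    compactSpace_pbDiagram_obj D i₀ (f₀ ≫ g₀) j
  have h2 (j : Over i₀) : QuasiSeparatedSpace ((pbDiagram D i₀ (f₀ ≫ g₀)).obj j) :=
    quasiSeparatedSpace_pbDiagram_obj D i₀ (f₀ ≫ g₀) j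
  let j₀ : Over i₀ := Over.mk (𝟙 i₀)
  have h3 : IsAffineHom ((pbCone D c i₀ (f₀ ≫ g₀)).π.app j₀ ≫
      (pbDiagramToBase D i₀ f₀ g₀).app j₀) := by
    rw [pbCone_π_app_toBase]
    have hP' : IsAffineHom (bcMap (c.π.app i₀) f₀ g₀) := hP
    exact MorphismProperty.comp_mem _ _ _ hP' ‹_›
  obtain ⟨j₁, hj₁⟩ := @Groth.Agent.S9200.result (Over i₀) _ _ Y₀ _ _ (pbDiagram D i₀ (f₀ ≫ g₀))
    (pbDiagramToBase D i₀ f₀ g₀) (pbCone D c i₀ (f₀ ≫ g₀)) (isLimitPbCone D c hc i₀ (f₀ ≫ g₀))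
    (fun _ _ _ ↦ inferInstance) h1 h2 j₀ h3
  refine ⟨j₁.left, j₁.hom, ?_⟩
  have h4 := hj₁ j₁ (𝟙 _)
  rw [pbDiagramToBase_app_eq] at h4
  exact MorphismProperty.of_postcomp (W := @IsAffineHom) (W' := @IsSeparated) _
    (pullback.snd (D.map j₁.hom) g₀) inferInstance h4

include hc in
/-- Separatedness descends (no finiteness hypotheses). -/
lemma descends_isSeparated [CompactSpace X₀] [QuasiSeparatedSpace X₀] [QuasiSeparatedSpace Y₀] :
    Descends D c @IsSeparated i₀ f₀ g₀ := by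
  intro hP
  have : IsAffineHom (c.π.app i₀) := isAffineHom_π_app D c hc i₀
  have : IsAffineHom (pullback.snd (c.π.app i₀) g₀) := isAffineHom_pullback_snd _ _
  have h1 (j : Over i₀) : CompactSpace ((pbDiagram D i₀ (f₀ ≫ g₀)).obj j) :=
    compactSpace_pbDiagram_obj D i₀ (f₀ ≫ g₀) j
  have h2 (j : Over i₀) : QuasiSeparatedSpace ((pbDiagram D i₀ (f₀ ≫ g₀)).obj j) :=
    quasiSeparatedSpace_pbDiagram_obj D i₀ (f₀ ≫ g₀) j
  have h3 : IsSeparated (bcMap (c.π.app i₀) f₀ g₀ ≫ pullback.snd (c.π.app i₀) g₀) := by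
    have hP' : IsSeparated (bcMap (c.π.app i₀) f₀ g₀) := hP
    exact MorphismProperty.comp_mem _ _ _ hP' inferInstance
  obtain ⟨j₁, hj₁⟩ := @exists_isSeparated (Over i₀) _ (pbDiagram D i₀ (f₀ ≫ g₀)) Y₀
    (fun j ↦ (pbDiagramToBase D i₀ f₀ g₀).app j)
    (fun {j k} θ ↦ by
      have := (pbDiagramToBase D i₀ f₀ g₀).naturality θ
      simpa only [Functor.const_obj_obj, Functor.const_obj_map, Category.comp_id] using this)
    (pbCone D c i₀ (f₀ ≫ g₀)) (bcMap (c.π.app i₀) f₀ g₀ ≫ pullback.snd (c.π.app i₀) g₀)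
    (fun j ↦ pbCone_π_app_toBase D c i₀ f₀ g₀ j) _ (fun {_ _} _ ↦ inferInstance) _ h1 h2
    (isLimitPbCone D c hc i₀ (f₀ ≫ g₀)) h3
  refine ⟨j₁.left, j₁.hom, ?_⟩
  have h4 := hj₁ j₁ (𝟙 _)
  rw [pbDiagramToBase_app_eq] at h4
  exact @IsSeparated.of_comp _ _ _ _ (pullback.snd (D.map j₁.hom) g₀) h4

end fixedBase

section constructible

lemma range_snd_of_isPullback {P X Y Z : Scheme.{u}} {fst : P ⟶ X} {snd : P ⟶ Y} {f : X ⟶ Z}
    {g : Y ⟶ Z} (h : IsPullback fst snd f g) : Set.range snd = g ⁻¹' Set.range f := by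
  have hsurj : Function.Surjective h.isoPullback.hom :=
    h.isoPullback.hom.homeomorph.surjective
  rw [← Scheme.Pullback.range_snd, ← h.isoPullback_hom_snd, Scheme.Hom.comp_base,
    TopCat.coe_comp, Set.range_comp, hsurj.range_eq, Set.image_univ]

lemma range_bcMap {B T X₀ Y₀ : Scheme.{u}} (t : T ⟶ B) (f₀ : X₀ ⟶ Y₀) (g₀ : Y₀ ⟶ B) :
    Set.range (bcMap t f₀ g₀) = pullback.snd t g₀ ⁻¹' Set.range f₀ :=
  range_snd_of_isPullback (isPullback_bcMap t f₀ g₀)

variable (D c)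
variable [IsCofiltered I] [∀ {i j} (f : i ⟶ j), IsAffineHom (D.map f)] (i₀ : I)
  {Y₀ : Scheme.{u}} (g₀ : Y₀ ⟶ D.obj i₀)

set_option backward.isDefEq.respectTransparency false in
include hc in
/-- A good (e.g. constructible, if `Y₀` is quasi-compact) subset of `Y₀` whose preimage in
`Y = S ×[S_{i₀}] Y₀` is empty has empty preimage in some `Y_j = S_j ×[S_{i₀}] Y₀`. -/
lemma exists_preimage_snd_eq_empty (E₀ : Set Y₀) (hE : IsGood E₀)
    (h : pullback.snd (c.π.app i₀) g₀ ⁻¹' E₀ = ∅) :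
    ∃ (j : I) (φ : j ⟶ i₀), pullback.snd (D.map φ) g₀ ⁻¹' E₀ = ∅ := by
  let j₀ : Over i₀ := Over.mk (𝟙 i₀)
  have hgood : IsGood ((pbDiagramSnd D i₀ g₀).app j₀ ⁻¹' E₀) := by
    have : IsIso ((pbDiagramSnd D i₀ g₀).app j₀) := by
      change IsIso (pullback.snd (D.map (𝟙 i₀)) g₀)
      rw [D.map_id]
      infer_instance
    exact hE.preimage_hom _
  obtain ⟨j, φ, hj⟩ := exists_preimage_eq_empty_of_isGood (pbDiagram D i₀ g₀) (pbCone D c i₀ g₀)
    (isLimitPbCone D c hc i₀ g₀) (i := j₀) _ hgood (by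
      rw [← Set.preimage_comp, ← TopCat.coe_comp, ← Scheme.Hom.comp_base,
        pbCone_π_app_snd]
      exact h)
  refine ⟨j.left, j.hom, ?_⟩
  have e : (pbDiagram D i₀ g₀).map φ ≫ (pbDiagramSnd D i₀ g₀).app j₀ =
      pullback.snd (D.map j.hom) g₀ := by
    have := (pbDiagramSnd D i₀ g₀).naturality φ
    simp only [Functor.const_obj_obj, Functor.const_obj_map, Category.comp_id] at this
    rw [this]
    rfl
  rw [← Set.preimage_comp, ← TopCat.coe_comp, ← Scheme.Hom.comp_base, e] at hj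
  exact hj

include hc in
/-- Surjectivity descends (`f₀` of finite presentation, `Y₀` qcqs). -/
lemma descends_surjective {X₀ : Scheme.{u}} (f₀ : X₀ ⟶ Y₀) [CompactSpace Y₀]
    [QuasiSeparatedSpace Y₀] [LocallyOfFinitePresentation f₀] [QuasiCompact f₀] :
    Descends D c @Surjective i₀ f₀ g₀ := by
  intro hP
  have hE : Topology.IsConstructible (Set.range f₀)ᶜ := by
    rw [← Set.image_univ]
    exact (f₀.isConstructible_image Topology.IsConstructible.univ).compl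
  obtain ⟨j, φ, hj⟩ := exists_preimage_snd_eq_empty D c hc i₀ g₀ _ (.of_isConstructible hE) (by
    rw [Set.preimage_compl, ← range_bcMap, Set.compl_empty_iff, Set.range_eq_univ]
    exact hP.surj)
  refine ⟨j, φ, ⟨?_⟩⟩
  rw [Set.preimage_compl, ← range_bcMap, Set.compl_empty_iff, Set.range_eq_univ] at hj
  exact hj

end constructible
section diag
variable {C : Type*} [Category C] [HasPullbacks C] {X' Y' X Y : C} {p : X' ⟶ X} {f' : X' ⟶ Y'}
  {f : X ⟶ Y} {q : Y' ⟶ Y}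

set_option backward.isDefEq.respectTransparency false in
/-- For a cartesian square, the self-products form a cartesian square over the first
projections. -/
lemma isPullback_map_fst_of_isPullback (h : IsPullback p f' f q) :
    IsPullback (pullback.map f' f' f f p p q h.w.symm h.w.symm) (pullback.fst f' f')
      (pullback.fst f f) p := by
  refine IsPullback.of_right ?_ (by simp) (IsPullback.of_hasPullback f f).flip
  have e1 : pullback.map f' f' f f p p q h.w.symm h.w.symm ≫ pullback.snd f f =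
      pullback.snd f' f' ≫ p := by
    simp
  rw [e1, h.w]
  exact (IsPullback.of_hasPullback f' f').flip.paste_horiz h

set_option backward.isDefEq.respectTransparency false in
/-- The diagonal of a base change is the base change of the diagonal. -/
lemma isPullback_diagonal_of_isPullback (h : IsPullback p f' f q) :
    IsPullback p (pullback.diagonal f') (pullback.diagonal f)
      (pullback.map f' f' f f p p q h.w.symm h.w.symm) := by
  refine (IsPullback.of_right ?_ (by apply pullback.hom_ext <;> simp)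
    (isPullback_map_fst_of_isPullback h).flip).flip
  simp only [pullback.diagonal_fst]
  exact IsPullback.of_horiz_isIso ⟨by simp⟩

end diag

section diagonal

set_option backward.isDefEq.respectTransparency false in
lemma diagonal_bcMap_iff {P : MorphismProperty Scheme.{u}} [P.RespectsIso]
    {B T X₀ Y₀ : Scheme.{u}} (t : T ⟶ B) (f₀ : X₀ ⟶ Y₀) (g₀ : Y₀ ⟶ B) :
    P (bcMap t (pullback.diagonal f₀) (pullback.fst f₀ f₀ ≫ f₀ ≫ g₀)) ↔
      P (pullback.diagonal (bcMap t f₀ g₀)) := by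
  have h := isPullback_bcMap t f₀ g₀
  have hX := isPullback_diagonal_of_isPullback h
  have hY := (isPullback_map_fst_of_isPullback h).paste_vert
    (IsPullback.of_hasPullback t (f₀ ≫ g₀)).flip
  exact bcMap_iff_of_isPullback hY hX

lemma Descends.diagonal {P : MorphismProperty Scheme.{u}} [P.RespectsIso] {i₀ : I}
    {X₀ Y₀ : Scheme.{u}} {f₀ : X₀ ⟶ Y₀} {g₀ : Y₀ ⟶ D.obj i₀}
    (h : Descends D c P i₀ (pullback.diagonal f₀) (pullback.fst f₀ f₀ ≫ f₀ ≫ g₀)) :
    Descends D c P.diagonal i₀ f₀ g₀ := by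
  intro hP
  obtain ⟨j, φ, hj⟩ := h ((diagonal_bcMap_iff _ _ _).mpr hP)
  exact ⟨j, φ, (diagonal_bcMap_iff _ _ _).mp hj⟩

lemma Descends.congr {P Q : MorphismProperty Scheme.{u}} {i₀ : I}
    {X₀ Y₀ : Scheme.{u}} {f₀ : X₀ ⟶ Y₀} {g₀ : Y₀ ⟶ D.obj i₀}
    (h : Descends D c P i₀ f₀ g₀) (hPQ : ∀ {X Y : Scheme.{u}} (f : X ⟶ Y), P f ↔ Q f) :
    Descends D c Q i₀ f₀ g₀ := by
  intro hQ
  obtain ⟨j, φ, hj⟩ := h ((hPQ _).mpr hQ)
  exact ⟨j, φ, (hPQ _).mp hj⟩

end diagonal

section absolute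

set_option backward.isDefEq.respectTransparency false in
/-- The diagonal of a morphism locally of finite type is locally of finite presentation. -/
lemma locallyOfFinitePresentation_diagonal {X Y : Scheme.{u}} (f : X ⟶ Y) [LocallyOfFiniteType f] :
    LocallyOfFinitePresentation (pullback.diagonal f) := by
  have : LocallyOfFiniteType (pullback.fst f f) :=
    MorphismProperty.pullback_fst (P := @LocallyOfFiniteType) _ _ inferInstance
  have : LocallyOfFinitePresentation (pullback.diagonal f ≫ pullback.fst f f) := by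
    rw [pullback.diagonal_fst]; infer_instance
  exact Groth.Agent.Lib.Helper24.locallyOfFinitePresentation_of_comp _ (pullback.fst f f)

lemma iff_of_isPullback_of_iso {P : MorphismProperty Scheme.{u}} [P.RespectsIso]
    {X₁ Y₁ X₂ Y₂ X₀ Y₀ : Scheme.{u}} {f₁ : X₁ ⟶ Y₁} {f₂ : X₂ ⟶ Y₂} {f₀ : X₀ ⟶ Y₀}
    {p₁ : X₁ ⟶ X₀} {q₁ : Y₁ ⟶ Y₀} {p₂ : X₂ ⟶ X₀} {q₂ : Y₂ ⟶ Y₀}
    (h₁ : IsPullback p₁ f₁ f₀ q₁) (h₂ : IsPullback p₂ f₂ f₀ q₂) (ε : Y₁ ≅ Y₂)
    (hε : ε.hom ≫ q₂ = q₁) : P f₁ ↔ P f₂ := by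
  have h₁' : IsPullback p₁ (f₁ ≫ ε.hom) f₀ q₂ := by
    have h0 : IsPullback q₁ ε.hom (𝟙 Y₀) q₂ :=
      IsPullback.of_vert_isIso ⟨by rw [hε, Category.comp_id]⟩
    have := h₁.paste_vert h0
    rwa [Category.comp_id] at this
  have e : f₁ ≫ ε.hom = (h₁'.isoIsPullback _ _ h₂).hom ≫ f₂ := by
    rw [IsPullback.isoIsPullback_hom_snd]
  rw [← P.cancel_right_of_respectsIso f₁ ε.hom, e, P.cancel_left_of_respectsIso]

lemma isPullback_bcMap_abs {T Z X₀ Y₀ : Scheme.{u}} (t : T ⟶ Z) (e : Z ≅ Y₀) (f₀ : X₀ ⟶ Y₀) :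
    IsPullback (pullback.snd t ((f₀ ≫ e.inv) ≫ 𝟙 _)) (bcMap t (f₀ ≫ e.inv) (𝟙 _)) f₀
      (pullback.snd t (𝟙 _) ≫ e.hom) := by
  have := (isPullback_bcMap t (f₀ ≫ e.inv) (𝟙 _)).paste_horiz
    (IsPullback.of_horiz_isIso (fst := 𝟙 X₀) (snd := f₀ ≫ e.inv) (f := f₀) (g := e.hom)
      ⟨by simp⟩)
  have e0 : pullback.snd t ((f₀ ≫ e.inv) ≫ 𝟙 _) ≫ 𝟙 X₀ = pullback.snd t ((f₀ ≫ e.inv) ≫ 𝟙 _) :=
    Category.comp_id _
  rwa [e0] at this

variable (D c)
variable [IsCofiltered I] [∀ {i j} (f : i ⟶ j), IsAffineHom (D.map f)] (i₀ : I)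
  {X₀ Y₀ : Scheme.{u}} (f₀ : X₀ ⟶ Y₀) (g₀ : Y₀ ⟶ D.obj i₀)

/-- The stage of `Y_j = S_j ×[S_{i₀}] Y₀` at the terminal object is `Y₀`. -/
noncomputable def pbDiagramBaseIso : (pbDiagram D i₀ g₀).obj (Over.mk (𝟙 i₀)) ≅ Y₀ :=
  (asIso (pullback.snd (D.map (𝟙 i₀)) g₀) : pullback (D.map (𝟙 i₀)) g₀ ≅ Y₀)

omit [IsCofiltered I] [∀ {i j} (f : i ⟶ j), IsAffineHom (D.map f)] in
lemma pbDiagramBaseIso_hom : (pbDiagramBaseIso D i₀ g₀).hom =
    (pbDiagramSnd D i₀ g₀).app (Over.mk (𝟙 i₀)) := rfl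

variable {D c i₀ f₀ g₀}

set_option backward.isDefEq.respectTransparency false in
/-- Reduction to the "absolute" case `g₀ = 𝟙`, replacing the system `S_j` by
`Y_j = S_j ×[S_{i₀}] Y₀`. -/
lemma Descends.of_absolute {P : MorphismProperty Scheme.{u}} [P.RespectsIso]
    (h : Descends (pbDiagram D i₀ g₀) (pbCone D c i₀ g₀) P (Over.mk (𝟙 i₀))
      (f₀ ≫ (pbDiagramBaseIso D i₀ g₀).inv) (𝟙 _)) :
    Descends D c P i₀ f₀ g₀ := by
  intro hP
  let j₀ : Over i₀ := Over.mk (𝟙 i₀)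
  have h1 : P (bcMap ((pbCone D c i₀ g₀).π.app j₀) (f₀ ≫ (pbDiagramBaseIso D i₀ g₀).inv) (𝟙 _)) := by
    refine (iff_of_isPullback_of_iso (isPullback_bcMap_abs _ (pbDiagramBaseIso D i₀ g₀) f₀)
      (isPullback_bcMap (c.π.app i₀) f₀ g₀) (asIso (pullback.fst _ _)) ?_).mpr hP
    have e1 : (pbCone D c i₀ g₀).π.app j₀ ≫ (pbDiagramBaseIso D i₀ g₀).hom =
        pullback.snd (c.π.app i₀) g₀ := by
      rw [pbDiagramBaseIso_hom]; exact pbCone_π_app_snd D c i₀ g₀ j₀
    rw [asIso_hom, ← e1, pullback.condition_assoc, Category.id_comp]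
  obtain ⟨k, φ, hk⟩ := h h1
  refine ⟨k.left, k.hom, ?_⟩
  refine (iff_of_isPullback_of_iso (isPullback_bcMap_abs _ (pbDiagramBaseIso D i₀ g₀) f₀)
    (isPullback_bcMap (D.map k.hom) f₀ g₀) (asIso (pullback.fst _ _)) ?_).mp hk
  have e1 : (pbDiagram D i₀ g₀).map φ ≫ (pbDiagramBaseIso D i₀ g₀).hom =
      pullback.snd (D.map k.hom) g₀ := by
    have := (pbDiagramSnd D i₀ g₀).naturality φ
    simp only [Functor.const_obj_obj, Functor.const_obj_map, Category.comp_id] at this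
    rw [← pbDiagramSnd_app D i₀ g₀ k, ← this, pbDiagramBaseIso_hom]
  rw [asIso_hom, ← e1, pullback.condition_assoc, Category.id_comp]

include hc in
variable (D c i₀ f₀ g₀) in
/-- Isomorphisms descend: intrinsic version (`Y₀` quasi-compact, `f₀` of finite presentation). -/
lemma descends_isomorphisms [CompactSpace Y₀] [LocallyOfFinitePresentation f₀] [QuasiCompact f₀] :
    Descends D c (MorphismProperty.isomorphisms Scheme.{u}) i₀ f₀ g₀ := by
  apply Descends.of_absolute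
  intro hP
  have : CompactSpace ((pbDiagram D i₀ g₀).obj (Over.mk (𝟙 i₀))) :=
    compactSpace_pbDiagram_obj D i₀ g₀ _
  have : IsIso (bcMap ((pbCone D c i₀ g₀).π.app (Over.mk (𝟙 i₀)))
    (f₀ ≫ (pbDiagramBaseIso D i₀ g₀).inv) (𝟙 _)) := hP
  obtain ⟨k, φ, hk⟩ := exists_isIso_bcMap (pbDiagram D i₀ g₀) (pbCone D c i₀ g₀)
    (isLimitPbCone D c hc i₀ g₀) (Over.mk (𝟙 i₀)) (f₀ ≫ (pbDiagramBaseIso D i₀ g₀).inv) (𝟙 _)
  exact ⟨k, φ, hk⟩

include hc in
variable (D c i₀ f₀ g₀) in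
/-- Monomorphisms descend. -/
lemma descends_monomorphisms [CompactSpace X₀] [LocallyOfFiniteType f₀] [QuasiCompact f₀]
    [QuasiSeparated f₀] :
    Descends D c (MorphismProperty.monomorphisms Scheme.{u}) i₀ f₀ g₀ := by
  have : QuasiCompact (pullback.fst f₀ f₀) :=
    MorphismProperty.pullback_fst (P := @QuasiCompact) _ _ inferInstance
  have : CompactSpace ↥(pullback f₀ f₀) :=
    QuasiCompact.compactSpace_of_compactSpace (pullback.fst f₀ f₀)
  have : LocallyOfFinitePresentation (pullback.diagonal f₀) :=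
    locallyOfFinitePresentation_diagonal f₀
  refine (descends_isomorphisms D c hc i₀ (pullback.diagonal f₀)
    (pullback.fst f₀ f₀ ≫ f₀ ≫ g₀)).diagonal.congr fun f ↦ ?_
  exact pullback.isIso_diagonal_iff f

include hc in
variable (D c i₀ f₀ g₀) in
/-- Universal injectivity descends. -/
lemma descends_universallyInjective [CompactSpace X₀] [QuasiSeparatedSpace X₀]
    [LocallyOfFiniteType f₀] [QuasiCompact f₀] [QuasiSeparated f₀] :
    Descends D c @UniversallyInjective i₀ f₀ g₀ := by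
  have : QuasiCompact (pullback.fst f₀ f₀) :=
    MorphismProperty.pullback_fst (P := @QuasiCompact) _ _ inferInstance
  have : QuasiSeparated (pullback.fst f₀ f₀) :=
    MorphismProperty.pullback_fst (P := @QuasiSeparated) _ _ inferInstance
  have : CompactSpace ↥(pullback f₀ f₀) :=
    QuasiCompact.compactSpace_of_compactSpace (pullback.fst f₀ f₀)
  have : QuasiSeparatedSpace ↥(pullback f₀ f₀) :=
    quasiSeparatedSpace_of_quasiSeparated (pullback.fst f₀ f₀)
  have : LocallyOfFinitePresentation (pullback.diagonal f₀) :=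
    locallyOfFinitePresentation_diagonal f₀
  refine (descends_surjective D c hc i₀ (pullback.fst f₀ f₀ ≫ f₀ ≫ g₀)
    (pullback.diagonal f₀)).diagonal.congr fun f ↦ ?_
  exact (UniversallyInjective.iff_diagonal (f := f)).symm

end absolute

section openImm

variable (D c)
variable [IsCofiltered I] [∀ {i j} (f : i ⟶ j), IsAffineHom (D.map f)] (i₀ : I)
  {X₀ Y₀ : Scheme.{u}} (f₀ : X₀ ⟶ Y₀) (g₀ : Y₀ ⟶ D.obj i₀)

set_option backward.isDefEq.respectTransparency false in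
include hc in
/-- Openness of the preimage of a locally constructible subset of `Y₀` descends to a stage. -/
lemma isOpen_preimage_snd_iff [CompactSpace Y₀] (E₀ : Set Y₀)
    (hE : Topology.IsLocallyConstructible E₀) :
    IsOpen (pullback.snd (c.π.app i₀) g₀ ⁻¹' E₀) ↔
      ∃ (j : I) (φ : j ⟶ i₀), IsOpen (pullback.snd (D.map φ) g₀ ⁻¹' E₀) := by
  let j₀ : Over i₀ := Over.mk (𝟙 i₀)
  have : CompactSpace ((pbDiagram D i₀ g₀).obj j₀) := compactSpace_pbDiagram_obj D i₀ g₀ j₀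
  have key := isOpen_preimage_iff_of_isLocallyConstructible (pbDiagram D i₀ g₀)
    (pbCone D c i₀ g₀) (isLimitPbCone D c hc i₀ g₀) j₀ _
    (isLocallyConstructible_preimage ((pbDiagramSnd D i₀ g₀).app j₀) hE)
  have e0 : (pbCone D c i₀ g₀).π.app j₀ ⁻¹' ((pbDiagramSnd D i₀ g₀).app j₀ ⁻¹' E₀) =
      pullback.snd (c.π.app i₀) g₀ ⁻¹' E₀ := by
    rw [← Set.preimage_comp, ← TopCat.coe_comp, ← Scheme.Hom.comp_base, pbCone_π_app_snd]
    rfl
  have e1 (k : Over i₀) (φ : k ⟶ j₀) :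
      (pbDiagram D i₀ g₀).map φ ⁻¹' ((pbDiagramSnd D i₀ g₀).app j₀ ⁻¹' E₀) =
        pullback.snd (D.map k.hom) g₀ ⁻¹' E₀ := by
    have := (pbDiagramSnd D i₀ g₀).naturality φ
    simp only [Functor.const_obj_obj, Functor.const_obj_map, Category.comp_id] at this
    rw [← Set.preimage_comp, ← TopCat.coe_comp, ← Scheme.Hom.comp_base, this]
    rfl
  rw [e0] at key
  rw [key]
  constructor
  · rintro ⟨k, φ, hk⟩
    rw [e1] at hk
    exact ⟨k.left, k.hom, hk⟩
  · rintro ⟨j, φ, hj⟩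
    refine ⟨Over.mk φ, Over.homMk φ, ?_⟩
    rw [e1]
    exact hj

include hc in
/-- Closedness of the preimage of a locally constructible subset of `Y₀` descends to a stage. -/
lemma isClosed_preimage_snd_iff [CompactSpace Y₀] (E₀ : Set Y₀)
    (hE : Topology.IsLocallyConstructible E₀) :
    IsClosed (pullback.snd (c.π.app i₀) g₀ ⁻¹' E₀) ↔
      ∃ (j : I) (φ : j ⟶ i₀), IsClosed (pullback.snd (D.map φ) g₀ ⁻¹' E₀) := by
  simp_rw [← isOpen_compl_iff, ← Set.preimage_compl]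
  exact isOpen_preimage_snd_iff D c hc i₀ g₀ _ (isLocallyConstructible_compl hE)

omit [IsCofiltered I] [∀ {i j} (f : i ⟶ j), IsAffineHom (D.map f)] in
variable {D} in
lemma bcMap_of_isStableUnderBaseChange {P : MorphismProperty Scheme.{u}}
    [P.IsStableUnderBaseChange] {B T : Scheme.{u}} (t : T ⟶ B) {X₀ Y₀ : Scheme.{u}} (f₀ : X₀ ⟶ Y₀)
    (g₀ : Y₀ ⟶ B) (h : P f₀) : P (bcMap t f₀ g₀) :=
  MorphismProperty.of_isPullback (isPullback_bcMap t f₀ g₀) h

/-- Base change of a composition, in cartesian form. -/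
lemma bcMap_comp_iff {P : MorphismProperty Scheme.{u}} [P.RespectsIso] {B T W₀ : Scheme.{u}}
    (t : T ⟶ B) {X₀ Y₀ : Scheme.{u}} (a₀ : X₀ ⟶ W₀) (b₀ : W₀ ⟶ Y₀) (g₀ : Y₀ ⟶ B) (f₀ : X₀ ⟶ Y₀)
    (hf : a₀ ≫ b₀ = f₀) :
    P (bcMap t a₀ (b₀ ≫ g₀) ≫ bcMap t b₀ g₀) ↔ P (bcMap t f₀ g₀) := by
  subst hf
  exact iff_of_isPullback_of_iso
    ((isPullback_bcMap t a₀ (b₀ ≫ g₀)).paste_vert (isPullback_bcMap t b₀ g₀))
    (isPullback_bcMap t (a₀ ≫ b₀) g₀) (Iso.refl _) (Category.id_comp _)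

include hc in
/-- Open immersions descend, case where the range of `f₀` is already open. -/
lemma descends_isOpenImmersion_of_isOpen_range [CompactSpace Y₀]
    [LocallyOfFinitePresentation f₀] [QuasiCompact f₀] (hopen : IsOpen (Set.range f₀)) :
    Descends D c @IsOpenImmersion i₀ f₀ g₀ := by
  intro hP
  let U₀ : Y₀.Opens := ⟨Set.range f₀, hopen⟩
  let a₀ : X₀ ⟶ U₀ := IsOpenImmersion.lift U₀.ι f₀ (by simp [U₀])
  have ha₀ : a₀ ≫ U₀.ι = f₀ := IsOpenImmersion.lift_fac _ _ _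
  have : CompactSpace X₀ := QuasiCompact.compactSpace_of_compactSpace f₀
  have hsurj : Surjective a₀ := by
    refine ⟨fun ⟨y, hy⟩ ↦ ?_⟩
    obtain ⟨x, rfl⟩ := hy
    refine ⟨x, ?_⟩
    apply U₀.ι.injective
    rw [← Scheme.Hom.comp_apply, ha₀]
    rfl
  have : CompactSpace U₀ := by
    have : IsCompact (Set.range f₀) := isCompact_range f₀.continuous
    exact isCompact_iff_compactSpace.mp this
  have : LocallyOfFinitePresentation (a₀ ≫ U₀.ι) := by rw [ha₀]; infer_instance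
  have : LocallyOfFinitePresentation a₀ :=
    Groth.Agent.Lib.Helper24.locallyOfFinitePresentation_of_comp a₀ U₀.ι
  have : QuasiCompact (a₀ ≫ U₀.ι) := by rw [ha₀]; infer_instance
  have : QuasiCompact a₀ := QuasiCompact.of_comp a₀ U₀.ι
  have hb {T : Scheme.{u}} (t : T ⟶ D.obj i₀) : IsOpenImmersion (bcMap t U₀.ι g₀) :=
    bcMap_of_isStableUnderBaseChange (P := @IsOpenImmersion) t U₀.ι g₀ inferInstance
  -- the base change of `a₀` to the limit is an isomorphism
  have h1 : IsOpenImmersion (bcMap (c.π.app i₀) a₀ (U₀.ι ≫ g₀) ≫ bcMap (c.π.app i₀) U₀.ι g₀) :=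
    (bcMap_comp_iff (c.π.app i₀) a₀ U₀.ι g₀ f₀ ha₀).mpr hP
  have h2 : IsOpenImmersion (bcMap (c.π.app i₀) a₀ (U₀.ι ≫ g₀)) := by
    have := hb (c.π.app i₀)
    exact IsOpenImmersion.of_comp _ (bcMap (c.π.app i₀) U₀.ι g₀)
  have h3 : Surjective (bcMap (c.π.app i₀) a₀ (U₀.ι ≫ g₀)) :=
    bcMap_of_isStableUnderBaseChange (P := @Surjective) _ a₀ _ hsurj
  have h4 : IsIso (bcMap (c.π.app i₀) a₀ (U₀.ι ≫ g₀)) :=
    (isIso_iff_isOpenImmersion_and_surjective _).mpr ⟨h2, h3⟩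
  obtain ⟨j, φ, hj⟩ := descends_isomorphisms D c hc i₀ a₀ (U₀.ι ≫ g₀) h4
  refine ⟨j, φ, ?_⟩
  rw [← bcMap_comp_iff (P := @IsOpenImmersion) (D.map φ) a₀ U₀.ι g₀ f₀ ha₀]
  have := hb (D.map φ)
  have : IsIso (bcMap (D.map φ) a₀ (U₀.ι ≫ g₀)) := hj
  infer_instance

include hc in
/-- Open immersions descend (`Y₀` quasi-compact, `f₀` of finite presentation). -/
lemma descends_isOpenImmersion [CompactSpace Y₀]
    [LocallyOfFinitePresentation f₀] [QuasiCompact f₀] :
    Descends D c @IsOpenImmersion i₀ f₀ g₀ := by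
  intro hP
  have hE : Topology.IsLocallyConstructible (Set.range f₀) := by
    rw [← Set.image_univ]
    exact f₀.isLocallyConstructible_image Topology.IsLocallyConstructible.univ
  obtain ⟨k, ψ, hk⟩ := (isOpen_preimage_snd_iff D c hc i₀ g₀ _ hE).mp (by
    rw [← range_bcMap]
    exact (bcMap (c.π.app i₀) f₀ g₀).isOpenEmbedding.isOpen_range)
  rw [← range_bcMap] at hk
  refine Descends.of_rebase ψ ?_ hP
  have : CompactSpace ↥(pullback (D.map ψ) g₀) := compactSpace_pbDiagram_obj D i₀ g₀ (Over.mk ψ)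
  have : LocallyOfFinitePresentation (bcMap (D.map ψ) f₀ g₀) :=
    bcMap_of_isStableUnderBaseChange (P := @LocallyOfFinitePresentation) _ _ _ inferInstance
  have : QuasiCompact (bcMap (D.map ψ) f₀ g₀) :=
    bcMap_of_isStableUnderBaseChange (P := @QuasiCompact) _ _ _ inferInstance
  exact descends_isOpenImmersion_of_isOpen_range D c hc k _ _ hk

include hc in
/-- Formal unramifiedness descends (`f₀` of finite type and quasi-separated, `X₀` quasi-compact). -/
lemma descends_formallyUnramified [CompactSpace X₀] [LocallyOfFiniteType f₀] [QuasiCompact f₀]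
    [QuasiSeparated f₀] : Descends D c @FormallyUnramified i₀ f₀ g₀ := by
  have : QuasiCompact (pullback.fst f₀ f₀) :=
    MorphismProperty.pullback_fst (P := @QuasiCompact) _ _ inferInstance
  have : CompactSpace ↥(pullback f₀ f₀) :=
    QuasiCompact.compactSpace_of_compactSpace (pullback.fst f₀ f₀)
  have : LocallyOfFinitePresentation (pullback.diagonal f₀) :=
    locallyOfFinitePresentation_diagonal f₀
  have h := (descends_isOpenImmersion D c hc i₀ (pullback.diagonal f₀)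
    (pullback.fst f₀ f₀ ≫ f₀ ≫ g₀)).diagonal
  intro hP
  have hlft {T : Scheme.{u}} (t : T ⟶ D.obj i₀) : LocallyOfFiniteType (bcMap t f₀ g₀) :=
    bcMap_of_isStableUnderBaseChange (P := @LocallyOfFiniteType) _ _ _ inferInstance
  have := hlft (c.π.app i₀)
  have hP' : FormallyUnramified (bcMap (c.π.app i₀) f₀ g₀) := hP
  obtain ⟨j, φ, hj⟩ := h (inferInstanceAs (IsOpenImmersion (pullback.diagonal _)))
  have hj' : IsOpenImmersion (pullback.diagonal (bcMap (D.map φ) f₀ g₀)) := hj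
  exact ⟨j, φ, inferInstance⟩

include hc in
/-- Closed immersions descend, for `f₀` an immersion of finite presentation. -/
lemma descends_isClosedImmersion_of_isImmersion [CompactSpace Y₀] [IsImmersion f₀]
    [LocallyOfFinitePresentation f₀] [QuasiCompact f₀] :
    Descends D c @IsClosedImmersion i₀ f₀ g₀ := by
  intro hP
  have hE : Topology.IsLocallyConstructible (Set.range f₀) := by
    rw [← Set.image_univ]
    exact f₀.isLocallyConstructible_image Topology.IsLocallyConstructible.univ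
  have hP' : IsClosedImmersion (bcMap (c.π.app i₀) f₀ g₀) := hP
  obtain ⟨j, φ, hj⟩ := (isClosed_preimage_snd_iff D c hc i₀ g₀ _ hE).mp (by
    rw [← range_bcMap]
    exact (bcMap (c.π.app i₀) f₀ g₀).isClosedEmbedding.isClosed_range)
  rw [← range_bcMap] at hj
  have : IsImmersion (bcMap (D.map φ) f₀ g₀) :=
    bcMap_of_isStableUnderBaseChange (P := @IsImmersion) _ _ _ inferInstance
  exact ⟨j, φ, IsClosedImmersion.of_isPreimmersion _ hj⟩

include hc in
/-- Separatedness descends (`f₀` of finite type and quasi-separated, `X₀` quasi-compact). -/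
lemma descends_isSeparated_of_finiteType [CompactSpace X₀] [LocallyOfFiniteType f₀]
    [QuasiCompact f₀] [QuasiSeparated f₀] : Descends D c @IsSeparated i₀ f₀ g₀ := by
  have : QuasiCompact (pullback.fst f₀ f₀) :=
    MorphismProperty.pullback_fst (P := @QuasiCompact) _ _ inferInstance
  have : CompactSpace ↥(pullback f₀ f₀) :=
    QuasiCompact.compactSpace_of_compactSpace (pullback.fst f₀ f₀)
  have : LocallyOfFinitePresentation (pullback.diagonal f₀) :=
    locallyOfFinitePresentation_diagonal f₀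
  refine (descends_isClosedImmersion_of_isImmersion D c hc i₀ (pullback.diagonal f₀)
    (pullback.fst f₀ f₀ ≫ f₀ ≫ g₀)).diagonal.congr fun f ↦ ?_
  exact ⟨fun h ↦ ⟨h⟩, fun h ↦ h.1⟩

omit [IsCofiltered I] [∀ {i j} (f : i ⟶ j), IsAffineHom (D.map f)] in
/-- A base-change-stable property ascends from a stage to the limit. -/
lemma bcMap_π_of_bcMap_map {P : MorphismProperty Scheme.{u}} [P.IsStableUnderBaseChange]
    {j : I} (φ : j ⟶ i₀) (h : P (bcMap (D.map φ) f₀ g₀)) : P (bcMap (c.π.app i₀) f₀ g₀) :=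
  MorphismProperty.of_isPullback (isPullback_pbCone_π_bcMap D c i₀ f₀ g₀ (Over.mk φ)) h

end openImm

end Groth.Agent.Lib.Helper24.Lim8
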