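import Groth.Agent.Lib.Helper24.Lim8DescendSmooth

/-!
# Pointwise descent through cofiltered limits (helper24)

For a property `P` local on the source which descends (in the sense of `Lim8.Descends`) for
quasi-compact sources, `P` holds near a point `x` of the limit iff it holds near the image of `x`
at some stage (EGA IV 17.7.8, pointwise form).  Also: ascending from a stage given in cartesian
form.
-/

set_option autoImplicit false

universe u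

open CategoryTheory CategoryTheory.Limits AlgebraicGeometry

namespace Groth.Agent.Lib.Helper24.Lim8

variable {I : Type u} [SmallCategory I] (D : I ⥤ Scheme.{u}) (c : Cone D)

section ascend

variable {D c} {i₀ j : I} (φ : j ⟶ i₀) {X₀ Y₀ : Scheme.{u}} {f₀ : X₀ ⟶ Y₀} {g₀ : Y₀ ⟶ D.obj i₀}
  {X Y : Scheme.{u}} {f : X ⟶ Y} {g : Y ⟶ c.pt} {qY : Y ⟶ Y₀} {qX : X ⟶ X₀}
  {Xj Yj : Scheme.{u}} {fj : Xj ⟶ Yj} {gj : Yj ⟶ D.obj j} {pY : Yj ⟶ Y₀} {pX : Xj ⟶ X₀}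

/-- The canonical map from the limit to a stage given in cartesian form, and the cartesian
square it fits in. -/
lemma exists_isPullback_of_stage (hY : IsPullback qY g g₀ (c.π.app i₀))
    (hX : IsPullback qX f f₀ qY) (h1 : IsPullback pY gj g₀ (D.map φ))
    (h2 : IsPullback pX fj f₀ pY) (rX : X ⟶ Xj) (e1 : rX ≫ pX = qX)
    (e2 : rX ≫ fj ≫ gj = f ≫ g ≫ c.π.app j) : ∃ rY : Y ⟶ Yj, IsPullback rX f fj rY := by
  have hw : qY ≫ g₀ = (g ≫ c.π.app j) ≫ D.map φ := by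
    rw [hY.w, Category.assoc, c.w]
  refine ⟨h1.lift qY (g ≫ c.π.app j) hw, ?_⟩
  have hcomm : rX ≫ fj = f ≫ h1.lift qY (g ≫ c.π.app j) hw := by
    apply h1.hom_ext
    · rw [Category.assoc, Category.assoc, h1.lift_fst, ← h2.w, reassoc_of% e1, hX.w]
    · rw [Category.assoc, Category.assoc, h1.lift_snd, e2]
  refine IsPullback.of_right ?_ hcomm h2
  rw [e1, h1.lift_fst]
  exact hX

/-- Existence of the canonical map from the limit to a stage given in cartesian form. -/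
lemma exists_hom_of_stage (hY : IsPullback qY g g₀ (c.π.app i₀))
    (hX : IsPullback qX f f₀ qY) (h1 : IsPullback pY gj g₀ (D.map φ))
    (h2 : IsPullback pX fj f₀ pY) :
    ∃ rX : X ⟶ Xj, rX ≫ pX = qX ∧ rX ≫ fj ≫ gj = f ≫ g ≫ c.π.app j := by
  have hw : qY ≫ g₀ = (g ≫ c.π.app j) ≫ D.map φ := by
    rw [hY.w, Category.assoc, c.w]
  have hw2 : qX ≫ f₀ = (f ≫ h1.lift qY (g ≫ c.π.app j) hw) ≫ pY := by
    rw [Category.assoc, h1.lift_fst, hX.w]
  refine ⟨h2.lift qX (f ≫ h1.lift qY (g ≫ c.π.app j) hw) hw2, h2.lift_fst _ _ _, ?_⟩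
  rw [reassoc_of% h2.lift_snd, Category.assoc, h1.lift_snd]

/-- A base-change-stable property ascends from a stage (cartesian form) to the limit. -/
lemma of_stage {P : MorphismProperty Scheme.{u}} [P.IsStableUnderBaseChange]
    (hY : IsPullback qY g g₀ (c.π.app i₀))
    (hX : IsPullback qX f f₀ qY) (h1 : IsPullback pY gj g₀ (D.map φ))
    (h2 : IsPullback pX fj f₀ pY) (hP : P fj) : P f := by
  obtain ⟨rX, e1, e2⟩ := exists_hom_of_stage φ hY hX h1 h2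
  obtain ⟨rY, h⟩ := exists_isPullback_of_stage φ hY hX h1 h2 rX e1 e2
  exact MorphismProperty.of_isPullback h hP

/-- A base-change-stable property ascends from a neighbourhood at a stage. -/
lemma of_stage_nhds {P : MorphismProperty Scheme.{u}} [P.IsStableUnderBaseChange]
    (hY : IsPullback qY g g₀ (c.π.app i₀))
    (hX : IsPullback qX f f₀ qY) (h1 : IsPullback pY gj g₀ (D.map φ))
    (h2 : IsPullback pX fj f₀ pY) (rX : X ⟶ Xj) (e1 : rX ≫ pX = qX)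
    (e2 : rX ≫ fj ≫ gj = f ≫ g ≫ c.π.app j) (V : Xj.Opens) (hP : P (V.ι ≫ fj)) :
    P ((rX ⁻¹ᵁ V).ι ≫ f) := by
  obtain ⟨rY, h⟩ := exists_isPullback_of_stage φ hY hX h1 h2 rX e1 e2
  exact MorphismProperty.of_isPullback ((isPullback_morphismRestrict rX V).paste_vert h) hP

end ascend

section descend

lemma comp_ι_of_le {P : MorphismProperty Scheme.{u}} [IsZariskiLocalAtSource P] {X Y : Scheme.{u}}
    (f : X ⟶ Y) {W U : X.Opens} (h : W ≤ U) (hP : P (U.ι ≫ f)) : P (W.ι ≫ f) := by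
  rw [← Scheme.homOfLE_ι _ h, Category.assoc]
  exact IsZariskiLocalAtSource.comp hP _

variable [IsCofiltered I] [∀ {i j} (f : i ⟶ j), IsAffineHom (D.map f)] (hc : IsLimit c) (i₀ : I)
  {X₀ Y₀ : Scheme.{u}} (f₀ : X₀ ⟶ Y₀) (g₀ : Y₀ ⟶ D.obj i₀)

include hc in
/-- If `P` (local on the source) descends for quasi-compact sources, then `P` near a point of the
limit descends to a neighbourhood of its image at some stage (canonical model). -/
theorem exists_stage_nhds {P : MorphismProperty Scheme.{u}} [IsZariskiLocalAtSource P]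
    (hdesc : ∀ (k : I) {X₁ Y₁ : Scheme.{u}} (f₁ : X₁ ⟶ Y₁) (g₁ : Y₁ ⟶ D.obj k) [CompactSpace X₁]
      [LocallyOfFinitePresentation f₁], Descends D c P k f₁ g₁)
    [LocallyOfFinitePresentation f₀]
    (x : ↥(pullback (c.π.app i₀) (f₀ ≫ g₀))) (U : (pullback (c.π.app i₀) (f₀ ≫ g₀)).Opens)
    (hxU : x ∈ U) (hP : P (U.ι ≫ bcMap (c.π.app i₀) f₀ g₀)) :
    ∃ (j : Over i₀) (V : (pullback (D.map j.hom) (f₀ ≫ g₀)).Opens),
      (pbCone D c i₀ (f₀ ≫ g₀)).π.app j x ∈ V ∧ P (V.ι ≫ bcMap (D.map j.hom) f₀ g₀) := by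
  obtain ⟨W, ⟨j, V, hV, rfl⟩, hxW, hWU⟩ := TopologicalSpace.Opens.isBasis_iff_nbhd.mp
    (isBasis_preimage_isAffineOpen (pbDiagram D i₀ (f₀ ≫ g₀)) (pbCone D c i₀ (f₀ ≫ g₀))
      (isLimitPbCone D c hc i₀ (f₀ ≫ g₀))) hxU
  have hP1 : P (((pbCone D c i₀ (f₀ ≫ g₀)).π.app j ⁻¹ᵁ V).ι ≫ bcMap (c.π.app i₀) f₀ g₀) :=
    comp_ι_of_le _ hWU hP
  have sq1 := isPullback_pbCone_π D c i₀ g₀ j
  have sq3 := (isPullback_morphismRestrict ((pbCone D c i₀ (f₀ ≫ g₀)).π.app j) V).paste_vert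
    (isPullback_pbCone_π_bcMap D c i₀ f₀ g₀ j)
  have hP2 : P (bcMap (c.π.app j.left) (V.ι ≫ bcMap (D.map j.hom) f₀ g₀)
      (pullback.fst (D.map j.hom) g₀)) := (bcMap_iff_of_isPullback sq1 sq3).mpr hP1
  have : CompactSpace V := isCompact_iff_compactSpace.mp hV.isCompact
  have h0 : LocallyOfFinitePresentation (bcMap (D.map j.hom) f₀ g₀) :=
    bcMap_of_isStableUnderBaseChange (P := @LocallyOfFinitePresentation) _ _ _ inferInstance
  have : LocallyOfFinitePresentation (V.ι ≫ bcMap (D.map j.hom) f₀ g₀) :=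
    MorphismProperty.comp_mem _ _ _ (inferInstance : LocallyOfFinitePresentation V.ι) h0
  obtain ⟨l, θ, hl⟩ := hdesc j.left (V.ι ≫ bcMap (D.map j.hom) f₀ g₀)
    (pullback.fst (D.map j.hom) g₀) hP2
  let j' : Over i₀ := Over.mk (θ ≫ j.hom)
  let θ' : j' ⟶ j := Over.homMk θ
  have sq4 := isPullback_pbDiagram_map D i₀ g₀ θ'
  have sq6 := (isPullback_morphismRestrict ((pbDiagram D i₀ (f₀ ≫ g₀)).map θ') V).paste_vert
    (isPullback_pbDiagram_map_bcMap D i₀ f₀ g₀ θ')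
  have hP3 : P (((pbDiagram D i₀ (f₀ ≫ g₀)).map θ' ⁻¹ᵁ V).ι ≫ bcMap (D.map j'.hom) f₀ g₀) :=
    (bcMap_iff_of_isPullback sq4 sq6).mp hl
  refine ⟨j', (pbDiagram D i₀ (f₀ ≫ g₀)).map θ' ⁻¹ᵁ V, ?_, hP3⟩
  have hw := (pbCone D c i₀ (f₀ ≫ g₀)).w θ'
  change ((pbDiagram D i₀ (f₀ ≫ g₀)).map θ') ((pbCone D c i₀ (f₀ ≫ g₀)).π.app j' x) ∈ V
  rw [← Scheme.Hom.comp_apply, hw]
  exact hxW

include hc in
/-- Pointwise descent, cartesian form (EGA IV 17.7.8 (ii)). -/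
theorem exists_stage_nhds_of_isPullback {P : MorphismProperty Scheme.{u}}
    [IsZariskiLocalAtSource P]
    (hdesc : ∀ (k : I) {X₁ Y₁ : Scheme.{u}} (f₁ : X₁ ⟶ Y₁) (g₁ : Y₁ ⟶ D.obj k) [CompactSpace X₁]
      [LocallyOfFinitePresentation f₁], Descends D c P k f₁ g₁)
    [LocallyOfFinitePresentation f₀]
    {X Y : Scheme.{u}} {f : X ⟶ Y} {g : Y ⟶ c.pt} {qY : Y ⟶ Y₀} {qX : X ⟶ X₀}
    (hY : IsPullback qY g g₀ (c.π.app i₀)) (hX : IsPullback qX f f₀ qY) (x : X) (U : X.Opens)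
    (hxU : x ∈ U) (hP : P (U.ι ≫ f)) :
    ∃ (j : I) (φ : j ⟶ i₀) (Xj Yj : Scheme.{u}) (fj : Xj ⟶ Yj) (gj : Yj ⟶ D.obj j) (pY : Yj ⟶ Y₀)
      (pX : Xj ⟶ X₀) (rX : X ⟶ Xj), IsPullback pY gj g₀ (D.map φ) ∧ IsPullback pX fj f₀ pY ∧
        rX ≫ pX = qX ∧ rX ≫ fj ≫ gj = f ≫ g ≫ c.π.app j ∧
          ∃ V : Xj.Opens, rX.base x ∈ V ∧ P (V.ι ≫ fj) := by
  obtain ⟨eX, eY, hcomm, hY1, hY2, hX2, hX1⟩ := exists_iso_bcMap hY hX
  have hbc : bcMap (c.π.app i₀) f₀ g₀ = eX.inv ≫ f ≫ eY.hom := by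
    rw [hcomm, Iso.inv_hom_id_assoc]
  have hP' : P ((eX.inv ⁻¹ᵁ U).ι ≫ bcMap (c.π.app i₀) f₀ g₀) := by
    rw [hbc, ← morphismRestrict_ι_assoc, P.cancel_left_of_respectsIso, ← Category.assoc,
      P.cancel_right_of_respectsIso]
    exact hP
  have hx' : eX.hom x ∈ eX.inv ⁻¹ᵁ U := by
    change eX.inv (eX.hom x) ∈ U
    rw [← Scheme.Hom.comp_apply, Iso.hom_inv_id]
    exact hxU
  obtain ⟨j, V, hxV, hPV⟩ := exists_stage_nhds D c hc i₀ f₀ g₀ hdesc (eX.hom x) _ hx' hP'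
  refine ⟨j.left, j.hom, pullback (D.map j.hom) (f₀ ≫ g₀), pullback (D.map j.hom) g₀,
    bcMap (D.map j.hom) f₀ g₀, pullback.fst _ _, pullback.snd _ _, pullback.snd _ _,
    eX.hom ≫ (pbCone D c i₀ (f₀ ≫ g₀)).π.app j, (IsPullback.of_hasPullback _ _).flip,
    isPullback_bcMap _ _ _, ?_, ?_, V, ?_, hPV⟩
  · have h := pbCone_π_snd D c i₀ (f₀ ≫ g₀) j
    rw [Category.assoc]
    exact (congrArg (eX.hom ≫ ·) h).trans hX2
  · have h := (isPullback_pbCone_π D c i₀ (f₀ ≫ g₀) j).w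
    rw [bcMap_fst, Category.assoc]
    refine (congrArg (eX.hom ≫ ·) h).trans ?_
    change eX.hom ≫ pullback.fst (c.π.app i₀) (f₀ ≫ g₀) ≫ c.π.app j.left = _
    rw [← Category.assoc, hX1, Category.assoc]
  · exact hxV

end descend

end Groth.Agent.Lib.Helper24.Lim8
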