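import Groth.Agent.Lib.Helper24.Lim8DescendFinite
import Groth.Agent.Lib.Helper25.ColimSys5

/-!
# Smooth / étale / unramified morphisms descend through cofiltered limits (helper24)

EGA IV 17.7.8.  The ring-theoretic core is helper25's `IsColimSys.exists_stage_*`; here we
translate to schemes (affine case), and reduce the general case to the affine one by working
locally on source and target.
-/

set_option autoImplicit false

universe u

open CategoryTheory CategoryTheory.Limits AlgebraicGeometry TensorProduct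

namespace Groth.Agent.Lib.Helper24.Lim8

section translate

/-- For affine `T`, `B`, `X₀`, the base change of `f₀ : X₀ ⟶ B` along `t : T ⟶ B` has `P` iff
`Γ(T) ⟶ Γ(T) ⊗[Γ(B)] Γ(X₀)` has the corresponding ring hom property. -/
lemma bcMap_id_iff_of_isAffine {P : MorphismProperty Scheme.{u}}
    {Q : ∀ {R S : Type u} [CommRing R] [CommRing S], (R →+* S) → Prop} [HasRingHomProperty P Q]
    {T B X₀ : Scheme.{u}} [IsAffine T] [IsAffine B] [IsAffine X₀] (t : T ⟶ B) (f₀ : X₀ ⟶ B) :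
    letI := t.appTop.hom.toAlgebra
    letI := f₀.appTop.hom.toAlgebra
    P (bcMap t f₀ (𝟙 B)) ↔ Q (algebraMap Γ(T, ⊤) (Γ(T, ⊤) ⊗[Γ(B, ⊤)] Γ(X₀, ⊤))) := by
  letI := t.appTop.hom.toAlgebra
  letI := f₀.appTop.hom.toAlgebra
  let pT : Spec (.of (Γ(T, ⊤) ⊗[Γ(B, ⊤)] Γ(X₀, ⊤))) ⟶ T :=
    Spec.map (CommRingCat.ofHom (algebraMap Γ(T, ⊤) (Γ(T, ⊤) ⊗[Γ(B, ⊤)] Γ(X₀, ⊤)))) ≫ T.isoSpec.inv
  let pX : Spec (.of (Γ(T, ⊤) ⊗[Γ(B, ⊤)] Γ(X₀, ⊤))) ⟶ X₀ :=
    Spec.map (CommRingCat.ofHom (Algebra.TensorProduct.includeRight (R := Γ(B, ⊤))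
      (A := Γ(T, ⊤)) (B := Γ(X₀, ⊤))).toRingHom) ≫ X₀.isoSpec.inv
  have h0 := isPullback_SpecMap_of_isPushout _ _ _ _
    (CommRingCat.isPushout_tensorProduct Γ(B, ⊤) Γ(T, ⊤) Γ(X₀, ⊤))
  have hpb : IsPullback pT pX t f₀ := by
    refine h0.of_iso (Iso.refl _) T.isoSpec.symm X₀.isoSpec.symm B.isoSpec.symm ?_ ?_ ?_ ?_
    · simp only [Iso.refl_hom, Category.id_comp, Iso.symm_hom]; rfl
    · simp only [Iso.refl_hom, Category.id_comp, Iso.symm_hom]; rfl
    · simp only [Iso.symm_hom]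
      exact Scheme.isoSpec_inv_naturality t
    · simp only [Iso.symm_hom]
      exact Scheme.isoSpec_inv_naturality f₀
  have hY : IsPullback t (𝟙 T) (𝟙 B) t := IsPullback.of_vert_isIso ⟨by simp⟩
  have h1 : P (bcMap t f₀ (𝟙 B)) ↔ P pT := bcMap_iff_of_isPullback hY hpb.flip
  rw [h1, P.cancel_right_of_respectsIso, HasRingHomProperty.Spec_iff (P := P)]
  rfl

end translate

section colimsys

variable {I : Type u} [SmallCategory I] [IsCofiltered I] (D : I ⥤ Scheme.{u}) (c : Cone D)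
  (hc : IsLimit c) [∀ i, IsAffine (D.obj i)] (i₀ : I)

/-- `Γ(D_j)` as an algebra over `Γ(D_{i₀})`, for `j ⟶ i₀`. -/
noncomputable abbrev stageAlgebra (j : Over i₀) : Algebra Γ(D.obj i₀, ⊤) Γ(D.obj j.left, ⊤) :=
  (D.map j.hom).appTop.hom.toAlgebra

/-- `Γ(lim D)` as an algebra over `Γ(D_{i₀})`. -/
noncomputable abbrev limAlgebra : Algebra Γ(D.obj i₀, ⊤) Γ(c.pt, ⊤) :=
  (c.π.app i₀).appTop.hom.toAlgebra

attribute [local instance] stageAlgebra limAlgebra

/-- The map `Γ(D_j) ⟶ Γ(lim D)` as an algebra map. -/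
noncomputable def stageToLim (j : Over i₀) : Γ(D.obj j.left, ⊤) →ₐ[Γ(D.obj i₀, ⊤)] Γ(c.pt, ⊤) :=
  { (c.π.app j.left).appTop.hom with
    commutes' := fun r ↦ appTop_hom_apply_eq (c.w j.hom) r }

/-- The transition map `Γ(D_j) ⟶ Γ(D_l)` as an algebra map. -/
noncomputable def stageMap {l j : Over i₀} (θ : l ⟶ j) :
    Γ(D.obj j.left, ⊤) →ₐ[Γ(D.obj i₀, ⊤)] Γ(D.obj l.left, ⊤) :=
  { (D.map θ.left).appTop.hom with
    commutes' := fun r ↦ appTop_hom_apply_eq
      (by rw [← D.map_comp, Over.w θ] : D.map θ.left ≫ D.map j.hom = D.map l.hom) r }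

lemma stageToLim_comp_stageMap {l j : Over i₀} (θ : l ⟶ j) :
    (stageToLim D c i₀ l).comp (stageMap D i₀ θ) = stageToLim D c i₀ j := by
  ext x
  exact appTop_hom_apply_eq (c.w θ.left) x

include hc in
/-- The rings of global sections of an affine cofiltered system form a colimit system. -/
lemma isColimSys_Γ :
    Groth.Agent.Lib.Helper25.IsColimSys Γ(D.obj i₀, ⊤) (fun j : Over i₀ ↦ Γ(D.obj j.left, ⊤))
      Γ(c.pt, ⊤) (stageToLim D c i₀)
      (fun j l ↦ {φ | (stageToLim D c i₀ l).comp φ = stageToLim D c i₀ j}) where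
  nonempty := ⟨Over.mk (𝟙 i₀)⟩
  id_mem j := AlgHom.comp_id _
  comp_mem {i j l φ ψ} hφ hψ := by
    change (stageToLim D c i₀ l).comp (ψ.comp φ) = stageToLim D c i₀ i
    have hφ' : (stageToLim D c i₀ j).comp φ = stageToLim D c i₀ i := hφ
    have hψ' : (stageToLim D c i₀ l).comp ψ = stageToLim D c i₀ j := hψ
    rw [← AlgHom.comp_assoc, hψ', hφ']
  compat hφ := hφ
  directed j j' := by
    obtain ⟨l, a, a', -⟩ := IsCofilteredOrEmpty.cone_objs j j'
    exact ⟨l, stageMap D i₀ a, stageMap D i₀ a', stageToLim_comp_stageMap D c i₀ a,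
      stageToLim_comp_stageMap D c i₀ a'⟩
  surj a := by
    obtain ⟨i, x, hx⟩ := exists_appTop_π_eq_of_isAffine_of_isLimit D c hc a
    refine ⟨Over.mk (IsCofiltered.minToRight i i₀),
      (D.map (IsCofiltered.minToLeft i i₀)).appTop.hom x, ?_⟩
    rw [← hx]
    exact appTop_hom_apply_eq (c.w (IsCofiltered.minToLeft i i₀)) x
  ker j x hx := by
    obtain ⟨i', f, hf⟩ := exists_appTop_map_eq_zero_of_isAffine_of_isLimit D c hc j.left x hx
    let θ : Over.mk (f ≫ j.hom) ⟶ j := Over.homMk f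
    exact ⟨Over.mk (f ≫ j.hom), stageMap D i₀ θ, stageToLim_comp_stageMap D c i₀ θ, hf⟩

end colimsys

/-- A ring hom property descends to a stage of a colimit system (for base changes of a finitely
presented algebra). -/
def RingDescends (Q : ∀ {R S : Type u} [CommRing R] [CommRing S], (R →+* S) → Prop) : Prop :=
  ∀ {k : Type u} [CommRing k] {ι : Type u} {R' : ι → Type u} [∀ i, CommRing (R' i)]
    [∀ i, Algebra k (R' i)] {R : Type u} [CommRing R] [Algebra k R] {ρ : ∀ i, R' i →ₐ[k] R}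
    {Φ : ∀ i j, Set (R' i →ₐ[k] R' j)} (_ : Groth.Agent.Lib.Helper25.IsColimSys k R' R ρ Φ)
    (C : Type u) [CommRing C] [Algebra k C] [Algebra.FinitePresentation k C],
    Q (algebraMap R (R ⊗[k] C)) → ∃ i, Q (algebraMap (R' i) (R' i ⊗[k] C))

section absolute

variable {I : Type u} [SmallCategory I] [IsCofiltered I] (D : I ⥤ Scheme.{u}) (c : Cone D)
  (hc : IsLimit c) [∀ i, IsAffine (D.obj i)] (i₀ : I)

attribute [local instance] stageAlgebra limAlgebra

include hc in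
/-- Absolute affine case of the descent of a property associated with a ring hom property. -/
lemma descends_abs_of_isAffine {P : MorphismProperty Scheme.{u}}
    {Q : ∀ {R S : Type u} [CommRing R] [CommRing S], (R →+* S) → Prop} [HasRingHomProperty P Q]
    (hQ : RingDescends Q) {X₀ : Scheme.{u}} [IsAffine X₀] (f₀ : X₀ ⟶ D.obj i₀)
    [LocallyOfFinitePresentation f₀] : Descends D c P i₀ f₀ (𝟙 _) := by
  intro hP
  have : IsAffine c.pt := Scheme.isAffine_of_isLimit c hc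
  letI : Algebra Γ(D.obj i₀, ⊤) Γ(X₀, ⊤) := f₀.appTop.hom.toAlgebra
  have hfp : Algebra.FinitePresentation Γ(D.obj i₀, ⊤) Γ(X₀, ⊤) :=
    (HasRingHomProperty.iff_of_isAffine (P := @LocallyOfFinitePresentation)).mp ‹_›
  have hP' := (bcMap_id_iff_of_isAffine (P := P) (Q := Q) (T := c.pt) (c.π.app i₀) f₀).mp hP
  obtain ⟨j, hj⟩ := hQ (isColimSys_Γ D c hc i₀) Γ(X₀, ⊤) hP'
  exact ⟨j.left, j.hom, (bcMap_id_iff_of_isAffine (P := P) (Q := Q) (D.map j.hom) f₀).mpr hj⟩

end absolute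

section instances

open Groth.Agent.Lib.Helper25 in
lemma ringDescends_smooth : RingDescends (fun {R S} [CommRing R] [CommRing S] f ↦ f.Smooth) := by
  intro k _ ι R' _ _ R _ _ ρ Φ h C _ _ _ hs
  rw [RingHom.smooth_algebraMap] at hs
  obtain ⟨i, hi⟩ := h.exists_stage_formallySmooth C hs.formallySmooth
  exact ⟨i, RingHom.smooth_algebraMap.mpr ⟨hi, inferInstance⟩⟩

open Groth.Agent.Lib.Helper25 in
lemma ringDescends_etale : RingDescends (fun {R S} [CommRing R] [CommRing S] f ↦ f.Etale) := by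
  intro k _ ι R' _ _ R _ _ ρ Φ h C _ _ _ hs
  rw [RingHom.etale_algebraMap] at hs
  obtain ⟨i, hi⟩ := h.exists_stage_etale C hs
  exact ⟨i, RingHom.etale_algebraMap.mpr hi⟩

open Groth.Agent.Lib.Helper25 in
lemma ringDescends_formallyUnramified :
    RingDescends (fun {R S} [CommRing R] [CommRing S] f ↦ f.FormallyUnramified) := by
  intro k _ ι R' _ _ R _ _ ρ Φ h C _ _ _ hs
  rw [RingHom.formallyUnramified_algebraMap] at hs
  obtain ⟨i, hi⟩ := h.exists_stage_formallyUnramified C hs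
  exact ⟨i, RingHom.formallyUnramified_algebraMap.mpr hi⟩

end instances

section srcLocal

variable {P : MorphismProperty Scheme.{u}}

/-- A base-change-stable property can be cancelled against a monomorphism on the right. -/
lemma of_comp_mono [P.IsStableUnderBaseChange] {X Y Z : Scheme.{u}} (f : X ⟶ Y) (ι : Y ⟶ Z)
    [Mono ι] (h : P (f ≫ ι)) : P f := by
  have h1 : IsPullback (𝟙 Y) (𝟙 Y) ι ι := IsKernelPair.id_of_mono ι
  have h2 : IsPullback f (𝟙 X) (𝟙 Y) f := IsPullback.of_vert_isIso ⟨by simp⟩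
  have h3 := (h2.paste_horiz h1).flip
  have := MorphismProperty.of_isPullback h3 h
  simpa using this

variable {B T X₀ Y₀ : Scheme.{u}} (t : T ⟶ B) (f₀ : X₀ ⟶ Y₀) (g₀ : Y₀ ⟶ B)

/-- Restricting source and target of `f₀` preserves `P` of the base change. -/
lemma bcMap_resLE [P.IsStableUnderBaseChange] [IsZariskiLocalAtSource P] (U : X₀.Opens)
    (V : Y₀.Opens) (e : U ≤ f₀ ⁻¹ᵁ V) (h : P (bcMap t f₀ g₀)) :
    P (bcMap t (f₀.resLE V U e) (V.ι ≫ g₀)) := by
  have : IsOpenImmersion (bcMap t U.ι (f₀ ≫ g₀)) :=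
    bcMap_of_isStableUnderBaseChange (P := @IsOpenImmersion) t U.ι _ inferInstance
  have : IsOpenImmersion (bcMap t V.ι g₀) :=
    bcMap_of_isStableUnderBaseChange (P := @IsOpenImmersion) t V.ι _ inferInstance
  have h1 : P (bcMap t U.ι (f₀ ≫ g₀) ≫ bcMap t f₀ g₀) := IsZariskiLocalAtSource.comp h _
  have h2 : P (bcMap t (U.ι ≫ f₀) g₀) := (bcMap_comp_iff t U.ι f₀ g₀ (U.ι ≫ f₀) rfl).mp h1
  have h3 : P (bcMap t (f₀.resLE V U e ≫ V.ι) g₀) := by rwa [Scheme.Hom.resLE_comp_ι]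
  have h4 : P (bcMap t (f₀.resLE V U e) (V.ι ≫ g₀) ≫ bcMap t V.ι g₀) :=
    (bcMap_comp_iff t (f₀.resLE V U e) V.ι g₀ _ rfl).mpr h3
  exact of_comp_mono _ _ h4

/-- `P` of the base change can be checked on an open cover of the source of `f₀`. -/
lemma bcMap_of_resLE [IsZariskiLocalAtSource P] [P.RespectsRight @IsOpenImmersion] {ι : Type*}
    (U : ι → X₀.Opens) (hU : iSup U = ⊤) (V : ι → Y₀.Opens) (e : ∀ a, U a ≤ f₀ ⁻¹ᵁ V a)
    (h : ∀ a, P (bcMap t (f₀.resLE (V a) (U a) (e a)) ((V a).ι ≫ g₀))) : P (bcMap t f₀ g₀) := by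
  rw [IsZariskiLocalAtSource.iff_of_iSup_eq_top (P := P)
    (fun a ↦ pullback.snd t (f₀ ≫ g₀) ⁻¹ᵁ U a) (by rw [← Scheme.Hom.preimage_iSup, hU]; rfl)]
  intro a
  have : IsOpenImmersion (bcMap t (U a).ι (f₀ ≫ g₀)) :=
    bcMap_of_isStableUnderBaseChange (P := @IsOpenImmersion) t (U a).ι _ inferInstance
  have : IsOpenImmersion (bcMap t (V a).ι g₀) :=
    bcMap_of_isStableUnderBaseChange (P := @IsOpenImmersion) t (V a).ι _ inferInstance
  have hr : Set.range (pullback.snd t (f₀ ≫ g₀) ⁻¹ᵁ U a).ι =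
      Set.range (bcMap t (U a).ι (f₀ ≫ g₀)) := by
    rw [range_bcMap, Scheme.Opens.range_ι, Scheme.Opens.range_ι]
    rfl
  rw [← IsOpenImmersion.isoOfRangeEq_hom_fac _ (bcMap t (U a).ι (f₀ ≫ g₀)) hr, Category.assoc,
    P.cancel_left_of_respectsIso, bcMap_comp_iff (P := P) t (U a).ι f₀ g₀ _ rfl,
    ← Scheme.Hom.resLE_comp_ι _ (e a),
    ← bcMap_comp_iff (P := P) t (f₀.resLE _ _ (e a)) (V a).ι g₀ _ rfl]
  exact MorphismProperty.RespectsRight.postcomp (Q := @IsOpenImmersion) _ inferInstance _ (h a)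

variable {I : Type u} [Category.{u} I] {D : I ⥤ Scheme.{u}} {c : Cone D}
variable [IsCofiltered I] {i₀ : I} {X₀ Y₀ : Scheme.{u}} {f₀ : X₀ ⟶ Y₀} {g₀ : Y₀ ⟶ D.obj i₀}

/-- Descent of a property local on source can be checked on a finite open cover of `X₀`. -/
lemma Descends.of_source_cover [P.IsStableUnderBaseChange] [IsZariskiLocalAtSource P]
    [P.RespectsRight @IsOpenImmersion] {ι : Type*} [Finite ι]
    (U : ι → X₀.Opens) (hU : iSup U = ⊤) (V : ι → Y₀.Opens) (e : ∀ a, U a ≤ f₀ ⁻¹ᵁ V a)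
    (h : ∀ a, Descends D c P i₀ (f₀.resLE (V a) (U a) (e a)) ((V a).ι ≫ g₀)) :
    Descends D c P i₀ f₀ g₀ := by
  classical
  intro hP
  have := Fintype.ofFinite ι
  choose j φ hj using fun a ↦ h a (bcMap_resLE (c.π.app i₀) f₀ g₀ (U a) (V a) (e a) hP)
  let jo (a : ι) : Over i₀ := Over.mk (φ a)
  obtain ⟨j₁, hj₁⟩ := IsCofiltered.inf_objs_exists (Finset.univ.image jo)
  refine ⟨j₁.left, j₁.hom, bcMap_of_resLE (D.map j₁.hom) f₀ g₀ U hU V e fun a ↦ ?_⟩
  let θ : j₁ ⟶ jo a := (hj₁ (Finset.mem_image_of_mem jo (Finset.mem_univ a))).some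
  exact MorphismProperty.of_isPullback
    (isPullback_pbDiagram_map_bcMap D i₀ (f₀.resLE (V a) (U a) (e a)) ((V a).ι ≫ g₀) θ) (hj a)

end srcLocal

section general

variable {I : Type u} [SmallCategory I] [IsCofiltered I] (D : I ⥤ Scheme.{u}) (c : Cone D)
  (hc : IsLimit c) [∀ {i j} (f : i ⟶ j), IsAffineHom (D.map f)] (i₀ : I)
  {X₀ Y₀ : Scheme.{u}} (f₀ : X₀ ⟶ Y₀) (g₀ : Y₀ ⟶ D.obj i₀)

include hc in
/-- Affine case of the descent of a property associated with a ring hom property. -/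
lemma descends_of_isAffine {P : MorphismProperty Scheme.{u}}
    {Q : ∀ {R S : Type u} [CommRing R] [CommRing S], (R →+* S) → Prop} [HasRingHomProperty P Q]
    (hQ : RingDescends Q) [IsAffine X₀] [IsAffine Y₀] [LocallyOfFinitePresentation f₀] :
    Descends D c P i₀ f₀ g₀ := by
  apply Descends.of_absolute
  have (j : Over i₀) : IsAffine ((pbDiagram D i₀ g₀).obj j) := isAffine_pbDiagram_obj D i₀ g₀ j
  exact descends_abs_of_isAffine (pbDiagram D i₀ g₀) (pbCone D c i₀ g₀)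
    (isLimitPbCone D c hc i₀ g₀) (Over.mk (𝟙 i₀)) hQ _

include hc in
/-- **Descent of a property associated with a ring hom property** (e.g. smooth, étale,
unramified): `X₀` quasi-compact, `f₀` locally of finite presentation. -/
theorem descends_of_hasRingHomProperty {P : MorphismProperty Scheme.{u}}
    {Q : ∀ {R S : Type u} [CommRing R] [CommRing S], (R →+* S) → Prop} [HasRingHomProperty P Q]
    [P.IsStableUnderBaseChange] [P.RespectsRight @IsOpenImmersion]
    (hQ : RingDescends Q) [CompactSpace X₀] [LocallyOfFinitePresentation f₀] :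
    Descends D c P i₀ f₀ g₀ := by
  have key : ∀ x : X₀, ∃ (U : X₀.Opens) (V : Y₀.Opens), IsAffineOpen U ∧ IsAffineOpen V ∧ x ∈ U ∧
      U ≤ f₀ ⁻¹ᵁ V := by
    intro x
    obtain ⟨_, ⟨V, hV, rfl⟩, hxV, -⟩ := Y₀.isBasis_affineOpens.exists_subset_of_mem_open
      (Set.mem_univ (f₀ x)) isOpen_univ
    obtain ⟨_, ⟨U, hU, rfl⟩, hxU, hUV⟩ := X₀.isBasis_affineOpens.exists_subset_of_mem_open
      hxV (V.2.preimage f₀.continuous)
    exact ⟨U, V, hU, hV, hxU, hUV⟩
  choose U V hU hV hxU e using key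
  obtain ⟨s, hs⟩ := CompactSpace.elim_nhds_subcover (fun x ↦ (U x : Set X₀))
    (fun x ↦ (U x).2.mem_nhds (hxU x))
  refine Descends.of_source_cover (ι := s) (fun x ↦ U x) ?_ (fun x ↦ V x) (fun x ↦ e x) fun x ↦ ?_
  · rw [eq_top_iff]
    rintro y -
    have hy : y ∈ ⋃ x ∈ s, (U x : Set X₀) := hs ▸ Set.mem_univ y
    obtain ⟨x, hx, hyx⟩ := Set.mem_iUnion₂.mp hy
    exact TopologicalSpace.Opens.mem_iSup.mpr ⟨⟨x, hx⟩, hyx⟩
  · have : IsAffine (U x.1).toScheme := hU x.1
    have : IsAffine (V x.1).toScheme := hV x.1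
    have : LocallyOfFinitePresentation (f₀.resLE (V x.1) (U x.1) (e x.1)) :=
      IsZariskiLocalAtSource.resLE (e x.1) ‹_›
    exact descends_of_isAffine D c hc i₀ _ _ hQ

include hc in
/-- Smoothness descends (EGA IV 17.7.8). -/
theorem descends_smooth [CompactSpace X₀] [LocallyOfFinitePresentation f₀] :
    Descends D c @Smooth i₀ f₀ g₀ :=
  descends_of_hasRingHomProperty D c hc i₀ f₀ g₀ ringDescends_smooth

instance : MorphismProperty.RespectsRight @Etale @IsOpenImmersion where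
  postcomp i hi f hf := MorphismProperty.comp_mem _ f i hf (by have := hi; infer_instance)

instance : MorphismProperty.RespectsRight @FormallyUnramified @IsOpenImmersion where
  postcomp i hi f hf := MorphismProperty.comp_mem _ f i hf (by have := hi; infer_instance)

include hc in
/-- Étaleness descends (EGA IV 17.7.8). -/
theorem descends_etale [CompactSpace X₀] [LocallyOfFinitePresentation f₀] :
    Descends D c @Etale i₀ f₀ g₀ :=
  descends_of_hasRingHomProperty D c hc i₀ f₀ g₀ ringDescends_etale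

include hc in
/-- Unramifiedness descends (EGA IV 17.7.8), without separation hypotheses. -/
theorem descends_formallyUnramified' [CompactSpace X₀] [LocallyOfFinitePresentation f₀] :
    Descends D c @FormallyUnramified i₀ f₀ g₀ :=
  descends_of_hasRingHomProperty D c hc i₀ f₀ g₀ ringDescends_formallyUnramified

end general

end Groth.Agent.Lib.Helper24.Lim8
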