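import Groth.Agent.Lib.Helper24.DirColim

/-!
# Locally of finite presentation from factorization of maps out of limits of affine schemes
(EGA IV 8.14.2, necessity; Stacks 01ZC converse)
-/

universe u

open CategoryTheory Limits AlgebraicGeometry

namespace Groth.Agent.Lib.Helper24.Lim8

open DirColim

/-- The factorization hypothesis over an open `U` of the base: every `S`-morphism from a directed
limit of affine `U`-schemes to `X` factors through a stage. -/
def FactorsOver {X S : Scheme.{u}} (f : X ⟶ S) (U : S.Opens) : Prop :=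
  ∀ (J : Type u) [Preorder J] [IsDirected J (· ≤ ·)] [Nonempty J] (D : Jᵒᵖ ⥤ Scheme.{u})
    (t : D ⟶ (Functor.const Jᵒᵖ).obj (U : Scheme.{u})) (c : Cone D) (_ : IsLimit c),
    (∀ j, IsAffine (D.obj j)) → ∀ (j₀ : Jᵒᵖ) (g : c.pt ⟶ X),
      g ≫ f = c.π.app j₀ ≫ t.app j₀ ≫ U.ι →
      ∃ (j : Jᵒᵖ) (gj : D.obj j ⟶ X), gj ≫ f = t.app j ≫ U.ι ∧ c.π.app j ≫ gj = g

set_option backward.isDefEq.respectTransparency false in
lemma factors_appLE {X S : Scheme.{u}} (f : X ⟶ S) {U : S.Opens} (hU : IsAffineOpen U)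
    {V : X.Opens} (hV : IsAffineOpen V) (e : V ≤ f ⁻¹ᵁ U) (H : FactorsOver f U) :
    Factors (f.appLE U V e).hom := by
  intro J _ _ _ C tc htc a ha ψ hψ
  let D : Jᵒᵖ ⥤ Scheme.{u} := C.op ⋙ Scheme.Spec
  let c : Cone D := Scheme.Spec.mapCone tc.op
  have hc : IsLimit c := isLimitOfPreserves Scheme.Spec htc.op
  let t : D ⟶ (Functor.const Jᵒᵖ).obj (U : Scheme.{u}) :=
    { app j := Spec.map (CommRingCat.ofHom (a j.unop)) ≫ hU.isoSpec.inv
      naturality j k h := by
        simp only [Functor.const_obj_obj, Functor.const_obj_map, Category.comp_id]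
        change Spec.map (C.map h.unop) ≫ Spec.map (CommRingCat.ofHom (a k.unop)) ≫ _ = _
        rw [← Spec.map_comp_assoc]
        congr 2
        ext x
        exact congr($(ha k.unop j.unop h.unop) x) }
  have hDaff (j : Jᵒᵖ) : IsAffine (D.obj j) := by dsimp [D]; infer_instance
  obtain ⟨j₀⟩ : Nonempty Jᵒᵖ := inferInstance
  let g : c.pt ⟶ X := Spec.map (CommRingCat.ofHom ψ) ≫ hV.fromSpec
  have hg : g ≫ f = c.π.app j₀ ≫ t.app j₀ ≫ U.ι := by
    simp only [g, t, Category.assoc, IsAffineOpen.isoSpec_inv_ι]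
    rw [← IsAffineOpen.SpecMap_appLE_fromSpec f hU hV e, ← Spec.map_comp_assoc]
    change _ = Spec.map (tc.ι.app j₀.unop) ≫ _
    rw [← Spec.map_comp_assoc]
    congr 2
    ext x
    exact congr($(hψ j₀.unop) x)
  obtain ⟨j, gj, hgj1, hgj2⟩ := H J D t c hc hDaff j₀ g hg
  -- shrink so that the map lands in `V`
  have hD {i k : Jᵒᵖ} (h : i ⟶ k) : IsAffineHom (D.map h) := by
    dsimp [D]; infer_instance
  have hDc (i : Jᵒᵖ) : CompactSpace (D.obj i) := by
    have := hDaff i; infer_instance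
  have htop : c.π.app j ⁻¹ᵁ (gj ⁻¹ᵁ V) = ⊤ := by
    rw [← Scheme.Hom.comp_preimage, hgj2]
    simp only [g, Scheme.Hom.comp_preimage, IsAffineOpen.fromSpec_preimage_self]
    rfl
  obtain ⟨k, fkj, hk⟩ := exists_map_eq_top D c hc (gj ⁻¹ᵁ V) htop
  let gk : D.obj k ⟶ X := D.map fkj ≫ gj
  have hrange : Set.range gk ⊆ Set.range hV.fromSpec := by
    rw [hV.range_fromSpec]
    rintro _ ⟨x, rfl⟩
    have : x ∈ (D.map fkj ⁻¹ᵁ (gj ⁻¹ᵁ V) : (D.obj k).Opens) := hk ▸ trivial
    exact this
  let gk' : D.obj k ⟶ Spec Γ(X, V) := IsOpenImmersion.lift hV.fromSpec gk hrange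
  have hgk' : gk' ≫ hV.fromSpec = gk := IsOpenImmersion.lift_fac _ _ _
  let ψk : Γ(X, V) ⟶ C.obj k.unop := Spec.preimage gk'
  have hψk : Spec.map ψk = gk' := Spec.map_preimage gk'
  refine ⟨k.unop, ψk.hom, ?_, ?_⟩
  · have h1 : Spec.map (f.appLE U V e ≫ ψk) = Spec.map (CommRingCat.ofHom (a k.unop)) := by
      rw [← cancel_mono hU.fromSpec, Spec.map_comp, Category.assoc,
        IsAffineOpen.SpecMap_appLE_fromSpec f hU hV e, hψk, reassoc_of% hgk']
      simp only [gk, Category.assoc, hgj1]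
      have := t.naturality fkj
      simp only [Functor.const_obj_obj, Functor.const_obj_map, Category.comp_id] at this
      rw [reassoc_of% this]
      simp only [t, Category.assoc, IsAffineOpen.isoSpec_inv_ι]
    have h2 := Spec.map_injective h1
    ext x
    exact congr($h2 x)
  · have h1 : Spec.map (ψk ≫ tc.ι.app k.unop) = Spec.map (CommRingCat.ofHom ψ) := by
      rw [← cancel_mono hV.fromSpec, Spec.map_comp, Category.assoc, hψk, hgk']
      change c.π.app k ≫ D.map fkj ≫ gj = g
      rw [c.w_assoc, hgj2]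
    have h2 := Spec.map_injective h1
    ext x
    exact congr($h2 x)

/-- If every affine open of the base satisfies the factorization hypothesis, the morphism is
locally of finite presentation. -/
lemma locallyOfFinitePresentation_of_factorsOver {X S : Scheme.{u}} (f : X ⟶ S)
    (H : ∀ U : S.Opens, IsAffineOpen U → FactorsOver f U) : LocallyOfFinitePresentation f := by
  rw [HasRingHomProperty.iff_appLE (P := @LocallyOfFinitePresentation)]
  intro U V e
  exact finitePresentation_of_factors _ (factors_appLE f U.2 V.2 e (H U.1 U.2))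

end Groth.Agent.Lib.Helper24.Lim8
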