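import Groth.Agent.Lib.Helper24.Lim8
import Mathlib.AlgebraicGeometry.Morphisms.Flat
import Mathlib.RingTheory.Flat.EquationalCriterion

/-!
# Flatness of the projections of a cofiltered limit of schemes (helper24)
-/

set_option autoImplicit false

open CategoryTheory CategoryTheory.Limits AlgebraicGeometry

universe u

namespace Groth.Agent.Lib.Helper24.Lim8

/-- A ring map `φ : A → B` is flat as soon as every linear relation in `B` with coefficients in `A`
lifts to a relation in a flat `A`-algebra `B'` mapping to `B`. -/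
lemma ringHom_flat_of_forall_exists_factor {A B : Type u} [CommRing A] [CommRing B] (φ : A →+* B)
    (H : ∀ (l : ℕ) (f : Fin l → A) (x : Fin l → B), ∑ i, φ (f i) * x i = 0 →
      ∃ (B' : Type u) (_ : CommRing B') (α : A →+* B') (β : B' →+* B) (x' : Fin l → B'),
        α.Flat ∧ β.comp α = φ ∧ (∀ i, β (x' i) = x i) ∧ ∑ i, α (f i) * x' i = 0) : φ.Flat := by
  algebraize [φ]
  apply Module.Flat.of_forall_isTrivialRelation
  intro l f x h
  have h' : ∑ i, φ (f i) * x i = 0 := by
    simpa [Algebra.smul_def, RingHom.algebraMap_toAlgebra] using h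
  obtain ⟨B', _, α, β, x', hα, hβα, hx', h''⟩ := H l f x h'
  algebraize [α]
  have h3 : ∑ i, f i • x' i = 0 := by
    simpa [Algebra.smul_def, RingHom.algebraMap_toAlgebra] using h''
  obtain ⟨k, a, y, hxy, ha⟩ := Module.Flat.isTrivialRelation_of_sum_smul_eq_zero h3
  refine ⟨k, a, β ∘ y, fun i ↦ ?_, ha⟩
  rw [← hx' i, hxy i, map_sum]
  refine Finset.sum_congr rfl fun j _ ↦ ?_
  simp only [Algebra.smul_def, RingHom.algebraMap_toAlgebra, map_mul, Function.comp_apply, ← hβα,
    RingHom.comp_apply]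

variable {J : Type u} [Category.{u} J] [IsCofiltered J] (F : J ⥤ Scheme.{u}) (cF : Cone F)
  (hcF : IsLimit cF)

include hcF in
/-- Finitely many global sections of an affine limit come from a common stage over `j₀`. -/
lemma exists_appTop_π_eq_of_finite [∀ j, IsAffine (F.obj j)] (j₀ : J) {l : ℕ}
    (x : Fin l → Γ(cF.pt, ⊤)) :
    ∃ (j : J) (_ : j ⟶ j₀) (x' : Fin l → Γ(F.obj j, ⊤)),
      ∀ i, (cF.π.app j).appTop (x' i) = x i := by
  classical
  choose js t ht using fun i ↦ exists_appTop_π_eq_of_isAffine_of_isLimit F cF hcF (x i)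
  obtain ⟨j, hj⟩ := IsCofiltered.inf_objs_exists (insert j₀ (Finset.univ.image js))
  have g₀ : j ⟶ j₀ := (hj (Finset.mem_insert_self _ _)).some
  have g : ∀ i, j ⟶ js i := fun i ↦
    (hj (Finset.mem_insert_of_mem (Finset.mem_image_of_mem _ (Finset.mem_univ i)))).some
  refine ⟨j, g₀, fun i ↦ (F.map (g i)).appTop (t i), fun i ↦ ?_⟩
  rw [← ht i, ← cF.w (g i), Scheme.Hom.comp_appTop, CommRingCat.comp_apply]

include hcF in
/-- For a cofiltered diagram of affine schemes, if all transition maps into `F.obj j₀` are flat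
then so is the projection from the limit. -/
lemma flat_π_app_of_isAffine [∀ j, IsAffine (F.obj j)] (j₀ : J)
    (h : ∀ (j : J) (g : j ⟶ j₀), Flat (F.map g)) : Flat (cF.π.app j₀) := by
  have : IsAffine cF.pt := Scheme.isAffine_of_isLimit _ hcF
  have : IsAffine (((Functor.const J).obj cF.pt).obj j₀) := this
  rw [HasRingHomProperty.iff_of_isAffine (P := @Flat)]
  apply ringHom_flat_of_forall_exists_factor
  intro l f x hx
  obtain ⟨j, g, x', hx'⟩ := exists_appTop_π_eq_of_finite F cF hcF j₀ x
  set r : Γ(F.obj j, ⊤) := ∑ i, (F.map g).appTop (f i) * x' i with hr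
  have hr0 : (cF.π.app j).appTop r = 0 := by
    rw [hr, map_sum, ← hx]
    refine Finset.sum_congr rfl fun i _ ↦ ?_
    rw [map_mul, hx' i, ← CommRingCat.comp_apply, ← Scheme.Hom.comp_appTop, cF.w g]
  obtain ⟨j', k, hk⟩ := exists_appTop_map_eq_zero_of_isAffine_of_isLimit F cF hcF j r hr0
  refine ⟨Γ(F.obj j', ⊤), inferInstance, (F.map (k ≫ g)).appTop.hom, (cF.π.app j').appTop.hom,
    fun i ↦ (F.map k).appTop (x' i), ?_, ?_, fun i ↦ ?_, ?_⟩
  · have := h j' (k ≫ g)
    rwa [HasRingHomProperty.iff_of_isAffine (P := @Flat)] at this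
  · rw [← CommRingCat.hom_comp, ← Scheme.Hom.comp_appTop, cF.w]
  · rw [← hx' i]
    change ((F.map k).appTop ≫ (cF.π.app j').appTop) (x' i) = _
    rw [← Scheme.Hom.comp_appTop, cF.w]
  · rw [hr, map_sum] at hk
    rw [← hk]
    refine Finset.sum_congr rfl fun i _ ↦ ?_
    rw [map_mul, F.map_comp, Scheme.Hom.comp_appTop]
    rfl

variable {I : Type u} [Category.{u} I] (D : I ⥤ Scheme.{u}) (c : Cone D) (hc : IsLimit c)

set_option backward.isDefEq.respectTransparency false in
include hc in
/-- If all transition maps into `D.obj i` are flat, so is the projection from the limit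
(EGA IV 8.3.8 (ii)). -/
lemma flat_π_app [IsCofiltered I] [∀ {i j} (f : i ⟶ j), IsAffineHom (D.map f)] (i : I)
    (h : ∀ (j : I) (φ : j ⟶ i), Flat (D.map φ)) : Flat (c.π.app i) := by
  rw [IsZariskiLocalAtTarget.iff_of_iSup_eq_top (P := @Flat) _ (iSup_affineOpens_eq_top _)]
  intro V
  have (j : Over i) : IsAffine ((opensDiagram D i V.1).obj j) := V.2.preimage (D.map _)
  have key := flat_π_app_of_isAffine (opensDiagram D i V.1) (opensCone D c i V.1)
    (isLimitOpensCone D c hc i V.1) (Over.mk (𝟙 i)) (fun j g ↦ by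
      have := h j.left g.left
      dsimp [opensDiagram]
      infer_instance)
  rw [← Scheme.Hom.resLE_eq_morphismRestrict]
  have e₁ : D.map (Over.mk (𝟙 i)).hom ⁻¹ᵁ V.1 = V.1 := by simp
  exact (Scheme.Hom.resLE_congr (c.π.app i) _ e₁ rfl @Flat).mp key

end Groth.Agent.Lib.Helper24.Lim8
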