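import Groth.Agent.Lib.Helper24.Lim8FPModel
import Groth.Agent.Lib.Helper24.Lim8Flat
import Groth.Agent.Lib.Helper24.LfpOfComp

/-!
# Descent of affine schemes of finite presentation through limits: affine case (helper24)
-/

set_option autoImplicit false

universe u

open CategoryTheory CategoryTheory.Limits AlgebraicGeometry TensorProduct

namespace Groth.Agent.Lib.Helper24.Lim8

section affine

variable {J : Type u} [Category.{u} J] [IsCofiltered J] (F : J ⥤ Scheme.{u}) (cF : Cone F)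
  (hcF : IsLimit cF)

include hcF in
/-- All-affine case: an affine scheme locally of finite presentation over an affine limit comes
from a stage. -/
lemma exists_model_of_isAffine [∀ j, IsAffine (F.obj j)] {X : Scheme.{u}} [IsAffine X]
    (f : X ⟶ cF.pt) [LocallyOfFinitePresentation f] :
    ∃ (j : J) (Xj : Scheme.{u}) (fj : Xj ⟶ F.obj j) (g : X ⟶ Xj),
      IsAffine Xj ∧ LocallyOfFinitePresentation fj ∧ IsPullback g f fj (cF.π.app j) := by
  classical
  have : IsAffine cF.pt := Scheme.isAffine_of_isLimit cF hcF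
  letI : Algebra Γ(cF.pt, ⊤) Γ(X, ⊤) := f.appTop.hom.toAlgebra
  have hfp : Algebra.FinitePresentation Γ(cF.pt, ⊤) Γ(X, ⊤) :=
    (HasRingHomProperty.iff_of_isAffine (P := @LocallyOfFinitePresentation)).mp ‹_›
  let P := Algebra.Presentation.ofFinitePresentation Γ(cF.pt, ⊤) Γ(X, ⊤)
  -- the finitely many coefficients come from a common stage
  have hfin : P.coeffs.Finite := Algebra.Presentation.finite_coeffs
  obtain ⟨l, x, hx⟩ : ∃ (l : ℕ) (x : Fin l → Γ(cF.pt, ⊤)), P.coeffs ⊆ Set.range x := by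
    obtain ⟨l, e, he⟩ := hfin.fin_embedding
    exact ⟨l, fun i ↦ e i, by rw [← he]⟩
  obtain ⟨j₀⟩ := IsCofiltered.nonempty (C := J)
  obtain ⟨j, -, x', hx'⟩ := exists_appTop_π_eq_of_finite F cF hcF j₀ x
  letI : Algebra Γ(F.obj j, ⊤) Γ(cF.pt, ⊤) := (cF.π.app j).appTop.hom.toAlgebra
  letI : Algebra Γ(F.obj j, ⊤) Γ(X, ⊤) :=
    (f.appTop.hom.comp (cF.π.app j).appTop.hom).toAlgebra
  haveI : IsScalarTower Γ(F.obj j, ⊤) Γ(cF.pt, ⊤) Γ(X, ⊤) := .of_algebraMap_eq fun _ ↦ rfl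
  haveI : P.HasCoeffs Γ(F.obj j, ⊤) := ⟨fun a ha ↦ by
    obtain ⟨i, rfl⟩ := hx ha
    exact ⟨x' i, hx' i⟩⟩
  let B₀ := P.ModelOfHasCoeffs Γ(F.obj j, ⊤)
  let e : Γ(cF.pt, ⊤) ⊗[Γ(F.obj j, ⊤)] B₀ ≃ₐ[Γ(cF.pt, ⊤)] Γ(X, ⊤) :=
    P.tensorModelOfHasCoeffsEquiv Γ(F.obj j, ⊤)
  -- pushout square of rings
  have hpo := (CommRingCat.isPushout_tensorProduct Γ(F.obj j, ⊤) Γ(cF.pt, ⊤) B₀).of_iso
    (Iso.refl _) (Iso.refl _) (Iso.refl _) e.toRingEquiv.toCommRingCatIso
    (f' := CommRingCat.ofHom (algebraMap Γ(F.obj j, ⊤) Γ(cF.pt, ⊤)))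
    (g' := CommRingCat.ofHom (algebraMap Γ(F.obj j, ⊤) B₀))
    (inl' := CommRingCat.ofHom (algebraMap Γ(cF.pt, ⊤) Γ(X, ⊤)))
    (inr' := CommRingCat.ofHom ((e : _ →+* Γ(X, ⊤)).comp
      (Algebra.TensorProduct.includeRight (R := Γ(F.obj j, ⊤)) (A := Γ(cF.pt, ⊤))
        (B := B₀)).toRingHom))
    (by simp) (by simp)
    (by
      ext a
      simp only [Iso.refl_hom, Category.id_comp]
      change e (a ⊗ₜ 1) = algebraMap _ _ a
      exact e.commutes a)
    (by rw [Iso.refl_hom, Category.id_comp]; rfl)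
  have hpb := isPullback_SpecMap_of_isPushout _ _ _ _ hpo
  refine ⟨j, Spec (.of B₀), Spec.map (CommRingCat.ofHom (algebraMap Γ(F.obj j, ⊤) B₀)) ≫
    (F.obj j).isoSpec.inv, X.isoSpec.hom ≫ Spec.map (CommRingCat.ofHom
      ((e : _ →+* Γ(X, ⊤)).comp (Algebra.TensorProduct.includeRight (R := Γ(F.obj j, ⊤))
        (A := Γ(cF.pt, ⊤)) (B := B₀)).toRingHom)), inferInstance, ?_, ?_⟩
  · rw [MorphismProperty.cancel_right_of_respectsIso (P := @LocallyOfFinitePresentation),
      HasRingHomProperty.Spec_iff (P := @LocallyOfFinitePresentation)]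
    rw [CommRingCat.hom_ofHom, RingHom.finitePresentation_algebraMap]
    infer_instance
  · refine hpb.flip.of_iso X.isoSpec.symm (Iso.refl _) cF.pt.isoSpec.symm (F.obj j).isoSpec.symm
      ?_ ?_ ?_ ?_
    · simp
    · simp only [Iso.symm_hom, Iso.refl_hom, Category.comp_id]
      exact Scheme.isoSpec_inv_naturality f
    · simp
    · simp only [Iso.symm_hom]
      exact Scheme.isoSpec_inv_naturality (X := cF.pt) (cF.π.app j)

end affine

section lemmaA

variable {I : Type u} [SmallCategory I] [IsCofiltered I] {D : I ⥤ Scheme.{u}} {c : Cone D}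
  [∀ {i j} (f : i ⟶ j), IsAffineHom (D.map f)] (hc : IsLimit c)

set_option backward.isDefEq.respectTransparency false in
include hc in
/-- An affine scheme locally of finite presentation over the limit, whose image lands in the
preimage of an affine open of a stage, has an affine model of finite presentation. -/
lemma Model.exists_of_isAffine {X : Scheme.{u}} [IsAffine X] (f : X ⟶ c.pt)
    [LocallyOfFinitePresentation f] (i : I) (V : (D.obj i).Opens) (hV : IsAffineOpen V)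
    (hf : Set.range f ⊆ (c.π.app i ⁻¹ᵁ V : c.pt.Opens)) :
    ∃ (l : I) (φ : l ⟶ i) (M : Model D c l f), IsAffine M.Xi ∧
      LocallyOfFinitePresentation M.fi := by
  have (j : Over i) : IsAffine ((opensDiagram D i V).obj j) := hV.preimage (D.map _)
  let f' : X ⟶ (c.π.app i ⁻¹ᵁ V : c.pt.Opens) :=
    IsOpenImmersion.lift (c.π.app i ⁻¹ᵁ V).ι f (by rw [Scheme.Opens.range_ι]; exact hf)
  have hf' : f' ≫ (c.π.app i ⁻¹ᵁ V).ι = f := IsOpenImmersion.lift_fac _ _ _
  have : LocallyOfFinitePresentation (f' ≫ (c.π.app i ⁻¹ᵁ V).ι) := by rw [hf']; infer_instance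
  have : LocallyOfFinitePresentation f' :=
    locallyOfFinitePresentation_of_comp f' (c.π.app i ⁻¹ᵁ V).ι
  obtain ⟨j, Xj, fj, g, hXj, hfj, sq⟩ := exists_model_of_isAffine (opensDiagram D i V)
    (opensCone D c i V) (isLimitOpensCone D c hc i V) (X := X) f'
  have sq2 : IsPullback ((opensCone D c i V).π.app j) (c.π.app i ⁻¹ᵁ V).ι
      (D.map j.hom ⁻¹ᵁ V).ι (c.π.app j.left) :=
    IsOpenImmersion.isPullback _ _ _ _ (by simp) (by simp [← Scheme.Hom.comp_preimage])
  have sq3 := sq.paste_vert sq2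
  rw [hf'] at sq3
  exact ⟨j.left, j.hom, ⟨Xj, fj ≫ (D.map j.hom ⁻¹ᵁ V).ι, g, sq3⟩, hXj, inferInstance⟩

end lemmaA

end Groth.Agent.Lib.Helper24.Lim8
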