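import Groth.Agent.Lib.Helper24.Lim8FPAffine
import Groth.Agent.Lib.Helper24.OpenPushout

/-!
# Descent of schemes of finite presentation through limits: gluing (helper24)
-/

set_option autoImplicit false

universe u

open CategoryTheory CategoryTheory.Limits AlgebraicGeometry

namespace Groth.Agent.Lib.Helper24.Lim8

variable {I : Type u} [SmallCategory I] {D : I ⥤ Scheme.{u}} {c : Cone D}

/-- A model of finite presentation (over a qcqs stage). -/
structure Model.IsFP {i : I} {X : Scheme.{u}} {f : X ⟶ c.pt} (M : Model D c i f) : Prop where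
  lfp : LocallyOfFinitePresentation M.fi
  compact : CompactSpace M.Xi
  qs : QuasiSeparatedSpace M.Xi

lemma Model.IsFP.rebase [∀ {i j} (f : i ⟶ j), IsAffineHom (D.map f)] {i : I} {X : Scheme.{u}}
    {f : X ⟶ c.pt} {M : Model D c i f} (hM : M.IsFP) {l : I} (φ : l ⟶ i) :
    (M.rebase φ).IsFP := by
  have := hM.lfp
  have := hM.compact
  have := hM.qs
  refine ⟨inferInstanceAs (LocallyOfFinitePresentation (pullback.fst (D.map φ) M.fi)), ?_, ?_⟩
  · exact QuasiCompact.compactSpace_of_compactSpace (pullback.snd (D.map φ) M.fi)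
  · exact quasiSeparatedSpace_of_quasiSeparated (pullback.snd (D.map φ) M.fi)

set_option backward.isDefEq.respectTransparency false in
/-- Gluing two models along a model of the intersection. -/
lemma Model.exists_glue {i : I} {X U V W : Scheme.{u}} {f : X ⟶ c.pt} {jU : U ⟶ X}
    {jV : V ⟶ X} {pU : W ⟶ U} {pV : W ⟶ V} [IsOpenImmersion jU] [IsOpenImmersion jV]
    (hcov : ∀ x : X, (∃ u, jU u = x) ∨ (∃ v, jV v = x)) (hW : IsPullback pU pV jU jV)
    {fW : W ⟶ c.pt} (hfa : pU ≫ jU ≫ f = fW) (hfb : pV ≫ jV ≫ f = fW)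
    (MU : Model D c i (jU ≫ f)) (MV : Model D c i (jV ≫ f)) (MW : Model D c i fW)
    (Ha : HomModel MW MU pU) (Hb : HomModel MW MV pV) [IsOpenImmersion Ha.hi]
    [IsOpenImmersion Hb.hi] :
    ∃ (M : Model D c i f) (ιU : MU.Xi ⟶ M.Xi) (ιV : MV.Xi ⟶ M.Xi), IsOpenImmersion ιU ∧
      IsOpenImmersion ιV ∧ (∀ x : M.Xi, (∃ u, ιU u = x) ∨ (∃ v, ιV v = x)) ∧
      ιU ≫ M.fi = MU.fi ∧ ιV ≫ M.fi = MV.fi ∧ Ha.hi ≫ ιU = Hb.hi ≫ ιV ∧
      (∀ u v, ιU u = ιV v → ∃ w, Ha.hi w = u ∧ Hb.hi w = v) := by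
  let fP : pushout Ha.hi Hb.hi ⟶ D.obj i :=
    pushout.desc MU.fi MV.fi (by rw [Ha.hi_fi, Hb.hi_fi])
  have hfP1 : pushout.inl Ha.hi Hb.hi ≫ fP = MU.fi := pushout.inl_desc _ _ _
  have hfP2 : pushout.inr Ha.hi Hb.hi ≫ fP = MV.fi := pushout.inr_desc _ _ _
  obtain ⟨g, hgU, hgV⟩ := OpenPushout.exists_glue hcov hW (MU.g ≫ pushout.inl Ha.hi Hb.hi)
    (MV.g ≫ pushout.inr Ha.hi Hb.hi) (by
      rw [← Category.assoc, ← Ha.comm, ← Category.assoc, ← Hb.comm, Category.assoc,
        Category.assoc, pushout.condition])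
  have w : g ≫ fP = f ≫ c.π.app i := by
    apply (OpenPushout.cover2 jU jV hcov).hom_ext
    rintro (_ | _)
    · change jU ≫ g ≫ fP = jU ≫ f ≫ c.π.app i
      rw [reassoc_of% hgU, hfP1, MU.sq.w, Category.assoc]
    · change jV ≫ g ≫ fP = jV ≫ f ≫ c.π.app i
      rw [reassoc_of% hgV, hfP2, MV.sq.w, Category.assoc]
  have h1U : IsPullback MU.g jU (pushout.inl Ha.hi Hb.hi) g :=
    OpenPushout.isPullback_inl hcov hW.w hgU hgV (Hb.isPullback hfb)
  have h1V : IsPullback MV.g jV (pushout.inr Ha.hi Hb.hi) g :=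
    OpenPushout.isPullback_inr hcov hW.w hgU hgV (Ha.isPullback hfa)
  have sq : IsPullback g f fP (c.π.app i) := by
    refine OpenPushout.isPullback_of_openCover w (OpenPushout.cover Ha.hi Hb.hi)
      (fun j ↦ WalkingPair.casesOn j U V) (fun j ↦ WalkingPair.casesOn j jU jV)
      (fun j ↦ WalkingPair.casesOn j MU.g MV.g) ?_ ?_
    · rintro (_ | _)
      · exact h1U
      · exact h1V
    · rintro (_ | _)
      · change IsPullback MU.g (jU ≫ f) (pushout.inl Ha.hi Hb.hi ≫ fP) (c.π.app i)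
        rw [hfP1]
        exact MU.sq
      · change IsPullback MV.g (jV ≫ f) (pushout.inr Ha.hi Hb.hi ≫ fP) (c.π.app i)
        rw [hfP2]
        exact MV.sq
  exact ⟨⟨pushout Ha.hi Hb.hi, fP, g, sq⟩, pushout.inl Ha.hi Hb.hi, pushout.inr Ha.hi Hb.hi,
    inferInstance, inferInstance, OpenPushout.exists_inl_or_inr Ha.hi Hb.hi, hfP1, hfP2,
    pushout.condition, fun u v h ↦ OpenPushout.exists_of_inl_eq_inr Ha.hi Hb.hi h⟩

section lemmaB

variable [IsCofiltered I] [∀ {i j} (f : i ⟶ j), IsAffineHom (D.map f)] (hc : IsLimit c)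
  [∀ i, CompactSpace (D.obj i)] [∀ i, QuasiSeparatedSpace (D.obj i)]

include hc in
/-- Two finitely presented models (at a common stage) of the members of a two-element open cover
of a quasi-separated scheme glue, at a later stage, to a finitely presented model. -/
lemma Model.exists_isFP_of_cover2_aux {X U V : Scheme.{u}} (f : X ⟶ c.pt) (jU : U ⟶ X)
    (jV : V ⟶ X) [IsOpenImmersion jU] [IsOpenImmersion jV] [QuasiSeparatedSpace X]
    (hcov : ∀ x : X, (∃ u, jU u = x) ∨ (∃ v, jV v = x))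
    {i : I} (MU : Model D c i (jU ≫ f)) (MV : Model D c i (jV ≫ f)) (hMU : MU.IsFP)
    (hMV : MV.IsFP) : ∃ (l : I) (M : Model D c l f), M.IsFP := by
  have hπ := isAffineHom_π_app D c hc
  have := hMU.compact
  have := hMV.compact
  have hqcU : QuasiCompact MU.g :=
    MorphismProperty.of_isPullback (P := @QuasiCompact) MU.sq.flip inferInstance
  have hqcV : QuasiCompact MV.g :=
    MorphismProperty.of_isPullback (P := @QuasiCompact) MV.sq.flip inferInstance
  have : CompactSpace U := QuasiCompact.compactSpace_of_compactSpace MU.g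
  have : CompactSpace V := QuasiCompact.compactSpace_of_compactSpace MV.g
  have : CompactSpace ↑(pullback jU jV) :=
    QuasiCompact.compactSpace_of_compactSpace (pullback.fst jU jV)
  have hW := IsPullback.of_hasPullback jU jV
  obtain ⟨l₁, ψ₁, MW, Ha, hHa, hMWc⟩ :=
    Model.exists_of_isOpenImmersion hc MU (pullback.fst jU jV)
  have hfa : pullback.fst jU jV ≫ jU ≫ f = pullback.fst jU jV ≫ jU ≫ f := rfl
  have hfb : pullback.snd jU jV ≫ jV ≫ f = pullback.fst jU jV ≫ jU ≫ f := by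
    rw [pullback.condition_assoc]
  have hMU₁ := hMU.rebase ψ₁
  have hMV₁ := hMV.rebase ψ₁
  have hMW : MW.IsFP := by
    have := hMU₁.qs
    have := hMU₁.lfp
    refine ⟨?_, hMWc, quasiSeparatedSpace_of_quasiSeparated Ha.hi⟩
    rw [← Ha.hi_fi]
    infer_instance
  have := hMW.lfp
  have := hMW.compact
  have := hMW.qs
  have := hMV₁.lfp
  obtain ⟨l₂, ψ₂, ⟨Hb₀⟩⟩ :=
    HomModel.exists_stage hc MW (MV.rebase ψ₁) (pullback.snd jU jV) hfb
  have hMU₂ := hMU₁.rebase ψ₂
  have hMV₂ := hMV₁.rebase ψ₂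
  have hMW₂ := hMW.rebase ψ₂
  have hdesc : Descends D c @IsOpenImmersion l₂ Hb₀.hi ((MV.rebase ψ₁).rebase ψ₂).fi := by
    have := hMV₂.compact
    have := hMV₂.qs
    have := hMV₂.lfp
    have := hMW₂.compact
    have := hMW₂.lfp
    have : LocallyOfFinitePresentation (Hb₀.hi ≫ ((MV.rebase ψ₁).rebase ψ₂).fi) := by
      rw [Hb₀.hi_fi]
      exact hMW₂.lfp
    have : LocallyOfFinitePresentation Hb₀.hi :=
      locallyOfFinitePresentation_of_comp Hb₀.hi ((MV.rebase ψ₁).rebase ψ₂).fi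
    exact descends_isOpenImmersion D c hc l₂ Hb₀.hi _
  obtain ⟨l₃, ψ₃, hHb⟩ := HomModel.exists_stage_of_descends hc Hb₀ hfb hdesc inferInstance
  have hMU₃ := hMU₂.rebase ψ₃
  have hMV₃ := hMV₂.rebase ψ₃
  have hMW₃ := hMW₂.rebase ψ₃
  have hHa₃ : IsOpenImmersion ((Ha.rebase hfa ψ₂).rebase hfa ψ₃).hi :=
    HomModel.rebase_of_isStableUnderBaseChange (P := @IsOpenImmersion) _ hfa ψ₃
      (HomModel.rebase_of_isStableUnderBaseChange (P := @IsOpenImmersion) Ha hfa ψ₂ hHa)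
  obtain ⟨M, ιU, ιV, hιU, hιV, hcov', h1, h2, hw, hpt⟩ := Model.exists_glue hcov hW hfa hfb
    (((MU.rebase ψ₁).rebase ψ₂).rebase ψ₃) (((MV.rebase ψ₁).rebase ψ₂).rebase ψ₃)
    ((MW.rebase ψ₂).rebase ψ₃) ((Ha.rebase hfa ψ₂).rebase hfa ψ₃) (Hb₀.rebase hfb ψ₃)
  have := hMU₃.compact
  have := hMV₃.compact
  have := hMW₃.compact
  have := hMU₃.qs
  have := hMV₃.qs
  refine ⟨l₃, M, ?_, ?_, ?_⟩
  · rw [IsZariskiLocalAtSource.iff_of_openCover (P := @LocallyOfFinitePresentation)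
      (OpenPushout.cover2 ιU ιV hcov')]
    rintro (_ | _)
    · change LocallyOfFinitePresentation (ιU ≫ M.fi)
      rw [h1]
      exact hMU₃.lfp
    · change LocallyOfFinitePresentation (ιV ≫ M.fi)
      rw [h2]
      exact hMV₃.lfp
  · exact OpenPushout.compactSpace_of_cover2 ιU ιV hcov'
  · exact OpenPushout.quasiSeparatedSpace_of_cover2 ιU ιV _ _ hcov' hw hpt

include hc in
/-- Two finitely presented models of the members of a two-element open cover of a quasi-separated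
scheme glue, at a later stage, to a finitely presented model. -/
lemma Model.exists_isFP_of_cover2 {X U V : Scheme.{u}} (f : X ⟶ c.pt) (jU : U ⟶ X)
    (jV : V ⟶ X) [IsOpenImmersion jU] [IsOpenImmersion jV] [QuasiSeparatedSpace X]
    (hcov : ∀ x : X, (∃ u, jU u = x) ∨ (∃ v, jV v = x))
    {i₁ i₂ : I} (MU : Model D c i₁ (jU ≫ f)) (MV : Model D c i₂ (jV ≫ f)) (hMU : MU.IsFP)
    (hMV : MV.IsFP) : ∃ (l : I) (M : Model D c l f), M.IsFP :=
  Model.exists_isFP_of_cover2_aux hc f jU jV hcov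
    (MU.rebase (IsCofiltered.minToLeft i₁ i₂)) (MV.rebase (IsCofiltered.minToRight i₁ i₂))
    (hMU.rebase _) (hMV.rebase _)

end lemmaB

end Groth.Agent.Lib.Helper24.Lim8
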