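import Groth.Agent.Lib.Helper24.Lim8DescendSmooth
import Groth.Agent.Lib.Helper24.IndConsPairInst

/-!
# Models of schemes over a limit at a stage (helper24)

`Model D c i f`: a scheme `Xi` over the stage `D.obj i` together with a cartesian square exhibiting
`f : X ⟶ c.pt` as its base change.  `HomModel`: a morphism between models inducing a given
morphism over the limit.  Rebasing along `l ⟶ i`, descent of morphisms and of their properties.
-/

set_option autoImplicit false

universe u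

open CategoryTheory CategoryTheory.Limits AlgebraicGeometry

namespace Groth.Agent.Lib.Helper24.Lim8

variable {I : Type u} [SmallCategory I] (D : I ⥤ Scheme.{u}) (c : Cone D)

/-- A model at stage `i` of a scheme `f : X ⟶ c.pt` over the limit. -/
structure Model (i : I) {X : Scheme.{u}} (f : X ⟶ c.pt) where
  Xi : Scheme.{u}
  fi : Xi ⟶ D.obj i
  g : X ⟶ Xi
  sq : IsPullback g f fi (c.π.app i)

variable {D c}

namespace Model

variable {i : I} {X : Scheme.{u}} {f : X ⟶ c.pt}

/-- Rebase a model along `φ : l ⟶ i`. -/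
@[reducible] noncomputable def rebase (M : Model D c i f) {l : I} (φ : l ⟶ i) : Model D c l f where
  Xi := pullback (D.map φ) M.fi
  fi := pullback.fst _ _
  g := pullback.lift (f ≫ c.π.app l) M.g (by rw [Category.assoc, c.w, M.sq.w])
  sq := by
    refine IsPullback.of_right ?_ (pullback.lift_fst _ _ _)
      (IsPullback.of_hasPullback (D.map φ) M.fi).flip
    rw [pullback.lift_snd, c.w]
    exact M.sq

@[simp] lemma rebase_Xi (M : Model D c i f) {l : I} (φ : l ⟶ i) :
    (M.rebase φ).Xi = pullback (D.map φ) M.fi := rfl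

@[simp] lemma rebase_fi (M : Model D c i f) {l : I} (φ : l ⟶ i) :
    (M.rebase φ).fi = pullback.fst (D.map φ) M.fi := rfl

@[reassoc (attr := simp)] lemma rebase_g_snd (M : Model D c i f) {l : I} (φ : l ⟶ i) :
    (M.rebase φ).g ≫ pullback.snd (D.map φ) M.fi = M.g := pullback.lift_snd _ _ _

@[reassoc (attr := simp)] lemma rebase_g_fst (M : Model D c i f) {l : I} (φ : l ⟶ i) :
    (M.rebase φ).g ≫ pullback.fst (D.map φ) M.fi = f ≫ c.π.app l := pullback.lift_fst _ _ _

/-- The canonical iso of `X` with the canonical pullback. -/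
noncomputable def iso (M : Model D c i f) : X ≅ pullback (c.π.app i) M.fi := M.sq.flip.isoPullback

@[reassoc (attr := simp)] lemma iso_hom_fst (M : Model D c i f) :
    M.iso.hom ≫ pullback.fst _ _ = f := M.sq.flip.isoPullback_hom_fst

@[reassoc (attr := simp)] lemma iso_hom_snd (M : Model D c i f) :
    M.iso.hom ≫ pullback.snd _ _ = M.g := M.sq.flip.isoPullback_hom_snd

@[reassoc (attr := simp)] lemma iso_inv_f (M : Model D c i f) :
    M.iso.inv ≫ f = pullback.fst _ _ := M.sq.flip.isoPullback_inv_fst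

@[reassoc (attr := simp)] lemma iso_inv_g (M : Model D c i f) :
    M.iso.inv ≫ M.g = pullback.snd _ _ := M.sq.flip.isoPullback_inv_snd

end Model

/-- A model at stage `i` of a morphism `h : X₁ ⟶ X₂` over the limit, between two models. -/
structure HomModel {i : I} {X₁ X₂ : Scheme.{u}} {f₁ : X₁ ⟶ c.pt} {f₂ : X₂ ⟶ c.pt}
    (M₁ : Model D c i f₁) (M₂ : Model D c i f₂) (h : X₁ ⟶ X₂) where
  hi : M₁.Xi ⟶ M₂.Xi
  hi_fi : hi ≫ M₂.fi = M₁.fi
  comm : M₁.g ≫ hi = h ≫ M₂.g

namespace HomModel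

variable {i : I} {X₁ X₂ : Scheme.{u}} {f₁ : X₁ ⟶ c.pt} {f₂ : X₂ ⟶ c.pt}
  {M₁ : Model D c i f₁} {M₂ : Model D c i f₂} {h : X₁ ⟶ X₂}

/-- The square relating `h` and its model is cartesian. -/
lemma isPullback (H : HomModel M₁ M₂ h) (hf : h ≫ f₂ = f₁) : IsPullback M₁.g h H.hi M₂.g := by
  refine IsPullback.of_bot ?_ H.comm M₂.sq
  rw [hf, H.hi_fi]
  exact M₁.sq

set_option backward.isDefEq.respectTransparency false in
/-- Rebase a model of a morphism along `φ : l ⟶ i`. -/
@[reducible] noncomputable def rebase (H : HomModel M₁ M₂ h) (hf : h ≫ f₂ = f₁) {l : I} (φ : l ⟶ i) :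
    HomModel (M₁.rebase φ) (M₂.rebase φ) h where
  hi := pullback.map (D.map φ) M₁.fi (D.map φ) M₂.fi (𝟙 _) H.hi (𝟙 _) (by simp)
    (by rw [H.hi_fi, Category.comp_id])
  hi_fi := by simp [pullback.map]
  comm := by
    apply pullback.hom_ext
    · simp [pullback.map, reassoc_of% hf]
    · simp [pullback.map, H.comm]

set_option backward.isDefEq.respectTransparency false in
lemma rebase_hi_isPullback (H : HomModel M₁ M₂ h) (hf : h ≫ f₂ = f₁) {l : I} (φ : l ⟶ i) :
    IsPullback (pullback.snd (D.map φ) M₁.fi) (H.rebase hf φ).hi H.hi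
      (pullback.snd (D.map φ) M₂.fi) := by
  refine IsPullback.of_bot ?_ (by simp [rebase, pullback.map])
    (IsPullback.of_hasPullback (D.map φ) M₂.fi).flip
  have : (H.rebase hf φ).hi ≫ pullback.fst (D.map φ) M₂.fi = pullback.fst (D.map φ) M₁.fi := by
    simp [rebase, pullback.map]
  rw [this, H.hi_fi]
  exact (IsPullback.of_hasPullback (D.map φ) M₁.fi).flip

/-- A base-change-stable property of a model passes to its rebase. -/
lemma rebase_of_isStableUnderBaseChange {P : MorphismProperty Scheme.{u}}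
    [P.IsStableUnderBaseChange] (H : HomModel M₁ M₂ h) (hf : h ≫ f₂ = f₁) {l : I} (φ : l ⟶ i)
    (hP : P H.hi) : P (H.rebase hf φ).hi :=
  MorphismProperty.of_isPullback (H.rebase_hi_isPullback hf φ) hP

end HomModel

section descent

variable [IsCofiltered I] [∀ {i j} (f : i ⟶ j), IsAffineHom (D.map f)] (hc : IsLimit c)

/-- The projection from the base-changed limit to a base-changed stage, with clean types. -/
noncomputable def pbπ (c : Cone D) {i : I} {T : Scheme.{u}} (g : T ⟶ D.obj i) (j : Over i) :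
    pullback (c.π.app i) g ⟶ pullback (D.map j.hom) g := (pbCone D c i g).π.app j

set_option backward.isDefEq.respectTransparency false in
omit [IsCofiltered I] [∀ {i j} (f : i ⟶ j), IsAffineHom (D.map f)] in
@[reassoc (attr := simp)]
lemma pbπ_fst {i : I} {T : Scheme.{u}} (g : T ⟶ D.obj i) (j : Over i) :
    pbπ c g j ≫ pullback.fst _ _ = pullback.fst _ _ ≫ c.π.app j.left := by
  simp [pbπ, pbCone, pullback.map]

set_option backward.isDefEq.respectTransparency false in
omit [IsCofiltered I] [∀ {i j} (f : i ⟶ j), IsAffineHom (D.map f)] in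
@[reassoc (attr := simp)]
lemma pbπ_snd {i : I} {T : Scheme.{u}} (g : T ⟶ D.obj i) (j : Over i) :
    pbπ c g j ≫ pullback.snd _ _ = pullback.snd _ _ := by
  simp [pbπ, pbCone, pullback.map]

omit [IsCofiltered I] [∀ {i j} (f : i ⟶ j), IsAffineHom (D.map f)] in
lemma Model.rebase_g_eq {i : I} {X : Scheme.{u}} {f : X ⟶ c.pt} (M : Model D c i f)
    (j : Over i) : (M.rebase j.hom).g = M.iso.hom ≫ pbπ c M.fi j := by
  apply pullback.hom_ext
  · rw [Model.rebase_g_fst, Category.assoc, pbπ_fst, Model.iso_hom_fst_assoc]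
  · rw [Model.rebase_g_snd, Category.assoc, pbπ_snd, Model.iso_hom_snd]

include hc in
/-- Descent of morphisms between models (EGA IV 8.8.2 (i)). -/
lemma HomModel.exists_stage {i : I} [CompactSpace (D.obj i)] [QuasiSeparatedSpace (D.obj i)]
    {X₁ X₂ : Scheme.{u}} {f₁ : X₁ ⟶ c.pt} {f₂ : X₂ ⟶ c.pt}
    (M₁ : Model D c i f₁) (M₂ : Model D c i f₂) [QuasiCompact M₁.fi] [QuasiSeparated M₁.fi]
    [LocallyOfFinitePresentation M₂.fi] (h : X₁ ⟶ X₂) (hf : h ≫ f₂ = f₁) :
    ∃ (l : I) (φ : l ⟶ i), Nonempty (HomModel (M₁.rebase φ) (M₂.rebase φ) h) := by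
  obtain ⟨j, gj, hgj, hcomm⟩ := IndConsPair.exists_hom_stage D c hc i M₁.fi M₂.fi
    (M₁.iso.inv ≫ h ≫ M₂.iso.hom) (by simp [hf])
  have hcomm' : (M₁.iso.inv ≫ h ≫ M₂.iso.hom) ≫ pbπ c M₂.fi j = pbπ c M₁.fi j ≫ gj := hcomm
  refine ⟨j.left, j.hom, ⟨⟨gj, hgj, ?_⟩⟩⟩
  rw [M₁.rebase_g_eq j, M₂.rebase_g_eq j, Category.assoc, ← hcomm']
  simp

include hc in
omit [IsCofiltered I] [∀ {i j} (f : i ⟶ j), IsAffineHom (D.map f)] in
/-- Descent of a property of a morphism between models. -/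
lemma HomModel.exists_stage_of_descends {P : MorphismProperty Scheme.{u}} [P.RespectsIso]
    {i : I} {X₁ X₂ : Scheme.{u}} {f₁ : X₁ ⟶ c.pt} {f₂ : X₂ ⟶ c.pt}
    {M₁ : Model D c i f₁} {M₂ : Model D c i f₂} {h : X₁ ⟶ X₂} (H : HomModel M₁ M₂ h)
    (hf : h ≫ f₂ = f₁) (hdesc : Descends D c P i H.hi M₂.fi) (hP : P h) :
    ∃ (l : I) (φ : l ⟶ i), P (H.rebase hf φ).hi := by
  obtain ⟨l, φ, hl⟩ := hdesc ((bcMap_iff_of_isPullback M₂.sq (H.isPullback hf)).mpr hP)
  exact ⟨l, φ, (bcMap_iff_of_isPullback (IsPullback.of_hasPullback (D.map φ) M₂.fi).flip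
    (H.rebase_hi_isPullback hf φ)).mp hl⟩

include hc in
/-- A quasi-compact open subscheme of a scheme with a model has a model at a later stage, as an
open subscheme of the rebased model. -/
lemma Model.exists_of_isOpenImmersion {i : I} {U W : Scheme.{u}} {fU : U ⟶ c.pt}
    (M : Model D c i fU) (p : W ⟶ U) [IsOpenImmersion p] [CompactSpace W] :
    ∃ (l : I) (φ : l ⟶ i) (MW : Model D c l (p ≫ fU)) (H : HomModel MW (M.rebase φ) p),
      IsOpenImmersion H.hi ∧ CompactSpace MW.Xi := by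
  have hW : IsCompact ((M.iso.inv ⁻¹ᵁ p.opensRange : (pullback (c.π.app i) M.fi).Opens) :
      Set ↥(pullback (c.π.app i) M.fi)) := by
    have : IsCompact (p.opensRange : Set U) := by
      rw [Scheme.Hom.coe_opensRange]
      exact isCompact_range p.continuous
    exact (M.iso.inv.homeomorph.isCompact_preimage).mpr this
  obtain ⟨j, Wj, hWj, hpre⟩ : ∃ (j : Over i) (Wj : (pullback (D.map j.hom) M.fi).Opens),
      IsCompact (Wj : Set ↥(pullback (D.map j.hom) M.fi)) ∧
        pbπ c M.fi j ⁻¹ᵁ Wj = M.iso.inv ⁻¹ᵁ p.opensRange :=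
    exists_preimage_eq (pbDiagram D i M.fi) (pbCone D c i M.fi)
      (isLimitPbCone D c hc i M.fi) (M.iso.inv ⁻¹ᵁ p.opensRange) hW
  have hpre' : (M.rebase j.hom).g ⁻¹ᵁ Wj = p.opensRange := by
    rw [M.rebase_g_eq j, Scheme.Hom.comp_preimage, hpre, ← Scheme.Hom.comp_preimage,
      Iso.hom_inv_id, Scheme.Hom.id_preimage]
  have hrange : Set.range (p ≫ (M.rebase j.hom).g) ⊆ Set.range Wj.ι := by
    rintro _ ⟨w, rfl⟩
    rw [Scheme.Opens.range_ι]
    have : p w ∈ (M.rebase j.hom).g ⁻¹ᵁ Wj := by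
      rw [hpre']
      exact ⟨w, rfl⟩
    exact this
  let gW : W ⟶ Wj := IsOpenImmersion.lift Wj.ι (p ≫ (M.rebase j.hom).g) hrange
  have hgW : gW ≫ Wj.ι = p ≫ (M.rebase j.hom).g := IsOpenImmersion.lift_fac _ _ _
  have sq1 : IsPullback gW p Wj.ι (M.rebase j.hom).g :=
    IsOpenImmersion.isPullback _ _ _ _ hgW.symm (by rw [Scheme.Opens.opensRange_ι, hpre'])
  refine ⟨j.left, j.hom, ⟨Wj, Wj.ι ≫ (M.rebase j.hom).fi, gW, sq1.paste_vert (M.rebase j.hom).sq⟩,
    ⟨Wj.ι, rfl, hgW⟩, inferInstanceAs (IsOpenImmersion Wj.ι), isCompact_iff_compactSpace.mp hWj⟩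

end descent

end Groth.Agent.Lib.Helper24.Lim8
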