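import Groth.Agent.Lib.Helper24.Lim8Closed

/-!
# Integral limits of systems with finite transition maps are eventually finite (Stacks 0A0S-type)
-/

universe u

open CategoryTheory Limits AlgebraicGeometry

namespace Groth.Agent.Lib.Helper24.Lim8

/-- Pure algebra: if `A` is generated over `R` by finitely many elements whose images in `B` are
integral over `R`, and `B` is finite over `A`, then `B` is finite over `R`. -/
lemma finite_comp_of_adjoin {R A B : Type*} [CommRing R] [CommRing A] [CommRing B]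
    (φ : R →+* A) (ψ : A →+* B) (s : Finset A)
    (hs : letI := φ.toAlgebra; Algebra.adjoin R (s : Set A) = ⊤)
    (hψ : ψ.Finite) (hint : ∀ x ∈ s, (ψ.comp φ).IsIntegralElem (ψ x)) : (ψ.comp φ).Finite := by
  letI := φ.toAlgebra
  letI := ψ.toAlgebra
  letI := (ψ.comp φ).toAlgebra
  haveI : IsScalarTower R A B := IsScalarTower.of_algebraMap_eq (fun _ => rfl)
  let ψ' : A →ₐ[R] B := IsScalarTower.toAlgHom R A B
  have hC : ψ'.range = Algebra.adjoin R (ψ' '' (s : Set A)) := by
    rw [← AlgHom.map_adjoin, hs, Algebra.map_top]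
  have h1 : Module.Finite R ψ'.range := by
    rw [hC]
    exact Algebra.finite_adjoin_of_finite_of_isIntegral (s.finite_toSet.image _)
      (by rintro _ ⟨x, hx, rfl⟩; exact hint x hx)
  letI : Algebra A ψ'.range := (ψ'.rangeRestrict).toRingHom.toAlgebra
  haveI : IsScalarTower A ψ'.range B := IsScalarTower.of_algebraMap_eq (fun _ => rfl)
  haveI : Module.Finite A B := hψ
  have h2 : Module.Finite ψ'.range B := Module.Finite.of_restrictScalars_finite A ψ'.range B
  exact Module.Finite.trans ψ'.range B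

lemma resLE_of_isZariskiLocalAtTarget {P : MorphismProperty Scheme.{u}} [IsZariskiLocalAtTarget P]
    {X Y : Scheme.{u}} (f : X ⟶ Y) (hf : P f) (U : Y.Opens)
    (V : X.Opens) (hV : V = f ⁻¹ᵁ U) : P (f.resLE U V hV.le) := by
  subst hV
  rw [Scheme.Hom.resLE_eq_morphismRestrict]
  exact IsZariskiLocalAtTarget.restrict hf U

lemma morphismRestrict_of_resLE {P : MorphismProperty Scheme.{u}}
    {X Y : Scheme.{u}} (f : X ⟶ Y) (U : Y.Opens)
    (V : X.Opens) (hV : V = f ⁻¹ᵁ U) (H : P (f.resLE U V hV.le)) : P (f ∣_ U) := by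
  subst hV
  rwa [Scheme.Hom.resLE_eq_morphismRestrict] at H

variable {I : Type u} [Category.{u} I] (D : I ⥤ Scheme.{u}) (c : Cone D) (hc : IsLimit c)

include hc

/-- Affine case. -/
lemma exists_isFinite_app_of_isAffine [IsCofiltered I] [∀ i, IsAffine (D.obj i)]
    [∀ {i j} (f : i ⟶ j), IsFinite (D.map f)]
    {S : Scheme.{u}} [IsAffine S] (t : D ⟶ (Functor.const I).obj S) (i₀ : I)
    [LocallyOfFiniteType (t.app i₀)] [IsIntegralHom (c.π.app i₀ ≫ t.app i₀)] :
    ∃ (j : I) (_ : j ⟶ i₀), IsFinite (t.app j) := by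
  classical
  have : IsAffine c.pt := Scheme.isAffine_of_isLimit c hc
  have hnat {i j : I} (f : i ⟶ j) : (D.map f ≫ t.app j : D.obj i ⟶ S) = t.app i := by
    have := t.naturality f
    simpa only [Functor.const_obj_obj, Functor.const_obj_map, Category.comp_id] using this
  have hint : RingHom.IsIntegral (c.π.app i₀ ≫ t.app i₀ : c.pt ⟶ S).appTop.hom :=
    ((HasAffineProperty.iff_of_isAffine (P := @IsIntegralHom) (X := c.pt) (Y := S)
      (f := c.π.app i₀ ≫ t.app i₀)).mp ‹_›).2
  have hlft : LocallyOfFiniteType (t.app i₀ : D.obj i₀ ⟶ S) := ‹_›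
  have hft : (t.app i₀ : D.obj i₀ ⟶ S).appTop.hom.FiniteType :=
    (HasRingHomProperty.iff_of_isAffine (P := @LocallyOfFiniteType) (X := D.obj i₀) (Y := S)
      (f := t.app i₀)).mp hlft
  letI alg : Algebra Γ(S, ⊤) Γ(D.obj i₀, ⊤) := (t.app i₀ : D.obj i₀ ⟶ S).appTop.hom.toAlgebra
  obtain ⟨s, hs⟩ : (⊤ : Subalgebra Γ(S, ⊤) Γ(D.obj i₀, ⊤)).FG := hft.1
  have key (x : Γ(D.obj i₀, ⊤)) : ∃ (p : Polynomial Γ(S, ⊤)) (j : I) (f : j ⟶ i₀), p.Monic ∧
      Polynomial.eval₂ (t.app j : D.obj j ⟶ S).appTop.hom ((D.map f).appTop x) p = 0 := by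
    obtain ⟨p, hp, hp0⟩ := hint ((c.π.app i₀).appTop x)
    have h0 : (c.π.app i₀).appTop
        (Polynomial.eval₂ (t.app i₀ : D.obj i₀ ⟶ S).appTop.hom x p) = 0 := by
      rw [← hp0]
      change (c.π.app i₀).appTop.hom _ = _
      rw [Polynomial.hom_eval₂]
      congr 1
    obtain ⟨j, f, hj⟩ := exists_appTop_map_eq_zero_of_isAffine_of_isLimit D c hc i₀ _ h0
    refine ⟨p, j, f, hp, ?_⟩
    rw [← hj]
    change _ = (D.map f).appTop.hom _
    rw [Polynomial.hom_eval₂]
    congr 1
    rw [← hnat f, Scheme.Hom.comp_appTop]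
    rfl
  choose p j f hp hjf using key
  let jo (x : Γ(D.obj i₀, ⊤)) : Over i₀ := Over.mk (f x)
  obtain ⟨j₁, hj₁⟩ := IsCofiltered.inf_objs_exists (s.image jo)
  refine ⟨j₁.left, j₁.hom, ?_⟩
  have hgen (x : Γ(D.obj i₀, ⊤)) (hx : x ∈ s) :
      Polynomial.eval₂ (t.app j₁.left : D.obj j₁.left ⟶ S).appTop.hom
        ((D.map j₁.hom).appTop x) (p x) = 0 := by
    let g : j₁ ⟶ jo x := (hj₁ (Finset.mem_image_of_mem jo hx)).some
    have hg : g.left ≫ f x = j₁.hom := Over.w g
    have := congr((D.map g.left).appTop.hom $(hjf x))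
    rw [Polynomial.hom_eval₂, map_zero] at this
    rw [← this]
    congr 1
    · rw [← hnat g.left, Scheme.Hom.comp_appTop]
      rfl
    · rw [← hg, D.map_comp, Scheme.Hom.comp_appTop]
      rfl
  have hfin : ((D.map j₁.hom).appTop.hom.comp
      (t.app i₀ : D.obj i₀ ⟶ S).appTop.hom).Finite := by
    refine finite_comp_of_adjoin _ _ s hs (Scheme.Hom.finite_appTop (D.map j₁.hom)) ?_
    intro x hx
    refine ⟨p x, hp x, ?_⟩
    rw [← hgen x hx]
    congr 1
    rw [← hnat j₁.hom, Scheme.Hom.comp_appTop]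
    rfl
  refine (HasAffineProperty.iff_of_isAffine (P := @IsFinite) (X := D.obj j₁.left) (Y := S)
      (f := t.app j₁.left)).mpr ⟨inferInstance, ?_⟩
  have e : (t.app j₁.left : D.obj j₁.left ⟶ S).appTop.hom =
      (D.map j₁.hom).appTop.hom.comp (t.app i₀ : D.obj i₀ ⟶ S).appTop.hom := by
    rw [← hnat j₁.hom, Scheme.Hom.comp_appTop]
    rfl
  rw [e]
  exact hfin

set_option backward.isDefEq.respectTransparency false in
/-- A cofiltered system of schemes over a quasi-compact base `S` with finite transition maps,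
one stage `i₁` being affine and locally of finite type over `S`, whose limit is integral over `S`,
has a stage which is finite over `S`. -/
lemma exists_isFinite_app [IsCofiltered I]
    [∀ {i j} (f : i ⟶ j), IsFinite (D.map f)]
    {S : Scheme.{u}} [CompactSpace S] (t : D ⟶ (Functor.const I).obj S) (i₁ : I)
    [IsAffineHom (t.app i₁)] [LocallyOfFiniteType (t.app i₁)]
    [IsIntegralHom (c.π.app i₁ ≫ t.app i₁)] :
    ∃ (j : I) (_ : j ⟶ i₁), IsFinite (t.app j) := by
  classical
  have hnat {i j : I} (f : i ⟶ j) : (D.map f ≫ t.app j : D.obj i ⟶ S) = t.app i := by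
    have := t.naturality f
    simpa only [Functor.const_obj_obj, Functor.const_obj_map, Category.comp_id] using this
  let 𝒰 := S.affineCover.finiteSubcover
  let W (a : 𝒰.I₀) : S.Opens := (𝒰.f a).opensRange
  have hW (a : 𝒰.I₀) : IsAffineOpen (W a) := isAffineOpen_opensRange _
  have key (a : 𝒰.I₀) : ∃ j : Over i₁,
      IsFinite ((t.app j.left : D.obj j.left ⟶ S) ∣_ W a) := by
    obtain ⟨U, hUdef⟩ : ∃ U : (D.obj i₁).Opens, U = (t.app i₁ : D.obj i₁ ⟶ S) ⁻¹ᵁ W a :=
      ⟨_, rfl⟩
    have hU : IsAffineOpen U := hUdef ▸ (hW a).preimage (t.app i₁ : D.obj i₁ ⟶ S)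
    have hle (j : Over i₁) :
        D.map j.hom ⁻¹ᵁ U = (t.app j.left : D.obj j.left ⟶ S) ⁻¹ᵁ W a := by
      rw [← hnat j.hom, Scheme.Hom.comp_preimage, hUdef]
    let t' : opensDiagram D i₁ U ⟶ (Functor.const (Over i₁)).obj (W a).toScheme :=
      { app j := (t.app j.left : D.obj j.left ⟶ S).resLE (W a) (D.map j.hom ⁻¹ᵁ U) (hle j).le
        naturality j k f := by
          simp only [opensDiagram_obj, opensDiagram_map, Functor.const_obj_obj,
            Functor.const_obj_map, Category.comp_id, Scheme.Hom.resLE_comp_resLE]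
          congr 1
          exact hnat f.left }
    have (j : Over i₁) : IsAffine ((opensDiagram D i₁ U).obj j) := hU.preimage _
    have : IsAffine (W a).toScheme := hW a
    have htr {j k : Over i₁} (f : j ⟶ k) : IsFinite ((opensDiagram D i₁ U).map f) := by
      rw [opensDiagram_map]
      exact resLE_of_isZariskiLocalAtTarget (P := @IsFinite) _ inferInstance _ _
        (by rw [← Scheme.Hom.comp_preimage, ← D.map_comp, Over.w f])
    let j₀ : Over i₁ := Over.mk (𝟙 i₁)
    have h1 : LocallyOfFiniteType (t'.app j₀) := by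
      have e : t'.app j₀ ≫ (W a).ι = (D.map j₀.hom ⁻¹ᵁ U).ι ≫ t.app i₁ := by
        simp only [t', Scheme.Hom.resLE_comp_ι]
        rfl
      have : LocallyOfFiniteType (t'.app j₀ ≫ (W a).ι) := by
        rw [e]; infer_instance
      exact locallyOfFiniteType_of_comp _ (W a).ι
    have h2 : IsIntegralHom ((opensCone D c i₁ U).π.app j₀ ≫ t'.app j₀) := by
      have e : (opensCone D c i₁ U).π.app j₀ ≫ t'.app j₀ =
          (c.π.app i₁ ≫ t.app i₁ : c.pt ⟶ S).resLE (W a) (c.π.app i₁ ⁻¹ᵁ U)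
            (by rw [Scheme.Hom.comp_preimage, hUdef]) := by
        simp only [t', opensCone_π_app, Scheme.Hom.resLE_comp_resLE]
        rfl
      rw [e]
      exact resLE_of_isZariskiLocalAtTarget (P := @IsIntegralHom) _ ‹_› _ _
        (by rw [Scheme.Hom.comp_preimage, hUdef])
    obtain ⟨j, -, hj⟩ := @exists_isFinite_app_of_isAffine _ _ _ _
      (isLimitOpensCone D c hc i₁ U) _ _ (fun {j k} f ↦ htr f) _ _ t' j₀ h1 h2
    refine ⟨j, ?_⟩
    exact morphismRestrict_of_resLE (P := @IsFinite) _ _ _ (hle j) hj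
  choose j hj using key
  obtain ⟨j₁, hj₁⟩ := IsCofiltered.inf_objs_exists (Finset.univ.image j)
  refine ⟨j₁.left, j₁.hom, ?_⟩
  rw [IsZariskiLocalAtTarget.iff_of_iSup_eq_top (P := @IsFinite) W 𝒰.iSup_opensRange]
  intro a
  let g : j₁ ⟶ j a := (hj₁ (Finset.mem_image_of_mem j (Finset.mem_univ a))).some
  have e : (t.app j₁.left : D.obj j₁.left ⟶ S) = D.map g.left ≫ t.app (j a).left :=
    (hnat g.left).symm
  change IsFinite ((t.app j₁.left : D.obj j₁.left ⟶ S) ∣_ W a)
  rw [e, morphismRestrict_comp]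
  have := hj a
  infer_instance

end Groth.Agent.Lib.Helper24.Lim8
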