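import Groth.Agent.Lib.Helper24.Lim8
import Mathlib.AlgebraicGeometry.Morphisms.UniversallyOpen

/-!
# Universally open projections of cofiltered limits (helper24)
-/

set_option autoImplicit false

open CategoryTheory CategoryTheory.Limits AlgebraicGeometry MorphismProperty

universe u

namespace Groth.Agent.Lib.Helper24.Lim8

variable {I : Type u} [Category.{u} I] (D : I ⥤ Scheme.{u}) (c : Cone D) (hc : IsLimit c)

/-- If `p ≫ f` is universally open and `p` is surjective then `f` is universally open. -/
lemma universallyOpen_of_comp_of_surjective {X Y Z : Scheme.{u}} (p : X ⟶ Y) (f : Y ⟶ Z)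
    [Surjective p] [UniversallyOpen (p ≫ f)] : UniversallyOpen f := by
  refine ⟨fun X' Y' i₁ i₂ f' H ↦ ?_⟩
  have hq : Surjective (pullback.fst i₁ p) := inferInstance
  have Hbig : IsPullback (pullback.fst i₁ p ≫ f') (pullback.snd i₁ p) i₂ (p ≫ f) :=
    (IsPullback.of_hasPullback i₁ p).paste_horiz H
  have hopen : IsOpenMap (pullback.fst i₁ p ≫ f') :=
    UniversallyOpen.universally_isOpenMap _ _ _ Hbig
  intro W hW
  have : f' '' W = (pullback.fst i₁ p ≫ f') '' (pullback.fst i₁ p ⁻¹' W) := by
    rw [Scheme.Hom.comp_base, TopCat.coe_comp, Set.image_comp,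
      Set.image_preimage_eq _ hq.surj]
  rw [this]
  exact hopen _ (hW.preimage (pullback.fst i₁ p).continuous)

set_option backward.isDefEq.respectTransparency false in
include hc in
lemma universallyOpen_π_app_iff [IsCofiltered I] [∀ {i j} (f : i ⟶ j), IsAffineHom (D.map f)]
    (i : I) (hs : ∀ (j : I) (_ : j ⟶ i), Surjective (c.π.app j)) :
    UniversallyOpen (c.π.app i) ↔ ∀ (j : I) (φ : j ⟶ i), UniversallyOpen (D.map φ) := by
  constructor
  · intro h j φ
    have := hs j φ
    have : UniversallyOpen (c.π.app j ≫ D.map φ) := by rw [c.w]; exact h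
    exact universallyOpen_of_comp_of_surjective (c.π.app j) (D.map φ)
  · intro h
    refine ⟨fun X' Y' i₁ i₂ f' H ↦ ?_⟩
    -- reduce to the canonical pullback
    have e : f' = H.flip.isoPullback.hom ≫ pullback.snd (c.π.app i) i₂ := by simp
    rw [e]
    suffices hsnd : IsOpenMap (pullback.snd (c.π.app i) i₂) by
      change IsOpenMap (H.flip.isoPullback.hom ≫ pullback.snd (c.π.app i) i₂)
      rw [Scheme.Hom.comp_base, TopCat.coe_comp]
      exact hsnd.comp H.flip.isoPullback.hom.homeomorph.isOpenMap
    -- apply the open-map criterion to the base-changed diagram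
    have key := (isOpenMap_π_app_iff (pbDiagram D i i₂) (pbCone D c i i₂)
      (isLimitPbCone D c hc i i₂) (Over.mk (𝟙 i)) (fun j _ ↦ by
        have := hs j.left j.hom
        have : Surjective ((pbCone D c i i₂).π.app j) :=
          MorphismProperty.of_isPullback (isPullback_pbCone_π D c i i₂ j).flip inferInstance
        exact this.surj)).mpr (fun j m ↦ by
        have := h j.left m.left
        have : UniversallyOpen ((pbDiagram D i i₂).map m) :=
          MorphismProperty.of_isPullback (isPullback_pbDiagram_map D i i₂ m).flip inferInstance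
        exact ((pbDiagram D i i₂).map m).isOpenMap)
    have h2 : (pbCone D c i i₂).π.app (Over.mk (𝟙 i)) ≫
        pullback.snd (D.map (Over.mk (𝟙 i)).hom) i₂ = pullback.snd (c.π.app i) i₂ := by
      simp [pullback.map]
    have : IsIso (pullback.snd (D.map (Over.mk (𝟙 i)).hom) i₂) := by
      have : IsIso (D.map (Over.mk (𝟙 i)).hom) := by
        have e' : D.map (Over.mk (𝟙 i)).hom = 𝟙 (D.obj i) := D.map_id i
        rw [e']; exact IsIso.id _
      infer_instance
    rw [← h2, Scheme.Hom.comp_base, TopCat.coe_comp]
    exact (pullback.snd (D.map (Over.mk (𝟙 i)).hom) i₂).homeomorph.isOpenMap.comp key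

end Groth.Agent.Lib.Helper24.Lim8
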