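import Groth.Agent.Lib.Helper24.Lim8
import Groth.Agent.Lib.Helper24.Lim8Flat
import Mathlib.AlgebraicGeometry.Stalk
import Mathlib.AlgebraicGeometry.Morphisms.Flat

/-!
# Cofiltered limits of schemes along open immersions (helper24)

* `mono_π_app`: monic transition maps ⇒ monic projections.
* `stalkMap_injective_of_flat`: stalk maps of a flat morphism are injective.
* `exists_lift_fromSpecStalk`: when the transition maps are open immersions,
  `Spec 𝒪_{S_i, π_i s} ⟶ S_i` lifts to the limit.
* `isIso_stalkMap_π_app`: stalk maps of the projections are isomorphisms.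
-/

set_option autoImplicit false

universe u

open CategoryTheory CategoryTheory.Limits AlgebraicGeometry

namespace Groth.Agent.Lib.Helper24.Lim8

lemma stalkMap_injective_of_flat {X Y : Scheme.{u}} (f : X ⟶ Y) [Flat f] (x : X) :
    Function.Injective (f.stalkMap x) := by
  algebraize [(f.stalkMap x).hom]
  have : Module.FaithfullyFlat (Y.presheaf.stalk (f x)) (X.presheaf.stalk x) :=
    @Module.FaithfullyFlat.of_flat_of_isLocalHom _ _ _ _ _ _ _
      (Flat.stalkMap f x) (f.toLRSHom.prop x)
  exact ‹RingHom.FaithfullyFlat _›.injective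

variable {I : Type u} [Category.{u} I] (D : I ⥤ Scheme.{u}) (c : Cone D) (hc : IsLimit c)

include hc in
lemma mono_π_app [IsCofiltered I] (hm : ∀ {i j : I} (φ : i ⟶ j), Mono (D.map φ)) (i : I) :
    Mono (c.π.app i) := by
  refine ⟨fun {T} a b hab ↦ hc.hom_ext fun k ↦ ?_⟩
  obtain ⟨j, α, β, -⟩ := IsCofilteredOrEmpty.cone_objs i k
  have h1 : a ≫ c.π.app j = b ≫ c.π.app j := by
    have := hm α
    rw [← cancel_mono (D.map α), Category.assoc, Category.assoc, c.w]
    exact hab
  rw [← c.w β, ← Category.assoc, h1, Category.assoc]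

attribute [local instance] CategoryTheory.isConnected_of_hasTerminal

set_option backward.isDefEq.respectTransparency false in
include hc in
lemma exists_lift_fromSpecStalk [IsCofiltered I]
    (hoi : ∀ {i j : I} (φ : i ⟶ j), IsOpenImmersion (D.map φ)) (i : I) (s : c.pt) :
    ∃ σ : Spec ((D.obj i).presheaf.stalk (c.π.app i s)) ⟶ c.pt,
      σ ≫ c.π.app i = (D.obj i).fromSpecStalk (c.π.app i s) := by
  have hr : ∀ j : Over i, Set.range ((D.obj i).fromSpecStalk (c.π.app i s)) ⊆
      Set.range (D.map j.hom) := by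
    intro j
    rw [Scheme.range_fromSpecStalk]
    intro y hy
    have ht : c.π.app i s ∈ Set.range (D.map j.hom) :=
      ⟨c.π.app j.left s, by rw [← Scheme.Hom.comp_apply, c.w]; rfl⟩
    have := hoi j.hom
    exact (hy : y ⤳ c.π.app i s).mem_open (D.map j.hom).isOpenEmbedding.isOpen_range ht
  have hoi' : ∀ j : Over i, IsOpenImmersion (D.map j.hom) := fun j ↦ hoi j.hom
  let a : ∀ j : Over i, Spec ((D.obj i).presheaf.stalk (c.π.app i s)) ⟶ D.obj j.left :=
    fun j ↦ IsOpenImmersion.lift (D.map j.hom) ((D.obj i).fromSpecStalk (c.π.app i s)) (hr j)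
  have ha : ∀ j, a j ≫ D.map j.hom = (D.obj i).fromSpecStalk (c.π.app i s) :=
    fun j ↦ IsOpenImmersion.lift_fac _ _ _
  let cone : Cone (Over.forget i ⋙ D) :=
    { pt := Spec ((D.obj i).presheaf.stalk (c.π.app i s))
      π :=
      { app := a
        naturality := fun j k f ↦ by
          have := hoi' k
          rw [← cancel_mono (D.map k.hom)]
          simp only [Functor.const_obj_obj, Functor.const_obj_map, Category.id_comp,
            Functor.comp_obj, Over.forget_obj, Functor.comp_map, Over.forget_map, Category.assoc]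
          rw [← D.map_comp, Over.w f, ha, ha] } }
  have hc' : IsLimit (c.whisker (Over.forget i)) :=
    (Functor.Initial.isLimitWhiskerEquiv (Over.forget i) c).symm hc
  refine ⟨hc'.lift cone, ?_⟩
  have h1 := hc'.fac cone (Over.mk (𝟙 i))
  have h2 := ha (Over.mk (𝟙 i))
  simp only [Over.mk_left, Over.mk_hom, CategoryTheory.Functor.map_id, Category.comp_id] at h2
  simp only [Cone.whisker_pt, Cone.whisker_π, Functor.whiskerLeft_app, Over.forget_obj,
    Over.mk_left] at h1
  rw [h1]
  exact h2

set_option backward.isDefEq.respectTransparency false in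
include hc in
/-- When the transition maps are open immersions, the stalk maps of the projections are
isomorphisms. -/
lemma isIso_stalkMap_π_app [IsCofiltered I] [∀ {i j : I} (f : i ⟶ j), IsAffineHom (D.map f)]
    (hoi : ∀ {i j : I} (φ : i ⟶ j), IsOpenImmersion (D.map φ)) (i : I) (s : c.pt) :
    IsIso ((c.π.app i).stalkMap s) := by
  have hfl : Flat (c.π.app i) := flat_π_app D c hc i (fun j φ ↦ by
    have := hoi φ
    infer_instance)
  have hmono : Mono (c.π.app i) := mono_π_app D c hc (fun φ ↦ by
    have := hoi φ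
    infer_instance) i
  rw [ConcreteCategory.isIso_iff_bijective]
  refine ⟨stalkMap_injective_of_flat (c.π.app i) s, ?_⟩
  obtain ⟨σ, hσ⟩ := exists_lift_fromSpecStalk D c hc hoi i s
  set ρ := (c.π.app i).stalkMap s with hρ
  have hu : c.pt.fromSpecStalk s = Spec.map ρ ≫ σ := by
    rw [← cancel_mono (c.π.app i), Category.assoc, hσ]
    exact (Scheme.SpecMap_stalkMap_fromSpecStalk (c.π.app i)).symm
  have hσ' := Scheme.Spec_stalkClosedPointTo_fromSpecStalk σ
  set r := Scheme.stalkClosedPointTo σ with hr
  have h3 : Spec.map (𝟙 (c.pt.presheaf.stalk s)) ≫ c.pt.fromSpecStalk s =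
      Spec.map (r ≫ ρ) ≫ c.pt.fromSpecStalk (σ (IsLocalRing.closedPoint _)) := by
    rw [Spec.map_id, Category.id_comp, hu, Spec.map_comp, Category.assoc, hσ']
  have h4 := (SpecToEquivOfLocalRing c.pt (c.pt.presheaf.stalk s)).symm.injective
    (a₁ := ⟨s, 𝟙 _, inferInstance⟩) (a₂ := ⟨σ (IsLocalRing.closedPoint _), r ≫ ρ, inferInstance⟩)
    h3
  obtain ⟨h₁, h₂⟩ := SpecToEquivOfLocalRing_eq_iff.mp h4
  intro a
  refine ⟨r ((c.pt.presheaf.stalkCongr (.of_eq h₁)).hom a), ?_⟩
  have := congrArg (fun f ↦ f a) h₂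
  simp only [CommRingCat.id_apply, CommRingCat.comp_apply] at this
  exact this.symm

end Groth.Agent.Lib.Helper24.Lim8
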