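import Groth.Agent.Lib.Helper24.Lim8Flat

/-!
# Reducedness in cofiltered limits of schemes (helper24)
-/

set_option autoImplicit false

open CategoryTheory CategoryTheory.Limits AlgebraicGeometry

universe u

namespace Groth.Agent.Lib.Helper24.Lim8

variable {J : Type u} [Category.{u} J] [IsCofiltered J] (F : J ⥤ Scheme.{u}) (cF : Cone F)
  (hcF : IsLimit cF)

include hcF in
/-- For a cofiltered diagram of affine schemes whose limit is not reduced, the stages are
eventually not reduced. -/
lemma exists_not_isReduced_of_isAffine [∀ j, IsAffine (F.obj j)] (h : ¬ IsReduced cF.pt) :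
    ∃ j : J, ∀ (j' : J) (_ : j' ⟶ j), ¬ _root_.IsReduced Γ(F.obj j', ⊤) := by
  have : IsAffine cF.pt := Scheme.isAffine_of_isLimit _ hcF
  have h' : ¬ _root_.IsReduced Γ(cF.pt, ⊤) := fun h' ↦ h (isReduced_of_isAffine_isReduced _)
  rw [isReduced_iff] at h'
  push Not at h'
  obtain ⟨r, ⟨n, hn⟩, hr0⟩ := h'
  obtain ⟨j, t, rfl⟩ := exists_appTop_π_eq_of_isAffine_of_isLimit F cF hcF r
  obtain ⟨j', k, hk⟩ := exists_appTop_map_eq_zero_of_isAffine_of_isLimit F cF hcF j (t ^ n)
    (by rw [map_pow, hn])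
  refine ⟨j', fun j'' m hred ↦ hr0 ?_⟩
  have h1 : IsNilpotent ((F.map (m ≫ k)).appTop t) := ⟨n, by
    rw [← map_pow, F.map_comp, Scheme.Hom.comp_appTop, CommRingCat.comp_apply, hk, map_zero]⟩
  have h2 := h1.eq_zero
  rw [← cF.w (m ≫ k), Scheme.Hom.comp_appTop, CommRingCat.comp_apply, h2, map_zero]

variable {I : Type u} [Category.{u} I] (D : I ⥤ Scheme.{u}) (c : Cone D) (hc : IsLimit c)

/-- The preimages in the limit of the affine opens of a stage form an open cover. -/
lemma isOpenCover_preimage_affineOpens (i : I) :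
    TopologicalSpace.IsOpenCover
      (fun V : (D.obj i).affineOpens ↦ (c.π.app i ⁻¹ᵁ V.1 : c.pt.Opens)) := by
  rw [TopologicalSpace.IsOpenCover, ← Scheme.Hom.preimage_iSup, iSup_affineOpens_eq_top]
  rfl

set_option backward.isDefEq.respectTransparency false in
include hc in
/-- If the limit is not reduced, the stages are eventually not reduced (EGA IV 8.7.1). -/
lemma exists_not_isReduced [IsCofiltered I] [∀ {i j} (f : i ⟶ j), IsAffineHom (D.map f)]
    (h : ¬ IsReduced c.pt) : ∃ i : I, ∀ (j : I) (_ : j ⟶ i), ¬ IsReduced (D.obj j) := by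
  obtain ⟨i₁⟩ := IsCofiltered.nonempty (C := I)
  have : ∃ V : (D.obj i₁).affineOpens, ¬ IsReduced ↑(c.π.app i₁ ⁻¹ᵁ V.1) := by
    by_contra! H
    let 𝒰 := c.pt.openCoverOfIsOpenCover _ (isOpenCover_preimage_affineOpens D c i₁)
    have : ∀ i, IsReduced (𝒰.X i) := H
    exact h (IsReduced.of_openCover _ 𝒰)
  obtain ⟨V, hV⟩ := this
  have (j : Over i₁) : IsAffine ((opensDiagram D i₁ V.1).obj j) := V.2.preimage (D.map _)
  obtain ⟨j, hj⟩ := exists_not_isReduced_of_isAffine (opensDiagram D i₁ V.1)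
    (opensCone D c i₁ V.1) (isLimitOpensCone D c hc i₁ V.1) hV
  refine ⟨j.left, fun j' ψ hred ↦ hj (Over.mk (ψ ≫ j.hom)) (Over.homMk ψ) ?_⟩
  dsimp [opensDiagram]
  infer_instance

/-- Reducedness descends along flat surjective morphisms. -/
lemma isReduced_of_flat_of_surjective {X Y : Scheme.{u}} (f : X ⟶ Y) [Flat f] [Surjective f]
    [IsReduced X] : IsReduced Y := by
  have (y : Y) : _root_.IsReduced (Y.presheaf.stalk y) := by
    obtain ⟨x, rfl⟩ := f.surjective y
    have hinj : Function.Injective (f.stalkMap x).hom := by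
      algebraize [(f.stalkMap x).hom]
      have : Module.FaithfullyFlat (Y.presheaf.stalk (f x)) (X.presheaf.stalk x) :=
        @Module.FaithfullyFlat.of_flat_of_isLocalHom _ _ _ _ _ _ _
          (Flat.stalkMap f x) (f.toLRSHom.prop x)
      exact ‹RingHom.FaithfullyFlat _›.injective
    exact isReduced_of_injective (f.stalkMap x).hom hinj
  exact isReduced_of_isReduced_stalk Y

include hc in
/-- Flat surjective transition maps: the limit is reduced iff all stages are. -/
lemma isReduced_iff_of_flat_surjective [IsCofiltered I]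
    [∀ {i j} (f : i ⟶ j), IsAffineHom (D.map f)]
    (hf : ∀ (i j : I) (φ : i ⟶ j), Flat (D.map φ) ∧ Surjective (D.map φ)) :
    IsReduced c.pt ↔ ∀ i : I, IsReduced (D.obj i) := by
  constructor
  · intro h i
    have : Flat (c.π.app i) := flat_π_app D c hc i fun j φ ↦ (hf _ _ φ).1
    have : Surjective (c.π.app i) :=
      ⟨fun x ↦ exists_π_app_eq D c hc x fun j φ ↦ (hf _ _ φ).2.surj x⟩
    exact isReduced_of_flat_of_surjective (X := c.pt) (c.π.app i)
  · intro h
    by_contra hcon
    obtain ⟨i, hi⟩ := exists_not_isReduced D c hc hcon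
    exact hi i (𝟙 i) (h i)

end Groth.Agent.Lib.Helper24.Lim8
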