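import Groth.Agent.Lib.Helper24.Lim8OpenImm
import Groth.Agent.Lib.Helper24.Lim8Reduced
import Groth.Agent.Lib.Helper24.Lim8LC

/-!
# Reducedness along limits of open immersions (helper24)
-/

set_option autoImplicit false

universe u

open CategoryTheory CategoryTheory.Limits AlgebraicGeometry

namespace Groth.Agent.Lib.Helper24.Lim8

/-- A localization `B` of `A` in which the nilradical of `A` dies is reduced. -/
lemma isReduced_of_isLocalization_of_nilradical_le_ker {A B : Type*} [CommRing A] [CommRing B]
    [Algebra A B] (M : Submonoid A) [IsLocalization M B]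
    (h : nilradical A ≤ RingHom.ker (algebraMap A B)) : IsReduced B := by
  rw [isReduced_iff]
  rintro b ⟨k, hk⟩
  obtain ⟨a, s, rfl⟩ := IsLocalization.exists_mk'_eq M b
  rw [← IsLocalization.mk'_pow, IsLocalization.mk'_eq_zero_iff] at hk
  obtain ⟨t, ht⟩ := hk
  have hnil : IsNilpotent ((t : A) * a) := by
    refine ⟨k + 1, ?_⟩
    rw [mul_pow, pow_succ, pow_succ]
    linear_combination ((t : A) ^ k * a) * ht
  have hker : algebraMap A B ((t : A) * a) = 0 := h (mem_nilradical.mpr hnil)
  rw [map_mul] at hker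
  have ha : algebraMap A B a = 0 := (IsLocalization.map_units B t).mul_right_eq_zero.mp hker
  rw [IsLocalization.mk'_eq_mul_mk'_one, ha, zero_mul]

/-- The stalk of a scheme at a point `x` of an affine open `U` is reduced as soon as the germs at
`x` of a generating set of the nilradical of `Γ(X, U)` vanish. -/
lemma isReduced_stalk_of_germ_eq_zero {X : Scheme.{u}} {U : X.Opens} (hU : IsAffineOpen U) (x : X)
    (hx : x ∈ U) (G : Set Γ(X, U)) (hG : Ideal.span G = nilradical Γ(X, U))
    (h : ∀ n ∈ G, X.presheaf.germ U x hx n = 0) : _root_.IsReduced (X.presheaf.stalk x) := by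
  let := X.presheaf.algebra_section_stalk ⟨x, hx⟩
  have := hU.isLocalization_stalk ⟨x, hx⟩
  refine isReduced_of_isLocalization_of_nilradical_le_ker
    (hU.primeIdealOf ⟨x, hx⟩).asIdeal.primeCompl ?_
  rw [← hG, Ideal.span_le]
  intro n hn
  exact h n hn

/-- The locus in an open `U` where the germ of a section over `U` does not vanish is closed in
`U`: its complement in the ambient space is open. -/
lemma isOpen_setOf_germ_eq_zero {X : Scheme.{u}} (U : X.Opens) (n : Γ(X, U)) :
    IsOpen {x : X | ∃ hx : x ∈ U, X.presheaf.germ U x hx n = 0} := by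
  rw [isOpen_iff_forall_mem_open]
  rintro x ⟨hx, h0⟩
  have h0' : X.presheaf.germ U x hx n = X.presheaf.germ U x hx 0 := by rw [h0, map_zero]
  obtain ⟨W, hxW, iU, iV, hW⟩ := TopCat.Presheaf.germ_eq X.presheaf x hx hx n 0 h0'
  refine ⟨W, fun y hy ↦ ⟨iU.le hy, ?_⟩, W.2, hxW⟩
  have h1 := X.presheaf.germ_res_apply iU y hy n
  rw [← h1, hW]
  have h2 := X.presheaf.germ_res_apply iV y hy 0
  rw [h2, map_zero]

variable {I : Type u} [SmallCategory I] (D : I ⥤ Scheme.{u}) (c : Cone D) (hc : IsLimit c)

end Groth.Agent.Lib.Helper24.Lim8
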