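import Mathlib

/-!
# Points and topology of a cofiltered limit of schemes with affine transition maps

* `exists_limitCone_of_isAffine`: a (small) diagram of affine schemes has a limit cone.
* `exists_π_app_eq_of_compatible`: a compatible family of points lifts to the limit.
* `eq_of_forall_π_app_eq`: points of the limit are determined by their projections.
* `str_eq_iInf_induced`: the topology of the limit is the initial topology.
* `nonempty_isLimit_forgetToTop_mapCone`: the underlying space of the limit is the limit of the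
  underlying spaces (Stacks 0CUF / EGA IV 8.2.9).
-/

universe u

open CategoryTheory Limits AlgebraicGeometry

namespace Groth.Agent.Lib.Helper24.Lim8

/-- A small diagram of affine schemes has a limit cone. -/
lemma exists_limitCone_of_isAffine {J : Type u} [Category.{u} J] (F : J ⥤ Scheme.{u})
    [∀ j, IsAffine (F.obj j)] : Nonempty (LimitCone F) := by
  let e : F ⟶ (F ⋙ Scheme.Γ.rightOp) ⋙ Scheme.Spec := Functor.whiskerLeft F ΓSpec.adjunction.unit
  have (i : _) : IsIso (e.app i) := IsAffine.affine
  have : IsIso e := NatIso.isIso_of_isIso_app e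
  exact ⟨⟨_, (IsLimit.postcomposeInvEquiv (asIso e) _).symm
    (isLimitOfPreserves Scheme.Spec (limit.isLimit (F ⋙ Scheme.Γ.rightOp)))⟩⟩

variable {I : Type u} [Category.{u} I] (D : I ⥤ Scheme.{u}) (c : Cone D) (hc : IsLimit c)

section
include hc

/-- Points of a cofiltered limit with affine transition maps are determined by their images
in the stages. -/
lemma eq_of_forall_π_app_eq [IsCofiltered I] [∀ {i j} (f : i ⟶ j), IsAffineHom (D.map f)]
    {s s' : c.pt} (h : ∀ i, c.π.app i s = c.π.app i s') : s = s' := by
  by_contra hne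
  have hB := isBasis_preimage_isAffineOpen D c hc
  -- `c.pt` is T0
  obtain ⟨W, hW, hxor⟩ := exists_isOpen_xor'_mem hne
  wlog hs : s ∈ W ∧ s' ∉ W generalizing s s'
  · refine this (fun i ↦ (h i).symm) (Ne.symm hne) ?_ ?_
    · rcases hxor with h1 | h1
      · exact absurd h1 hs
      · exact Or.inl h1
    · rcases hxor with h1 | h1
      · exact absurd h1 hs
      · exact h1
  obtain ⟨_, ⟨i, V, hV, rfl⟩, hsV, hVW⟩ :=
    TopologicalSpace.Opens.isBasis_iff_nbhd.mp hB (U := ⟨W, hW⟩) hs.1
  have : s' ∈ c.π.app i ⁻¹ᵁ V := by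
    change c.π.app i s' ∈ V
    rw [← h i]
    exact hsV
  exact hs.2 (hVW this)

/-- The topology of a cofiltered limit with affine transition maps is the initial topology
with respect to the projections. -/
lemma str_eq_iInf_induced [IsCofiltered I] [∀ {i j} (f : i ⟶ j), IsAffineHom (D.map f)] :
    (inferInstance : TopologicalSpace c.pt) =
      ⨅ i, TopologicalSpace.induced (fun s : c.pt ↦ c.π.app i s)
        (inferInstance : TopologicalSpace (D.obj i)) := by
  set τ : I → TopologicalSpace c.pt := fun i ↦ TopologicalSpace.induced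
    (fun s : c.pt ↦ c.π.app i s) (inferInstance : TopologicalSpace (D.obj i)) with hτ
  change _ = ⨅ i, τ i
  apply le_antisymm
  · refine le_iInf fun i ↦ ?_
    exact (c.π.app i).continuous.le_induced
  · intro U hU
    change @IsOpen _ (⨅ i, τ i) U
    replace hU : IsOpen U := hU
    have hB := isBasis_preimage_isAffineOpen D c hc
    refine (@isOpen_iff_forall_mem_open _ (⨅ i, τ i) U).mpr ?_
    intro s hs
    obtain ⟨_, ⟨i, V, hV, rfl⟩, hsV, hVW⟩ :=
      TopologicalSpace.Opens.isBasis_iff_nbhd.mp hB (U := ⟨U, hU⟩) hs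
    refine ⟨(fun s : c.pt ↦ c.π.app i s) ⁻¹' V, hVW, ?_, hsV⟩
    have h1 : @IsOpen _ (τ i) ((fun s : c.pt ↦ c.π.app i s) ⁻¹' V) := isOpen_induced V.2
    have hle : ⨅ i, τ i ≤ τ i := iInf_le τ i
    exact hle _ h1

set_option backward.isDefEq.respectTransparency false in
/-- A compatible family of points of the stages of a cofiltered diagram with affine transition
maps is the family of images of a point of the limit. -/
lemma exists_π_app_eq_of_compatible [IsCofiltered I] [∀ {i j} (f : i ⟶ j), IsAffineHom (D.map f)]
    (x : ∀ i, D.obj i) (hx : ∀ {i j : I} (f : i ⟶ j), D.map f (x i) = x j) :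
    ∃ s : c.pt, ∀ i, c.π.app i s = x i := by
  -- the diagram of local schemes `Spec 𝒪_{Dᵢ, xᵢ}`
  let φ {i j : I} (f : i ⟶ j) : (D.obj j).presheaf.stalk (x j) ⟶ (D.obj i).presheaf.stalk (x i) :=
    (D.obj j).presheaf.stalkSpecializes (specializes_of_eq (hx f)) ≫ (D.map f).stalkMap (x i)
  have hφ {i j : I} (f : i ⟶ j) :
      Spec.map (φ f) ≫ (D.obj j).fromSpecStalk (x j) = (D.obj i).fromSpecStalk (x i) ≫ D.map f := by
    simp only [φ, Spec.map_comp, Category.assoc]
    rw [Scheme.SpecMap_stalkSpecializes_fromSpecStalk, Scheme.SpecMap_stalkMap_fromSpecStalk]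
  let D' : I ⥤ Scheme.{u} :=
    { obj i := Spec ((D.obj i).presheaf.stalk (x i))
      map f := Spec.map (φ f)
      map_id i := by
        rw [← cancel_mono ((D.obj i).fromSpecStalk (x i)), hφ]
        simp
      map_comp {i j k} f g := by
        rw [← cancel_mono ((D.obj k).fromSpecStalk (x k)), hφ, Category.assoc, hφ,
          reassoc_of% (hφ f), D.map_comp] }
  let ι : D' ⟶ D :=
    { app i := (D.obj i).fromSpecStalk (x i)
      naturality i j f := hφ f }
  have (i : I) : IsAffine (D'.obj i) := by dsimp [D']; infer_instance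
  have {i j : I} (f : i ⟶ j) : IsAffineHom (D'.map f) := by
    dsimp [D']; infer_instance
  obtain ⟨c'⟩ := exists_limitCone_of_isAffine D'
  let Z (i : I) : Set (D'.obj i) := {IsLocalRing.closedPoint ((D.obj i).presheaf.stalk (x i))}
  have hιinj (i : I) : Function.Injective (ι.app i) :=
    ((D.obj i).fromSpecStalk (x i)).isEmbedding.injective
  have hιcp (i : I) : ι.app i (IsLocalRing.closedPoint ((D.obj i).presheaf.stalk (x i))) = x i :=
    Scheme.fromSpecStalk_closedPoint
  obtain ⟨s, hs⟩ := exists_mem_of_isClosed_of_nonempty D' c'.cone c'.isLimit Z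
    (fun i ↦ (PrimeSpectrum.isClosed_singleton_iff_isMaximal _).mpr
      (IsLocalRing.maximalIdeal.isMaximal _))
    (fun i ↦ Set.singleton_nonempty _) (fun i ↦ isCompact_singleton)
    (fun {i j} f ↦ by
      intro z hz
      rw [Set.mem_singleton_iff] at hz ⊢
      subst hz
      apply hιinj j
      rw [hιcp, ← Scheme.Hom.comp_apply, ι.naturality, Scheme.Hom.comp_apply, hιcp, hx])
  refine ⟨hc.lift ((Cone.postcompose ι).obj c'.cone) s, fun i ↦ ?_⟩
  have h1 : hc.lift ((Cone.postcompose ι).obj c'.cone) ≫ c.π.app i =
      c'.cone.π.app i ≫ ι.app i := by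
    rw [hc.fac]; rfl
  have h2 : c.π.app i (hc.lift ((Cone.postcompose ι).obj c'.cone) s) =
      ι.app i (c'.cone.π.app i s) := congr(($h1) s)
  rw [h2]
  have := hs i
  rw [Set.mem_singleton_iff] at this
  rw [this]
  exact hιcp i

/-- The underlying topological space of a cofiltered limit of schemes with affine transition
maps is the limit of the underlying topological spaces. -/
lemma nonempty_isLimit_forgetToTop_mapCone [IsCofiltered I]
    [∀ {i j} (f : i ⟶ j), IsAffineHom (D.map f)] :
    Nonempty (IsLimit (Scheme.forgetToTop.mapCone c)) := by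
  have h1 : Nonempty (IsLimit ((forget TopCat).mapCone (Scheme.forgetToTop.mapCone c))) := by
    rw [Types.isLimit_iff_bijective_sectionOfCone]
    constructor
    · intro s s' h
      apply eq_of_forall_π_app_eq D c hc
      intro i
      exact congr($(h).1 i)
    · rintro ⟨x, hx⟩
      obtain ⟨s, hs⟩ := exists_π_app_eq_of_compatible D c hc x (fun f => hx f)
      exact ⟨s, Subtype.ext (funext hs)⟩
  obtain ⟨h1⟩ := h1
  rw [TopCat.nonempty_isLimit_iff_eq_induced _ h1]
  exact str_eq_iInf_induced D c hc

end

end Groth.Agent.Lib.Helper24.Lim8
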