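import Groth.Agent.Lib.Helper24.Lim8ProC
import Groth.Agent.Lib.Helper24.Lim8Flat
import Groth.Agent.Lib.Helper78.ProConsClosure
import Mathlib.AlgebraicGeometry.Morphisms.UniversallyOpen

/-!
# Flat morphisms and closures of pro-constructible sets (helper24)

* `closure_preimage_eq_of_flat`: for a flat morphism `f` and a pro-constructible `Z`,
  `closure (f ⁻¹' Z) = f ⁻¹' closure Z` (EGA IV 2.3.10).
-/

set_option autoImplicit false

universe u

open CategoryTheory CategoryTheory.Limits AlgebraicGeometry Topology Set

namespace Groth.Agent.Lib.Helper24.Lim8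

lemma closure_preimage_eq_of_flat {X Y : Scheme.{u}} (f : X ⟶ Y) [Flat f] {Z : Set Y}
    (hZ : ProCons.IsProConstructible Z) : closure (f ⁻¹' Z) = f ⁻¹' closure Z := by
  refine subset_antisymm (f.continuous.closure_preimage_subset Z) fun x hx ↦ ?_
  obtain ⟨z, hz, hzx⟩ := Groth.Agent.Lib.Helper78.ProConsClosure.exists_specializes_of_mem_closure
    hZ hx
  obtain ⟨x', hx', rfl⟩ := Flat.generalizingMap f hzx
  exact hx'.mem_closed isClosed_closure (subset_closure hz)

end Groth.Agent.Lib.Helper24.Lim8
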