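import Groth.Prelude.Def_FlatCA
import Groth.Agent.Lib.Helper24.ZMTFinite
import Groth.Agent.Lib.Helper24.FieldPoint

/-!
# A monomorphism locally of finite type to `Spec (lim A_n)` (surjective transition maps with nil
kernels) through which all `Spec A_n` factor is an isomorphism (helper24)
-/

set_option autoImplicit false

universe u

open CategoryTheory CategoryTheory.Limits AlgebraicGeometry

namespace Groth.Agent.Lib.Helper24.NilLimit

section ring

variable {A : Type u} [CommRing A] (A' : ℕ → Type u) [∀ n, CommRing (A' n)]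
  (φ : ∀ n, A' (n + 1) →+* A' n) (π : ∀ n, A →+* A' n)
  (hlim : FlatCA.IsRingLimit A A' φ π)

/-- The composite `A' n → A' 0`. -/
def τ : ∀ n, A' n →+* A' 0
  | 0 => RingHom.id _
  | (n + 1) => (τ n).comp (φ n)

include hlim in
lemma τ_π (n : ℕ) : (τ A' φ n).comp (π n) = π 0 := by
  induction n with
  | zero => rfl
  | succ n ih =>
    change ((τ A' φ n).comp (φ n)).comp (π (n + 1)) = π 0
    rw [RingHom.comp_assoc, hlim.1 n, ih]

lemma τ_nil (hnil : ∀ n, ∀ x ∈ RingHom.ker (φ n), IsNilpotent x) (n : ℕ) :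
    ∀ x ∈ RingHom.ker (τ A' φ n), IsNilpotent x := by
  induction n with
  | zero =>
    intro x hx
    have : x = 0 := hx
    rw [this]
    exact IsNilpotent.zero
  | succ n ih =>
    intro x hx
    have h1 : φ n x ∈ RingHom.ker (τ A' φ n) := hx
    obtain ⟨m, hm⟩ := ih _ h1
    have h2 : x ^ m ∈ RingHom.ker (φ n) := by
      rw [RingHom.mem_ker, map_pow, hm]
    obtain ⟨m', hm'⟩ := hnil n _ h2
    exact ⟨m * m', by rw [pow_mul, hm']⟩

include hlim in
/-- Elements of `ker (π 0)` lie in the Jacobson radical. -/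
lemma isUnit_one_sub (hnil : ∀ n, ∀ x ∈ RingHom.ker (φ n), IsNilpotent x) (a : A)
    (ha : a ∈ RingHom.ker (π 0)) : IsUnit (1 - a) := by
  have h1 : ∀ n, IsUnit (1 - π n a) := by
    intro n
    apply IsNilpotent.isUnit_one_sub
    apply τ_nil A' φ hnil n
    rw [RingHom.mem_ker, ← RingHom.comp_apply, τ_π A' φ π hlim n]
    exact ha
  choose v hv using fun n => (h1 n).exists_right_inv
  have hcompat : ∀ n, φ n (v (n + 1)) = v n := by
    intro n
    have e1 : (1 - π n a) * φ n (v (n + 1)) = 1 := by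
      have : φ n ((1 - π (n + 1) a) * v (n + 1)) = 1 := by rw [hv (n + 1), map_one]
      rw [map_mul, map_sub, map_one, ← RingHom.comp_apply, hlim.1 n] at this
      exact this
    have e2 : v n * (1 - π n a) = 1 := by rw [mul_comm]; exact hv n
    exact (left_inv_eq_right_inv e2 e1).symm
  obtain ⟨w, hw⟩ := hlim.2.2 v hcompat
  refine IsUnit.of_mul_eq_one w (hlim.2.1 _ _ fun n => ?_)
  rw [map_mul, map_sub, map_one, hw n, hv n]

include hlim in
/-- `π 0` is surjective. -/
lemma π_zero_surjective (hsurj : ∀ n, Function.Surjective (φ n)) :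
    Function.Surjective (π 0) := by
  intro a0
  let x : ∀ n, A' n := fun n =>
    Nat.rec (motive := fun n => A' n) a0 (fun n xn => (hsurj n xn).choose) n
  have hx : ∀ n, φ n (x (n + 1)) = x n := fun n => (hsurj n (x n)).choose_spec
  obtain ⟨a, ha⟩ := hlim.2.2 x hx
  exact ⟨a, ha 0⟩

include hlim in
/-- Universal property of the limit for ring homomorphisms. -/
lemma exists_lift {B : Type u} [CommRing B] (ψ : ∀ n, B →+* A' n)
    (hψ : ∀ n, (φ n).comp (ψ (n + 1)) = ψ n) :
    ∃ Ψ : B →+* A, ∀ n, (π n).comp Ψ = ψ n := by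
  have hex : ∀ b : B, ∃ a : A, ∀ n, π n a = ψ n b := fun b =>
    hlim.2.2 (fun n => ψ n b) (fun n => by rw [← RingHom.comp_apply, hψ n])
  choose F hF using hex
  have huniq : ∀ a b : A, (∀ n, π n a = π n b) → a = b := hlim.2.1
  refine ⟨{ toFun := F
            map_one' := huniq _ _ fun n => by rw [hF, map_one, map_one]
            map_mul' := fun x y => huniq _ _ fun n => by rw [hF, map_mul, map_mul, hF, hF]
            map_zero' := huniq _ _ fun n => by rw [hF, map_zero, map_zero]
            map_add' := fun x y => huniq _ _ fun n => by rw [hF, map_add, map_add, hF, hF] },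
    fun n => ?_⟩
  ext b
  exact hF b n

end ring

section scheme

variable {A : Type u} [CommRing A] (A' : ℕ → Type u) [∀ n, CommRing (A' n)]
  (φ : ∀ n, A' (n + 1) →+* A' n) (π : ∀ n, A →+* A' n)
  (hlim : FlatCA.IsRingLimit A A' φ π)
  (hsurj : ∀ n, Function.Surjective (φ n))
  (hnil : ∀ n, ∀ x ∈ RingHom.ker (φ n), IsNilpotent x)

include hlim hsurj hnil in
/-- An open subset of `Spec A` containing the image of `Spec (A' 0)` is everything. -/
lemma eq_top_of_range_le (W : (Spec (CommRingCat.of A)).Opens)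
    (hW : Set.range (Spec.map (CommRingCat.ofHom (π 0))) ⊆ (W : Set _)) : W = ⊤ := by
  rw [eq_top_iff]
  rintro x -
  obtain ⟨m, hm, hxm⟩ := Ideal.exists_le_maximal x.asIdeal x.2.ne_top
  let pm : PrimeSpectrum A := ⟨m, hm.isPrime⟩
  have hker : RingHom.ker (π 0) ≤ m := by
    intro a ha
    by_contra ham
    obtain ⟨y, i, hi, hyi⟩ := hm.exists_inv ham
    have hya : y * a ∈ RingHom.ker (π 0) := Ideal.mul_mem_left _ y ha
    have hu := isUnit_one_sub A' φ π hlim hnil (y * a) hya
    have hi' : i = 1 - y * a := by rw [← hyi]; ring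
    rw [← hi'] at hu
    exact hm.ne_top (Ideal.eq_top_of_isUnit_mem _ hi hu)
  have hpm : pm ∈ Set.range (Spec.map (CommRingCat.ofHom (π 0))) := by
    change pm ∈ Set.range (PrimeSpectrum.comap (π 0))
    rw [range_comap_of_surjective _ (π 0) (π_zero_surjective A' φ π hlim hsurj)]
    exact hker
  have hspec : x ⤳ (pm : ↥(Spec (CommRingCat.of A))) :=
    (PrimeSpectrum.le_iff_specializes (R := A) x pm).mp hxm
  exact hspec.mem_open W.2 (hW hpm)

include hlim hsurj hnil in
set_option backward.isDefEq.respectTransparency false in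
theorem main {T : Scheme.{u}} (h : T ⟶ Spec (CommRingCat.of A)) [Mono h] [LocallyOfFiniteType h]
    (hsec : ∀ n, ∃ g : Spec (CommRingCat.of (A' n)) ⟶ T,
      g ≫ h = Spec.map (CommRingCat.ofHom (π n))) : IsIso h := by
  choose g hg using hsec
  have hgc : ∀ n, Spec.map (CommRingCat.ofHom (φ n)) ≫ g (n + 1) = g n := by
    intro n
    rw [← cancel_mono h, Category.assoc, hg, hg, ← Spec.map_comp, ← CommRingCat.ofHom_comp,
      hlim.1 n]
  have hsφ : ∀ n, Surjective (Spec.map (CommRingCat.ofHom (φ n))) := fun n =>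
    (FieldPoint.surj_closedImm (CommRingCat.ofHom (φ n)) (hsurj n)
      (fun x hx => mem_nilradical.mpr (hnil n x hx))).2
  have hrange : ∀ n, Set.range (g n) = Set.range (g 0) := by
    intro n
    induction n with
    | zero => rfl
    | succ n ih =>
      rw [← ih, ← hgc n, Scheme.Hom.comp_base, TopCat.coe_comp, Set.range_comp,
        (hsφ n).surj.range_eq, Set.image_univ]
  obtain ⟨T', hT'c, hT'⟩ : ∃ T' : T.Opens, IsCompact (T' : Set T) ∧
      Set.range (g 0) ⊆ (T' : Set T) := by
    have hc : IsCompact (Set.range (g 0)) := isCompact_range (g 0).continuous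
    obtain ⟨s, hs⟩ := hc.elim_finite_subcover
      (fun i : T.affineCover.I₀ => ((T.affineCover.f i).opensRange : Set T))
      (fun i => (T.affineCover.f i).opensRange.2) (fun x _ => by
        simp only [Set.mem_iUnion]
        exact ⟨T.affineCover.idx x, T.affineCover.covers x⟩)
    refine ⟨⨆ i ∈ s, (T.affineCover.f i).opensRange, ?_, ?_⟩
    · simp only [TopologicalSpace.Opens.coe_iSup]
      exact s.isCompact_biUnion fun i _ => isCompact_range (T.affineCover.f i).continuous
    · intro x hx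
      simpa using hs hx
  haveI : CompactSpace ((T' : T.Opens) : Scheme.{u}) := isCompact_iff_compactSpace.mp hT'c
  let f' : (T' : Scheme.{u}) ⟶ Spec (CommRingCat.of A) := T'.ι ≫ h
  haveI : Mono f' := mono_comp _ _
  haveI : LocallyOfFiniteType f' := inferInstance
  haveI : QuasiCompact f' := inferInstance
  obtain ⟨Xb, j, k, hj, hk, hjk⟩ := ZMTFinite.exists_finite_factorization f'
  haveI : IsAffine Xb := isAffine_of_isAffineHom k
  let B : CommRingCat.{u} := Γ(Xb, ⊤)
  let j' : (T' : Scheme.{u}) ⟶ Spec B := j ≫ Xb.isoSpec.hom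
  let k' : Spec B ⟶ Spec (CommRingCat.of A) := Xb.isoSpec.inv ≫ k
  have hjk' : j' ≫ k' = f' := by simp [j', k', hjk]
  haveI : IsOpenImmersion j' := inferInstance
  have hgT' : ∀ n, Set.range (g n) ⊆ Set.range T'.ι := by
    intro n
    rw [hrange n, Scheme.Opens.range_ι]
    exact hT'
  let g' : ∀ n, Spec (CommRingCat.of (A' n)) ⟶ (T' : Scheme.{u}) := fun n =>
    IsOpenImmersion.lift T'.ι (g n) (hgT' n)
  have hg' : ∀ n, g' n ≫ T'.ι = g n := fun n => IsOpenImmersion.lift_fac _ _ _
  let e : ∀ n, Spec (CommRingCat.of (A' n)) ⟶ Spec B := fun n => g' n ≫ j'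
  have he_k : ∀ n, e n ≫ k' = Spec.map (CommRingCat.ofHom (π n)) := by
    intro n
    simp only [e, Category.assoc, hjk', f']
    rw [← Category.assoc, hg', hg]
  have he_c : ∀ n, Spec.map (CommRingCat.ofHom (φ n)) ≫ e (n + 1) = e n := by
    intro n
    have : Spec.map (CommRingCat.ofHom (φ n)) ≫ g' (n + 1) = g' n := by
      rw [← cancel_mono T'.ι, Category.assoc, hg', hg', hgc]
    simp only [e]
    rw [← Category.assoc, this]
  let ψc : ∀ n, B ⟶ CommRingCat.of (A' n) := fun n => Spec.preimage (e n)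
  have hψc : ∀ n, Spec.map (ψc n) = e n := fun n => Spec.map_preimage _
  let κc : CommRingCat.of A ⟶ B := Spec.preimage k'
  have hκc : Spec.map κc = k' := Spec.map_preimage _
  have hψcompat : ∀ n, ψc (n + 1) ≫ CommRingCat.ofHom (φ n) = ψc n := by
    intro n
    apply Spec.map_injective
    rw [Spec.map_comp, hψc, hψc, he_c]
  have hκψ : ∀ n, κc ≫ ψc n = CommRingCat.ofHom (π n) := by
    intro n
    apply Spec.map_injective
    rw [Spec.map_comp, hψc, hκc, he_k]
  obtain ⟨Ψ, hΨ⟩ := exists_lift A' φ π hlim (fun n => (ψc n).hom)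
    (fun n => by
      have := congrArg CommRingCat.Hom.hom (hψcompat n)
      exact this)
  let Ψc : B ⟶ CommRingCat.of A := CommRingCat.ofHom Ψ
  have hΨc : ∀ n, Ψc ≫ CommRingCat.ofHom (π n) = ψc n := by
    intro n
    ext b
    exact congrArg (fun f => f b) (hΨ n)
  let s : Spec (CommRingCat.of A) ⟶ Spec B := Spec.map Ψc
  have hs_e : ∀ n, Spec.map (CommRingCat.ofHom (π n)) ≫ s = e n := by
    intro n
    rw [← hψc n, ← hΨc n, Spec.map_comp]
  have hs_k : s ≫ k' = 𝟙 _ := by
    rw [← hκc, ← Spec.map_comp]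
    have : κc ≫ Ψc = 𝟙 _ := by
      ext a
      apply hlim.2.1
      intro n
      have h1 := congrArg (fun f => f (κc a)) (hΨ n)
      have h2 := congrArg (fun f => f.hom a) (hκψ n)
      exact h1.trans h2
    rw [this, Spec.map_id]
  let W : (Spec (CommRingCat.of A)).Opens := s ⁻¹ᵁ j'.opensRange
  have hW : W = ⊤ := eq_top_of_range_le A' φ π hlim hsurj hnil W (by
    rintro _ ⟨y, rfl⟩
    change s ((Spec.map (CommRingCat.ofHom (π 0))) y) ∈ Set.range j'
    rw [← Scheme.Hom.comp_apply, hs_e 0]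
    exact ⟨g' 0 y, rfl⟩)
  have hsr : Set.range s ⊆ Set.range j' := by
    rintro _ ⟨y, rfl⟩
    have : y ∈ W := by rw [hW]; trivial
    exact this
  let s' := IsOpenImmersion.lift j' s hsr
  have hs' : s' ≫ j' = s := IsOpenImmersion.lift_fac _ _ _
  let σ := s' ≫ T'.ι
  have hσ : σ ≫ h = 𝟙 _ := by
    calc σ ≫ h = s' ≫ f' := by simp [σ, f']
      _ = s' ≫ j' ≫ k' := by rw [hjk']
      _ = s ≫ k' := by rw [← Category.assoc, hs']
      _ = 𝟙 _ := hs_k
  refine ⟨σ, ?_, hσ⟩
  rw [← cancel_mono h, Category.assoc, hσ, Category.comp_id, Category.id_comp]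

end scheme

end Groth.Agent.Lib.Helper24.NilLimit
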