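import Groth.Agent.Lib.Helper21.GenericComponents
import Groth.Agent.Lib.Helper21.FibreClosureDim
import Groth.Agent.Lib.Helper21.MaximalPoints
import Groth.Agent.Lib.Helper61.GenericFibreDense
import Groth.Agent.Lib.Helper73.FibreMaximal

/-!
# Nowhere dense closed subsets of fibres near the generic point (helper24)

* `finite_maximal_points_fibre`: a fibre of a morphism of finite type has finitely many maximal points.
* `exists_open_forall_maximal_not_mem`: if a closed `Z ⊆ X` contains no maximal point of the generic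
  fibre, then over an open neighbourhood of the generic point it contains no maximal point of any fibre.
* `isNowhereDense_fibre_iff`: closed `Z`; `Z_y` is nowhere dense in `X_y` iff it contains no maximal
  point of `X_y`.
* `exists_open_forall_isNowhereDense`: EGA IV 9.5.3-type statement.
-/

set_option linter.style.haveILetI false
universe u

open CategoryTheory CategoryTheory.Limits AlgebraicGeometry TopologicalSpace Topology

namespace Groth.Agent.Lib.Helper24.NowhereDenseFibre

open Groth.Agent.Lib.Helper21 Groth.Agent.Lib.Helper21.FieldDim Groth.Agent.Lib.Helper21.IrrFibres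
  Groth.Agent.Lib.Helper21.GenericSpread Groth.Agent.Lib.Helper21.FibreClosureDim
  Groth.Agent.Lib.Helper73.SchemeDim

variable {X Y : Scheme.{u}} (f : X ⟶ Y)

/-- `x` is a maximal point of its fibre. -/
def IsMaxInFibre (x : X) : Prop := ∀ t : X, t ⤳ x → f t = f x → t = x

theorem mem_fibre (y : Y) (w : f.fiber y) : f (f.fiberι y w) = y := by
  have hz : f.fiberι y w ∈ Set.range (f.fiberι y) := ⟨w, rfl⟩
  rw [Scheme.Hom.range_fiberι] at hz
  exact hz

theorem exists_fibre_point {y : Y} {x : X} (hx : f x = y) : ∃ w : f.fiber y, f.fiberι y w = x := by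
  have : x ∈ Set.range (f.fiberι y) := by rw [Scheme.Hom.range_fiberι]; exact hx
  exact this

theorem fiberι_specializes_iff (y : Y) (w w' : f.fiber y) :
    f.fiberι y w ⤳ f.fiberι y w' ↔ w ⤳ w' :=
  (f.fiberι y).isEmbedding.toIsInducing.specializes_iff

/-- a point of the fibre is maximal there iff its image is maximal in the fibre. -/
theorem isMaxInFibre_fiberι_iff (y : Y) (w : f.fiber y) :
    IsMaxInFibre f (f.fiberι y w) ↔ ∀ w' : f.fiber y, w' ⤳ w → w ⤳ w' := by
  constructor
  · intro h w' hw'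
    have := h (f.fiberι y w') ((fiberι_specializes_iff f y w' w).mpr hw')
      (by rw [mem_fibre, mem_fibre])
    rw [(f.fiberι y).isEmbedding.injective this]
  · intro h t ht hft
    rw [mem_fibre] at hft
    obtain ⟨w', rfl⟩ := exists_fibre_point f hft
    have h1 : w' ⤳ w := (fiberι_specializes_iff f y w' w).mp ht
    have h2 : w ⤳ w' := h w' h1
    rw [(h1.antisymm h2).eq]

variable [LocallyOfFiniteType f] [QuasiCompact f]

omit [QuasiCompact f] in
theorem isLocallyNoetherian_fiber (y : Y) : IsLocallyNoetherian (f.fiber y) := by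
  haveI : LocallyOfFiniteType (f.fiberToSpecResidueField y) :=
    inferInstanceAs (LocallyOfFiniteType (pullback.snd f (Y.fromSpecResidueField y)))
  exact LocallyOfFiniteType.isLocallyNoetherian (f.fiberToSpecResidueField y)

theorem finite_maximal_points_fibre (y : Y) : {x : X | f x = y ∧ IsMaxInFibre f x}.Finite := by
  haveI := noetherianSpace_fiber f y
  have hfin := NoetherianSpace.finite_irreducibleComponents (α := ↥(f.fiber y))
  have hinj : Function.Injective (fun c : f.fiber y => closure ({c} : Set (f.fiber y))) := by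
    intro c c' h
    have h1 : IsGenericPoint c (closure {c'}) := h
    have h2 : IsGenericPoint c' (closure {c'}) := rfl
    exact h1.eq h2
  have hfin2 : {c : f.fiber y | closure ({c} : Set (f.fiber y)) ∈ irreducibleComponents (f.fiber y)}.Finite :=
    hfin.preimage (Set.injOn_of_injective hinj)
  refine (hfin2.image (f.fiberι y)).subset ?_
  rintro x ⟨hx, hmax⟩
  obtain ⟨w, rfl⟩ := exists_fibre_point f hx
  refine ⟨w, ?_, rfl⟩
  exact closure_singleton_mem_irreducibleComponents_of_maximal
    ((isMaxInFibre_fiberι_iff f y w).mp hmax)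

/-- closed `Z`: `Z_y` is nowhere dense in the fibre `X_y` iff `Z` contains no maximal point of `X_y`. -/
theorem isNowhereDense_fibre_iff {Z : Set X} (hZ : IsClosed Z) (y : Y) :
    IsNowhereDense ((f.fiberι y) ⁻¹' Z) ↔ ∀ x : X, f x = y → IsMaxInFibre f x → x ∉ Z := by
  have hcl : IsClosed ((f.fiberι y) ⁻¹' Z) := hZ.preimage (f.fiberι y).continuous
  rw [hcl.isNowhereDense_iff]
  constructor
  · intro h x hx hmax hxZ
    obtain ⟨w, rfl⟩ := exists_fibre_point f hx
    haveI := isLocallyNoetherian_fiber f y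
    have hdense : Dense ((f.fiberι y) ⁻¹' Z)ᶜ := by
      rw [← interior_eq_empty_iff_dense_compl]; exact h
    have := mem_of_dense_of_maximal (Y := f.fiber y) ⟨((f.fiberι y) ⁻¹' Z)ᶜ, hcl.isOpen_compl⟩ hdense
      ((isMaxInFibre_fiberι_iff f y w).mp hmax)
    exact this hxZ
  · intro h
    by_contra hne
    obtain ⟨w0, hw0⟩ := Set.nonempty_iff_ne_empty.mpr hne
    obtain ⟨x, hxx0, hfx, hmax⟩ := exists_maximal_in_fibre f (f.fiberι y w0)
    rw [mem_fibre] at hfx
    obtain ⟨w, rfl⟩ := exists_fibre_point f hfx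
    have hsp : w ⤳ w0 := (fiberι_specializes_iff f y w w0).mp hxx0
    have hw : w ∈ interior ((f.fiberι y) ⁻¹' Z) := hsp.mem_open isOpen_interior hw0
    have hwZ : w ∈ (f.fiberι y) ⁻¹' Z := interior_subset hw
    exact h _ hfx hmax hwZ

variable [IrreducibleSpace ↑Y]

/-- **Key spreading-out lemma.** If the closed set `Z` contains no maximal point of the generic fibre
then over an open neighbourhood of the generic point it contains no maximal point of any fibre. -/
theorem exists_open_forall_maximal_not_mem {Z : Set X} (hZ : IsClosed Z)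
    (h : ∀ ξ : X, f ξ = genericPoint ↑Y → IsMaxInFibre f ξ → ξ ∉ Z) :
    ∃ V : Y.Opens, genericPoint ↑Y ∈ V ∧ ∀ x : X, f x ∈ V → IsMaxInFibre f x → x ∉ Z := by
  classical
  set η : Y := genericPoint ↑Y with hηdef
  have hηmax : ∀ z : Y, z ⤳ η → η ⤳ z := fun z _ => (genericPoint_spec Y).specializes (Set.mem_univ z)
  set M : Set X := {x : X | f x = η ∧ IsMaxInFibre f x} with hM
  have hMfin : M.Finite := finite_maximal_points_fibre f η
  -- the upper bound on the sets `Z ∩ closure {ξ}`
  have hV : ∀ ξ ∈ M, ∃ V : Set Y, IsOpen V ∧ η ∈ V ∧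
      ∀ b ∈ Z ∩ closure {ξ}, f b ∈ V → tdR f b < tdR f ξ := by
    intro ξ hξ
    refine exists_open_forall_tdR_lt f hηmax (hZ.inter isClosed_closure) (tdR f ξ) ?_
    rintro b ⟨hbZ, hbξ⟩ hb
    have hsp : ξ ⤳ b := specializes_iff_mem_closure.mpr hbξ
    have hne : ξ ≠ b := by
      rintro rfl
      exact h ξ hξ.1 hξ.2 hbZ
    exact tdR_lt_of_specializes f hsp hne (by rw [hξ.1, hb])
  choose! V hVo hηV hVlt using hV
  obtain ⟨V₀, hV₀ne, hV₀⟩ :=
    Groth.Agent.Lib.Helper61.GenericFibreDense.exists_opens_forall_exists_specializes f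
  have hηV₀ : η ∈ V₀ := by
    have := ((genericPoint_spec Y).mem_open_set_iff V₀.2).mpr (by rwa [Set.univ_inter])
    exact this
  refine ⟨⟨(V₀ : Set Y) ∩ ⋂ ξ ∈ M, V ξ, V₀.2.inter (hMfin.isOpen_biInter hVo)⟩,
    ⟨hηV₀, Set.mem_iInter₂.mpr hηV⟩, ?_⟩
  rintro x ⟨hx0, hx1⟩ hmax hxZ
  obtain ⟨x₀, hx₀, hx₀x⟩ := hV₀ x hx0
  obtain ⟨ξ, hξx₀, hfξ, hξmax⟩ := exists_maximal_in_fibre f x₀
  have hξM : ξ ∈ M := ⟨hfξ.trans hx₀, hξmax⟩
  have hξx : ξ ⤳ x := hξx₀.trans hx₀x
  obtain ⟨ξ', -, hξ'x, hfξ', hle⟩ := exists_between_tdR_le f hξx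
  have hξ'eq : ξ' = x := hmax ξ' hξ'x hfξ'
  rw [hξ'eq] at hle
  have hlt := hVlt ξ hξM x ⟨hxZ, hξx.mem_closure⟩ (Set.mem_iInter₂.mp hx1 ξ hξM)
  omega

/-- **EGA IV 9.5.3-type.** `Z` closed with `Z_η` nowhere dense in the generic fibre: then `Z_y` is
nowhere dense in `X_y` for `y` in an open neighbourhood of the generic point. -/
theorem exists_open_forall_isNowhereDense {Z : Set X} (hZ : IsClosed Z)
    (h : IsNowhereDense ((f.fiberι (genericPoint ↑Y)) ⁻¹' Z)) :
    ∃ V : Y.Opens, genericPoint ↑Y ∈ V ∧ ∀ y ∈ V, IsNowhereDense ((f.fiberι y) ⁻¹' Z) := by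
  rw [isNowhereDense_fibre_iff f hZ] at h
  obtain ⟨V, hηV, hV⟩ := exists_open_forall_maximal_not_mem f hZ h
  refine ⟨V, hηV, fun y hy => ?_⟩
  rw [isNowhereDense_fibre_iff f hZ]
  intro x hx hmax
  exact hV x (by rw [hx]; exact hy) hmax

end Groth.Agent.Lib.Helper24.NowhereDenseFibre
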