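import Groth.Agent.Lib.Helper24.Lim8Over
import Groth.Agent.Lib.Helper24.DirColim

/-!
# Quasi-compact opens of `X ⊗_k A` descend to a finitely generated subalgebra (helper24)
-/

set_option autoImplicit false

universe u

open CategoryTheory CategoryTheory.Limits AlgebraicGeometry Opposite

namespace Groth.Agent.Lib.Helper24.QCOpenDescend

open Groth.Agent.Lib.Helper24.Lim8 Groth.Agent.Lib.Helper24.DirColim

section system

variable (k A : Type u) [CommRing k] [CommRing A] [Algebra k A]

/-- The system `Spec A'`, `A'` a finitely generated `k`-subalgebra of `A`. -/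
noncomputable def D : (FGSub k A)ᵒᵖ ⥤ Scheme.{u} := (fgSubDiagram k A).op ⋙ Scheme.Spec

/-- The cone with point `Spec A`. -/
noncomputable def c : Cone (D k A) := Scheme.Spec.mapCone (fgSubCocone k A).op

/-- `Spec A` is the limit. -/
noncomputable def hc : IsLimit (c k A) :=
  isLimitOfPreserves Scheme.Spec (isColimitFgSubCocone k A).op

instance {i j : (FGSub k A)ᵒᵖ} (h : i ⟶ j) : IsAffineHom ((D k A).map h) := by
  dsimp [D]; infer_instance

/-- The structure maps to `Spec k`. -/
noncomputable def t : D k A ⟶ (Functor.const _).obj (Spec (CommRingCat.of k)) where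
  app i := Spec.map (CommRingCat.ofHom (algebraMap k i.unop.1))
  naturality i j h := by
    change Spec.map ((fgSubDiagram k A).map h.unop) ≫ Spec.map _ = Spec.map _ ≫ 𝟙 _
    rw [Category.comp_id, ← Spec.map_comp]
    rfl

lemma π_t (i : (FGSub k A)ᵒᵖ) :
    (c k A).π.app i ≫ (t k A).app i = Spec.map (CommRingCat.ofHom (algebraMap k A)) := by
  change Spec.map ((fgSubCocone k A).ι.app i.unop) ≫ Spec.map _ = _
  rw [← Spec.map_comp]
  rfl

end system

set_option backward.isDefEq.respectTransparency false in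
theorem main' (k : Type u) [CommRing k] {X : Scheme.{u}} (p : X ⟶ Spec (CommRingCat.of k))
    (A : Type u) [CommRing A] [Algebra k A]
    (σ : Spec (CommRingCat.of A) ⟶ Spec (CommRingCat.of k))
    (hs : ∀ j, (c k A).π.app j ≫ (t k A).app j = σ)
    (V : Set ↥(pullback p σ)) (hV : IsOpen V) (hVc : IsCompact V) :
    ∃ (j : (FGSub k A)ᵒᵖ) (V' : Set ↥(pullback p ((t k A).app j))),
        IsOpen V' ∧ IsCompact V' ∧
        ∀ π : pullback p σ ⟶ pullback p ((t k A).app j),
          π ≫ pullback.fst _ _ = pullback.fst _ _ →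
          π ≫ pullback.snd _ _ = pullback.snd _ _ ≫ (c k A).π.app j →
            π.base ⁻¹' V' = V := by
  let C := obCone (c k A) σ hs p
  have hC : IsLimit C := isLimitObCone (c k A) (hc k A) σ hs p
  let sym := pullbackSymmetry p σ
  let W : (pullback σ p).Opens := sym.inv ⁻¹ᵁ ⟨V, hV⟩
  have hWc : IsCompact (W : Set ↥(pullback σ p)) := by
    change IsCompact (sym.inv ⁻¹' V)
    exact (sym.inv.homeomorph.isCompact_preimage).mpr hVc
  obtain ⟨j, V'', hV''c, hV''⟩ := exists_preimage_eq (obDiagram (D k A) (t k A) p) C hC W hWc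
  change (pullback ((t k A).app j) p).Opens at V''
  let sym' := pullbackSymmetry p ((t k A).app j)
  refine ⟨j, sym'.hom ⁻¹' (V'' : Set ↥(pullback ((t k A).app j) p)), ?_, ?_, ?_⟩
  · exact V''.2.preimage sym'.hom.continuous
  · exact (sym'.hom.homeomorph.isCompact_preimage).mpr hV''c
  · intro π h1 h2
    have key : π ≫ sym'.hom = sym.hom ≫ C.π.app j := by
      apply pullback.hom_ext
      · simp only [sym', sym, C, obCone, Category.assoc, pullbackSymmetry_hom_comp_fst,
          pullback.map, pullback.lift_fst, pullbackSymmetry_hom_comp_fst_assoc]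
        exact h2
      · simp only [sym', sym, C, obCone, Category.assoc, pullbackSymmetry_hom_comp_snd,
          pullback.map, pullback.lift_snd, Category.comp_id]
        exact h1
    ext x
    change sym'.hom (π x) ∈ V'' ↔ x ∈ V
    have h3 : sym'.hom (π x) = (C.π.app j) (sym.hom x) := by
      rw [← Scheme.Hom.comp_apply, key]
      rfl
    rw [h3]
    have h6 : (C.π.app j) (sym.hom x) ∈ V'' ↔ sym.hom x ∈ W := by
      rw [← hV'']
      rfl
    rw [h6]
    change sym.inv (sym.hom x) ∈ V ↔ x ∈ V
    rw [← Scheme.Hom.comp_apply, Iso.hom_inv_id]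
    rfl

theorem main (k : Type u) [CommRing k] {X : Scheme.{u}} (p : X ⟶ Spec (CommRingCat.of k))
    (A : Type u) [CommRing A] [Algebra k A]
    (V : Set ↥(pullback p (Spec.map (CommRingCat.ofHom (algebraMap k A))))) (hV : IsOpen V)
    (hVc : IsCompact V) :
    ∃ (A' : Subalgebra k A), A'.FG ∧
      ∃ (V' : Set ↥(pullback p (Spec.map (CommRingCat.ofHom (algebraMap k ↥A'))))),
        IsOpen V' ∧ IsCompact V' ∧
        ∀ π : pullback p (Spec.map (CommRingCat.ofHom (algebraMap k A))) ⟶
            pullback p (Spec.map (CommRingCat.ofHom (algebraMap k ↥A'))),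
          π ≫ pullback.fst _ _ = pullback.fst _ _ →
          π ≫ pullback.snd _ _ = pullback.snd _ _ ≫
              Spec.map (CommRingCat.ofHom A'.val.toRingHom) →
            π.base ⁻¹' V' = V := by
  obtain ⟨j, V', h1, h2, h3⟩ := main' k p A _ (fun j ↦ π_t k A j) V hV hVc
  exact ⟨j.unop.1, j.unop.2, V', h1, h2, h3⟩

end Groth.Agent.Lib.Helper24.QCOpenDescend
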