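import Groth.Agent.Lib.Helper24.DirColim

/-!
# The residue field of a point as a filtered colimit of finitely presented quotients of the
# rings of sections over affine open neighbourhoods; `Spec κ(x)` as a cofiltered limit of finitely
# presented subschemes (helper24)
-/

set_option autoImplicit false

universe u

open CategoryTheory CategoryTheory.Limits AlgebraicGeometry Opposite

namespace Groth.Agent.Lib.Helper24.ResidueLimit

open DirColim

variable (X : Scheme.{u}) (x : X)

/-- Index: an affine open neighbourhood of `x` with a finitely generated ideal of its ring of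
sections vanishing at `x`. -/
structure Idx where
  V : X.Opens
  hV : IsAffineOpen V
  hx : x ∈ V
  J : Ideal Γ(X, V)
  hJ : J.FG
  hJx : J ≤ RingHom.ker (X.evaluation V x hx).hom

variable {X x}

/-- The restriction map. -/
noncomputable abbrev res {V W : X.Opens} (h : W ≤ V) : Γ(X, V) →+* Γ(X, W) :=
  (X.presheaf.map (homOfLE h).op).hom

lemma res_res {U V W : X.Opens} (h1 : V ≤ U) (h2 : W ≤ V) (r : Γ(X, U)) :
    res h2 (res h1 r) = res (h2.trans h1) r := by
  change (X.presheaf.map (homOfLE h1).op ≫ X.presheaf.map (homOfLE h2).op).hom r = _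
  rw [← X.presheaf.map_comp]
  rfl

lemma res_self {U : X.Opens} (r : Γ(X, U)) : res (le_refl U) r = r := by
  change (X.presheaf.map (𝟙 _)).hom r = r
  rw [X.presheaf.map_id]
  rfl

lemma evaluation_res {V W : X.Opens} (h : W ≤ V) (hx : x ∈ W) (r : Γ(X, V)) :
    X.evaluation W x hx (res h r) = X.evaluation V x (h hx) r := by
  change X.residue x (X.presheaf.germ W x hx (X.presheaf.map (homOfLE h).op r)) = _
  rw [TopCat.Presheaf.germ_res_apply]
  rfl

instance : Preorder (Idx X x) where
  le a b := ∃ h : b.V ≤ a.V, a.J ≤ b.J.comap (res h)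
  le_refl a := ⟨le_rfl, fun r hr => by
    rw [Ideal.mem_comap, res_self]; exact hr⟩
  le_trans a b c := by
    rintro ⟨h1, h1'⟩ ⟨h2, h2'⟩
    refine ⟨h2.trans h1, fun r hr => ?_⟩
    have := h2' (h1' hr)
    rw [Ideal.mem_comap, res_res] at this
    exact this

lemma le_iff {a b : Idx X x} (h : b.V ≤ a.V) : a ≤ b ↔ a.J ≤ b.J.comap (res h) :=
  ⟨fun ⟨_, h'⟩ => h', fun h' => ⟨h, h'⟩⟩

lemma le_V {a b : Idx X x} (h : a ≤ b) : b.V ≤ a.V := h.1

lemma le_J {a b : Idx X x} (h : a ≤ b) : a.J ≤ b.J.comap (res (le_V h)) := h.2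

variable (X x) in
lemma exists_idx : ∃ V : X.Opens, IsAffineOpen V ∧ x ∈ V := by
  obtain ⟨_, ⟨U, hU, rfl⟩, hx, -⟩ := X.isBasis_affineOpens.exists_subset_of_mem_open
    (Set.mem_univ x) isOpen_univ
  exact ⟨U, hU, hx⟩

/-- The index with zero ideal. -/
def Idx.ofOpen (V : X.Opens) (hV : IsAffineOpen V) (hx : x ∈ V) : Idx X x :=
  ⟨V, hV, hx, ⊥, Submodule.fg_bot, bot_le⟩

instance : Nonempty (Idx X x) := by
  obtain ⟨V, hV, hx⟩ := exists_idx X x
  exact ⟨Idx.ofOpen V hV hx⟩

lemma map_res_le_ker {V W : X.Opens} (h : W ≤ V) (hx : x ∈ W) {J : Ideal Γ(X, V)}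
    (hJ : J ≤ RingHom.ker (X.evaluation V x (h hx)).hom) :
    J.map (res h) ≤ RingHom.ker (X.evaluation W x hx).hom := by
  rw [Ideal.map_le_iff_le_comap]
  intro r hr
  rw [Ideal.mem_comap, RingHom.mem_ker]
  have := hJ hr
  rw [RingHom.mem_ker] at this
  exact (evaluation_res h hx r).trans this

instance : IsDirected (Idx X x) (· ≤ ·) := by
  refine ⟨fun a b => ?_⟩
  obtain ⟨_, ⟨W, hW, rfl⟩, hxW, hWle⟩ := X.isBasis_affineOpens.exists_subset_of_mem_open
    (show x ∈ ((a.V ⊓ b.V : X.Opens) : Set X) from ⟨a.hx, b.hx⟩) (a.V ⊓ b.V).isOpen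
  have hWa : W ≤ a.V := fun y hy => (hWle hy).1
  have hWb : W ≤ b.V := fun y hy => (hWle hy).2
  let c : Idx X x := ⟨W, hW, hxW, a.J.map (res hWa) ⊔ b.J.map (res hWb),
    Submodule.FG.sup (a.hJ.map _) (b.hJ.map _),
    sup_le (map_res_le_ker hWa hxW a.hJx) (map_res_le_ker hWb hxW b.hJx)⟩
  refine ⟨c, ⟨hWa, ?_⟩, ⟨hWb, ?_⟩⟩
  · exact Ideal.map_le_iff_le_comap.mp le_sup_left
  · exact Ideal.map_le_iff_le_comap.mp le_sup_right

/-- The diagram of quotient rings. -/
noncomputable def diagram : Idx X x ⥤ CommRingCat.{u} where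
  obj a := CommRingCat.of (Γ(X, a.V) ⧸ a.J)
  map {a b} h := CommRingCat.ofHom (Ideal.quotientMap b.J (res (le_V (leOfHom h))) (le_J (leOfHom h)))
  map_id a := by
    ext r
    change Ideal.quotientMap a.J (res (le_V (leOfHom (𝟙 a)))) (le_J (leOfHom (𝟙 a)))
      (Ideal.Quotient.mk a.J r) = Ideal.Quotient.mk a.J r
    rw [Ideal.quotientMap_mk, res_self]
  map_comp {a b c} f g := by
    ext r
    change Ideal.quotientMap c.J (res (le_V (leOfHom (f ≫ g)))) (le_J (leOfHom (f ≫ g)))
        (Ideal.Quotient.mk a.J r) =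
      Ideal.quotientMap c.J (res (le_V (leOfHom g))) (le_J (leOfHom g))
        (Ideal.quotientMap b.J (res (le_V (leOfHom f))) (le_J (leOfHom f))
          (Ideal.Quotient.mk a.J r))
    rw [Ideal.quotientMap_mk, Ideal.quotientMap_mk, Ideal.quotientMap_mk, res_res]

/-- The cocone with point the residue field. -/
noncomputable def cocone : Cocone (diagram (X := X) (x := x)) where
  pt := X.residueField x
  ι :=
    { app a := CommRingCat.ofHom (Ideal.Quotient.lift a.J (X.evaluation a.V x a.hx).hom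
        fun r hr => a.hJx hr)
      naturality a b h := by
        ext r
        obtain ⟨r, rfl⟩ := Ideal.Quotient.mk_surjective r
        change Ideal.Quotient.lift b.J (X.evaluation b.V x b.hx).hom (fun r hr => b.hJx hr)
            (Ideal.quotientMap b.J (res (le_V (leOfHom h))) (le_J (leOfHom h))
              (Ideal.Quotient.mk a.J r)) =
          Ideal.Quotient.lift a.J (X.evaluation a.V x a.hx).hom (fun r hr => a.hJx hr)
            (Ideal.Quotient.mk a.J r)
        rw [Ideal.quotientMap_mk, Ideal.Quotient.lift_mk, Ideal.Quotient.lift_mk]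
        exact evaluation_res _ _ r }

/-- The residue field is the colimit of the diagram. -/
noncomputable def isColimitCocone : IsColimit (cocone (X := X) (x := x)) := by
  refine isColimitCommRingCat _ _ ?_ ?_
  · intro k
    obtain ⟨σ, rfl⟩ := X.residue_surjective x k
    obtain ⟨V, hxV, hV, t, rfl⟩ :=
      TopCat.Presheaf.exists_mem_germ_eq_of_isBasis X.isBasis_affineOpens X.presheaf x σ
    exact ⟨Idx.ofOpen V hV hxV, Ideal.Quotient.mk _ t, rfl⟩
  · intro a y hy
    obtain ⟨r, rfl⟩ := Ideal.Quotient.mk_surjective y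
    have hr : r ∈ RingHom.ker (X.evaluation a.V x a.hx).hom := hy
    let b : Idx X x := ⟨a.V, a.hV, a.hx, a.J ⊔ Ideal.span {r},
      Submodule.FG.sup a.hJ (Submodule.fg_span_singleton r),
      sup_le a.hJx ((Ideal.span_singleton_le_iff_mem _).mpr hr)⟩
    have hab : a ≤ b := ⟨le_rfl, fun s hs => by
      rw [Ideal.mem_comap, res_self]; exact Ideal.mem_sup_left hs⟩
    refine ⟨b, homOfLE hab, ?_⟩
    change Ideal.quotientMap b.J (res (le_V hab)) (le_J hab) (Ideal.Quotient.mk _ r) = 0
    rw [Ideal.quotientMap_mk, res_self]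
    exact Ideal.Quotient.eq_zero_iff_mem.mpr
      (Ideal.mem_sup_right (Ideal.mem_span_singleton_self r))

end Groth.Agent.Lib.Helper24.ResidueLimit
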