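import Mathlib

/-!
# Scheme-theoretically dense opens: affine criterion and locality (helper24)
-/

set_option autoImplicit false

universe u

open AlgebraicGeometry CategoryTheory Limits

namespace Groth.Agent.Lib.Helper24.SchDenseScheme

section Affine

variable {Z : Scheme.{u}} (G : Z.Opens)

lemma ι_appTop_comp_topIso :
    G.ι.appTop ≫ G.topIso.hom = Z.presheaf.map (homOfLE (le_top : G ≤ ⊤)).op := by
  have key : Z.presheaf.map (homOfLE (x := G.ι ''ᵁ ⊤) le_top).op ≫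
      Z.presheaf.map (eqToHom G.ι_image_top.symm).op =
      Z.presheaf.map (homOfLE (le_top : G ≤ ⊤)).op := by
    rw [← Functor.map_comp]
    rfl
  exact key

lemma ι_appTop_apply_eq_zero_iff (s : Γ(Z, ⊤)) :
    G.ι.appTop s = 0 ↔ Z.presheaf.map (homOfLE (le_top : G ≤ ⊤)).op s = 0 := by
  rw [← ι_appTop_comp_topIso, CommRingCat.comp_apply]
  constructor
  · intro h
    rw [h, map_zero]
  · intro h
    have hinj : Function.Injective G.topIso.hom :=
      (ConcreteCategory.bijective_of_isIso G.topIso.hom).1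
    apply hinj
    rw [h, map_zero]

variable (T : Set Γ(Z, ⊤))
  (hG : ∀ x : Z, x ∈ G ↔ ∃ t ∈ T, x ∈ Z.basicOpen t)

include hG in
lemma res_eq_zero_of_pow_mul_eq_zero (s : Γ(Z, ⊤)) (hs : ∀ t ∈ T, ∃ n : ℕ, t ^ n * s = 0) :
    G.ι.appTop s = 0 := by
  rw [ι_appTop_apply_eq_zero_iff]
  refine Z.IsSheaf.section_ext fun x hx ↦ ?_
  obtain ⟨t, ht, hxt⟩ := (hG x).mp hx
  obtain ⟨n, hn⟩ := hs t ht
  have hle : Z.basicOpen t ≤ G := by
    intro z hz
    exact (hG z).mpr ⟨t, ht, hz⟩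
  refine ⟨Z.basicOpen t, hle, hxt, ?_⟩
  rw [map_zero, ← ConcreteCategory.comp_apply, ← Functor.map_comp]
  have hu : IsUnit (Z.presheaf.map (homOfLE (le_top : Z.basicOpen t ≤ ⊤)).op t) :=
    RingedSpace.isUnit_res_basicOpen Z.toRingedSpace t
  have h0 : Z.presheaf.map (homOfLE (le_top : Z.basicOpen t ≤ ⊤)).op (t ^ n * s) = 0 := by
    rw [hn, map_zero]
  rw [map_mul, map_pow] at h0
  exact ((hu.pow n).mul_right_eq_zero).mp h0

include hG in
/-- If `G` is scheme-theoretically dense, elements killed by powers of the `t ∈ T` vanish. -/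
lemma eq_zero_of_isSchemeTheoreticallyDominant [IsSchemeTheoreticallyDominant G.ι]
    [QuasiCompact G.ι] (s : Γ(Z, ⊤)) (hs : ∀ t ∈ T, ∃ n : ℕ, t ^ n * s = 0) : s = 0 := by
  apply G.ι.app_injective ⊤
  rw [map_zero]
  exact res_eq_zero_of_pow_mul_eq_zero G T hG s hs

include hG in
/-- Converse on an affine scheme. -/
lemma isSchemeTheoreticallyDominant_of_forall [IsAffine Z]
    (h : ∀ s : Γ(Z, ⊤), (∀ t ∈ T, ∃ n : ℕ, t ^ n * s = 0) → s = 0) :
    IsSchemeTheoreticallyDominant G.ι := by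
  have hker : RingHom.ker G.ι.appTop.hom = ⊥ := by
    rw [eq_bot_iff]
    intro s hs
    rw [RingHom.mem_ker] at hs
    rw [Ideal.mem_bot]
    apply h
    intro t ht
    have hle : Z.basicOpen t ≤ G := by
      intro z hz
      exact (hG z).mpr ⟨t, ht, hz⟩
    refine exists_pow_mul_eq_zero_of_res_basicOpen_eq_zero_of_isCompact Z (U := ⊤)
      isCompact_univ s t ?_
    have hs' : Z.presheaf.map (homOfLE (le_top : G ≤ ⊤)).op s = 0 :=
      (ι_appTop_apply_eq_zero_iff G s).mp hs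
    have h1 : Z.presheaf.map (homOfLE (Z.basicOpen_le t)).op s =
        Z.presheaf.map (homOfLE hle).op (Z.presheaf.map (homOfLE (le_top : G ≤ ⊤)).op s) := by
      rw [← ConcreteCategory.comp_apply, ← Functor.map_comp]
      rfl
    change Z.presheaf.map (homOfLE (Z.basicOpen_le t)).op s = 0
    rw [h1, hs', map_zero]
  rw [isSchemeTheoreticallyDominant_iff, Scheme.ker_of_isAffine, hker]
  exact map_bot (Scheme.IdealSheafData.equivOfIsAffine (X := Z)).symm

end Affine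

section Cover

/-- Scheme-theoretic density of an open can be checked on an affine open cover. -/
lemma isSchemeTheoreticallyDominant_of_cover {F : Scheme.{u}} (U' : F.Opens) [QuasiCompact U'.ι]
    {ι : Type*} (Z : ι → Scheme.{u}) [∀ i, IsAffine (Z i)] (j : ∀ i, Z i ⟶ F)
    [∀ i, IsOpenImmersion (j i)] (hcov : ∀ x : F, ∃ i, x ∈ Set.range (j i))
    (h : ∀ i, IsSchemeTheoreticallyDominant ((j i) ⁻¹ᵁ U').ι) :
    IsSchemeTheoreticallyDominant U'.ι := by
  rw [isSchemeTheoreticallyDominant_iff]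
  refine Scheme.IdealSheafData.ext_of_iSup_eq_top
    (fun i ↦ ⟨(j i) ''ᵁ ⊤, (isAffineOpen_top (Z i)).image_of_isOpenImmersion (j i)⟩) ?_ ?_
  · rw [eq_top_iff]
    intro x _
    obtain ⟨i, z, rfl⟩ := hcov x
    rw [TopologicalSpace.Opens.mem_iSup]
    exact ⟨i, z, trivial, rfl⟩
  · intro i
    have H := Scheme.ker_ideal_of_isPullback_of_isOpenImmersion U'.ι ((j i) ⁻¹ᵁ U').ι
      (j i ∣_ U') (j i) (isPullback_morphismRestrict (j i) U').flip ⟨⊤, isAffineOpen_top _⟩
    rw [(h i).ker_eq_bot] at H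
    have hsurj : Function.Surjective ((j i).appIso ⊤).inv.hom :=
      (ConcreteCategory.bijective_of_isIso ((j i).appIso ⊤).inv).2
    simp only [Scheme.IdealSheafData.ideal_bot, Pi.bot_apply] at H ⊢
    rw [← Ideal.map_comap_of_surjective _ hsurj
      (U'.ι.ker.ideal ⟨(j i) ''ᵁ ⊤, (isAffineOpen_top (Z i)).image_of_isOpenImmersion (j i)⟩),
      ← H, Ideal.map_bot]

end Cover

section Spec

variable {R : CommRingCat.{u}} (G : (Spec R).Opens) (T : Set R)
  (hG : ∀ x : Spec R, x ∈ G ↔ ∃ t ∈ T, t ∉ x.asIdeal)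

include hG in
lemma mem_iff_ΓSpecIso (x : Spec R) :
    x ∈ G ↔ ∃ t ∈ (Scheme.ΓSpecIso R).inv.hom '' T, x ∈ (Spec R).basicOpen t := by
  rw [hG]
  constructor
  · rintro ⟨t, ht, hx⟩
    refine ⟨_, ⟨t, ht, rfl⟩, ?_⟩
    have := basicOpen_eq_of_affine (R := R) t
    change x ∈ (Spec R).basicOpen ((Scheme.ΓSpecIso R).inv t)
    rw [this]
    exact hx
  · rintro ⟨_, ⟨t, ht, rfl⟩, hx⟩
    refine ⟨t, ht, ?_⟩
    have := basicOpen_eq_of_affine (R := R) t
    change x ∈ (Spec R).basicOpen ((Scheme.ΓSpecIso R).inv t) at hx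
    rw [this] at hx
    exact hx

include hG in
lemma eq_zero_of_isSchemeTheoreticallyDominant_Spec [IsSchemeTheoreticallyDominant G.ι]
    [QuasiCompact G.ι] (s : R) (hs : ∀ t ∈ T, ∃ n : ℕ, t ^ n * s = 0) : s = 0 := by
  have hinj : Function.Injective (Scheme.ΓSpecIso R).inv.hom :=
    (ConcreteCategory.bijective_of_isIso (Scheme.ΓSpecIso R).inv).1
  apply hinj
  rw [map_zero]
  refine eq_zero_of_isSchemeTheoreticallyDominant G _ (mem_iff_ΓSpecIso G T hG) _ ?_
  rintro _ ⟨t, ht, rfl⟩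
  obtain ⟨n, hn⟩ := hs t ht
  refine ⟨n, ?_⟩
  rw [← map_pow, ← map_mul, hn, map_zero]

include hG in
lemma isSchemeTheoreticallyDominant_Spec_of_forall
    (h : ∀ s : R, (∀ t ∈ T, ∃ n : ℕ, t ^ n * s = 0) → s = 0) :
    IsSchemeTheoreticallyDominant G.ι := by
  refine isSchemeTheoreticallyDominant_of_forall G _ (mem_iff_ΓSpecIso G T hG) ?_
  intro s hs
  have hinj : Function.Injective (Scheme.ΓSpecIso R).hom.hom :=
    (ConcreteCategory.bijective_of_isIso (Scheme.ΓSpecIso R).hom).1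
  apply hinj
  rw [map_zero]
  apply h
  intro t ht
  obtain ⟨n, hn⟩ := hs _ ⟨t, ht, rfl⟩
  refine ⟨n, ?_⟩
  have := congrArg (Scheme.ΓSpecIso R).hom.hom hn
  rw [map_mul, map_pow, map_zero] at this
  have hid : (Scheme.ΓSpecIso R).hom.hom ((Scheme.ΓSpecIso R).inv.hom t) = t := by
    rw [← CommRingCat.comp_apply, Iso.inv_hom_id]
    rfl
  rwa [hid] at this

end Spec

end Groth.Agent.Lib.Helper24.SchDenseScheme
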