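import Groth.Agent.Lib.Helper24.GenericSchDense
import Groth.Agent.Lib.Helper24.SchDenseScheme
import Groth.Agent.Lib.Helper24.FibreChart2

/-!
# Scheme-theoretic density of the trace of an open on fibres, chart by chart (helper24)
-/

set_option autoImplicit false

universe u

open AlgebraicGeometry CategoryTheory Limits TensorProduct

namespace Groth.Agent.Lib.Helper24.SchDenseFibre

open Groth.Agent.Lib.Helper24.GenericSchDense Groth.Agent.Lib.Helper24.SchDenseScheme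
  Groth.Agent.Lib.Helper24.FibreChart

lemma notMem_closed_iff {B : Type*} [CommRing B] (S : Set (PrimeSpectrum B)) (hS : IsClosed S)
    (p : PrimeSpectrum B) :
    p ∉ S ↔ ∃ b ∈ PrimeSpectrum.vanishingIdeal S, b ∉ p.asIdeal := by
  have hz : PrimeSpectrum.zeroLocus (PrimeSpectrum.vanishingIdeal S : Set B) = S := by
    rw [PrimeSpectrum.zeroLocus_vanishingIdeal_eq_closure, hS.closure_eq]
  constructor
  · intro hp
    rw [← hz, PrimeSpectrum.mem_zeroLocus, Set.not_subset] at hp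
    exact hp
  · rintro ⟨b, hbI, hb⟩ hp
    rw [← hz, PrimeSpectrum.mem_zeroLocus] at hp
    exact hb (hp hbI)

lemma mem_SpecMap_preimage_iff {B R : CommRingCat.{u}} (φ : B ⟶ R) (G₀ : (Spec B).Opens)
    (x : Spec R) :
    x ∈ Spec.map φ ⁻¹ᵁ G₀ ↔
      ∃ t ∈ φ.hom '' (PrimeSpectrum.vanishingIdeal (R := B) ((G₀ : Set (Spec B))ᶜ) : Set B),
        t ∉ x.asIdeal := by
  have key := notMem_closed_iff (B := B) ((G₀ : Set (Spec B))ᶜ) G₀.isOpen.isClosed_compl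
    (Spec.map φ x)
  change Spec.map φ x ∈ G₀ ↔ _
  constructor
  · intro hx
    obtain ⟨b, hbI, hb⟩ := key.mp (fun h ↦ h hx)
    exact ⟨φ.hom b, ⟨b, hbI, rfl⟩, hb⟩
  · rintro ⟨_, ⟨b, hbI, rfl⟩, hb⟩
    by_contra hx
    exact key.mpr ⟨b, hbI, hb⟩ hx

/-- The ideal of the complement of the trace of `U` on the affine open `W`. -/
noncomputable def traceIdeal {X : Scheme.{u}} (U : X.Opens) {W : X.Opens} (hW : IsAffineOpen W) :
    Ideal Γ(X, W) :=
  PrimeSpectrum.vanishingIdeal (R := Γ(X, W)) (((hW.fromSpec ⁻¹ᵁ U : (Spec Γ(X, W)).Opens) :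
    Set (Spec Γ(X, W)))ᶜ)

variable {X Y : Scheme.{u}} (f : X ⟶ Y) {V : Y.Opens} (hV : IsAffineOpen V) {W : X.Opens}
  (hW : IsAffineOpen W) (e : W ≤ f ⁻¹ᵁ V) (y : Y) (hy : y ∈ V) (U : X.Opens)

include hV in
/-- In a chart of the fibre, scheme-theoretic density of the trace of `U` is the ring-level
condition `NoTorsionAlong`. -/
lemma exists_chart_dominant_iff [LocallyOfFiniteType f] :
    letI := (f.appLE V W e).hom.toAlgebra
    letI := (Y.evaluation V y hy).hom.toAlgebra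
    ∃ j : Spec (.of ((Y.residueField y) ⊗[Γ(Y, V)] Γ(X, W))) ⟶ f.fiber y,
      IsOpenImmersion j ∧ Set.range j = (f.fiberι y) ⁻¹' (W : Set X) ∧
        (IsSchemeTheoreticallyDominant (j ⁻¹ᵁ (f.fiberι y ⁻¹ᵁ U)).ι ↔
          NoTorsionAlong (A := Γ(Y, V)) (traceIdeal U hW) (Y.residueField y)) := by
  letI := (f.appLE V W e).hom.toAlgebra
  letI := (Y.evaluation V y hy).hom.toAlgebra
  haveI : Algebra.FiniteType Γ(Y, V) Γ(X, W) :=
    HasRingHomProperty.appLE (P := @LocallyOfFiniteType) f ‹_› ⟨V, hV⟩ ⟨W, hW⟩ e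
  obtain ⟨j, hjo, hjr, -, hjι⟩ := exists_specChart' f hV hW e y hy
  refine ⟨j, hjo, hjr, ?_⟩
  let φ : Γ(X, W) ⟶ CommRingCat.of ((Y.residueField y) ⊗[Γ(Y, V)] Γ(X, W)) :=
    CommRingCat.ofHom (R := Γ(X, W)) (S := (Y.residueField y) ⊗[Γ(Y, V)] Γ(X, W))
      (Algebra.TensorProduct.includeRight (R := Γ(Y, V)) (A := Y.residueField y)
        (B := Γ(X, W))).toRingHom
  have hG : j ⁻¹ᵁ (f.fiberι y ⁻¹ᵁ U) = Spec.map φ ⁻¹ᵁ (hW.fromSpec ⁻¹ᵁ U) := by
    rw [← Scheme.Hom.comp_preimage, ← Scheme.Hom.comp_preimage, hjι]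
  rw [hG]
  have hmem : ∀ x : Spec (CommRingCat.of ((Y.residueField y) ⊗[Γ(Y, V)] Γ(X, W))),
      x ∈ Spec.map φ ⁻¹ᵁ (hW.fromSpec ⁻¹ᵁ U) ↔
        ∃ t ∈ φ.hom '' (traceIdeal U hW : Set Γ(X, W)), t ∉ x.asIdeal :=
    fun x ↦ mem_SpecMap_preimage_iff φ _ x
  haveI : IsNoetherianRing ((Y.residueField y) ⊗[Γ(Y, V)] Γ(X, W)) :=
    Algebra.FiniteType.isNoetherianRing (Y.residueField y) _
  haveI : IsLocallyNoetherian
      (Spec (CommRingCat.of ((Y.residueField y) ⊗[Γ(Y, V)] Γ(X, W)))) :=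
    isLocallyNoetherian_Spec.mpr ‹_›
  constructor
  · intro hdom s hs
    haveI := hdom
    refine eq_zero_of_isSchemeTheoreticallyDominant_Spec _ _ hmem s ?_
    rintro _ ⟨b, hb, rfl⟩
    exact hs b hb
  · intro hnt
    refine isSchemeTheoreticallyDominant_Spec_of_forall _ _ hmem fun s hs ↦ ?_
    apply hnt
    intro b hb
    exact hs _ ⟨b, hb, rfl⟩

end Groth.Agent.Lib.Helper24.SchDenseFibre
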