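import Mathlib

/-!
# Universal openness is detected by the affine spaces `𝔸ⁿ`

If `𝔸ⁿ_X ⟶ 𝔸ⁿ_Y` is an open map for every `n > 0`, then `f : X ⟶ Y` is universally open.
-/

set_option autoImplicit false

namespace Groth.Agent.Lib.Helper24.UnivOpenAffineSpace

open AlgebraicGeometry CategoryTheory Limits TensorProduct

universe u

section Core

variable {A A' B : Type u} [CommRing A] [CommRing A'] [CommRing B] [Algebra A A'] [Algebra A B]

lemma exists_sum_tmul (s : A' ⊗[A] B) :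
    ∃ (n : ℕ) (_ : 0 < n) (a' : ULift.{u} (Fin n) → A') (b : ULift.{u} (Fin n) → B),
      s = ∑ j, a' j ⊗ₜ[A] b j := by
  classical
  obtain ⟨S, hS⟩ := TensorProduct.exists_finset s
  let S' := insert ((0 : A'), (0 : B)) S
  have hS' : s = ∑ i ∈ S', i.1 ⊗ₜ[A] i.2 := by
    rw [hS]
    refine Finset.sum_subset (Finset.subset_insert _ _) fun x hx hx' ↦ ?_
    have : x = (0, 0) := by
      rcases Finset.mem_insert.mp hx with h | h
      · exact h
      · exact (hx' h).elim
    rw [this, TensorProduct.zero_tmul]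
  have hpos : 0 < S'.card := Finset.card_pos.mpr ⟨_, Finset.mem_insert_self _ _⟩
  let e : ULift.{u} (Fin S'.card) ≃ S' := Equiv.ulift.trans S'.equivFin.symm
  refine ⟨S'.card, hpos, fun j ↦ (e j).1.1, fun j ↦ (e j).1.2, ?_⟩
  rw [hS', ← Finset.sum_coe_sort S' (fun i ↦ i.1 ⊗ₜ[A] i.2)]
  exact (Equiv.sum_comp e (fun i : S' ↦ i.1.1 ⊗ₜ[A] i.1.2)).symm

lemma isOpen_image_basicOpen {ι : Type u} [Fintype ι]
    (H : IsOpenMap ⇑(AffineSpace.map ι (Spec.map (CommRingCat.ofHom (algebraMap A B)))))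
    (a' : ι → A') (b : ι → B) :
    IsOpen ((Spec.map (CommRingCat.ofHom
        (Algebra.TensorProduct.includeLeftRingHom : A' →+* A' ⊗[A] B))) ''
      ((Spec (.of (A' ⊗[A] B))).basicOpen
        ((Scheme.ΓSpecIso (.of (A' ⊗[A] B))).inv (∑ j, a' j ⊗ₜ[A] b j)) : Set (Spec (.of (A' ⊗[A] B))))) := by
  set P := Spec (.of (A' ⊗[A] B)) with hPdef
  let f : Spec (.of B) ⟶ Spec (.of A) := Spec.map (CommRingCat.ofHom (algebraMap A B))
  let g : Spec (.of A') ⟶ Spec (.of A) := Spec.map (CommRingCat.ofHom (algebraMap A A'))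
  let p₁ : P ⟶ Spec (.of A') :=
    Spec.map (CommRingCat.ofHom (Algebra.TensorProduct.includeLeftRingHom : A' →+* A' ⊗[A] B))
  let p₂ : P ⟶ Spec (.of B) :=
    Spec.map (CommRingCat.ofHom (Algebra.TensorProduct.includeRight : B →ₐ[A] A' ⊗[A] B).toRingHom)
  have hP : IsPullback p₁ p₂ g f :=
    isPullback_SpecMap_of_isPushout _ _ _ _ (CommRingCat.isPushout_tensorProduct A A' B)
  let φ : Spec (.of A') ⟶ 𝔸(ι; Spec (.of A)) :=
    AffineSpace.homOfVector g (fun j => (Scheme.ΓSpecIso (.of A')).inv (a' j))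
  let ψ : P ⟶ 𝔸(ι; Spec (.of B)) :=
    AffineSpace.homOfVector p₂ (fun j => (Scheme.ΓSpecIso (.of (A' ⊗[A] B))).inv (a' j ⊗ₜ 1))
  have hsq : ψ ≫ AffineSpace.map ι f = p₁ ≫ φ := by
    apply AffineSpace.hom_ext
    · simp only [Category.assoc, AffineSpace.map_over, AffineSpace.homOfVector_over_assoc,
        AffineSpace.homOfVector_over, ψ, φ]
      exact hP.w.symm
    · intro j
      rw [Scheme.Hom.comp_appTop, Scheme.Hom.comp_appTop, CommRingCat.comp_apply,
        CommRingCat.comp_apply, AffineSpace.map_appTop_coord, AffineSpace.homOfVector_appTop_coord,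
        AffineSpace.homOfVector_appTop_coord]
      have := Scheme.ΓSpecIso_inv_naturality (CommRingCat.ofHom
        (Algebra.TensorProduct.includeLeftRingHom : A' →+* A' ⊗[A] B))
      have h2 := congr($(this).hom (a' j))
      rw [CommRingCat.comp_apply, CommRingCat.comp_apply] at h2
      exact h2
  have hpb : IsPullback ψ p₁ (AffineSpace.map ι f) φ := by
    refine IsPullback.of_right ?_ hsq (AffineSpace.isPullback_map f).flip
    simpa [ψ, φ] using hP.flip
  let h : Γ(𝔸(ι; Spec (.of B)), ⊤) :=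
    ∑ j, (𝔸(ι; Spec (.of B)) ↘ Spec (.of B)).appTop ((Scheme.ΓSpecIso (.of B)).inv (b j)) *
      AffineSpace.coord _ j
  have hh : ψ.appTop h = (Scheme.ΓSpecIso (.of (A' ⊗[A] B))).inv (∑ j, a' j ⊗ₜ[A] b j) := by
    simp only [h, map_sum, map_mul]
    refine Finset.sum_congr rfl fun j _ ↦ ?_
    rw [AffineSpace.homOfVector_appTop_coord, ← CommRingCat.comp_apply, ← Scheme.Hom.comp_appTop,
      AffineSpace.homOfVector_over]
    have := Scheme.ΓSpecIso_inv_naturality (CommRingCat.ofHom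
      (Algebra.TensorProduct.includeRight : B →ₐ[A] A' ⊗[A] B).toRingHom)
    have h2 := congr($(this).hom (b j))
    rw [CommRingCat.comp_apply, CommRingCat.comp_apply] at h2
    rw [← h2, ← map_mul]
    congr 1
    simp
  have hpre : (P.basicOpen ((Scheme.ΓSpecIso (.of (A' ⊗[A] B))).inv (∑ j, a' j ⊗ₜ[A] b j)) : Set P) =
      ψ ⁻¹' ((𝔸(ι; Spec (.of B))).basicOpen h : Set 𝔸(ι; Spec (.of B))) := by
    rw [← hh, ← Scheme.preimage_basicOpen_top]
    rfl
  rw [hpre, Scheme.image_preimage_eq_of_isPullback hpb]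
  exact (H _ ((𝔸(ι; Spec (.of B))).basicOpen h).isOpen).preimage φ.continuous

theorem isOpenMap_SpecMap_includeLeft
    (H : ∀ n : ℕ, 0 < n → IsOpenMap
      ⇑(AffineSpace.map (ULift.{u} (Fin n)) (Spec.map (CommRingCat.ofHom (algebraMap A B))))) :
    IsOpenMap ⇑(Spec.map (CommRingCat.ofHom
      (Algebra.TensorProduct.includeLeftRingHom : A' →+* A' ⊗[A] B))) := by
  refine (isBasis_basicOpen (Spec (.of (A' ⊗[A] B)))).isOpenMap_iff.mpr ?_
  rintro _ ⟨_, ⟨r, rfl⟩, rfl⟩
  obtain ⟨s, rfl⟩ : ∃ s, (Scheme.ΓSpecIso (.of (A' ⊗[A] B))).inv s = r :=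
    ⟨(Scheme.ΓSpecIso (.of (A' ⊗[A] B))).hom r, by simp⟩
  obtain ⟨n, hn, a', b, rfl⟩ := exists_sum_tmul s
  exact isOpen_image_basicOpen (H n hn) a' b

end Core

theorem universallyOpen_SpecMap {A B : CommRingCat.{u}} (φ : A ⟶ B)
    (H : ∀ n : ℕ, 0 < n → IsOpenMap ⇑(AffineSpace.map (ULift.{u} (Fin n)) (Spec.map φ))) :
    UniversallyOpen (Spec.map φ) := by
  refine ⟨MorphismProperty.universally_mk' _ _ fun {T} g _ ↦ ?_⟩
  wlog hT : ∃ R, T = Spec R generalizing T
  · refine (IsZariskiLocalAtTarget.iff_of_openCover T.affineCover).mpr fun i ↦ ?_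
    refine (MorphismProperty.cancel_left_of_respectsIso _
      ((pullbackRightPullbackFstIso ..).inv ≫ (pullbackSymmetry ..).hom) _).mp ?_
    simpa [Scheme.Cover.pullbackHom] using! this _ _ ⟨_, rfl⟩
  obtain ⟨R, rfl⟩ := hT
  obtain ⟨ψ, rfl⟩ := Spec.map_surjective g
  algebraize [φ.hom, ψ.hom]
  refine (MorphismProperty.cancel_left_of_respectsIso _ (pullbackSpecIso A R B).inv _).mp ?_
  convert_to! topologically _ (Spec.map <| CommRingCat.ofHom
    (Algebra.TensorProduct.includeLeftRingHom : R →+* R ⊗[A] B))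
  · exact pullbackSpecIso_inv_fst ..
  exact isOpenMap_SpecMap_includeLeft (A := A) (A' := R) (B := B) H

theorem universallyOpen_Spec {A B : CommRingCat.{u}} (g : Spec B ⟶ Spec A)
    (H : ∀ n : ℕ, 0 < n → IsOpenMap ⇑(AffineSpace.map (ULift.{u} (Fin n)) g)) :
    UniversallyOpen g := by
  obtain ⟨φ, rfl⟩ := Spec.map_surjective g
  exact universallyOpen_SpecMap φ H

section Global

variable {ι : Type u}

lemma isPullback_map_map {X' X Y' Y : Scheme.{u}} {fst : X' ⟶ X} {snd : X' ⟶ Y'} {f : X ⟶ Y}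
    {g : Y' ⟶ Y} (h : IsPullback fst snd f g) :
    IsPullback (AffineSpace.map ι fst) (AffineSpace.map ι snd) (AffineSpace.map ι f)
      (AffineSpace.map ι g) := by
  refine IsPullback.of_right ?_ ?_ (AffineSpace.isPullback_map f).flip
  · rw [AffineSpace.map_over, AffineSpace.map_over]
    exact (AffineSpace.isPullback_map snd).flip.paste_horiz h
  · rw [← AffineSpace.map_comp, ← AffineSpace.map_comp, h.w]

instance isOpenImmersion_map {X Y : Scheme.{u}} (j : X ⟶ Y) [IsOpenImmersion j] :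
    IsOpenImmersion (AffineSpace.map ι j) :=
  MorphismProperty.of_isPullback (P := @IsOpenImmersion) (AffineSpace.isPullback_map j).flip
    inferInstance

lemma isOpenMap_map_comp_of_isOpenImmersion {W X Y : Scheme.{u}} (j : W ⟶ X) [IsOpenImmersion j]
    (f : X ⟶ Y) (H : IsOpenMap ⇑(AffineSpace.map ι f)) :
    IsOpenMap ⇑(AffineSpace.map ι (j ≫ f)) := by
  rw [AffineSpace.map_comp]
  exact H.comp (AffineSpace.map ι j).isOpenEmbedding.isOpenMap

lemma isOpenMap_map_of_isPullback {X' X Y' Y : Scheme.{u}} {fst : X' ⟶ X} {snd : X' ⟶ Y'}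
    {f : X ⟶ Y} {g : Y' ⟶ Y} (h : IsPullback fst snd f g) [IsOpenImmersion g]
    (H : IsOpenMap ⇑(AffineSpace.map ι f)) : IsOpenMap ⇑(AffineSpace.map ι snd) :=
  IsZariskiLocalAtTarget.of_isPullback (P := topologically IsOpenMap) (isPullback_map_map h) H

end Global

theorem universallyOpen_of_isOpenMap_map {X Y : Scheme.{u}} (f : X ⟶ Y)
    (H : ∀ n : ℕ, 0 < n → IsOpenMap ⇑(AffineSpace.map (ULift.{u} (Fin n)) f)) :
    UniversallyOpen f := by
  rw [IsZariskiLocalAtTarget.iff_of_openCover (P := @UniversallyOpen) Y.affineCover]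
  intro i
  rw [IsZariskiLocalAtSource.iff_of_openCover (P := @UniversallyOpen) (Scheme.affineCover _)]
  intro j
  refine universallyOpen_Spec _ fun n hn ↦ ?_
  have h1 : IsOpenImmersion (Y.affineCover.f i) := Scheme.Cover.map_prop _ _
  have h2 : IsOpenImmersion ((Scheme.affineCover (pullback f (Y.affineCover.f i))).f j) :=
    Scheme.Cover.map_prop _ _
  exact @isOpenMap_map_comp_of_isOpenImmersion _ _ _ _ _ h2 _
    (@isOpenMap_map_of_isPullback _ _ _ _ _ _ _ _ _ (IsPullback.of_hasPullback _ _) h1 (H n hn))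

end Groth.Agent.Lib.Helper24.UnivOpenAffineSpace
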