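import Groth.Agent.Lib.Helper24.UnivOpenAffineSpace

/-!
# Universal openness of `Spec B ⟶ Spec A` via a linear form (finite case)
-/

set_option autoImplicit false

namespace Groth.Agent.Lib.Helper24.UnivOpenLinearForm

open AlgebraicGeometry CategoryTheory Limits TensorProduct

universe u

theorem universallyOpen_of_forall_includeLeft {A B : Type u} [CommRing A] [CommRing B]
    [Algebra A B]
    (H : ∀ (A' : Type u) [CommRing A'] [Algebra A A'], IsOpenMap
      ⇑(Spec.map (CommRingCat.ofHom
        (Algebra.TensorProduct.includeLeftRingHom : A' →+* A' ⊗[A] B)))) :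
    UniversallyOpen (Spec.map (CommRingCat.ofHom (algebraMap A B))) := by
  refine ⟨MorphismProperty.universally_mk' _ _ fun {T} g _ ↦ ?_⟩
  wlog hT : ∃ R, T = Spec R generalizing T
  · refine (IsZariskiLocalAtTarget.iff_of_openCover T.affineCover).mpr fun i ↦ ?_
    refine (MorphismProperty.cancel_left_of_respectsIso _
      ((pullbackRightPullbackFstIso ..).inv ≫ (pullbackSymmetry ..).hom) _).mp ?_
    simpa [Scheme.Cover.pullbackHom] using! this _ _ ⟨_, rfl⟩
  obtain ⟨R, rfl⟩ := hT
  obtain ⟨ψ, rfl⟩ := Spec.map_surjective g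
  algebraize [ψ.hom]
  refine (MorphismProperty.cancel_left_of_respectsIso _ (pullbackSpecIso A R B).inv _).mp ?_
  convert_to! topologically _ (Spec.map <| CommRingCat.ofHom
    (Algebra.TensorProduct.includeLeftRingHom : R →+* R ⊗[A] B))
  · exact pullbackSpecIso_inv_fst ..
  exact H R

section

variable {A B : Type u} [CommRing A] [CommRing B] [Algebra A B] {σ : Type}

attribute [local instance] MvPolynomial.algebraMvPolynomial

lemma isPullback_mvPolynomial :
    IsPullback (Spec.map (CommRingCat.ofHom (MvPolynomial.C : B →+* MvPolynomial σ B)))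
      (Spec.map (CommRingCat.ofHom (MvPolynomial.map (σ := σ) (algebraMap A B))))
      (Spec.map (CommRingCat.ofHom (algebraMap A B)))
      (Spec.map (CommRingCat.ofHom (MvPolynomial.C : A →+* MvPolynomial σ A))) :=
  isPullback_SpecMap_of_isPushout _ _ _ _
    (CommRingCat.isPushout_of_isPushout A B (MvPolynomial σ A) (MvPolynomial σ B))

variable {A' : Type u} [CommRing A'] [Algebra A A'] [Fintype σ]

lemma exists_sum_tmul_of_span (b : σ → B) (hb : Submodule.span A (Set.range b) = ⊤)
    (s : A' ⊗[A] B) : ∃ a' : σ → A', s = ∑ i, a' i ⊗ₜ[A] b i := by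
  induction s using TensorProduct.induction_on with
  | zero => exact ⟨0, by simp⟩
  | tmul x y =>
    obtain ⟨c, hc⟩ := (Submodule.mem_span_range_iff_exists_fun A).mp
      (hb ▸ Submodule.mem_top : y ∈ Submodule.span A (Set.range b))
    refine ⟨fun i => c i • x, ?_⟩
    rw [← hc, TensorProduct.tmul_sum]
    refine Finset.sum_congr rfl fun i _ ↦ ?_
    rw [TensorProduct.tmul_smul, TensorProduct.smul_tmul']
  | add s t hs ht =>
    obtain ⟨a1, h1⟩ := hs
    obtain ⟨a2, h2⟩ := ht
    exact ⟨a1 + a2, by simp [h1, h2, TensorProduct.add_tmul, Finset.sum_add_distrib]⟩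

lemma isOpen_image_basicOpen_of_linearForm (b : σ → B)
    (hopen : IsOpen (⇑(Spec.map (CommRingCat.ofHom (MvPolynomial.map (σ := σ) (algebraMap A B)))) ''
      (PrimeSpectrum.basicOpen (∑ i, MvPolynomial.X i * MvPolynomial.C (b i)) :
        Set (PrimeSpectrum (MvPolynomial σ B)))))
    (a' : σ → A') :
    IsOpen (⇑(Spec.map (CommRingCat.ofHom
        (Algebra.TensorProduct.includeLeftRingHom : A' →+* A' ⊗[A] B))) ''
      (PrimeSpectrum.basicOpen (∑ i, a' i ⊗ₜ[A] b i) : Set (PrimeSpectrum (A' ⊗[A] B)))) := by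
  let θ : MvPolynomial σ A →+* A' := MvPolynomial.eval₂Hom (algebraMap A A') a'
  let Θ : MvPolynomial σ B →+* A' ⊗[A] B :=
    MvPolynomial.eval₂Hom (Algebra.TensorProduct.includeRight : B →ₐ[A] A' ⊗[A] B).toRingHom
      (fun i ↦ a' i ⊗ₜ 1)
  have hP : IsPullback
      (Spec.map (CommRingCat.ofHom
        (Algebra.TensorProduct.includeLeftRingHom : A' →+* A' ⊗[A] B)))
      (Spec.map (CommRingCat.ofHom
        (Algebra.TensorProduct.includeRight : B →ₐ[A] A' ⊗[A] B).toRingHom))
      (Spec.map (CommRingCat.ofHom (algebraMap A A')))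
      (Spec.map (CommRingCat.ofHom (algebraMap A B))) :=
    isPullback_SpecMap_of_isPushout _ _ _ _ (CommRingCat.isPushout_tensorProduct A A' B)
  have hsq : Spec.map (CommRingCat.ofHom Θ) ≫
      Spec.map (CommRingCat.ofHom (MvPolynomial.map (σ := σ) (algebraMap A B))) =
      Spec.map (CommRingCat.ofHom
        (Algebra.TensorProduct.includeLeftRingHom : A' →+* A' ⊗[A] B)) ≫
      Spec.map (CommRingCat.ofHom θ) := by
    rw [← Spec.map_comp, ← Spec.map_comp, ← CommRingCat.ofHom_comp, ← CommRingCat.ofHom_comp]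
    congr 2
    apply MvPolynomial.ringHom_ext
    · intro a
      simp [θ, Θ]
    · intro i
      simp [θ, Θ]
  have hpb : IsPullback (Spec.map (CommRingCat.ofHom Θ))
      (Spec.map (CommRingCat.ofHom
        (Algebra.TensorProduct.includeLeftRingHom : A' →+* A' ⊗[A] B)))
      (Spec.map (CommRingCat.ofHom (MvPolynomial.map (σ := σ) (algebraMap A B))))
      (Spec.map (CommRingCat.ofHom θ)) := by
    refine IsPullback.of_right ?_ hsq (isPullback_mvPolynomial (A := A) (B := B) (σ := σ))
    rw [← Spec.map_comp, ← Spec.map_comp, ← CommRingCat.ofHom_comp, ← CommRingCat.ofHom_comp]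
    have h1 : Θ.comp (MvPolynomial.C : B →+* MvPolynomial σ B) =
        (Algebra.TensorProduct.includeRight : B →ₐ[A] A' ⊗[A] B).toRingHom := by
      ext x; simp [Θ]
    have h2 : θ.comp (MvPolynomial.C : A →+* MvPolynomial σ A) = algebraMap A A' := by
      ext x; simp [θ]
    rw [h1, h2]
    exact hP.flip
  have hΘ : Θ (∑ i, MvPolynomial.X i * MvPolynomial.C (b i)) = ∑ i, a' i ⊗ₜ[A] b i := by
    simp [Θ]
  have hpre : (PrimeSpectrum.basicOpen (∑ i, a' i ⊗ₜ[A] b i) : Set (PrimeSpectrum (A' ⊗[A] B))) =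
      ⇑(Spec.map (CommRingCat.ofHom Θ)) ⁻¹'
        (PrimeSpectrum.basicOpen (∑ i, MvPolynomial.X i * MvPolynomial.C (b i)) :
          Set (PrimeSpectrum (MvPolynomial σ B))) := by
    rw [← hΘ]
    exact (congrArg (fun U : TopologicalSpace.Opens (PrimeSpectrum (A' ⊗[A] B)) ↦
      (U : Set (PrimeSpectrum (A' ⊗[A] B)))) (PrimeSpectrum.comap_basicOpen Θ _)).symm
  rw [hpre]
  have := Scheme.image_preimage_eq_of_isPullback hpb
    (PrimeSpectrum.basicOpen (∑ i, MvPolynomial.X i * MvPolynomial.C (b i)) :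
          Set (PrimeSpectrum (MvPolynomial σ B)))
  rw [this]
  exact hopen.preimage (Spec.map (CommRingCat.ofHom θ)).continuous

end

end Groth.Agent.Lib.Helper24.UnivOpenLinearForm
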